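import Groth.Agent.Lib.FunFld.Degree
import Mathlib.GroupTheory.Archimedean

/-! Existence of places, `deg (div x) = 0`, finiteness of `L(D)`, Riemann's inequality. -/

namespace GrothLib.FunFld

open _root_.FunFld WithZero Polynomial
open IntermediateField (adjoin mem_adjoin_simple_iff)

variable {k K : Type*} [Field k] [Field K] [Algebra k K]

/-- If `K` is finite over `k(x)`, some place has a zero at `x`. -/
theorem exists_zero_of_transcendental {x : K} (hx : Transcendental k x)
    [FiniteDimensional (adjoin k ({x} : Set K)) K] : ∃ P : Place k K, val P x < 1 := by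
  classical
  have hx0 : x ≠ 0 := fun h0 => hx (h0 ▸ isAlgebraic_zero)
  let A : Subring K := (Algebra.adjoin k ({x} : Set K)).toSubring
  have hxA : x ∈ A := Algebra.subset_adjoin rfl
  have hI : (Ideal.span {(⟨x, hxA⟩ : A)}) ≠ ⊤ := by
    rw [Ne, Ideal.span_singleton_eq_top]
    intro hu
    obtain ⟨⟨b, hb⟩, hb1⟩ := hu.exists_right_inv
    have hb' : b ∈ Algebra.adjoin k ({x} : Set K) := hb
    rw [Algebra.adjoin_singleton_eq_range_aeval] at hb'
    obtain ⟨p, rfl⟩ := hb'
    have h1 : x * aeval x p = 1 := congrArg Subtype.val hb1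
    refine hx ⟨X * p - 1, fun h0 => ?_, by simp [h1]⟩
    have := congrArg (fun q : k[X] => q.coeff 0) h0
    simp at this
  obtain ⟨V, hAV, hIV⟩ := Ideal.image_subset_nonunits_valuationSubring _ hI
  let w := V.valuation
  have hw1 : w x < 1 := hIV ⟨⟨x, hxA⟩, Ideal.mem_span_singleton_self _, rfl⟩
  have hwA : ∀ a ∈ Algebra.adjoin k ({x} : Set K), w a ≤ 1 :=
    fun a ha => (V.valuation_le_one_iff a).2 (hAV ha)
  have hwc : ∀ c : k, c ≠ 0 → w (algebraMap k K c) = 1 := by
    intro c hc
    refine le_antisymm (hwA _ (Subalgebra.algebraMap_mem _ c)) ?_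
    have := hwA _ (Subalgebra.algebraMap_mem (Algebra.adjoin k ({x} : Set K)) c⁻¹)
    rw [map_inv₀, map_inv₀] at this
    exact (inv_le_one₀ (zero_lt_iff.2 (w.ne_zero_iff.2 (by simpa using hc)))).1 this
  have hwx0 : w x ≠ 0 := w.ne_zero_iff.2 hx0
  -- values of nonzero polynomials in `x`
  have hpoly : ∀ p : k[X], p ≠ 0 → ∃ m : ℕ, w (aeval x p) = w x ^ m := by
    intro p hp
    induction hn : p.natDegree using Nat.strong_induction_on generalizing p with
    | _ n ih =>
      by_cases h0 : p.coeff 0 = 0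
      · have hdiv : p = X * p.divX := by
          conv_lhs => rw [← X_mul_divX_add p, h0, C_0, add_zero]
        have hne : p.divX ≠ 0 := fun h => hp (by rw [hdiv, h, mul_zero])
        have hlt : p.divX.natDegree < n := by
          rw [← hn]
          conv_rhs => rw [hdiv, natDegree_X_mul hne]
          omega
        obtain ⟨m, hm⟩ := ih _ hlt p.divX hne rfl
        exact ⟨m + 1, by rw [hdiv, map_mul, aeval_X, map_mul, hm, pow_succ']⟩
      · refine ⟨0, ?_⟩
        rw [pow_zero, ← X_mul_divX_add p, map_add, map_mul, aeval_X, aeval_C]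
        rw [w.map_add_eq_of_lt_right, hwc _ h0]
        rw [map_mul, hwc _ h0]
        refine lt_of_le_of_lt (mul_le_of_le_one_right' (hwA _ ?_)) hw1
        exact aeval_mem_adjoin_singleton k x
  have hrat : ∀ a ∈ adjoin k ({x} : Set K), a ≠ 0 → ∃ m : ℤ, w a = w x ^ m := by
    intro a ha ha0
    obtain ⟨r, s, rfl⟩ := (mem_adjoin_simple_iff k _).1 ha
    rw [div_ne_zero_iff] at ha0
    obtain ⟨m, hm⟩ := hpoly r (fun h => ha0.1 (by simp [h]))
    obtain ⟨m', hm'⟩ := hpoly s (fun h => ha0.2 (by simp [h]))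
    exact ⟨(m : ℤ) - m', by rw [map_div₀, hm, hm', zpow_sub₀ hwx0, zpow_natCast, zpow_natCast]⟩
  -- the value group has finite index over that of `k(x)`
  set n := Module.finrank (adjoin k ({x} : Set K)) K with hn
  have hidx : ∀ y : K, y ≠ 0 → ∃ m : ℤ, w y ^ n.factorial = w x ^ m := by
    intro y hy
    have hdep : ¬ LinearIndependent (adjoin k ({x} : Set K)) fun i : Fin (n + 1) => y ^ (i : ℕ) :=
      fun hli => by have := hli.fintype_card_le_finrank; simp [← hn] at this
    rw [Fintype.linearIndependent_iff] at hdep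
    push Not at hdep
    obtain ⟨g, hg, i₀, hi₀⟩ := hdep
    simp only [Algebra.smul_def, IntermediateField.algebraMap_apply] at hg
    let T := Finset.univ.filter fun i => g i ≠ 0
    have hT : ∑ i ∈ T, (g i : K) * y ^ (i : ℕ) = 0 := by
      rw [Finset.sum_filter_of_ne (p := fun i => g i ≠ 0) fun i _ hi h0 => hi (by simp [h0])]; exact hg
    obtain ⟨j, hj, hjmax⟩ := T.exists_max_image (fun i => w ((g i : K) * y ^ (i : ℕ)))
      ⟨i₀, by simp [T, hi₀]⟩
    have hgj : (g j : K) ≠ 0 := fun h => (Finset.mem_filter.1 hj).2 (Subtype.ext h)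
    obtain ⟨i, hi, hij, heq⟩ : ∃ i ∈ T, i ≠ j ∧
        w ((g i : K) * y ^ (i : ℕ)) = w ((g j : K) * y ^ (j : ℕ)) := by
      by_contra hcon
      push Not at hcon
      have := w.map_sum_eq_of_lt hj (f := fun i => (g i : K) * y ^ (i : ℕ)) fun i hi => by
        simp only [Finset.mem_sdiff, Finset.mem_singleton] at hi
        exact lt_of_le_of_ne (hjmax i hi.1) (hcon i hi.1 hi.2)
      rw [hT, map_zero] at this
      exact mul_ne_zero hgj (pow_ne_zero _ hy) (w.zero_iff.1 this.symm)
    have hgi : (g i : K) ≠ 0 := fun h => (Finset.mem_filter.1 hi).2 (Subtype.ext h)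
    obtain ⟨a, ha⟩ := hrat _ (g i).2 hgi
    obtain ⟨b, hb⟩ := hrat _ (g j).2 hgj
    have hwy : w y ≠ 0 := w.ne_zero_iff.2 hy
    rw [map_mul, map_mul, map_pow, map_pow, ha, hb, ← zpow_natCast, ← zpow_natCast] at heq
    have h1 : w y ^ (((i : ℕ) : ℤ) - (j : ℕ)) = w x ^ (b - a) := by
      rw [zpow_sub₀ hwy, zpow_sub₀ hwx0, div_eq_div_iff (zpow_ne_zero _ hwy) (zpow_ne_zero _ hwx0),
        mul_comm (w y ^ ((i : ℕ) : ℤ)), heq, mul_comm]
    have hd : ((((i : ℕ) : ℤ) - (j : ℕ)).natAbs) ∣ n.factorial :=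
      Nat.dvd_factorial (by
        have : (i : ℕ) ≠ j := fun h => hij (Fin.ext h)
        omega) (by have := i.2; have := j.2; omega)
    obtain ⟨q, hq⟩ : (((i : ℕ) : ℤ) - (j : ℕ)) ∣ (n.factorial : ℤ) :=
      Int.natAbs_dvd.1 (Int.natCast_dvd_natCast.2 hd)
    refine ⟨(b - a) * q, ?_⟩
    rw [← zpow_natCast, hq, zpow_mul, h1, ← zpow_mul]
  have hidx' : ∀ y : K, ∃ m : ℤ, y ≠ 0 → w y ^ n.factorial = w x ^ m := fun y => by
    by_cases hy : y = 0
    · exact ⟨0, fun h => (h hy).elim⟩
    · exact (hidx y hy).imp fun m hm _ => hm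
  choose M hM using hidx'
  have hlt : ∀ a b : ℤ, w x ^ a ≤ w x ^ b ↔ b ≤ a := fun a b =>
    zpow_le_zpow_iff_right_of_lt_one₀ (zero_lt_iff.2 hwx0) hw1
  have hMmul : ∀ y z : K, y ≠ 0 → z ≠ 0 → M (y * z) = M y + M z := by
    intro y z hy hz
    have h := hM _ (mul_ne_zero hy hz)
    rw [map_mul, mul_pow, hM y hy, hM z hz, ← zpow_add₀ hwx0] at h
    exact le_antisymm ((hlt _ _).1 h.le) ((hlt _ _).1 h.ge)
  have hMle : ∀ y z : K, y ≠ 0 → z ≠ 0 → w y ≤ w z → M z ≤ M y := by
    intro y z hy hz h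
    have := pow_le_pow_left₀ zero_le h n.factorial
    rw [hM y hy, hM z hz] at this
    exact (hlt _ _).1 this
  let H : AddSubgroup ℤ :=
    (MonoidHom.toAdditiveLeft (MonoidHom.mk' (fun u : Kˣ => Multiplicative.ofAdd (M (u : K)))
      fun u v => by simp [hMmul _ _ u.ne_zero v.ne_zero])).range
  have hH : ∀ y : K, y ≠ 0 → M y ∈ H := fun y hy => ⟨Additive.ofMul (Units.mk0 y hy), rfl⟩
  obtain ⟨g₀, hg₀⟩ := Int.subgroup_cyclic H
  have hMx : M x = n.factorial := by
    have h := hM x hx0
    rw [← zpow_natCast] at h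
    exact le_antisymm ((hlt _ _).1 h.le) ((hlt _ _).1 h.ge)
  have hg0 : g₀ ≠ 0 := by
    rintro rfl
    have := hg₀ ▸ hH x hx0
    rw [AddSubgroup.mem_closure_singleton] at this
    obtain ⟨t, ht⟩ := this
    simp [hMx] at ht
    exact Nat.factorial_ne_zero n (by exact_mod_cast ht.symm)
  obtain ⟨G, hG0, hGdvd, hGmem⟩ : ∃ G : ℤ, 0 < G ∧ (∀ y : K, y ≠ 0 → G ∣ M y) ∧
      ∃ y : K, y ≠ 0 ∧ M y = G := by
    refine ⟨|g₀|, abs_pos.2 hg0, fun y hy => ?_, ?_⟩
    · have := hg₀ ▸ hH y hy
      rw [AddSubgroup.mem_closure_singleton] at this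
      obtain ⟨t, ht⟩ := this
      rw [← ht, zsmul_eq_mul, abs_dvd]; exact dvd_mul_left _ _
    · have : |g₀| ∈ H := by
        rcases abs_choice g₀ with h | h <;> rw [h, hg₀]
        · exact AddSubgroup.subset_closure rfl
        · exact neg_mem (AddSubgroup.subset_closure rfl)
      obtain ⟨u, hu⟩ := this
      exact ⟨_, (Additive.toMul u).ne_zero, hu⟩
  let f : K → WithZero (Multiplicative ℤ) := fun y => if y = 0 then 0 else exp (-(M y / G))
  have hf0 : ∀ y, y ≠ 0 → f y = exp (-(M y / G)) := fun y hy => if_neg hy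
  let v : Valuation K (WithZero (Multiplicative ℤ)) :=
    { toFun := f
      map_zero' := if_pos rfl
      map_one' := by
        have := hMmul 1 1 one_ne_zero one_ne_zero
        rw [mul_one] at this
        rw [hf0 _ one_ne_zero, show M 1 = 0 by omega]; simp
      map_mul' := fun y z => by
        by_cases hy : y = 0
        · simp [f, hy]
        by_cases hz : z = 0
        · simp [f, hz]
        rw [hf0 _ (mul_ne_zero hy hz), hf0 _ hy, hf0 _ hz, hMmul y z hy hz,
          Int.add_ediv_of_dvd_left (hGdvd y hy), ← exp_add]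
        congr 1; ring
      map_add_le_max' := fun y z => by
        by_cases hy : y = 0
        · simp [f, hy]
        by_cases hz : z = 0
        · simp [f, hz]
        by_cases hyz : y + z = 0
        · simp [f, hyz]
        rcases le_max_iff.1 (w.map_add y z) with h | h
        · refine le_max_of_le_left ?_
          rw [hf0 _ hyz, hf0 _ hy, exp_le_exp, neg_le_neg_iff]
          exact Int.ediv_le_ediv hG0 (hMle _ _ hyz hy h)
        · refine le_max_of_le_right ?_
          rw [hf0 _ hyz, hf0 _ hz, exp_le_exp, neg_le_neg_iff]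
          exact Int.ediv_le_ediv hG0 (hMle _ _ hyz hz h) }
  refine ⟨⟨v, ⟨fun c => ?_, fun a => ?_⟩⟩, ?_⟩
  · show f (algebraMap k K c) ≤ 1
    by_cases hc : c = 0
    · simp [f, hc]
    have hc' : algebraMap k K c ≠ 0 := by simpa using hc
    have h := hM _ hc'
    rw [hwc c hc, one_pow, ← zpow_zero (w x)] at h
    rw [hf0 _ hc', show M (algebraMap k K c) = 0 from
      le_antisymm ((hlt _ _).1 h.le) ((hlt _ _).1 h.ge)]
    simp
  · obtain ⟨y, hy, hyG⟩ := hGmem
    by_cases ha : a = 0
    · exact ⟨0, by rw [ha]; exact map_zero v⟩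
    refine ⟨y ^ (-log a), ?_⟩
    have hvy : v y = exp (-1) := by
      show f y = _
      rw [hf0 _ hy, hyG, Int.ediv_self hG0.ne']
    rw [map_zpow₀, hvy, ← exp_zsmul]
    simp [exp_log ha]
  · show f x < 1
    rw [hf0 _ hx0, hMx, ← exp_zero, exp_lt_exp]
    have : (0 : ℤ) < (n.factorial : ℤ) / G := by
      obtain ⟨t, ht⟩ := hGdvd x hx0
      rw [hMx] at ht
      have h1 : (0 : ℤ) < n.factorial := by exact_mod_cast Nat.factorial_pos _
      rw [ht, Int.mul_ediv_cancel_left _ hG0.ne']
      nlinarith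
    omega

theorem IsFG.exists_zero (h : IsFG k K) {x : K} (hx : Transcendental k x) :
    ∃ P : Place k K, 0 < P.ord x := by
  have := h.finiteDimensional_adjoin hx
  obtain ⟨P, hP⟩ := exists_zero_of_transcendental hx
  exact ⟨P, (val_lt_one_iff P (x := x) fun h0 => hx (h0 ▸ isAlgebraic_zero)).1 hP⟩

theorem transcendental_inv {x : K} (hx : Transcendental k x) : Transcendental k x⁻¹ :=
  fun h => hx (inv_inv x ▸ h.inv)

theorem IsFG.exists_pole (h : IsFG k K) {x : K} (hx : Transcendental k x) :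
    ∃ P : Place k K, P.ord x < 0 := by
  obtain ⟨P, hP⟩ := h.exists_zero (transcendental_inv hx)
  exact ⟨P, by rw [ord_inv] at hP; omega⟩

theorem IsFG.exists_place (h : IsFG k K) : Nonempty (Place k K) := by
  obtain ⟨x, hx, -⟩ := id h
  exact ⟨(h.exists_zero hx).choose⟩

theorem IsFG.hasCodim_L_step (h : IsFG k K) (D : Divisor k K) (P : Place k K) :
    ∃ m, m ≤ P.deg ∧ HasCodim (L D) (L (D + Finsupp.single P 1)) m := by
  classical
  have := h.finite_residueField P
  have hle : D ≤ D + Finsupp.single P 1 := le_add_of_nonneg_right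
    (Finsupp.single_nonneg.2 zero_le_one)
  obtain ⟨m, hm, hc⟩ := (hasCodim_ball_succ P (D P + 1)).mono_inf (L (D + Finsupp.single P 1))
  rw [add_sub_cancel_right] at hc
  refine ⟨m, hm, ?_⟩
  have h1 : ball P (D P) ⊓ L (D + Finsupp.single P 1) = L D := by
    ext y
    simp only [Submodule.mem_inf, mem_ball, mem_L_iff, Finsupp.add_apply]
    constructor
    · rintro ⟨a, b⟩ Q
      by_cases hQ : Q = P
      · exact hQ ▸ a
      · simpa [Ne.symm hQ, hQ] using b Q
    · exact fun hy => ⟨hy P, fun Q => L_mono hle (x := y) hy Q |>.trans_eq (by simp)⟩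
  have h2 : ball P (D P + 1) ⊓ L (D + Finsupp.single P 1) = L (D + Finsupp.single P 1) := by
    refine inf_eq_right.2 fun y hy => ?_
    have := hy P
    rw [Finsupp.add_apply, Finsupp.single_eq_same] at this
    exact this
  rwa [h1, h2] at hc

theorem IsFG.hasCodim_L (h : IsFG k K) {D₁ D₂ : Divisor k K} (hle : D₁ ≤ D₂) :
    ∃ m : ℕ, (m : ℤ) ≤ D₂.deg - D₁.deg ∧ HasCodim (L D₁) (L D₂) m := by
  refine divisor_le_induction (R := fun D => ∃ m : ℕ, (m : ℤ) ≤ D.deg - D₁.deg ∧
    HasCodim (L D₁) (L D) m) hle ⟨0, by simp, HasCodim.refl _⟩ ?_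
  rintro D P - - ⟨n, hn, hc⟩
  obtain ⟨m, hm, hc'⟩ := h.hasCodim_L_step D P
  exact ⟨n + m, by simp; omega, hc.trans hc'⟩

theorem isAlgebraic_of_mem_L_zero (h : IsFG k K) {x : K} (hx : x ∈ L (0 : Divisor k K)) :
    IsAlgebraic k x := by
  by_contra ht
  obtain ⟨P, hP⟩ := h.exists_pole ht
  have := (mem_L_iff_ord (x := x) (fun h0 => ht (h0 ▸ isAlgebraic_zero))).1 hx P
  simp at this; omega

theorem L_zero_eq_one (h : IsFunctionField k K) : L (0 : Divisor k K) = 1 := by
  ext x
  rw [Submodule.mem_one]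
  constructor
  · exact fun hx => h.2 x (isAlgebraic_of_mem_L_zero h.1 hx)
  · rintro ⟨c, rfl⟩ P
    simpa using P.2.1 c

theorem IsFG.finite_L_zero (h : IsFG k K) :
    Module.Finite k (L (0 : Divisor k K)) ∧
      ∀ P : Place k K, ell (0 : Divisor k K) ≤ P.deg := by
  suffices H : ∀ P : Place k K, Module.Finite k (L (0 : Divisor k K)) ∧
      ell (0 : Divisor k K) ≤ P.deg from
    ⟨(H h.exists_place.some).1, fun P => (H P).2⟩
  intro P
  have := h.finite_residueField P
  let f : L (0 : Divisor k K) →ₗ[k] IsLocalRing.ResidueField P.O :=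
    (res P).toLinearMap ∘ₗ
      { toFun := fun y => (⟨(y : K), by simpa using y.2 P⟩ : P.O)
        map_add' := fun _ _ => rfl
        map_smul' := fun c y => Subtype.ext (by
          simp only [SetLike.val_smul, RingHom.id_apply, Algebra.smul_def]; rfl) }
  have hf : Function.Injective f := by
    rw [injective_iff_map_eq_zero]
    intro y hy
    by_contra hy0
    have hyK : (y : K) ≠ 0 := fun h0 => hy0 (Subtype.ext h0)
    exact (res_eq_zero_iff P _).1 hy |>.ne
      (val_eq_one_of_isAlgebraic P (isAlgebraic_of_mem_L_zero h y.2) hyK)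
  exact ⟨Module.Finite.of_injective f hf, LinearMap.finrank_le_finrank_of_injective hf⟩

theorem ell_zero (h : IsFunctionField k K) : ell (0 : Divisor k K) = 1 := by
  rw [ell, L_zero_eq_one h]
  have e : (1 : Submodule k K) = k ∙ (1 : K) := Submodule.one_eq_span
  rw [e, finrank_span_singleton one_ne_zero]

theorem IsFG.finite_L (h : IsFG k K) (D : Divisor k K) : Module.Finite k (L D) := by
  classical
  have := h.finite_L_zero.1
  obtain ⟨m, -, hc⟩ := h.hasCodim_L (D₁ := 0) (D₂ := D ⊔ 0) le_sup_right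
  have := hc.finite_right.1
  exact Submodule.finiteDimensional_of_le (L_mono (le_sup_left : D ≤ D ⊔ 0))

theorem IsFG.ell_sub_ell_le (h : IsFG k K) {D₁ D₂ : Divisor k K} (hle : D₁ ≤ D₂) :
    (ell D₂ : ℤ) - ell D₁ ≤ D₂.deg - D₁.deg := by
  obtain ⟨m, hm, hc⟩ := h.hasCodim_L hle
  have := h.finite_L D₁
  have := hc.finite_right.2
  simp only [ell]; omega

theorem IsFG.ell_mono (h : IsFG k K) {D₁ D₂ : Divisor k K} (hle : D₁ ≤ D₂) : ell D₁ ≤ ell D₂ :=
  have := h.finite_L D₂
  Submodule.finrank_mono (L_mono hle)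

/-- Multiplying by `x` moves `L(D + div x)` onto `L(D)`. -/
theorem IsFG.mul_mem_L_iff (h : IsFG k K) (D : Divisor k K) {x : K} (hx : x ≠ 0) (y : K) :
    x * y ∈ L D ↔ y ∈ L (D + div k x) := by
  by_cases hy : y = 0
  · simp [hy]
  rw [mem_L_iff_ord (mul_ne_zero hx hy), mem_L_iff_ord hy]
  refine forall_congr' fun P => ?_
  rw [ord_mul P hx hy, Finsupp.add_apply, h.div_apply]; omega

/-- Multiplication by a nonzero element as a linear equivalence. -/
def mulEquiv (x : K) (hx : x ≠ 0) : K ≃ₗ[k] K where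
  toFun y := x * y
  invFun y := x⁻¹ * y
  map_add' := mul_add x
  map_smul' c y := by simp [Algebra.smul_def]; ring
  left_inv y := inv_mul_cancel_left₀ hx y
  right_inv y := mul_inv_cancel_left₀ hx y

theorem IsFG.ell_add_div (h : IsFG k K) (D : Divisor k K) {x : K} (hx : x ≠ 0) :
    ell (D + div k x) = ell D := by
  refine LinearEquiv.finrank_eq ((mulEquiv x hx).ofSubmodules _ _ ?_)
  ext y
  rw [Submodule.mem_map_equiv, ← h.mul_mem_L_iff D hx]
  show x * (x⁻¹ * y) ∈ L D ↔ _
  rw [mul_inv_cancel_left₀ hx]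

/-- The divisor of poles. -/
noncomputable def poleDiv (x : K) : Divisor k K := (-div k x) ⊔ 0

theorem IsFG.poleDiv_apply (h : IsFG k K) (x : K) (P : Place k K) :
    poleDiv (k := k) x P = max (-P.ord x) 0 := by
  classical
  simp [poleDiv, h.div_apply]

theorem IsFG.deg_poleDiv_le (h : IsFG k K) {x : K} (hx : Transcendental k x) :
    (poleDiv (k := k) x).deg ≤ Module.finrank (adjoin k ({x} : Set K)) K := by
  classical
  have heq : adjoin k ({x} : Set K) = adjoin k ({x⁻¹} : Set K) := by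
    refine le_antisymm ?_ ?_ <;> rw [IntermediateField.adjoin_simple_le_iff]
    · simpa using inv_mem (IntermediateField.mem_adjoin_simple_self k x⁻¹)
    · exact inv_mem (IntermediateField.mem_adjoin_simple_self k x)
  have h1 := h.sum_ord_mul_deg_le (transcendental_inv hx) (poleDiv (k := k) x).support fun P hP => by
    rw [Finsupp.mem_support_iff, h.poleDiv_apply] at hP
    rw [ord_inv]; omega
  rw [← heq] at h1
  refine le_trans (le_of_eq (Finset.sum_congr rfl fun P hP => ?_)) h1
  rw [Finsupp.mem_support_iff, h.poleDiv_apply] at hP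
  rw [ord_inv, h.poleDiv_apply, max_eq_left (by omega)]

theorem IsFG.pow_mem_L (h : IsFG k K) (x : K) {i l : ℕ} (hil : i ≤ l) :
    x ^ i ∈ L (l • poleDiv (k := k) x) := by
  by_cases hx : x ^ i = 0
  · rw [hx]; exact zero_mem _
  rw [mem_L_iff_ord hx]
  intro P
  rw [ord_pow, Finsupp.smul_apply, h.poleDiv_apply, nsmul_eq_mul]
  have : (i : ℤ) ≤ l := by exact_mod_cast hil
  rcases le_total (-P.ord x) 0 with hp | hp
  · rw [max_eq_right hp]; nlinarith
  · rw [max_eq_left hp]; nlinarith

/-- Riemann's estimate: `n (l + 1) ≤ ℓ (l · (x)_∞ + C)`. -/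
theorem IsFG.finrank_mul_le_ell (h : IsFG k K) {x : K} (hx : Transcendental k x) :
    ∃ C : Divisor k K, 0 ≤ C ∧ ∀ l : ℕ,
      Module.finrank (adjoin k ({x} : Set K)) K * (l + 1) ≤
        ell (l • poleDiv (k := k) x + C) := by
  classical
  have := h.finiteDimensional_adjoin hx
  let b := Module.finBasis (adjoin k ({x} : Set K)) K
  refine ⟨∑ j, poleDiv (k := k) (b j), Finset.sum_nonneg fun j _ => le_sup_right, fun l => ?_⟩
  have hpow : LinearIndependent k fun i : Fin (l + 1) =>
      (IntermediateField.AdjoinSimple.gen k x) ^ (i : ℕ) := by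
    rw [Fintype.linearIndependent_iff]
    intro c hc i
    have hc' : aeval x (∑ i : Fin (l + 1), Polynomial.monomial (i : ℕ) (c i)) = 0 := by
      have := congrArg (algebraMap (adjoin k ({x} : Set K)) K) hc
      simpa [map_sum, aeval_monomial, Algebra.smul_def] using this
    have h0 : (∑ i : Fin (l + 1), Polynomial.monomial (i : ℕ) (c i)) = 0 := by
      by_contra hne; exact hx ⟨_, hne, hc'⟩
    have := congrArg (fun q : k[X] => q.coeff (i : ℕ)) h0
    simpa [Polynomial.coeff_monomial, Fin.val_inj] using this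
  have hli := linearIndependent_smul hpow b.linearIndependent
  let D := l • poleDiv (k := k) x + ∑ j, poleDiv (k := k) (b j)
  have hmem : ∀ p : Fin (l + 1) × Fin _,
      (IntermediateField.AdjoinSimple.gen k x) ^ (p.1 : ℕ) • b p.2 ∈ L D := by
    rintro ⟨i, j⟩ P
    show val P (_ • b j) ≤ _
    rw [Algebra.smul_def, map_pow, IntermediateField.AdjoinSimple.algebraMap_gen, map_mul]
    simp only [D, Finsupp.add_apply, exp_add]
    refine mul_le_mul' (h.pow_mem_L x (Nat.le_of_lt_succ i.2) P) ?_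
    have hb : b j ≠ 0 := b.ne_zero j
    rw [val_le_exp_iff P hb, Finsupp.finsetSum_apply]
    have h1 := Finset.single_le_sum (f := fun j => poleDiv (k := k) (b j) P)
      (fun j _ => by rw [h.poleDiv_apply]; exact le_max_right _ _) (Finset.mem_univ j)
    have h2 : poleDiv (k := k) (b j) P = max (-P.ord (b j)) 0 := h.poleDiv_apply _ P
    omega
  have := h.finite_L D
  have hli' : LinearIndependent k fun p => (⟨_, hmem p⟩ : L D) :=
    LinearIndependent.of_comp (L D).subtype hli
  have := hli'.fintype_card_le_finrank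
  simpa [ell, D, mul_comm] using this

theorem deg_nsmul (n : ℕ) (D : Divisor k K) : Divisor.deg (n • D) = n * D.deg := by
  induction n with
  | zero => simp
  | succ n ih => rw [succ_nsmul, deg_add, ih]; push_cast; ring

/-- The pole divisor has degree `[K : k(x)]`. -/
theorem IsFG.deg_poleDiv (h : IsFG k K) {x : K} (hx : Transcendental k x) :
    (poleDiv (k := k) x).deg = Module.finrank (adjoin k ({x} : Set K)) K := by
  classical
  refine le_antisymm (h.deg_poleDiv_le hx) ?_
  obtain ⟨C, hC0, hC⟩ := h.finrank_mul_le_ell hx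
  set B := poleDiv (k := k) x
  set n : ℕ := Module.finrank (adjoin k ({x} : Set K)) K
  set e := ell (0 : Divisor k K)
  have key : ∀ l : ℕ, (n : ℤ) * (l + 1) ≤ l * B.deg + C.deg + e := fun l => by
    have hnn : (0 : Divisor k K) ≤ l • B + C := add_nonneg (nsmul_nonneg le_sup_right l) hC0
    have h1 := h.ell_sub_ell_le hnn
    rw [deg_add, deg_nsmul, deg_zero] at h1
    have h2 : ((n * (l + 1) : ℕ) : ℤ) ≤ ell (l • B + C) := by exact_mod_cast hC l
    push_cast at h2
    omega
  by_contra hlt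
  rw [not_le] at hlt
  have h1 := key (C.deg + e).toNat
  have h2 := Int.self_le_toNat (C.deg + e)
  have := h.finiteDimensional_adjoin hx
  have hn1 : (0 : ℤ) < n := by exact_mod_cast Module.finrank_pos
  have h3 : 0 ≤ ((C.deg + e).toNat : ℤ) * ((n : ℤ) - 1 - B.deg) :=
    mul_nonneg (Int.natCast_nonneg _) (by omega)
  nlinarith

theorem IsFG.deg_div (h : IsFG k K) (x : K) : (div k x).deg = 0 := by
  classical
  by_cases hx : Transcendental k x
  · have e : div k x = poleDiv (k := k) x⁻¹ - poleDiv (k := k) x := by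
      ext P
      rw [Finsupp.sub_apply, h.poleDiv_apply, h.poleDiv_apply, h.div_apply, ord_inv]
      omega
    have heq : adjoin k ({x} : Set K) = adjoin k ({x⁻¹} : Set K) := by
      refine le_antisymm ?_ ?_ <;> rw [IntermediateField.adjoin_simple_le_iff]
      · simpa using inv_mem (IntermediateField.mem_adjoin_simple_self k x⁻¹)
      · exact inv_mem (IntermediateField.mem_adjoin_simple_self k x)
    rw [e, deg_sub, h.deg_poleDiv hx, h.deg_poleDiv (transcendental_inv hx), ← heq, sub_self]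
  · have e : div k x = 0 := by
      ext P
      rw [h.div_apply, Finsupp.zero_apply]
      by_cases h0 : x = 0
      · simp [h0]
      · have := val_eq_one_of_isAlgebraic P (not_not.1 hx) h0
        rw [← exp_zero] at this
        simpa using ord_eq_of_val_eq P this
    rw [e, deg_zero]

theorem IsFG.L_eq_bot_of_deg_neg (h : IsFG k K) {D : Divisor k K} (hD : D.deg < 0) : L D = ⊥ := by
  rw [eq_bot_iff]
  intro x hx
  rw [Submodule.mem_bot]
  by_contra h0
  have hle : 0 ≤ D + div k x := fun P => by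
    rw [Finsupp.add_apply, h.div_apply, Finsupp.zero_apply]
    have := (mem_L_iff_ord h0).1 hx P; omega
  have := deg_nonneg hle
  rw [deg_add, h.deg_div] at this; omega

theorem IsFG.ell_eq_zero_of_deg_neg (h : IsFG k K) {D : Divisor k K} (hD : D.deg < 0) :
    ell D = 0 := by
  rw [ell, h.L_eq_bot_of_deg_neg hD]; exact finrank_bot k K

theorem IsFG.exists_of_ell_pos (h : IsFG k K) {D : Divisor k K} (hD : 0 < ell D) :
    ∃ x : K, x ≠ 0 ∧ x ∈ L D ∧ 0 ≤ D + div k x := by
  obtain ⟨x, hxL, h0⟩ := Submodule.exists_mem_ne_zero_of_ne_bot (p := L D) (by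
    intro hb; rw [ell, hb, finrank_bot] at hD; omega)
  refine ⟨x, h0, hxL, fun P => ?_⟩
  rw [Finsupp.add_apply, h.div_apply, Finsupp.zero_apply]
  have := (mem_L_iff_ord h0).1 hxL P; omega

/-- `δ(D) = deg D + 1 - ℓ(D)`. -/
noncomputable def delta (D : Divisor k K) : ℤ := D.deg + 1 - (ell D : ℤ)

theorem IsFG.delta_mono (h : IsFG k K) {D E : Divisor k K} (hle : D ≤ E) : delta D ≤ delta E := by
  have := h.ell_sub_ell_le hle; simp only [delta]; omega

theorem IsFG.delta_add_div (h : IsFG k K) (D : Divisor k K) {x : K} (hx : x ≠ 0) :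
    delta (D + div k x) = delta D := by
  simp [delta, h.ell_add_div D hx, h.deg_div]

/-- Riemann: `δ` is bounded above, with a bound read off from any `x`. -/
theorem IsFG.exists_delta_le (h : IsFG k K) : ∃ γ : ℤ, ∀ D : Divisor k K, delta D ≤ γ := by
  classical
  obtain ⟨x, hx, -⟩ := id h
  obtain ⟨C, hC0, hC⟩ := h.finrank_mul_le_ell hx
  set B := poleDiv (k := k) x
  set n : ℕ := Module.finrank (adjoin k ({x} : Set K)) K with hn
  have hn1 : 0 < n := by
    have := h.finiteDimensional_adjoin hx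
    exact Module.finrank_pos
  have hB : B.deg = n := h.deg_poleDiv hx
  refine ⟨C.deg + 1 - n, fun D => ?_⟩
  have hlB : ∀ l : ℕ, delta (l • B) ≤ C.deg + 1 - n := fun l => by
    refine (h.delta_mono (le_add_of_nonneg_right hC0 : l • B ≤ l • B + C)).trans ?_
    have h2 : ((n * (l + 1) : ℕ) : ℤ) ≤ ell (l • B + C) := by exact_mod_cast hC l
    simp only [delta, deg_add, deg_nsmul, hB]
    push_cast at h2
    nlinarith
  let D' := D ⊔ 0
  let l := (D'.deg + (C.deg + 1 - n)).toNat
  obtain ⟨z, hz0, -, hz⟩ := h.exists_of_ell_pos (D := l • B - D') (by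
    have h1 := hlB l
    have h2 := h.ell_sub_ell_le (sub_le_self _ le_sup_right : l • B - D' ≤ l • B)
    simp only [delta, deg_sub, deg_nsmul, hB] at h1 h2
    have h3 := Int.self_le_toNat (D'.deg + (C.deg + 1 - n))
    nlinarith)
  calc delta D ≤ delta D' := h.delta_mono le_sup_left
    _ ≤ delta (l • B + div k z) := h.delta_mono (fun P => by
        have := hz P; simp at this ⊢; omega)
    _ = delta (l • B) := h.delta_add_div _ hz0
    _ ≤ _ := hlB l

theorem IsFG.bddAbove_genusSet (h : IsFG k K) :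
    BddAbove (Set.range fun D : Divisor k K => (D.deg + 1 - (ell D : ℤ)).toNat) := by
  obtain ⟨γ, hγ⟩ := h.exists_delta_le
  exact ⟨γ.toNat, by rintro _ ⟨D, rfl⟩; exact Int.toNat_le_toNat (hγ D)⟩

theorem IsFG.delta_le_genus (h : IsFG k K) (D : Divisor k K) : delta D ≤ genus k K :=
  (Int.self_le_toNat _).trans (by exact_mod_cast le_csSup h.bddAbove_genusSet ⟨D, rfl⟩)

theorem delta_zero (h : IsFunctionField k K) : delta (0 : Divisor k K) = 0 := by
  simp [delta, ell_zero h]

theorem exists_delta_eq_genus (h : IsFunctionField k K) :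
    ∃ D : Divisor k K, delta D = genus k K := by
  have hfg : IsFG k K := h.1
  obtain ⟨D, hD⟩ := Nat.sSup_mem (Set.range_nonempty _) hfg.bddAbove_genusSet
  by_cases hg : genus k K = 0
  · exact ⟨0, by rw [delta_zero h, hg]; rfl⟩
  · exact ⟨D, by
      have : (delta D).toNat = genus k K := hD
      omega⟩

/-- Riemann's theorem. -/
theorem exists_delta_eq_genus_of_deg (h : IsFunctionField k K) :
    ∃ N : ℤ, ∀ D : Divisor k K, N ≤ D.deg → delta D = genus k K := by
  have hfg : IsFG k K := h.1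
  obtain ⟨D₀, hD₀⟩ := exists_delta_eq_genus h
  refine ⟨D₀.deg + genus k K, fun D hD => le_antisymm (hfg.delta_le_genus D) ?_⟩
  obtain ⟨z, hz0, -, hz⟩ := hfg.exists_of_ell_pos (D := D - D₀) (by
    have := hfg.delta_le_genus (D - D₀)
    simp only [delta, deg_sub] at this; omega)
  calc (genus k K : ℤ) = delta D₀ := hD₀.symm
    _ ≤ delta (D + div k z) := hfg.delta_mono (fun P => by have := hz P; simp at this ⊢; omega)
    _ = delta D := hfg.delta_add_div _ hz0

end GrothLib.FunFld
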