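import Groth.Agent.Lib.FunFld.Conseq
import Mathlib.Data.Set.Card

/-! Multiples of one rational place: pole orders, gaps, Clifford's bound. -/

namespace GrothLib.FunFld

open _root_.FunFld WithZero

variable {k K : Type*} [Field k] [Field K] [Algebra k K]

/-- `m` is not the exact pole order of a function with poles only at `P`. -/
def IsGap (P : Place k K) (m : ℕ) : Prop :=
  L (Finsupp.single P (m : ℤ)) = L (Finsupp.single P ((m : ℤ) - 1))

theorem mem_L_single_iff {P : Place k K} {x : K} (hx : x ≠ 0) {n : ℤ} (hn : 0 ≤ n) :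
    x ∈ L (Finsupp.single P n) ↔ -n ≤ P.ord x ∧ ∀ Q : Place k K, Q ≠ P → 0 ≤ Q.ord x := by
  rw [mem_L_iff_ord hx]
  constructor
  · intro h
    refine ⟨by have := h P; simp at this; omega, fun Q hQ => ?_⟩
    have := h Q
    simpa [Ne.symm hQ, hQ] using this
  · rintro ⟨h1, h2⟩ Q
    by_cases hQ : Q = P
    · subst hQ; simp; omega
    · have := h2 Q hQ; simp [Ne.symm hQ, hQ]; omega

theorem exists_exact_of_not_gap (h : IsFunctionField k K) {P : Place k K} {m : ℕ}
    (hm : ¬ IsGap P m) : ∃ x : K, x ≠ 0 ∧ x ∈ L (Finsupp.single P (m : ℤ)) ∧ P.ord x = -(m : ℤ) := by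
  by_cases hm0 : m = 0
  · subst hm0
    exact ⟨1, one_ne_zero, (mem_L_single_iff one_ne_zero (by simp)).2 ⟨by simp, by simp⟩, by simp⟩
  have hle : Finsupp.single P ((m : ℤ) - 1) ≤ Finsupp.single P (m : ℤ) :=
    Finsupp.single_le_single.2 (by omega)
  obtain ⟨x, hx, hx'⟩ := SetLike.not_le_iff_exists.1 fun hge => hm (le_antisymm hge (L_mono hle))
  have hx0 : x ≠ 0 := by rintro rfl; exact hx' (zero_mem _)
  refine ⟨x, hx0, hx, ?_⟩
  rw [mem_L_single_iff hx0 (by omega)] at hx hx'
  by_contra hne
  exact hx' ⟨by have := hx.1; omega, hx.2⟩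

theorem not_gap_of_exact {P : Place k K} {m : ℕ} {x : K} (hx0 : x ≠ 0)
    (hx : x ∈ L (Finsupp.single P (m : ℤ))) (hord : P.ord x = -(m : ℤ)) : ¬ IsGap P m := by
  intro hg
  rw [hg] at hx
  have := (mem_L_iff_ord hx0).1 hx P
  simp at this; omega

theorem not_gap_add (h : IsFunctionField k K) {P : Place k K} {a b : ℕ}
    (ha : ¬ IsGap P a) (hb : ¬ IsGap P b) : ¬ IsGap P (a + b) := by
  obtain ⟨x, hx0, hx, hxo⟩ := exists_exact_of_not_gap h ha
  obtain ⟨y, hy0, hy, hyo⟩ := exists_exact_of_not_gap h hb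
  have hord : P.ord (x * y) = -((a + b : ℕ) : ℤ) := by rw [ord_mul P hx0 hy0, hxo, hyo]; push_cast; ring
  refine not_gap_of_exact (mul_ne_zero hx0 hy0) ?_ hord
  rw [mem_L_single_iff (mul_ne_zero hx0 hy0) (by positivity), hord]
  refine ⟨le_rfl, fun Q hQ => ?_⟩
  rw [mem_L_single_iff hx0 (by positivity)] at hx
  rw [mem_L_single_iff hy0 (by positivity)] at hy
  rw [ord_mul Q hx0 hy0]
  have := hx.2 Q hQ
  have := hy.2 Q hQ
  omega

theorem ell_single_zero (h : IsFunctionField k K) (P : Place k K) :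
    ell (Finsupp.single P (0 : ℤ) : Divisor k K) = 1 := by
  rw [Finsupp.single_zero]; exact ell_zero h

open scoped Classical in
/-- `ℓ(nP) = n + 1 - #gaps`. -/
theorem ell_add_card_gaps (h : IsFunctionField k K) {P : Place k K} (hP : P.deg = 1) (n : ℕ) :
    ell (Finsupp.single P (n : ℤ) : Divisor k K) + ((Finset.Icc 1 n).filter (IsGap P)).card =
      n + 1 := by
  induction n with
  | zero => simp [ell_zero h]
  | succ n ih =>
    have hle : Finsupp.single P (n : ℤ) ≤ Finsupp.single P ((n + 1 : ℕ) : ℤ) :=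
      Finsupp.single_le_single.2 (by omega)
    have h1 := IsFG.ell_sub_ell_le h.1 hle
    have h2 := IsFG.ell_mono h.1 hle
    rw [deg_single, deg_single, hP] at h1
    rw [← Finset.insert_Icc_right_eq_Icc_add_one (by omega : 1 ≤ n + 1), Finset.filter_insert]
    have he : Finsupp.single P (((n + 1 : ℕ) : ℤ) - 1) = Finsupp.single P (n : ℤ) := by
      congr 1; push_cast; ring
    by_cases hg : IsGap P (n + 1)
    · have : ell (Finsupp.single P ((n + 1 : ℕ) : ℤ) : Divisor k K) =
          ell (Finsupp.single P (n : ℤ) : Divisor k K) := by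
        have h3 : L (Finsupp.single P ((n + 1 : ℕ) : ℤ)) = L (Finsupp.single P (n : ℤ)) := by
          rw [← he]; exact hg
        exact congrArg (fun W : Submodule k K => Module.finrank k W) h3
      rw [if_pos hg, Finset.card_insert_of_notMem (by simp)]
      omega
    · have hlt : L (Finsupp.single P (n : ℤ)) < L (Finsupp.single P ((n + 1 : ℕ) : ℤ)) := by
        refine lt_of_le_of_ne (L_mono hle) fun e => hg ?_
        rw [IsGap, he]; exact e.symm
      have := IsFG.finite_L h.1 (Finsupp.single P ((n + 1 : ℕ) : ℤ))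
      have := Submodule.finrank_lt_finrank_of_lt hlt
      rw [if_neg hg]
      simp only [ell] at *
      omega

open scoped Classical in
theorem card_gaps (h : IsFunctionField k K) {P : Place k K} (hP : P.deg = 1) {n : ℕ}
    (hn : 2 * (genus k K : ℤ) - 1 ≤ n) :
    ((Finset.Icc 1 n).filter (IsGap P)).card = genus k K := by
  have h1 := ell_eq_of_deg_ge h (D := Finsupp.single P (n : ℤ)) (by rw [deg_single, hP]; simp; omega)
  have h2 := ell_add_card_gaps h hP n
  rw [deg_single, hP] at h1
  omega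

open scoped Classical in
theorem sub_one_le_two_mul_card_gaps (h : IsFunctionField k K) {P : Place k K} {n : ℕ}
    (hgap : IsGap P n) : n - 1 ≤ 2 * ((Finset.Ico 1 n).filter (IsGap P)).card := by
  set G := (Finset.Ico 1 n).filter (IsGap P)
  have hsub : Finset.Ico 1 n ⊆ G ∪ G.image (fun m => n - m) := by
    intro m hm
    rw [Finset.mem_Ico] at hm
    by_cases hgm : IsGap P m
    · exact Finset.mem_union_left _ (Finset.mem_filter.2 ⟨Finset.mem_Ico.2 hm, hgm⟩)
    · refine Finset.mem_union_right _ (Finset.mem_image.2 ⟨n - m, ?_, by omega⟩)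
      refine Finset.mem_filter.2 ⟨Finset.mem_Ico.2 ⟨by omega, by omega⟩, ?_⟩
      by_contra hc
      exact not_gap_add h hgm hc (by rwa [show m + (n - m) = n by omega])
  have := (Finset.card_le_card hsub).trans (Finset.card_union_le _ _)
  have := Finset.card_image_le (s := G) (f := fun m => n - m)
  rw [Nat.card_Ico] at *
  omega

open scoped Classical in
/-- At least `l` gaps among `1, …, 2l - 1`. -/
theorem le_card_gaps_two_mul_sub_one (h : IsFunctionField k K) {P : Place k K} (hP : P.deg = 1)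
    {l : ℕ} (hlg : l ≤ genus k K) :
    l ≤ ((Finset.Icc 1 (2 * l - 1)).filter (IsGap P)).card := by
  by_contra hlt
  rw [not_le] at hlt
  set G := (Finset.Icc 1 (2 * l - 1)).filter (IsGap P) with hG
  have hall := card_gaps h hP (n := max (2 * genus k K) (2 * l)) (by omega)
  set A := (Finset.Icc 1 (max (2 * genus k K) (2 * l))).filter (IsGap P) with hA
  have hsub : G ⊆ A := by
    intro m hm
    simp only [hG, hA, Finset.mem_filter, Finset.mem_Icc] at hm ⊢
    exact ⟨⟨hm.1.1, by omega⟩, hm.2⟩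
  have hne : (A \ G).Nonempty := by
    rw [← Finset.card_pos, Finset.card_sdiff_of_subset hsub]; omega
  -- the least gap beyond `2l - 1`
  obtain ⟨m, hmdef⟩ : ∃ m, m = (A \ G).min' hne := ⟨_, rfl⟩
  have hm := Finset.min'_mem _ hne
  rw [← hmdef] at hm
  simp only [hG, hA, Finset.mem_sdiff, Finset.mem_filter, Finset.mem_Icc] at hm
  have h1 := sub_one_le_two_mul_card_gaps h hm.1.2
  have h2 : (Finset.Ico 1 m).filter (IsGap P) ⊆ G := by
    intro j hj
    simp only [Finset.mem_filter, Finset.mem_Ico] at hj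
    by_contra hjG
    have hjA : j ∈ A \ G := by
      refine Finset.mem_sdiff.2 ⟨?_, hjG⟩
      simp only [hA, Finset.mem_filter, Finset.mem_Icc]
      exact ⟨⟨hj.1.1, by omega⟩, hj.2⟩
    have := Finset.min'_le _ j hjA
    omega
  have h3 := Finset.card_le_card h2
  have hmb : 2 * l - 1 < m := by
    by_contra hc
    exact hm.2 ⟨⟨hm.1.1.1, not_lt.1 hc⟩, hm.1.2⟩
  omega

open scoped Classical in
/-- Clifford's bound for multiples of a rational place. -/
theorem clifford_multiple (h : IsFunctionField k K) {P : Place k K} (hP : P.deg = 1) {n : ℕ}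
    (hn : (n : ℤ) ≤ 2 * (genus k K : ℤ) - 2) :
    2 * ell (Finsupp.single P (n : ℤ) : Divisor k K) ≤ n + 2 := by
  have h1 := ell_add_card_gaps h hP n
  set G := (Finset.Icc 1 n).filter (IsGap P) with hG
  by_cases hgg : genus k K ≤ G.card
  · omega
  have h2 := le_card_gaps_two_mul_sub_one h hP (l := G.card + 1) (by omega)
  by_contra hlt
  have h3 : (Finset.Icc 1 (2 * (G.card + 1) - 1)).filter (IsGap P) ⊆ G :=
    Finset.filter_subset_filter _ (Finset.Icc_subset_Icc le_rfl (by omega))
  have := Finset.card_le_card h3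
  omega

theorem ord_sum_eq_zero {ι : Type*} (P : Place k K) (s : Finset ι) {f : ι → K}
    (hinj : Set.InjOn (fun i => P.ord (f i)) s) (hf : ∀ i ∈ s, f i ≠ 0) {c : ι → k}
    (hsum : ∑ i ∈ s, c i • f i = 0) : ∀ i ∈ s, c i = 0 := by
  classical
  by_contra hcon
  push Not at hcon
  obtain ⟨i₀, hi₀, hc₀⟩ := hcon
  set T := s.filter fun i => c i ≠ 0
  have hT : ∑ i ∈ T, c i • f i = 0 := by
    rw [Finset.sum_filter_of_ne (p := fun i => c i ≠ 0) fun i _ hi h0 => hi (by simp [h0])]
    exact hsum
  obtain ⟨j, hj, hjmin⟩ := T.exists_min_image (fun i => P.ord (f i)) ⟨i₀, by simp [T, hi₀, hc₀]⟩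
  have hjs := Finset.mem_filter.1 hj
  have hv : ∀ i ∈ T, val P (c i • f i) = exp (-P.ord (f i)) := fun i hi => by
    have hi' := Finset.mem_filter.1 hi
    rw [val_eq P (smul_ne_zero hi'.2 (hf i hi'.1)), ord_smul P hi'.2]
  have := (val P).map_sum_eq_of_lt hj (f := fun i => c i • f i) fun i hi => by
    simp only [Finset.mem_sdiff, Finset.mem_singleton] at hi
    rw [hv i hi.1, hv j hj, exp_lt_exp]
    have hne : P.ord (f i) ≠ P.ord (f j) := fun e =>
      hi.2 (hinj (Finset.mem_filter.1 hi.1).1 hjs.1 e)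
    have := hjmin i hi.1
    omega
  rw [hT, map_zero, hv j hj] at this
  exact exp_ne_zero this.symm

/-- Functions with pairwise different orders at a place are independent. -/
theorem linearIndependent_of_ord_injective {ι : Type*} (P : Place k K) (f : ι → K)
    (hinj : Function.Injective fun i => P.ord (f i)) (hf : ∀ i, f i ≠ 0) :
    LinearIndependent k f := by
  rw [linearIndependent_iff']
  exact fun s c hsum => ord_sum_eq_zero P s hinj.injOn (fun i _ => hf i) hsum

end GrothLib.FunFld
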