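import Mathlib.RingTheory.Polynomial.Pochhammer
import Mathlib.LinearAlgebra.Vandermonde
import Mathlib.Algebra.Polynomial.Derivative
import Mathlib.Algebra.Polynomial.Taylor
import Mathlib.Algebra.Polynomial.BigOperators
import Mathlib.Algebra.Polynomial.RingDivision
import Mathlib.Algebra.Polynomial.Roots
import Mathlib.LinearAlgebra.FiniteDimensional.Lemmas
import Mathlib.Algebra.CharZero.Defs
import Mathlib.Tactic.LinearCombination

/-! Plücker inequality for a space of polynomials in characteristic zero. -/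

namespace GrothLib.FunFld.Poly

open Polynomial Module

variable {k : Type*} [Field k]

/-- A coordinate system on polynomials: each nonzero polynomial has a leading index. -/
structure LeadData (k : Type*) [Field k] where
  ψ : k[X] →ₗ[k] (ℕ → k)
  φ : k[X] → ℕ
  key : ℕ → ℤ
  key_inj : Function.Injective key
  lead_ne : ∀ f, f ≠ 0 → ψ f (φ f) ≠ 0
  vanish : ∀ f j, key j < key (φ f) → ψ f j = 0

/-- The leading indices of a space. -/
noncomputable def LeadData.vals (L : LeadData k) (U : Submodule k k[X]) (d : ℕ) : Finset ℕ :=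
  open Classical in (Finset.range (d + 1)).filter fun e => ∃ f ∈ U, f ≠ 0 ∧ L.φ f = e

theorem LeadData.mem_vals (L : LeadData k) {U : Submodule k k[X]} {d e : ℕ} :
    e ∈ L.vals U d ↔ e ≤ d ∧ ∃ f ∈ U, f ≠ 0 ∧ L.φ f = e := by
  classical
  simp [LeadData.vals]

theorem LeadData.exists_basis (L : LeadData k) (U : Submodule k k[X]) (d : ℕ)
    (hd : ∀ f ∈ U, f ≠ 0 → L.φ f ≤ d) :
    finrank k U = (L.vals U d).card ∧ ∃ f : L.vals U d → k[X],
      (∀ e, f e ∈ U ∧ f e ≠ 0 ∧ L.φ (f e) = e) ∧ U ≤ Submodule.span k (Set.range f) := by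
  classical
  set E := L.vals U d
  choose f hfU hf0 hfe using fun e : E => ((L.mem_vals).1 e.2).2
  let g : U →ₗ[k] (E → k) :=
    LinearMap.funLeft k k (fun e : E => (e : ℕ)) ∘ₗ L.ψ ∘ₗ U.subtype
  have hg : Function.Injective g := by
    rw [injective_iff_map_eq_zero]
    intro x hx
    by_contra h0
    have hx0 : (x : k[X]) ≠ 0 := fun h => h0 (Subtype.ext h)
    exact L.lead_ne _ hx0 (congrFun hx ⟨L.φ x, L.mem_vals.2 ⟨hd _ x.2 hx0, x, x.2, hx0, rfl⟩⟩)
  have hli : LinearIndependent k f := by
    rw [Fintype.linearIndependent_iff]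
    intro c hc
    by_contra hcon
    push Not at hcon
    obtain ⟨i₀, hi₀⟩ := hcon
    obtain ⟨j, hj, hjmin⟩ := (Finset.univ.filter fun i => c i ≠ 0).exists_min_image
      (fun i : E => L.key (i : ℕ)) ⟨i₀, by simp [hi₀]⟩
    have hj0 := (Finset.mem_filter.1 hj).2
    have h1 := congrFun (congrArg L.ψ hc) (j : ℕ)
    rw [map_sum, map_zero, Finset.sum_apply, Finset.sum_eq_single j] at h1
    · rw [map_smul, Pi.smul_apply, smul_eq_mul, Pi.zero_apply] at h1
      exact mul_ne_zero hj0 (hfe j ▸ L.lead_ne _ (hf0 j)) h1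
    · intro i _ hij
      by_cases hci : c i = 0
      · simp [hci]
      rw [map_smul, Pi.smul_apply, L.vanish, smul_zero]
      rw [hfe i]
      refine lt_of_le_of_ne (hjmin i (by simp [hci])) fun h => hij (Subtype.ext ?_).symm
      exact L.key_inj h
    · simp
  have hfin : Module.Finite k U := Module.Finite.of_injective g hg
  have h1 : finrank k U ≤ E.card :=
    (LinearMap.finrank_le_finrank_of_injective hg).trans_eq (by simp)
  have hspan : Submodule.span k (Set.range f) ≤ U :=
    Submodule.span_le.2 (by rintro _ ⟨e, rfl⟩; exact hfU e)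
  have h2 : finrank k (Submodule.span k (Set.range f)) = E.card := by
    rw [finrank_span_eq_card hli]; simp
  have h3 := Submodule.finrank_mono hspan
  exact ⟨by omega, f, fun e => ⟨hfU e, hf0 e, hfe e⟩,
    (Submodule.eq_of_le_of_finrank_le hspan (by omega)).ge⟩

/-- Trailing data at `a`. -/
noncomputable def atPoint (a : k) : LeadData k where
  ψ := LinearMap.pi fun n => lcoeff k n ∘ₗ taylor a
  φ f := (taylor a f).natTrailingDegree
  key n := n
  key_inj _ _ h := Int.ofNat_inj.1 h
  lead_ne f hf := by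
    show (taylor a f).coeff (taylor a f).natTrailingDegree ≠ 0
    have : taylor a f ≠ 0 := fun h => hf (taylor_injective a (by rw [h, map_zero]))
    exact mem_support_iff.1 (natTrailingDegree_mem_support_of_nonzero this)
  vanish f j hj := coeff_eq_zero_of_lt_natTrailingDegree (by exact_mod_cast hj)

/-- Leading data at infinity. -/
noncomputable def atInfty : LeadData k where
  ψ := LinearMap.pi fun n => lcoeff k n
  φ f := f.natDegree
  key n := -(n : ℤ)
  key_inj _ _ h := by simpa using h
  lead_ne f hf := by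
    show f.coeff f.natDegree ≠ 0
    exact leadingCoeff_ne_zero.2 hf
  vanish f j hj := coeff_eq_zero_of_natDegree_lt (by simpa using hj)

theorem atPoint_φ (a : k) (f : k[X]) : (atPoint a).φ f = f.rootMultiplicity a := by
  rw [rootMultiplicity_eq_natTrailingDegree, ← taylor_apply]; rfl

/-- The Wronskian of a tuple of polynomials. -/
noncomputable def wr {N : ℕ} (f : Fin N → k[X]) : k[X] :=
  (Matrix.of fun i j : Fin N => derivative^[(j : ℕ)] (f i)).det

theorem coeff_prod_sum {ι : Type*} (s : Finset ι) (f : ι → k[X]) (e : ι → ℕ)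
    (h : ∀ i ∈ s, (f i).natDegree ≤ e i) :
    (∏ i ∈ s, f i).coeff (∑ i ∈ s, e i) = ∏ i ∈ s, (f i).coeff (e i) := by
  classical
  induction s using Finset.induction with
  | empty => simp
  | insert a s ha ih =>
    rw [Finset.prod_insert ha, Finset.sum_insert ha, Finset.prod_insert ha,
      coeff_mul_add_eq_of_natDegree_le (h a (Finset.mem_insert_self a s))
        ((natDegree_prod_le s f).trans
          (Finset.sum_le_sum fun i hi => h i (Finset.mem_insert_of_mem hi))),
      ih fun i hi => h i (Finset.mem_insert_of_mem hi)]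

theorem det_top {N : ℕ} (M : Matrix (Fin N) (Fin N) k[X]) (e : Fin N → ℕ)
    (h : ∀ i j, (M i j).natDegree ≤ e i) :
    M.det.natDegree ≤ ∑ i, e i ∧
      M.det.coeff (∑ i, e i) = (Matrix.of fun i j => (M i j).coeff (e i)).det := by
  rw [Matrix.det_apply M]
  constructor
  · refine natDegree_sum_le_of_forall_le _ _ fun σ _ => ?_
    refine (natDegree_smul_le _ _).trans ((natDegree_prod_le _ _).trans ?_)
    refine (Finset.sum_le_sum fun i _ => h (σ i) i).trans_eq ?_
    exact Equiv.sum_comp σ e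
  · rw [finsetSum_coeff, Matrix.det_apply]
    refine Finset.sum_congr rfl fun σ _ => ?_
    rw [coeff_smul, ← Equiv.sum_comp σ e, coeff_prod_sum _ _ _ fun i _ => h (σ i) i]
    rfl

theorem wr_bound [CharZero k] {N : ℕ} (f : Fin N → k[X]) (hf : ∀ i, f i ≠ 0)
    (hinj : Function.Injective fun i => (f i).natDegree) :
    wr f ≠ 0 ∧ (wr f).natDegree + ∑ j : Fin N, (j : ℕ) ≤ ∑ i, (f i).natDegree := by
  set M : Matrix (Fin N) (Fin N) k[X] :=
    Matrix.of fun i j => X ^ (j : ℕ) * derivative^[(j : ℕ)] (f i) with hM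
  have hMdet : M.det = X ^ (∑ j : Fin N, (j : ℕ)) * wr f := by
    rw [← Finset.prod_pow_eq_pow_sum]
    exact Matrix.det_mul_row (fun j : Fin N => X ^ (j : ℕ)) _
  have hdeg : ∀ i j, (M i j).natDegree ≤ (f i).natDegree := by
    intro i j
    by_cases hj : (f i).natDegree < (j : ℕ)
    · simp [hM, iterate_derivative_eq_zero hj]
    · show (X ^ (j : ℕ) * derivative^[(j : ℕ)] (f i)).natDegree ≤ _
      refine (natDegree_mul_le_of_le (natDegree_X_pow_le _)
        (natDegree_iterate_derivative (f i) _)).trans ?_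
      omega
  have hcoe : ∀ i j, (M i j).coeff (f i).natDegree =
      ((f i).natDegree.descFactorial (j : ℕ) : k) * (f i).leadingCoeff := by
    intro i j
    show (X ^ (j : ℕ) * derivative^[(j : ℕ)] (f i)).coeff _ = _
    rw [coeff_X_pow_mul']
    split_ifs with hj
    · rw [coeff_iterate_derivative, Nat.sub_add_cancel hj, nsmul_eq_mul]; rfl
    · rw [Nat.descFactorial_eq_zero_iff_lt.2 (not_le.1 hj)]; simp
  obtain ⟨hle, htop⟩ := det_top M _ hdeg
  have hV : (Matrix.of fun i j => (M i j).coeff (f i).natDegree).det ≠ 0 := by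
    simp only [hcoe]
    have h0 : (Matrix.of fun i j : Fin N =>
        ((f i).natDegree.descFactorial (j : ℕ) : k) * (f i).leadingCoeff).det =
        (∏ i, (f i).leadingCoeff) *
          (Matrix.of fun i j : Fin N => ((f i).natDegree.descFactorial (j : ℕ) : k)).det := by
      rw [← Matrix.det_mul_column]
      congr 1
      ext i j
      simp [mul_comm]
    rw [h0]
    refine mul_ne_zero (Finset.prod_ne_zero_iff.2 fun i _ => leadingCoeff_ne_zero.2 (hf i)) ?_
    have h1 := Matrix.det_eval_matrixOfPolynomials_eq_det_vandermonde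
      (fun i : Fin N => ((f i).natDegree : k)) (fun j : Fin N => descPochhammer k (j : ℕ))
      (fun j => descPochhammer_natDegree k _) (fun j => monic_descPochhammer k _)
    simp only [descPochhammer_eval_eq_descFactorial] at h1
    rw [← h1, Matrix.det_vandermonde_ne_zero_iff]
    exact fun a b hab => hinj (Nat.cast_injective hab)
  have hne : M.det ≠ 0 := fun h0 => hV (by rw [← htop, h0, coeff_zero])
  rw [hMdet] at hne hle
  have hw := right_ne_zero_of_mul hne
  refine ⟨hw, ?_⟩
  rw [natDegree_mul (pow_ne_zero _ X_ne_zero) hw, natDegree_X_pow] at hle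
  omega

theorem wr_dvd {N : ℕ} (f : Fin N → k[X]) (a : k) (m : Fin N → ℕ)
    (h : ∀ i, (X - C a) ^ m i ∣ f i) :
    (X - C a) ^ (∑ i, m i) ∣ (X - C a) ^ (∑ j : Fin N, (j : ℕ)) * wr f := by
  set q := X - C a
  have hMdet : (Matrix.of fun i j : Fin N => q ^ (j : ℕ) * derivative^[(j : ℕ)] (f i)).det =
      q ^ (∑ j : Fin N, (j : ℕ)) * wr f := by
    rw [← Finset.prod_pow_eq_pow_sum]
    exact Matrix.det_mul_row (fun j : Fin N => q ^ (j : ℕ)) _
  have hd : ∀ i (j : Fin N), q ^ m i ∣ q ^ (j : ℕ) * derivative^[(j : ℕ)] (f i) := by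
    intro i j
    refine (pow_dvd_pow q (show m i ≤ (j : ℕ) + (m i - j) by omega)).trans ?_
    rw [pow_add]
    exact mul_dvd_mul_left _ (pow_sub_dvd_iterate_derivative_of_pow_dvd _ (h i))
  choose G hG using hd
  rw [← hMdet, ← Finset.prod_pow_eq_pow_sum]
  refine ⟨(Matrix.of G).det, ?_⟩
  rw [← Matrix.det_mul_column]
  congr 1
  exact Matrix.ext fun i j => hG i j

theorem wr_change {N : ℕ} (f g : Fin N → k[X]) (c : Matrix (Fin N) (Fin N) k)
    (h : ∀ i, g i = ∑ l, c i l • f l) : wr g = C c.det * wr f := by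
  have : (Matrix.of fun i j : Fin N => derivative^[(j : ℕ)] (g i)) =
      c.map C * Matrix.of fun i j : Fin N => derivative^[(j : ℕ)] (f i) := by
    ext1 i j
    simp only [Matrix.of_apply, Matrix.mul_apply, Matrix.map_apply, h i]
    rw [iterate_derivative_sum]
    simp [iterate_derivative_smul, smul_eq_C_mul]
  rw [wr, this, Matrix.det_mul]
  congr 1
  exact (RingHom.map_det (C : k →+* k[X]) c).symm

theorem mult_finset {d : ℕ} (U : Submodule k k[X]) (hd : ∀ f ∈ U, f.natDegree ≤ d) (a : k) :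
    ∀ f ∈ U, f ≠ 0 → (atPoint a).φ f ≤ d := by
  intro f hf h0
  show (taylor a f).natTrailingDegree ≤ d
  exact (natTrailingDegree_le_natDegree _).trans ((natDegree_taylor f a).trans_le (hd f hf))

/-- Plücker inequality for a space of polynomials. -/
theorem plucker [CharZero k] {d : ℕ} (U : Submodule k k[X]) (hd : ∀ f ∈ U, f.natDegree ≤ d)
    (A : Finset k) :
    ∑ a ∈ A, ∑ e ∈ (atPoint a).vals U d, e + ∑ j ∈ Finset.range (finrank k U), j ≤
      ∑ e ∈ (atInfty (k := k)).vals U d, e + A.card * ∑ j ∈ Finset.range (finrank k U), j := by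
  classical
  obtain ⟨EI, hEI⟩ : ∃ E, E = (atInfty (k := k)).vals U d := ⟨_, rfl⟩
  obtain ⟨hNI, g, hg, -⟩ := (atInfty (k := k)).exists_basis U d fun f hf _ => hd f hf
  rw [← hEI]
  revert g hNI
  rw [← hEI]
  intro hNI g hg
  obtain ⟨N, hN⟩ : ∃ N, N = finrank k U := ⟨_, rfl⟩
  rw [← hN] at hNI ⊢
  let σ : Fin N ≃ EI := (finCongr hNI).trans EI.equivFin.symm
  obtain ⟨hW, hdeg⟩ := wr_bound (fun i => g (σ i)) (fun i => (hg _).2.1) fun a b hab => by
    have : (σ a : ℕ) = σ b := by
      rw [← (hg (σ a)).2.2, ← (hg (σ b)).2.2]; exact hab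
    exact σ.injective (Subtype.ext this)
  have hsumI : ∑ i : Fin N, (g (σ i)).natDegree = ∑ e ∈ EI, e := by
    rw [← Finset.sum_coe_sort EI (fun e => e), ← σ.sum_comp]
    exact Finset.sum_congr rfl fun i _ => (hg _).2.2
  rw [hsumI, Fin.sum_univ_eq_sum_range (fun j => j)] at hdeg
  set T := ∑ j ∈ Finset.range N, j
  set W := wr fun i => g (σ i) with hWdef
  have hpt : ∀ a ∈ A, ∑ e ∈ (atPoint a).vals U d, e ≤ W.rootMultiplicity a + T := by
    intro a _
    obtain ⟨hNa, f, hf, hfs⟩ := (atPoint a).exists_basis U d (mult_finset U hd a)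
    rw [← hN] at hNa
    generalize (atPoint a).vals U d = Ea at hNa f hf hfs ⊢
    let τ : Fin N ≃ Ea := (finCongr hNa).trans Ea.equivFin.symm
    have hdvd := wr_dvd (fun i => f (τ i)) a (fun i => (τ i : ℕ)) fun i => by
      rw [← (hf (τ i)).2.2, atPoint_φ]
      exact pow_rootMultiplicity_dvd _ _
    rw [Fin.sum_univ_eq_sum_range (fun j => j)] at hdvd
    rw [show ∑ i : Fin N, ((τ i : ℕ)) = ∑ e ∈ Ea, e by
      rw [← Finset.sum_coe_sort Ea (fun e => e), ← τ.sum_comp]] at hdvd
    have hexp : ∀ i, ∃ c : Fin N → k, g (σ i) = ∑ l, c l • f (τ l) := by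
      intro i
      obtain ⟨c, hc⟩ := (Submodule.mem_span_range_iff_exists_fun k).1 (hfs (hg (σ i)).1)
      exact ⟨fun l => c (τ l), by rw [← hc, ← τ.sum_comp]⟩
    choose c hc using hexp
    have hch := wr_change (fun i => f (τ i)) (fun i => g (σ i)) (Matrix.of c) hc
    rw [← hWdef] at hch
    have hdvd' : (X - C a) ^ (∑ e ∈ Ea, e) ∣ (X - C a) ^ T * W := by
      rw [hch, mul_left_comm]
      exact Dvd.dvd.mul_left hdvd _
    have hne : (X - C a) ^ T * W ≠ 0 := mul_ne_zero (pow_ne_zero _ (X_sub_C_ne_zero a)) hW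
    have h1 := (le_rootMultiplicity_iff hne).2 hdvd'
    rw [rootMultiplicity_mul hne, rootMultiplicity_X_sub_C_pow] at h1
    omega
  have hroots : ∑ a ∈ A, W.rootMultiplicity a ≤ W.natDegree := by
    refine le_trans ?_ (card_roots' W)
    simp only [← count_roots]
    calc ∑ a ∈ A, W.roots.count a ≤ ∑ a ∈ A ∪ W.roots.toFinset, W.roots.count a :=
          Finset.sum_le_sum_of_subset Finset.subset_union_left
      _ = W.roots.card := Multiset.sum_count_eq_card fun a ha => by simp [ha]
  have := Finset.sum_le_sum hpt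
  rw [Finset.sum_add_distrib, Finset.sum_const, smul_eq_mul] at this
  omega

end GrothLib.FunFld.Poly
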