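import Groth.Agent.Lib.FunFld.LinSeries
import Groth.Agent.Lib.FunFld.Plucker
import Groth.Agent.Lib.FunFld.Gaps

/-! The Plücker inequality on a rational function field. -/

namespace GrothLib.FunFld

open _root_.FunFld WithZero Polynomial
open Poly (atPoint atInfty LeadData)

variable {k K : Type*} [Field k] [Field K] [Algebra k K]

/-- `t` is a parameter with its pole at `R`. -/
structure IsParam (R : Place k K) (t : K) : Prop where
  trans : Transcendental k t
  pole : R.ord t = -1
  regular : ∀ Q : Place k K, Q ≠ R → 0 ≤ Q.ord t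

theorem exists_isParam (h : IsFunctionField k K) [IsAlgClosed k] (hg : genus k K = 0)
    (R : Place k K) : ∃ t : K, IsParam R t := by
  have hR := IsFG.deg_eq_one h.1 R
  have h2 := ell_eq_of_deg_ge h (D := Finsupp.single R 1)
    (by rw [deg_single, hR, hg]; simp)
  rw [deg_single, hR, hg] at h2
  obtain ⟨x, hx, hxQ⟩ := exists_simple_pole_of_ell h (P := R) (by simp at h2; omega)
  exact ⟨x, transcendental_of_ord_ne_zero (P := R) (by omega), hx, hxQ⟩

theorem IsParam.aeval_ne_zero {R : Place k K} {t : K} (ht : IsParam R t) {f : k[X]} (hf : f ≠ 0) :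
    aeval t f ≠ 0 := fun h0 => hf (transcendental_iff_injective.1 ht.trans (h0.trans (map_zero _).symm))

theorem ord_aeval_pole {R : Place k K} {t : K} (ht : IsParam R t) {f : k[X]} (hf : f ≠ 0) :
    R.ord (aeval t f) = -(f.natDegree : ℤ) := by
  have ht0 : t ≠ 0 := fun h0 => ht.trans (h0 ▸ isAlgebraic_zero)
  have hv : val R t = exp 1 := by rw [val_eq R ht0, ht.pole]; norm_num
  have hterm : ∀ i, f.coeff i ≠ 0 → val R (f.coeff i • t ^ i) = exp (i : ℤ) := fun i hi => by
    rw [Algebra.smul_def, map_mul, map_pow, val_const R hi, hv, one_mul, ← exp_nsmul]; simp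
  have hsum : val R (aeval t f) = exp (f.natDegree : ℤ) := by
    rw [aeval_eq_sum_range, (val R).map_sum_eq_of_lt (Finset.self_mem_range_succ f.natDegree),
      hterm _ (leadingCoeff_ne_zero.2 hf)]
    intro i hi
    simp only [Finset.mem_sdiff, Finset.mem_range, Finset.mem_singleton] at hi
    rw [hterm _ (leadingCoeff_ne_zero.2 hf)]
    by_cases hc : f.coeff i = 0
    · simp [hc, zero_lt_iff]
    · rw [hterm i hc, exp_lt_exp]; omega
  exact ord_eq_of_val_eq R hsum

theorem mem_L_pole_iff {R : Place k K} {t : K} (ht : IsParam R t) (f : k[X]) (n : ℕ) :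
    aeval t f ∈ L (Finsupp.single R (n : ℤ)) ↔ f.natDegree ≤ n := by
  by_cases hf : f = 0
  · simp [hf]
  rw [mem_L_single_iff (ht.aeval_ne_zero hf) (by omega), ord_aeval_pole ht hf]
  constructor
  · intro h; have := h.1; omega
  · intro h
    refine ⟨by omega, fun Q hQ => ?_⟩
    rw [← val_le_one_iff Q (ht.aeval_ne_zero hf), aeval_eq_sum_range]
    refine (val Q).map_sum_le fun i _ => ?_
    have ht0 : t ≠ 0 := fun h0 => ht.trans (h0 ▸ isAlgebraic_zero)
    rw [Algebra.smul_def, map_mul, map_pow]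
    exact mul_le_one' (Q.2.1 _)
      (pow_le_one₀ zero_le ((val_le_one_iff Q ht0).2 (ht.regular Q hQ)))

/-- The polynomial part of a genus zero function field. -/
theorem L_pole_eq_range (h : IsFunctionField k K) [IsAlgClosed k] (hg : genus k K = 0)
    {R : Place k K} {t : K} (ht : IsParam R t) (n : ℕ) :
    L (Finsupp.single R (n : ℤ)) =
      (Polynomial.degreeLT k (n + 1)).map (aeval t).toLinearMap := by
  have := IsFG.finite_L h.1 (Finsupp.single R (n : ℤ))
  symm
  refine Submodule.eq_of_le_of_finrank_le ?_ ?_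
  · rintro _ ⟨f, hf, rfl⟩
    refine (mem_L_pole_iff ht f n).2 ?_
    rw [SetLike.mem_coe, mem_degreeLT] at hf
    by_cases hf0 : f = 0
    · simp [hf0]
    · rw [degree_eq_natDegree hf0, Nat.cast_lt] at hf; omega
  · have h1 := ell_eq_of_deg_ge h (D := Finsupp.single R (n : ℤ))
      (by rw [deg_single, IsFG.deg_eq_one h.1 R, hg]; simp)
    rw [deg_single, IsFG.deg_eq_one h.1 R, hg] at h1
    have e := Submodule.equivMapOfInjective (aeval t).toLinearMap
      (transcendental_iff_injective.1 ht.trans) (degreeLT k (n + 1))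
    rw [← e.finrank_eq, (degreeLTEquiv k (n + 1)).finrank_eq, Module.finrank_fin_fun]
    simp only [ell] at h1
    omega

theorem exists_residue (h : IsFG k K) [IsAlgClosed k] (P : Place k K) {t : K}
    (ht : val P t ≤ 1) : ∃ a : k, val P (t - algebraMap k K a) < 1 := by
  have := h.finite_residueField P
  obtain ⟨a, ha⟩ : ∃ a : k, a • (1 : IsLocalRing.ResidueField P.O) = res P ⟨t, ht⟩ := by
    have hP := h.deg_eq_one P
    exact (finrank_eq_one_iff_of_nonzero' _ one_ne_zero).1 hP _
  refine ⟨a, ?_⟩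
  have h0 : res P ((⟨t, ht⟩ : P.O) - a • 1) = 0 := by
    rw [map_sub, map_smul, map_one, ha, sub_self]
  have := (res_eq_zero_iff P _).1 h0
  have hc : (((⟨t, ht⟩ : P.O) - a • 1 : P.O) : K) = t - algebraMap k K a := by
    rw [Algebra.smul_def, mul_one]; rfl
  rwa [hc] at this

theorem ord_sub_residue (h : IsFG k K) [IsAlgClosed k] {R P : Place k K} {t : K} (ht : IsParam R t)
    {a : k} (ha : val P (t - algebraMap k K a) < 1) :
    P.ord (t - algebraMap k K a) = 1 ∧
      ∀ Q, val Q (t - algebraMap k K a) < 1 → Q = P := by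
  classical
  set u := t - algebraMap k K a with hu
  have hu' : u = aeval t (X - C a) := by simp [hu]
  have hu0 : u ≠ 0 := hu' ▸ ht.aeval_ne_zero (X_sub_C_ne_zero a)
  have hord : R.ord u = -1 := by
    rw [hu', ord_aeval_pole ht (X_sub_C_ne_zero a), natDegree_X_sub_C]; rfl
  have hreg : ∀ Q : Place k K, Q ≠ R → 0 ≤ Q.ord u := fun Q hQ => by
    have h1 := (mem_L_pole_iff ht (X - C a) 1).2 (natDegree_X_sub_C_le a)
    rw [← hu', mem_L_single_iff hu0 (by norm_num)] at h1
    exact h1.2 Q hQ
  have hd := h.deg_div u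
  have hdiv : ∀ Q : Place k K, (div k u + Finsupp.single R 1 : Divisor k K) Q =
      Q.ord u + if R = Q then 1 else 0 := fun Q => by
    rw [Finsupp.add_apply, h.div_apply, Finsupp.single_apply]
  have hnn : ∀ Q : Place k K, 0 ≤ (div k u + Finsupp.single R 1 : Divisor k K) Q := fun Q => by
    rw [hdiv]
    by_cases hQ : R = Q
    · subst hQ; simp [hord]
    · simpa [hQ] using hreg Q (Ne.symm hQ)
  have hP : 0 < P.ord u := (val_lt_one_iff P hu0).1 ha
  have hPR : R ≠ P := by rintro rfl; omega
  have h1 : Finsupp.single P (P.ord u) ≤ div k u + Finsupp.single R 1 := fun Q => by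
    by_cases hQ : P = Q
    · subst hQ; simp [hdiv, hPR]
    · simpa [hQ] using hnn Q
  have h2 := deg_mono h1
  rw [deg_add, hd, deg_single, deg_single, h.deg_eq_one P, h.deg_eq_one R] at h2
  push_cast at h2
  refine ⟨by omega, fun Q hQlt => ?_⟩
  by_contra hne
  have hQ : 0 < Q.ord u := (val_lt_one_iff Q hu0).1 hQlt
  have hQR : R ≠ Q := by rintro rfl; omega
  have h3 : Finsupp.single P 1 + Finsupp.single Q 1 ≤ div k u + Finsupp.single R 1 := fun S => by
    rw [hdiv]
    by_cases h4 : P = S
    · subst h4; simp [hne, Ne.symm hne, hPR]; omega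
    · by_cases h5 : Q = S
      · subst h5; simp [h4, hQR]; omega
      · have := hnn S; rw [hdiv] at this; simp [h4, h5]; exact this
  have h6 := deg_mono h3
  rw [deg_add, deg_add, hd, deg_single, deg_single, deg_single, h.deg_eq_one P, h.deg_eq_one Q,
    h.deg_eq_one R] at h6
  simp at h6

theorem ord_aeval_at (h : IsFG k K) [IsAlgClosed k] {R P : Place k K} {t : K} (ht : IsParam R t)
    (hPR : P ≠ R) {a : k} (ha : val P (t - algebraMap k K a) < 1) {f : k[X]} (hf : f ≠ 0) :
    P.ord (aeval t f) = f.rootMultiplicity a := by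
  obtain ⟨hord, -⟩ := ord_sub_residue h ht ha
  obtain ⟨q, hq, hqa⟩ := exists_eq_pow_rootMultiplicity_mul_and_not_dvd f hf a
  set m := f.rootMultiplicity a
  have hq0 : q ≠ 0 := fun h0 => hqa (h0 ▸ dvd_zero _)
  have ht0 : t ≠ 0 := fun h0 => ht.trans (h0 ▸ isAlgebraic_zero)
  have hqv : val P (aeval t q) = 1 := by
    obtain ⟨s, hs⟩ := X_sub_C_dvd_sub_C_eval (p := q) (a := a)
    have hs' : q = C (q.eval a) + (X - C a) * s := by rw [← hs]; ring
    have he : q.eval a ≠ 0 := fun h0 => hqa (dvd_iff_isRoot.2 h0)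
    rw [hs', map_add, map_mul, aeval_C, map_sub, aeval_X, aeval_C]
    rw [(val P).map_add_eq_of_lt_left, val_const P he]
    rw [val_const P he, map_mul]
    refine mul_lt_one_of_lt_of_le ha ?_
    rw [aeval_eq_sum_range]
    refine (val P).map_sum_le fun i _ => ?_
    rw [Algebra.smul_def, map_mul, map_pow]
    exact mul_le_one' (P.2.1 _) (pow_le_one₀ zero_le ((val_le_one_iff P ht0).2 (ht.regular P hPR)))
  have h1 : P.ord (aeval t q) = 0 := by
    rw [← exp_zero] at hqv
    simpa using ord_eq_of_val_eq P hqv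
  have hX : aeval t (X - C a) ≠ 0 := ht.aeval_ne_zero (X_sub_C_ne_zero a)
  rw [hq, map_mul, map_pow, ord_mul P (pow_ne_zero _ hX) (ht.aeval_ne_zero hq0), ord_pow,
    h1, map_sub, aeval_X, aeval_C, hord]
  simp

theorem sum_card_filter {d : ℕ} (E : Finset ℕ) (hE : ∀ e ∈ E, e ≤ d) :
    ∑ n ∈ Finset.range d, (E.filter fun e => n + 1 ≤ e).card = ∑ e ∈ E, e := by
  simp only [Finset.card_filter]
  rw [Finset.sum_comm]
  refine Finset.sum_congr rfl fun e he => ?_
  rw [← Finset.card_filter]
  refine (congrArg Finset.card ?_).trans (Finset.card_range e)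
  ext n
  have := hE e he
  simp only [Finset.mem_filter, Finset.mem_range]
  omega

theorem finrank_filter (Ld : LeadData k) (U : Submodule k k[X]) (d : ℕ)
    (hd : ∀ f ∈ U, f ≠ 0 → Ld.φ f ≤ d) (W : Submodule k k[X]) (hW : W ≤ U) (p : ℕ → Prop)
    [DecidablePred p] (hp : ∀ f ∈ U, f ≠ 0 → (f ∈ W ↔ p (Ld.φ f))) :
    Module.finrank k W = ((Ld.vals U d).filter p).card := by
  rw [(Ld.exists_basis W d fun f hf => hd f (hW hf)).1]
  refine congrArg Finset.card ?_
  ext e
  rw [Finset.mem_filter, Ld.mem_vals, Ld.mem_vals]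
  constructor
  · rintro ⟨he, f, hf, hf0, rfl⟩
    exact ⟨⟨he, f, hW hf, hf0, rfl⟩, (hp f (hW hf) hf0).1 hf⟩
  · rintro ⟨⟨he, f, hf, hf0, rfl⟩, hpe⟩
    exact ⟨he, f, (hp f hf hf0).2 hpe, hf0, rfl⟩

/-- Plücker: on a rational function field the total excess weight is at most `(r+1)(d-r)`. -/
theorem plucker (h : IsFunctionField k K) [IsAlgClosed k] [CharZero k] (hg : genus k K = 0)
    {d r : ℕ} {D : Divisor k K} (hD : D.deg = d) {V : Submodule k K} (hV : V ≤ L D)
    (hVr : Module.finrank k V = r + 1) (S : Finset (Place k K)) (hS : S.Nonempty) :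
    ∑ P ∈ S, wsum V D P d + r * (r + 1) ≤ S.card * (r * (r + 1) / 2) + (r + 1) * d := by
  classical
  have hfg : IsFG k K := h.1
  obtain ⟨R, hR⟩ := hS
  obtain ⟨t, ht⟩ := exists_isParam h hg R
  -- move `D` to `d R`
  have hd1 := hfg.deg_eq_one R
  have hell := ell_eq_of_deg_ge h (D := D - Finsupp.single R (d : ℤ))
    (by rw [deg_sub, deg_single, hd1, hD, hg]; simp)
  rw [deg_sub, deg_single, hd1, hD, hg] at hell
  obtain ⟨z, hz0, -, hz⟩ := hfg.exists_of_ell_pos (D := D - Finsupp.single R (d : ℤ))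
    (by simp at hell; omega)
  have hDz : D + div k z = Finsupp.single R (d : ℤ) := by
    rw [← sub_eq_zero]
    by_contra hne
    obtain ⟨P, hP⟩ := Finsupp.ne_iff.1 hne
    have hle : Finsupp.single P 1 ≤ D + div k z - Finsupp.single R (d : ℤ) := fun Q => by
      have := hz Q
      by_cases hQ : P = Q
      · subst hQ; simp at this hP ⊢; omega
      · simp [hQ] at this ⊢; omega
    have := deg_mono hle
    rw [deg_single, deg_sub, deg_add, hfg.deg_div, deg_single, hd1, hD, hfg.deg_eq_one P] at this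
    push_cast at this
    omega
  -- the space of polynomials
  let Φ : k[X] →ₗ[k] K := (mulEquiv (k := k) z hz0).toLinearMap ∘ₗ (aeval t).toLinearMap
  have hΦ : Function.Injective Φ :=
    (mulEquiv (k := k) z hz0).injective.comp (transcendental_iff_injective.1 ht.trans)
  have hΦapp : ∀ f, Φ f = z * aeval t f := fun f => rfl
  have hshift : ∀ E : Divisor k K, ∀ f : k[X], Φ f ∈ L (D - E) ↔
      aeval t f ∈ L (Finsupp.single R (d : ℤ) - E) := fun E f => by
    rw [hΦapp, hfg.mul_mem_L_iff _ hz0, sub_add_eq_add_sub, hDz]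
  have hrange : L D ≤ LinearMap.range Φ := fun x hx => by
    have hx' : z⁻¹ * x ∈ L (Finsupp.single R (d : ℤ)) := by
      rw [← hDz, ← hfg.mul_mem_L_iff D hz0, mul_inv_cancel_left₀ hz0]; exact hx
    rw [L_pole_eq_range h hg ht d] at hx'
    obtain ⟨f, -, hf⟩ := hx'
    refine ⟨f, ?_⟩
    show z * aeval t f = x
    rw [show aeval t f = z⁻¹ * x from hf, mul_inv_cancel_left₀ hz0]
  set U := V.comap Φ with hU
  have hUd : ∀ f ∈ U, f.natDegree ≤ d := fun f hf => by
    rw [← mem_L_pole_iff ht f d]
    have := (hshift 0 f).1 (by rw [sub_zero]; exact hV hf)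
    rwa [sub_zero] at this
  have hvd : ∀ (P : Place k K) (n : ℤ), vdim V D P n =
      Module.finrank k ↥(U ⊓ (L (D - Finsupp.single P n)).comap Φ) := fun P n => by
    rw [hU, ← Submodule.comap_inf, (Submodule.equivMapOfInjective Φ hΦ _).finrank_eq]
    exact (LinearEquiv.ofEq _ _ (Submodule.map_comap_eq_self
      (inf_le_left.trans (hV.trans hrange)))).finrank_eq.symm
  have hUr : Module.finrank k U = r + 1 := by
    rw [hU, (Submodule.equivMapOfInjective Φ hΦ _).finrank_eq, ← hVr]
    exact (LinearEquiv.ofEq _ _ (Submodule.map_comap_eq_self (hV.trans hrange))).finrank_eq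
  -- the weights
  have hwR : wsum V D R d + ∑ e ∈ (atInfty (k := k)).vals U d, e = (r + 1) * d := by
    have hdφ : ∀ f ∈ U, f ≠ 0 → (atInfty (k := k)).φ f ≤ d := fun f hf _ => hUd f hf
    set E := (atInfty (k := k)).vals U d
    have hcard : E.card = r + 1 := ((atInfty (k := k)).exists_basis U d hdφ).1.symm.trans hUr
    have hE : ∀ e ∈ E, e ≤ d := fun e he => ((atInfty (k := k)).mem_vals.1 he).1
    have h1 : wsum V D R d = ∑ e ∈ E, (d - e) := by
      have hio : Set.InjOn (fun e => d - e) (E : Set ℕ) := fun a ha b hb hab => by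
        have := hE a ha; have := hE b hb; simp only at hab; omega
      rw [← Finset.sum_image (f := fun x : ℕ => x) hio, ← sum_card_filter (d := d) _ fun e he => (by
        obtain ⟨a, -, rfl⟩ := Finset.mem_image.1 he; omega)]
      refine Finset.sum_congr rfl fun n hn => ?_
      rw [hvd, finrank_filter (atInfty (k := k)) U d hdφ _ inf_le_left
        (fun e => n + 1 ≤ d - e)]
      · rw [Finset.filter_image, Finset.card_image_of_injOn fun a ha b hb hab => by
          have := hE a (Finset.mem_filter.1 ha).1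
          have := hE b (Finset.mem_filter.1 hb).1
          have hab' : d - a = d - b := hab; omega]
      · intro f hf hf0
        simp only [Submodule.mem_inf, hf, true_and, Submodule.mem_comap]
        rw [Finset.mem_range] at hn
        rw [hshift, ← Finsupp.single_sub,
          show (d : ℤ) - ((n : ℤ) + 1) = ((d - (n + 1) : ℕ) : ℤ) by omega, mem_L_pole_iff ht]
        show _ ↔ n + 1 ≤ d - f.natDegree
        have := hUd f hf
        omega
    rw [h1, ← Finset.sum_add_distrib, Finset.sum_congr rfl (g := fun _ => d) fun e he =>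
      Nat.sub_add_cancel (hE e he), Finset.sum_const, hcard, smul_eq_mul]
  -- residues
  have hres : ∀ P ∈ S.erase R, ∃ a : k, val P (t - algebraMap k K a) < 1 := fun P hP =>
    exists_residue hfg P ((val_le_one_iff P (x := t) fun h0 => ht.trans (h0 ▸ isAlgebraic_zero)).2
      (ht.regular P (Finset.ne_of_mem_erase hP)))
  choose! α hα using hres
  have hinj : Set.InjOn α (S.erase R) := fun P hP Q hQ hPQ =>
    ((ord_sub_residue hfg ht (hα P hP)).2 Q (hPQ ▸ hα Q hQ)).symm
  have hwP : ∀ P ∈ S.erase R, wsum V D P d = ∑ e ∈ (atPoint (α P)).vals U d, e := by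
    intro P hP
    have hPR := Finset.ne_of_mem_erase hP
    have hdφ := Poly.mult_finset U hUd (α P)
    rw [← sum_card_filter ((atPoint (α P)).vals U d) fun e he => ((atPoint (α P)).mem_vals.1 he).1]
    refine Finset.sum_congr rfl fun n hn => ?_
    rw [hvd, finrank_filter (atPoint (α P)) U d hdφ _ inf_le_left (fun e => n + 1 ≤ e)]
    intro f hf hf0
    simp only [Submodule.mem_inf, hf, true_and, Submodule.mem_comap]
    rw [hshift, mem_L_iff_ord (ht.aeval_ne_zero hf0), Poly.atPoint_φ]
    constructor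
    · intro h1
      have := h1 P
      rw [ord_aeval_at hfg ht hPR (hα P hP) hf0] at this
      simp [Finsupp.single_eq_of_ne hPR] at this
      omega
    · intro h1 Q
      by_cases hQP : Q = P
      · subst hQP
        rw [ord_aeval_at hfg ht hPR (hα Q hP) hf0]
        simp [Finsupp.single_eq_of_ne hPR]; omega
      · rw [Finsupp.sub_apply, Finsupp.single_eq_of_ne hQP, sub_zero]
        exact (mem_L_iff_ord (ht.aeval_ne_zero hf0)).1 ((mem_L_pole_iff ht f d).2 (hUd f hf)) Q
  have key := Poly.plucker U hUd ((S.erase R).image α)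
  rw [Finset.sum_image hinj, ← Finset.sum_congr rfl hwP, Finset.card_image_of_injOn hinj,
    hUr, Finset.card_erase_of_mem hR] at key
  have hT : ∑ j ∈ Finset.range (r + 1), j = r * (r + 1) / 2 := by
    rw [Finset.sum_range_id]; simp [mul_comm]
  rw [hT] at key
  have h2 := Finset.sum_erase_add S (fun P => wsum V D P d) hR
  have h3 : (S.card - 1) * (r * (r + 1) / 2) + r * (r + 1) / 2 = S.card * (r * (r + 1) / 2) := by
    rw [← Nat.succ_mul]; congr 1; have := Finset.card_pos.2 ⟨R, hR⟩; omega
  have he : 2 ∣ r * (r + 1) := (Nat.even_mul_succ_self r).two_dvd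
  omega

end GrothLib.FunFld
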