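import Groth.Agent.Lib.FunFld.Conseq
import Mathlib.Algebra.BigOperators.Intervals

/-! Linear series: vanishing dimensions and weights. -/

namespace GrothLib.FunFld

open _root_.FunFld WithZero

variable {k K : Type*} [Field k] [Field K] [Algebra k K]

/-- `dim V(-nP)`. -/
noncomputable abbrev vdim (V : Submodule k K) (D : Divisor k K) (P : Place k K) (n : ℤ) : ℕ :=
  Module.finrank k ↥(V ⊓ L (D - Finsupp.single P n))

/-- The weight `∑_{n < d} dim V(-(n+1)P)`, the sum of the vanishing orders. -/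
noncomputable abbrev wsum (V : Submodule k K) (D : Divisor k K) (P : Place k K) (d : ℕ) : ℕ :=
  ∑ n ∈ Finset.range d, vdim V D P ((n : ℤ) + 1)

variable {V : Submodule k K} {D : Divisor k K} {d r : ℕ}

theorem finite_of_le_L (h : IsFG k K) (hV : V ≤ L D) : Module.Finite k V :=
  have := h.finite_L D
  Submodule.finiteDimensional_of_le hV

theorem finite_inf_L (h : IsFG k K) (V : Submodule k K) (E : Divisor k K) :
    Module.Finite k ↥(V ⊓ L E) :=
  have := h.finite_L E
  Submodule.finiteDimensional_of_le (inf_le_right : V ⊓ L E ≤ L E)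

theorem vdim_le (h : IsFG k K) (hV : V ≤ L D) (P : Place k K) (n : ℤ) :
    vdim V D P n ≤ Module.finrank k V :=
  have := finite_of_le_L h hV
  Submodule.finrank_mono inf_le_left

theorem vdim_of_nonpos (hV : V ≤ L D) (P : Place k K) {n : ℤ} (hn : n ≤ 0) :
    vdim V D P n = Module.finrank k V := by
  have hle : V ≤ L (D - Finsupp.single P n) := hV.trans (L_mono fun Q => by
    rw [Finsupp.sub_apply]
    by_cases hQ : P = Q
    · subst hQ; simp; omega
    · simp [hQ])
  exact (LinearEquiv.ofEq _ _ (inf_eq_left.2 hle)).finrank_eq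

theorem vdim_le_ell (h : IsFG k K) (V : Submodule k K) (D : Divisor k K) (P : Place k K) (n : ℤ) :
    vdim V D P n ≤ ell (D - Finsupp.single P n) :=
  have := h.finite_L (D - Finsupp.single P n)
  Submodule.finrank_mono inf_le_right

theorem vdim_eq_zero (h : IsFG k K) (P : Place k K) {n : ℤ} (hP : P.deg = 1) (hn : D.deg < n) :
    vdim V D P n = 0 :=
  Nat.le_zero.1 ((vdim_le_ell h V D P n).trans (le_of_eq
    (h.ell_eq_zero_of_deg_neg (by rw [deg_sub, deg_single, hP]; push_cast; omega))))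

theorem inf_vanish_le {P Q : Place k K} (hPQ : P ≠ Q) {m n : ℤ} (hm : 0 ≤ m) (hn : 0 ≤ n)
    (V : Submodule k K) (D : Divisor k K) :
    (V ⊓ L (D - Finsupp.single P m)) ⊓ (V ⊓ L (D - Finsupp.single Q n)) ≤
      V ⊓ L (D - Finsupp.single P m - Finsupp.single Q n) := by
  rintro x ⟨⟨hxV, hxP⟩, -, hxQ⟩
  refine ⟨hxV, fun R => ?_⟩
  have h1 := hxP R
  have h2 := hxQ R
  by_cases hP : P = R
  · subst hP; simpa [hPQ, Ne.symm hPQ] using h1
  · simpa [hP] using h2

theorem vdim_add_le_inf (h : IsFG k K) (hV : V ≤ L D) {P Q : Place k K} (hPQ : P ≠ Q) {m n : ℤ}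
    (hm : 0 ≤ m) (hn : 0 ≤ n) :
    vdim V D P m + vdim V D Q n ≤ Module.finrank k V +
      Module.finrank k ↥(V ⊓ L (D - Finsupp.single P m - Finsupp.single Q n)) := by
  have := finite_of_le_L h hV
  have := finite_inf_L h V (D - Finsupp.single P m)
  have := finite_inf_L h V (D - Finsupp.single Q n)
  have := finite_inf_L h V (D - Finsupp.single P m - Finsupp.single Q n)
  have h1 := Submodule.finrank_sup_add_finrank_inf_eq (V ⊓ L (D - Finsupp.single P m))
    (V ⊓ L (D - Finsupp.single Q n))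
  have h2 := Submodule.finrank_mono (sup_le inf_le_left inf_le_left :
    (V ⊓ L (D - Finsupp.single P m)) ⊔ (V ⊓ L (D - Finsupp.single Q n)) ≤ V)
  have h3 := Submodule.finrank_mono (inf_vanish_le hPQ hm hn V D)
  simp only [vdim]; omega

theorem vdim_add_le (h : IsFG k K) (hV : V ≤ L D) {P Q : Place k K} (hPQ : P ≠ Q)
    (hP : P.deg = 1) (hQ : Q.deg = 1) {m n : ℤ} (hm : 0 ≤ m) (hn : 0 ≤ n) (hmn : D.deg < m + n) :
    vdim V D P m + vdim V D Q n ≤ Module.finrank k V := by
  have h1 := vdim_add_le_inf h hV hPQ hm hn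
  have h2 : V ⊓ L (D - Finsupp.single P m - Finsupp.single Q n) = ⊥ := by
    rw [h.L_eq_bot_of_deg_neg (by rw [deg_sub, deg_sub, deg_single, deg_single, hP, hQ];
                                  push_cast; omega), inf_bot_eq]
  rw [h2, finrank_bot] at h1; omega

theorem sum_reflect (f : ℤ → ℕ) (d : ℕ) :
    ∑ n ∈ Finset.range d, f ((d : ℤ) - n) = ∑ n ∈ Finset.range d, f ((n : ℤ) + 1) := by
  rw [← Finset.sum_range_reflect (fun n : ℕ => f ((n : ℤ) + 1)) d]
  refine Finset.sum_congr rfl fun n hn => congrArg f ?_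
  rw [Finset.mem_range] at hn
  omega

theorem wsum_add_le (h : IsFG k K) (hV : V ≤ L D) (hD : D.deg = d) {P Q : Place k K} (hPQ : P ≠ Q)
    (hP : P.deg = 1) (hQ : Q.deg = 1) :
    wsum V D P d + wsum V D Q d ≤ Module.finrank k V * d := by
  rw [wsum, wsum, ← sum_reflect (vdim V D Q) d, ← Finset.sum_add_distrib]
  refine (Finset.sum_le_card_nsmul _ _ (Module.finrank k V) fun n hn => ?_).trans_eq
    (by simp [mul_comm])
  rw [Finset.mem_range] at hn
  exact vdim_add_le h hV hPQ hP hQ (by omega) (by omega) (by rw [hD]; omega)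

theorem wsum_add_of_compat {K' : Type*} [Field K'] [Algebra k K'] {V' : Submodule k K'}
    {D' : Divisor k K'} {P : Place k K} {Q : Place k K'}
    (hcomp : ∀ m : ℕ, m ≤ d + 1 →
      vdim V D P (m : ℤ) + vdim V' D' Q ((d : ℤ) + 1 - m) = r + 1) :
    wsum V D P d + wsum V' D' Q d = (r + 1) * d := by
  rw [wsum, wsum, ← sum_reflect (vdim V' D' Q) d, ← Finset.sum_add_distrib]
  rw [show (r + 1) * d = ∑ _n ∈ Finset.range d, (r + 1) by simp [mul_comm]]
  refine Finset.sum_congr rfl fun n hn => ?_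
  rw [Finset.mem_range] at hn
  have := hcomp (n + 1) (by omega)
  rw [show ((d : ℤ) + 1 - ((n + 1 : ℕ) : ℤ)) = (d : ℤ) - n by push_cast; ring] at this
  simpa using this

/-- Vanishing dimensions drop by at most one. -/
theorem vdim_le_succ (h : IsFG k K) (V : Submodule k K) (D : Divisor k K) {P : Place k K}
    (hP : P.deg = 1) (n : ℤ) : vdim V D P n ≤ vdim V D P (n + 1) + 1 := by
  obtain ⟨m, hm, hc⟩ := h.hasCodim_L_step (D - Finsupp.single P (n + 1)) P
  rw [show D - Finsupp.single P (n + 1) + Finsupp.single P 1 = D - Finsupp.single P n by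
    rw [Finsupp.single_add]; abel] at hc
  obtain ⟨m', hm', hc'⟩ := hc.mono_inf V
  rw [inf_comm _ V, inf_comm _ V] at hc'
  have := finite_inf_L h V (D - Finsupp.single P (n + 1))
  have := hc'.finite_right.2
  simp only [vdim]; omega

theorem vdim_ge (h : IsFG k K) (hV : V ≤ L D) {P : Place k K} (hP : P.deg = 1) (n : ℕ) :
    Module.finrank k V ≤ vdim V D P n + n := by
  induction n with
  | zero => rw [vdim_of_nonpos hV P (by simp)]; omega
  | succ n ih =>
    have := vdim_le_succ h V D hP (n : ℤ)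
    push_cast
    omega

theorem sum_tri (r : ℕ) : ∀ d, r ≤ d → 2 * ∑ n ∈ Finset.range d, (r - n) = r * (r + 1) := by
  induction r with
  | zero => simp
  | succ r ih =>
    intro d hd
    obtain ⟨d, rfl⟩ : ∃ e, d = e + 1 := ⟨d - 1, by omega⟩
    rw [Finset.sum_range_succ']
    simp only [Nat.add_sub_add_right, Nat.sub_zero]
    rw [mul_add, ih d (by omega)]
    ring

theorem le_deg_of_finrank (h : IsFG k K) (hV : V ≤ L D) (hD : D.deg = d)
    (hVr : Module.finrank k V = r + 1) {P : Place k K} (hP : P.deg = 1) : r ≤ d := by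
  have h1 := vdim_ge h hV hP (d + 1)
  rw [vdim_eq_zero h P hP (by rw [hD]; omega)] at h1
  omega

theorem wsum_ge (h : IsFG k K) (hV : V ≤ L D) (hD : D.deg = d)
    (hVr : Module.finrank k V = r + 1) {P : Place k K} (hP : P.deg = 1) :
    r * (r + 1) / 2 ≤ wsum V D P d := by
  have hrd := le_deg_of_finrank h hV hD hVr hP
  have h1 : ∑ n ∈ Finset.range d, (r - n) ≤ wsum V D P d := Finset.sum_le_sum fun n _ => by
    have := vdim_ge h hV hP (n + 1)
    push_cast at this
    omega
  have := sum_tri r d hrd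
  omega

theorem wsum_ge_of_cusp (h : IsFG k K) (hV : V ≤ L D) (hD : D.deg = d)
    (hVr : Module.finrank k V = r + 1) {P : Place k K} (hP : P.deg = 1)
    (hc : r ≤ vdim V D P 2) : r * (r + 1) / 2 + r ≤ wsum V D P d := by
  have hrd := le_deg_of_finrank h hV hD hVr hP
  rcases Nat.eq_zero_or_pos r with rfl | hr
  · exact wsum_ge h hV hD hVr hP
  have hv : ∀ n : ℕ, r + 2 ≤ vdim V D P ((n : ℤ) + 2) + n + 2 := by
    intro n
    induction n with
    | zero => simpa using hc
    | succ n ih =>
      have := vdim_le_succ h V D hP ((n : ℤ) + 2)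
      push_cast
      rw [show (n : ℤ) + 1 + 2 = (n : ℤ) + 2 + 1 by ring]
      omega
  have hd : r + 1 ≤ d := by
    by_contra hlt
    have := hv (r - 1)
    rw [vdim_eq_zero h P hP (by rw [hD]; omega)] at this
    omega
  obtain ⟨e, rfl⟩ : ∃ e, d = e + 1 := ⟨d - 1, by omega⟩
  rw [wsum, Finset.sum_range_succ']
  have h1 : r ≤ vdim V D P ((0 : ℕ) + 1) := by
    have := vdim_ge h hV hP 1; simpa using (by omega : r ≤ vdim V D P ((1 : ℕ) : ℤ))
  have h2 : ∑ n ∈ Finset.range e, (r - n) ≤
      ∑ n ∈ Finset.range e, vdim V D P (((n + 1 : ℕ) : ℤ) + 1) := Finset.sum_le_sum fun n _ => by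
    have := hv n
    rw [show ((n + 1 : ℕ) : ℤ) + 1 = (n : ℤ) + 2 by push_cast; ring]
    omega
  have := sum_tri r e (by omega)
  omega

theorem ell_le_deg_succ (h : IsFunctionField k K) (E : Divisor k K) (hE : 0 ≤ E.deg) :
    (ell E : ℤ) ≤ E.deg + 1 := by
  have hfg : IsFG k K := h.1
  rcases Nat.eq_zero_or_pos (ell E) with h0 | hpos
  · omega
  obtain ⟨z, hz0, -, hz⟩ := hfg.exists_of_ell_pos hpos
  have := hfg.delta_mono hz
  rw [delta_zero h, hfg.delta_add_div _ hz0] at this
  simp only [delta] at this; omega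

/-- In positive genus a divisor of positive degree has `ℓ ≤ deg`. -/
theorem ell_le_deg (h : IsFunctionField k K) (hg : 0 < genus k K) [IsAlgClosed k]
    (E : Divisor k K) (hE : 0 < E.deg) : (ell E : ℤ) ≤ E.deg := by
  classical
  have hfg : IsFG k K := h.1
  rcases Nat.eq_zero_or_pos (ell E) with h0 | hpos
  · omega
  obtain ⟨z, hz0, -, hz⟩ := hfg.exists_of_ell_pos hpos
  have hne : E + div k z ≠ 0 := fun h0 => by
    have := congrArg Divisor.deg h0
    rw [deg_add, hfg.deg_div, deg_zero] at this; omega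
  obtain ⟨P, hP⟩ := Finsupp.ne_iff.1 hne
  have hle : Finsupp.single P 1 ≤ E + div k z := fun Q => by
    have := hz Q
    by_cases hQ : P = Q
    · subst hQ; simp at this hP ⊢; omega
    · simp [hQ] at this ⊢; omega
  have h1 : ell (Finsupp.single P 1 : Divisor k K) ≤ 1 := by
    by_contra hc
    obtain ⟨x, hx, hxQ⟩ := exists_simple_pole_of_ell h (P := P) (by omega)
    have := (of_adjoin_eq_top h
      (adjoin_eq_top_of_simple_pole hfg (hfg.deg_eq_one P) hx hxQ)).1
    omega
  have h2 := hfg.ell_sub_ell_le hle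
  rw [deg_single, hfg.deg_eq_one P, deg_add, hfg.deg_div, hfg.ell_add_div E hz0] at h2
  omega

/-- In positive genus the weight at any point is at most `(r+1)d - r(r+1)/2 - r`. -/
theorem wsum_le_of_genus_pos (h : IsFunctionField k K) [IsAlgClosed k] (hg : 0 < genus k K)
    (hV : V ≤ L D) (hD : D.deg = d) (hVr : Module.finrank k V = r + 1) (P : Place k K) :
    wsum V D P d + r * (r + 1) / 2 + r ≤ (r + 1) * d := by
  have hfg : IsFG k K := h.1
  have hP := hfg.deg_eq_one P
  have hrd := le_deg_of_finrank hfg hV hD hVr hP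
  rcases Nat.eq_zero_or_pos r with hr | hr
  · subst hr
    simp only [wsum, zero_mul, Nat.zero_div, add_zero, zero_add, one_mul]
    refine (Finset.sum_le_card_nsmul _ _ 1 fun n _ => ?_).trans_eq (by simp)
    exact (vdim_le hfg hV P _).trans_eq hVr
  have hd : r + 1 ≤ d := by
    have h1 := ell_le_deg h hg D (by omega)
    have := hfg.finite_L D
    have := Submodule.finrank_mono hV
    simp only [ell] at h1
    omega
  obtain ⟨e, rfl⟩ : ∃ e, d = e + 1 := ⟨d - 1, by omega⟩
  have hsum : ∑ n ∈ Finset.range e, (vdim V D P ((n : ℤ) + 1) + (r + 1 - (e - n))) ≤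
      (r + 1) * e := by
    refine (Finset.sum_le_card_nsmul _ _ (r + 1) fun n hn => ?_).trans_eq (by simp [mul_comm])
    rw [Finset.mem_range] at hn
    have h1 := vdim_le hfg hV P ((n : ℤ) + 1)
    have h2 := vdim_le_ell hfg V D P ((n : ℤ) + 1)
    have h3 := ell_le_deg h hg (D - Finsupp.single P ((n : ℤ) + 1))
      (by rw [deg_sub, deg_single, hP, hD]; push_cast; omega)
    rw [deg_sub, deg_single, hP, hD] at h3
    push_cast at h3
    omega
  have hlast : vdim V D P ((e : ℤ) + 1) ≤ 1 := by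
    have h2 := vdim_le_ell hfg V D P ((e : ℤ) + 1)
    have h3 := ell_le_deg_succ h (D - Finsupp.single P ((e : ℤ) + 1))
      (by rw [deg_sub, deg_single, hP, hD]; push_cast; omega)
    rw [deg_sub, deg_single, hP, hD] at h3
    push_cast at h3
    omega
  have htri : 2 * ∑ n ∈ Finset.range e, (r + 1 - (e - n)) = r * (r + 1) := by
    rw [← sum_tri r e (by omega), ← Finset.sum_range_reflect (fun n => r - n) e]
    congr 1
    refine Finset.sum_congr rfl fun n hn => ?_
    rw [Finset.mem_range] at hn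
    omega
  rw [Finset.sum_add_distrib] at hsum
  rw [wsum, Finset.sum_range_succ, Nat.mul_add (r + 1) e 1, mul_one]
  omega

end GrothLib.FunFld
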