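import Groth.Agent.Lib.FunFld.Approx
import Mathlib.RingTheory.Adjoin.Polynomial.Bivariate
import Mathlib.FieldTheory.IntermediateField.Adjoin.Basic
import Mathlib.RingTheory.AlgebraTower
import Mathlib.LinearAlgebra.Dimension.Finite
import Mathlib.RingTheory.Valuation.LocalSubring
import Mathlib.RingTheory.AlgebraicIndependent.AlgebraicClosure
import Mathlib.Data.Int.GCD
import Mathlib.GroupTheory.ArchimedeanDensely

/-! Degrees of places and of divisors of functions. -/

namespace GrothLib.FunFld

open _root_.FunFld WithZero Polynomial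
open IntermediateField (adjoin mem_adjoin_simple_iff subset_adjoin)

variable (k K : Type*) [Field k] [Field K] [Algebra k K]

/-- `K` is finite over a purely transcendental extension of degree one of `k`. -/
def IsFG : Prop :=
  ∃ x : K, Transcendental k x ∧ FiniteDimensional (adjoin k ({x} : Set K)) K

variable {k K}

theorem IsFG.of_isFunctionField (h : IsFunctionField k K) : IsFG k K := h.1

theorem transcendental_of_not_mem (h : IsFunctionField k K) {x : K}
    (hx : x ∉ Set.range (algebraMap k K)) : Transcendental k x :=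
  fun ha => hx (h.2 x ha)

theorem IsFG.finiteDimensional_adjoin (h : IsFG k K) {y : K} (hy : Transcendental k y) :
    FiniteDimensional (adjoin k ({y} : Set K)) K := by
  obtain ⟨x, hx, hfin⟩ := h
  have halg : IsAlgebraic (adjoin k ({y} : Set K)) x :=
    IntermediateField.isAlgebraic_adjoin_iff.mpr (.adjoin_singleton hx hy
      (IntermediateField.isAlgebraic_adjoin_iff.mp (IsAlgebraic.of_finite (adjoin k ({x} : Set K)) y)))
  let L := adjoin (adjoin k ({y} : Set K)) ({x} : Set K)
  have hL : FiniteDimensional (adjoin k ({y} : Set K)) L :=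
    IntermediateField.adjoin.finiteDimensional halg.isIntegral
  have hle : adjoin k ({x} : Set K) ≤ L.restrictScalars k := by
    rw [IntermediateField.adjoin_le_iff]
    intro z hz
    exact IntermediateField.subset_adjoin _ ({x} : Set K) hz
  have hK : FiniteDimensional L K := by
    obtain ⟨s, hs⟩ := hfin.fg_top
    refine ⟨⟨s, top_unique fun z hz' => ?_⟩⟩
    clear hz'
    have hz : z ∈ Submodule.span (adjoin k ({x} : Set K)) (s : Set K) := hs ▸ trivial
    induction hz using Submodule.span_induction with
    | mem a ha => exact Submodule.subset_span ha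
    | zero => exact zero_mem _
    | add a b _ _ ha hb => exact add_mem ha hb
    | smul c a _ ha =>
      have := Submodule.smul_mem _ (⟨(c : K), hle c.2⟩ : L) ha
      exact this
  exact Module.Finite.trans L K

/-- Elements of `k(x)` are quotients of polynomials in `x`; clear denominators. -/
theorem linearIndependent_adjoin_of_polynomial {x : K} {ι : Type*} [Fintype ι] (z : ι → K)
    (h : ∀ p : ι → k[X], ∑ i, aeval x (p i) * z i = 0 → p = 0) :
    LinearIndependent (adjoin k ({x} : Set K)) z := by
  classical
  rw [Fintype.linearIndependent_iff]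
  intro g hg
  have hr : ∀ i, ∃ r s : k[X], (g i : K) = aeval x r / aeval x s :=
    fun i => (mem_adjoin_simple_iff k _).1 (g i).2
  choose r s hrs using hr
  by_contra hcon
  push Not at hcon
  obtain ⟨i₀, hi₀⟩ := hcon
  let T := Finset.univ.filter fun i => g i ≠ 0
  let p : ι → k[X] := fun i => if g i = 0 then 0 else r i * ∏ j ∈ T.erase i, s j
  have hs : ∀ i, g i ≠ 0 → aeval x (s i) ≠ 0 := fun i hi hz => hi (Subtype.ext (by
    rw [hrs i, hz, div_zero]; rfl))
  have hp : ∀ i, aeval x (p i) = aeval x (∏ j ∈ T, s j) * (g i : K) := by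
    intro i
    by_cases hi : g i = 0
    · simp [p, hi]
    · have hiT : i ∈ T := by simp [T, hi]
      simp only [p, if_neg hi, map_mul, ← Finset.mul_prod_erase T s hiT, hrs i]
      field_simp [hs i hi]
  have hzero := h p (by
    simp only [hp, mul_assoc, ← Finset.mul_sum]
    have : ∑ i, (g i : K) * z i = 0 := by simpa [Algebra.smul_def] using hg
    rw [this, mul_zero])
  have := congrArg (aeval x) (congrFun hzero i₀)
  rw [hp, Pi.zero_apply, map_zero] at this
  rcases mul_eq_zero.1 this with h1 | h1
  · rw [map_prod] at h1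
    obtain ⟨j, hj, hj0⟩ := Finset.prod_eq_zero_iff.1 h1
    exact hs j (Finset.mem_filter.1 hj).2 hj0
  · exact hi₀ (Subtype.ext h1)

/-- `{y | v_P y ≤ exp (D P) for P ∈ S}`. -/
def box (S : Finset (Place k K)) (D : Divisor k K) : Submodule k K where
  carrier := {y | ∀ P ∈ S, val P y ≤ exp (D P)}
  add_mem' {a b} ha hb P hP := ((val P).map_add a b).trans (max_le (ha P hP) (hb P hP))
  zero_mem' P _ := by simp
  smul_mem' c a ha P hP := by
    show val P (c • a) ≤ _
    rw [Algebra.smul_def, map_mul]
    exact (mul_le_mul' (P.2.1 c) (ha P hP)).trans_eq (one_mul _)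

theorem mem_box {S : Finset (Place k K)} {D : Divisor k K} {y : K} :
    y ∈ box S D ↔ ∀ P ∈ S, val P y ≤ exp (D P) := Iff.rfl

/-- Linear independence over `k(x)` from independence modulo `x`. -/
theorem linearIndependent_of_mod {x : K} (hx : Transcendental k x) (S : Finset (Place k K))
    (hxS : ∀ P ∈ S, val P x ≤ 1) (E : Divisor k K)
    (hxE : ∀ P ∈ S, val P x ≤ exp (E P))
    {ι : Type*} [Fintype ι] (z : ι → K) (hz : ∀ i, ∀ P ∈ S, val P (z i) ≤ 1)
    (hind : ∀ c : ι → k, ∑ i, c i • z i ∈ box S E → c = 0) :
    LinearIndependent (adjoin k ({x} : Set K)) z := by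
  refine linearIndependent_adjoin_of_polynomial z ?_
  suffices h : ∀ N : ℕ, ∀ p : ι → k[X], (∀ i, (p i).natDegree ≤ N) →
      ∑ i, aeval x (p i) * z i = 0 → p = 0 from
    fun p hp => h (Finset.univ.sup fun i => (p i).natDegree) p
      (fun i => Finset.le_sup (f := fun i => (p i).natDegree) (Finset.mem_univ i)) hp
  have key : ∀ p : ι → k[X], ∑ i, aeval x (p i) * z i = 0 →
      (∀ i, (p i).coeff 0 = 0) ∧ ∑ i, aeval x (p i).divX * z i = 0 := by
    intro p hp
    have hsplit : ∀ i, aeval x (p i) * z i =
        (p i).coeff 0 • z i + x * (aeval x (p i).divX * z i) := fun i => by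
      conv_lhs => rw [← X_mul_divX_add (p i)]
      simp only [map_add, map_mul, aeval_X, aeval_C, Algebra.smul_def]
      ring
    simp only [hsplit, Finset.sum_add_distrib, ← Finset.mul_sum] at hp
    have hmem : ∑ i, (p i).coeff 0 • z i ∈ box S E := by
      intro P hP
      rw [eq_neg_of_add_eq_zero_left hp, Valuation.map_neg, map_mul]
      refine (mul_le_mul' (hxE P hP) ((val P).map_sum_le (g := 1) fun i _ => ?_)).trans_eq
        (mul_one _)
      rw [map_mul]
      refine mul_le_one' ?_ (hz i P hP)
      rw [aeval_eq_sum_range]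
      refine (val P).map_sum_le fun j _ => ?_
      rw [Algebra.smul_def, map_mul, map_pow]
      exact mul_le_one' (P.2.1 _) (pow_le_one₀ zero_le (hxS P hP))
    have hc := hind _ hmem
    have hx0 : x ≠ 0 := fun h0 => hx (h0 ▸ isAlgebraic_zero)
    refine ⟨congrFun hc, ?_⟩
    simp only [congrFun hc, Pi.zero_apply, zero_smul, Finset.sum_const_zero, zero_add] at hp
    exact (mul_eq_zero.1 hp).resolve_left hx0
  intro N
  induction N with
  | zero =>
    intro p hp hsum
    funext i
    rw [eq_C_of_natDegree_eq_zero (Nat.le_zero.1 (hp i)), (key p hsum).1 i, C_0]; rfl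
  | succ N ih =>
    intro p hp hsum
    obtain ⟨h0, hdiv⟩ := key p hsum
    have := ih (fun i => (p i).divX) (fun i => by
      rw [natDegree_divX_eq_natDegree_tsub_one]; have := hp i; omega) hdiv
    funext i
    rw [← X_mul_divX_add (p i), h0 i, congrFun this i]; simp

/-- The residue field of a place is finite. -/
theorem IsFG.finite_residueField (h : IsFG k K) (P : Place k K) :
    Module.Finite k (IsLocalRing.ResidueField P.O) := by
  classical
  obtain ⟨x, hx0, hx⟩ := exists_val_eq P (-1)
  have hxt : Transcendental k x := transcendental_of_val_ne_one P hx0 (by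
    rw [hx, ← exp_zero, Ne, exp_inj]; omega)
  have := h.finiteDimensional_adjoin hxt
  rw [← IsNoetherian.iff_fg, IsNoetherian.iff_rank_lt_aleph0]
  refine lt_of_le_of_lt (rank_le (n := Module.finrank (adjoin k ({x} : Set K)) K) fun s hs => ?_)
    (Cardinal.natCast_lt_aleph0)
  choose u hu using fun r : s => res_surjective P r
  have hli : LinearIndependent (adjoin k ({x} : Set K)) fun r : s => ((u r : P.O) : K) := by
    refine linearIndependent_of_mod hxt {P} (fun Q hQ => ?_) (Finsupp.single P (-1))
      (fun Q hQ => ?_) _ (fun r Q hQ => ?_) fun c hc => ?_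
    · rw [Finset.mem_singleton.1 hQ, hx, ← exp_zero, exp_le_exp]; omega
    · rw [Finset.mem_singleton.1 hQ, Finsupp.single_eq_same, hx]
    · rw [Finset.mem_singleton.1 hQ]; exact (u r).2
    · have h1 := hc P (Finset.mem_singleton_self P)
      rw [Finsupp.single_eq_same, show (-1 : ℤ) = 0 - 1 by ring, le_exp_sub_one_iff, exp_zero] at h1
      have hcoe : ((∑ r : s, c r • u r : P.O) : K) = ∑ r : s, c r • (u r : K) := by
        push_cast
        refine Finset.sum_congr rfl fun r _ => ?_
        rw [Algebra.smul_def, Algebra.smul_def]; rfl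
      have h2 := (res_eq_zero_iff P (∑ r : s, c r • u r)).2 (hcoe ▸ h1)
      simp only [map_sum, map_smul, hu] at h2
      exact funext (Fintype.linearIndependent_iff.1 hs c h2)
  simpa using hli.fintype_card_le_finrank

theorem IsFG.deg_pos (h : IsFG k K) (P : Place k K) : 0 < P.deg := by
  have := h.finite_residueField P
  exact Module.finrank_pos

/-- Divisor induction: from `D₁` to any `D₂ ≥ D₁` by adding places one at a time. -/
theorem divisor_le_induction {R : Divisor k K → Prop} {D₁ D₂ : Divisor k K} (h : D₁ ≤ D₂)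
    (base : R D₁)
    (step : ∀ D P, P ∈ (D₂ - D₁).support → D₁ ≤ D → R D → R (D + Finsupp.single P 1)) :
    R D₂ := by
  classical
  suffices H : ∀ E : Divisor k K, 0 ≤ E → E.support ⊆ (D₂ - D₁).support → R (D₁ + E) by
    simpa using H (D₂ - D₁) (sub_nonneg.2 h) (Finset.Subset.refl _)
  intro E
  induction E using Finsupp.induction with
  | zero => intro _ _; simpa using base
  | single_add a m f ha hm ih =>
    intro hE hsup
    have hm0 : 0 ≤ m := by simpa [Finsupp.notMem_support_iff.1 ha] using hE a
    have hf : 0 ≤ f := fun P => by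
      by_cases hP : P = a
      · simp [hP, Finsupp.notMem_support_iff.1 ha]
      · simpa [Ne.symm hP, hP] using hE P
    rw [Finsupp.support_single_add ha hm, Finset.cons_subset] at hsup
    obtain ⟨n, rfl⟩ := Int.eq_ofNat_of_zero_le hm0
    suffices hn : ∀ j : ℕ, R (D₁ + f + Finsupp.single a (j : ℤ)) by
      rw [add_comm (Finsupp.single a _), ← add_assoc]; exact hn n
    intro j
    induction j with
    | zero => simpa using ih hf hsup.2
    | succ j hj =>
      rw [Nat.cast_succ, Finsupp.single_add, ← add_assoc]
      refine step _ a hsup.1 ?_ hj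
      intro P; simp only [Finsupp.add_apply]
      have := hf P
      by_cases hP : a = P <;> simp [hP] at this ⊢ <;> omega

theorem deg_eq_degHom (D : Divisor k K) : D.deg = D.sum fun P n => n * (P.deg : ℤ) := rfl

@[simp] theorem deg_zero : (0 : Divisor k K).deg = 0 := by simp [Divisor.deg]

@[simp] theorem deg_single (P : Place k K) (n : ℤ) :
    Divisor.deg (Finsupp.single P n : Divisor k K) = n * P.deg := by simp [Divisor.deg]

@[simp] theorem deg_add (D E : Divisor k K) : (D + E).deg = D.deg + E.deg := by
  simp only [Divisor.deg]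
  exact Finsupp.sum_add_index' (fun P => by simp) (fun P a b => by ring)

@[simp] theorem deg_neg (D : Divisor k K) : (-D).deg = -D.deg := by
  have := deg_add D (-D); simp at this; omega

@[simp] theorem deg_sub (D E : Divisor k K) : (D - E).deg = D.deg - E.deg := by
  rw [sub_eq_add_neg, deg_add, deg_neg]; ring

theorem deg_sum {ι : Type*} (s : Finset ι) (f : ι → Divisor k K) :
    Divisor.deg (∑ i ∈ s, f i) = ∑ i ∈ s, (f i).deg := by
  classical
  induction s using Finset.induction with
  | empty => simp
  | insert a s ha ih => rw [Finset.sum_insert ha, Finset.sum_insert ha, deg_add, ih]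

theorem deg_nonneg {D : Divisor k K} (h : 0 ≤ D) : 0 ≤ D.deg :=
  Finset.sum_nonneg fun P _ => mul_nonneg (h P) (Int.natCast_nonneg _)

theorem deg_mono {D E : Divisor k K} (h : D ≤ E) : D.deg ≤ E.deg := by
  have := deg_nonneg (sub_nonneg.2 h); rw [deg_sub] at this; omega

theorem box_inf_ball {S : Finset (Place k K)} [DecidableEq (Place k K)] {P : Place k K}
    (hP : P ∈ S) (D : Divisor k K) :
    box (S.erase P) D ⊓ ball P (D P) = box S D := by
  ext y
  simp only [Submodule.mem_inf, mem_box, mem_ball, Finset.mem_erase]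
  constructor
  · rintro ⟨h1, h2⟩ Q hQ
    by_cases hQP : Q = P
    · exact hQP ▸ h2
    · exact h1 Q ⟨hQP, hQ⟩
  · exact fun h => ⟨fun Q hQ => h Q hQ.2, h P hP⟩

theorem hasCodim_box_single (h : IsFG k K) {S : Finset (Place k K)} {P : Place k K} (hP : P ∈ S)
    (D : Divisor k K) : HasCodim (box S D) (box S (D + Finsupp.single P 1)) P.deg := by
  classical
  have := h.finite_residueField P
  let B := box S (D + Finsupp.single P 1)
  have hb := hasCodim_ball_succ P (D P + 1)
  rw [add_sub_cancel_right] at hb
  have hsup : ball P (D P) ⊔ B = ball P (D P + 1) := by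
    refine le_antisymm (sup_le (ball_mono P (by omega)) fun y hy => ?_) fun y hy => ?_
    · have := hy P hP
      rw [Finsupp.add_apply, Finsupp.single_eq_same] at this
      exact this
    · obtain ⟨b, hb'⟩ := exists_approx S (fun Q => if Q = P then y else 0)
        (fun Q => D Q)
      rw [show y = (y - b) + b by ring]
      refine add_mem (Submodule.mem_sup_left ?_) (Submodule.mem_sup_right ?_)
      · have := hb' P hP
        rw [if_pos rfl, Valuation.map_sub_swap] at this
        exact this
      · intro Q hQ
        have := hb' Q hQ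
        by_cases hQP : Q = P
        · subst hQP
          rw [if_pos rfl] at this
          rw [show b = (b - y) + y by ring, Finsupp.add_apply, Finsupp.single_eq_same]
          exact ((val Q).map_add _ _).trans (max_le (this.trans (exp_le_exp.2 (by omega))) hy)
        · rw [if_neg hQP, sub_zero] at this
          simpa [Finsupp.add_apply, Ne.symm hQP, hQP] using this
  rw [← hsup] at hb
  have hinf : ball P (D P) ⊓ B = box S D := by
    ext y
    simp only [B, Submodule.mem_inf, mem_box, mem_ball, Finsupp.add_apply]
    constructor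
    · rintro ⟨h1, h2⟩ Q hQ
      by_cases hQP : Q = P
      · exact hQP ▸ h1
      · simpa [Ne.symm hQP, hQP] using h2 Q hQ
    · exact fun h => ⟨h P hP, fun Q hQ => (h Q hQ).trans (exp_le_exp.2 (by
        by_cases hQP : P = Q <;> simp [hQP]))⟩
  exact hinf ▸ hb.sup_to_inf

theorem hasCodim_box (h : IsFG k K) {S : Finset (Place k K)} {D₁ D₂ : Divisor k K} (hle : D₁ ≤ D₂)
    (hS : (D₂ - D₁).support ⊆ S) :
    ∃ n : ℕ, (n : ℤ) = D₂.deg - D₁.deg ∧ HasCodim (box S D₁) (box S D₂) n := by
  refine divisor_le_induction (R := fun D => ∃ n : ℕ, (n : ℤ) = D.deg - D₁.deg ∧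
    HasCodim (box S D₁) (box S D) n) hle ⟨0, by simp, HasCodim.refl _⟩ ?_
  rintro D P hP - ⟨n, hn, hc⟩
  exact ⟨n + P.deg, by simp [hn]; ring, hc.trans (hasCodim_box_single h (hS hP) D)⟩

/-- The fundamental inequality: `∑ ord_P x · deg P ≤ [K : k(x)]` over places where `ord_P x > 0`. -/
theorem IsFG.sum_ord_mul_deg_le (h : IsFG k K) {x : K} (hx : Transcendental k x)
    (S : Finset (Place k K)) (hS : ∀ P ∈ S, 0 < P.ord x) :
    ∑ P ∈ S, P.ord x * (P.deg : ℤ) ≤ Module.finrank (adjoin k ({x} : Set K)) K := by
  classical
  have := h.finiteDimensional_adjoin hx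
  have hx0 : x ≠ 0 := fun h0 => hx (h0 ▸ isAlgebraic_zero)
  let E : Divisor k K := -(∑ P ∈ S, Finsupp.single P (P.ord x))
  have hEP : ∀ P, E P = if P ∈ S then -P.ord x else 0 := by
    intro P
    simp only [E, Finsupp.neg_apply, Finsupp.finsetSum_apply, Finsupp.single_apply,
      Finset.sum_ite_eq']
    split <;> simp
  have hle : E ≤ 0 := fun P => by
    rw [hEP P]
    split
    · have := hS P ‹_›; simp; omega
    · simp
  obtain ⟨n, hn, hc⟩ := hasCodim_box h (S := S) hle (fun P hP => by
    rw [Finsupp.mem_support_iff, Finsupp.sub_apply, hEP P] at hP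
    by_contra hPS
    simp [hPS] at hP)
  have hdeg : E.deg = -∑ P ∈ S, P.ord x * (P.deg : ℤ) := by
    rw [deg_neg, deg_sum]; simp
  have := hc.finite
  let b := Module.finBasis k (box S 0 ⧸ (box S E).comap (box S 0).subtype)
  choose z hz using fun i => Submodule.Quotient.mk_surjective _ (b i)
  have hli : LinearIndependent (adjoin k ({x} : Set K)) fun i => (z i : K) := by
    refine linearIndependent_of_mod hx S (fun P hP => ?_) E (fun P hP => ?_) _
      (fun i P hP => ?_) fun c hc' => ?_
    · exact (val_le_one_iff P hx0).2 (hS P hP).le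
    · rw [hEP P, if_pos hP]; exact (val_eq P hx0).le
    · simpa using (z i).2 P hP
    · have hz0 : Submodule.Quotient.mk (p := (box S E).comap (box S 0).subtype)
          (∑ i, c i • z i) = 0 := by
        rw [Submodule.Quotient.mk_eq_zero, Submodule.mem_comap]
        simpa using hc'
      rw [← Submodule.mkQ_apply, map_sum] at hz0
      simp only [map_smul, Submodule.mkQ_apply, hz] at hz0
      exact funext (Fintype.linearIndependent_iff.1 b.linearIndependent c hz0)
  have h1 := hli.fintype_card_le_finrank
  rw [Fintype.card_fin, hc.finrank_eq] at h1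
  rw [hdeg, deg_zero] at hn
  omega

theorem IsFG.finite_zeros (h : IsFG k K) (x : K) : {P : Place k K | 0 < P.ord x}.Finite := by
  by_cases hx : Transcendental k x
  · refine Set.not_infinite.1 fun hinf => ?_
    obtain ⟨S, hS, hcard⟩ :=
      hinf.exists_subset_card_eq (Module.finrank (adjoin k ({x} : Set K)) K + 1)
    have h1 := h.sum_ord_mul_deg_le hx S fun P hP => hS hP
    have h2 : ∑ _P ∈ S, (1 : ℤ) ≤ ∑ P ∈ S, P.ord x * (P.deg : ℤ) :=
      Finset.sum_le_sum fun P hP => one_le_mul_of_one_le_of_one_le (hS hP)
        (by exact_mod_cast h.deg_pos P)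
    simp [hcard] at h2
    omega
  · convert Set.finite_empty
    refine Set.eq_empty_iff_forall_notMem.2 fun P hP => ?_
    rw [Set.mem_ofPred_eq] at hP
    by_cases h0 : x = 0
    · simp [h0] at hP
    · have := val_eq_one_of_isAlgebraic P (not_not.1 hx) h0
      rw [← exp_zero] at this
      rw [ord_eq_of_val_eq P this] at hP; simp at hP

theorem IsFG.finite_support_ord (h : IsFG k K) (x : K) :
    (Function.support fun P : Place k K => P.ord x).Finite := by
  refine ((h.finite_zeros x).union (h.finite_zeros x⁻¹)).subset fun P hP => ?_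
  simp only [Function.mem_support] at hP
  simp only [Set.mem_union, Set.mem_ofPred_eq, ord_inv]; omega

theorem IsFG.div_apply (h : IsFG k K) (x : K) (P : Place k K) : div k x P = P.ord x := by
  rw [_root_.FunFld.div, dif_pos (h.finite_support_ord x)]; rfl

theorem IsFG.div_mul (h : IsFG k K) {x y : K} (hx : x ≠ 0) (hy : y ≠ 0) :
    div k (x * y) = div k x + div k y := by
  ext P; simp [h.div_apply, ord_mul P hx hy]

theorem IsFG.div_inv (h : IsFG k K) (x : K) : div k x⁻¹ = -div k x := by
  ext P; simp [h.div_apply]

end GrothLib.FunFld
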