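import Groth.Agent.Lib.FunFld.RR
import Mathlib.FieldTheory.IsAlgClosed.Basic
import Mathlib.Algebra.Polynomial.Basis
import Mathlib.RingTheory.IntegralClosure.Algebra.Basic

/-! Consequences of Riemann–Roch: rational function fields, strong approximation, genus one. -/

namespace GrothLib.FunFld

open _root_.FunFld WithZero
open IntermediateField (adjoin)

variable {k K : Type*} [Field k] [Field K] [Algebra k K]

theorem IsFG.deg_eq_one [IsAlgClosed k] (h : IsFG k K) (P : Place k K) : P.deg = 1 := by
  have := h.finite_residueField P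
  -- the two `k`-module structures on the residue field agree up to unfolding
  have hfin : @Module.Finite k (IsLocalRing.ResidueField P.O) _ _ Algebra.toModule := this
  have : Algebra.IsIntegral k (IsLocalRing.ResidueField P.O) := ⟨fun r =>
    @IsIntegral.of_finite k (IsLocalRing.ResidueField P.O) _ _ _ hfin r⟩
  have hb := IsAlgClosed.algebraMap_bijective_of_isIntegral (k := k)
    (K := IsLocalRing.ResidueField P.O)
  exact (LinearEquiv.ofBijective (Algebra.linearMap k (IsLocalRing.ResidueField P.O))
    hb).finrank_eq.symm.trans (Module.finrank_self k)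

theorem linearIndependent_pow_of_transcendental {x : K} (hx : Transcendental k x) :
    LinearIndependent k fun n : ℕ => x ^ n := by
  rw [linearIndependent_iff]
  intro l hl
  have h0 : (Polynomial.ofFinsupp (AddMonoidAlgebra.ofCoeff l) : Polynomial k) = 0 := by
    apply transcendental_iff_injective.1 hx
    rw [map_zero, Polynomial.aeval_def, Polynomial.eval₂_eq_sum, ← hl]
    rw [Finsupp.linearCombination_apply]
    simp [Polynomial.sum_def, Finsupp.sum, Algebra.smul_def]
  simpa using h0

theorem isCanonical_of_ell_deg (h : IsFunctionField k K) {C : Divisor k K}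
    (hl : ell C = genus k K) (hd : C.deg = 2 * genus k K - 2) : IsCanonical k K C := by
  obtain ⟨C₀, hC₀⟩ := exists_isCanonical h
  have hfg : IsFG k K := h.1
  have h1 := riemann_roch' h hC₀ C
  rw [hl, hd] at h1
  obtain ⟨x, hx0, -, hx⟩ := hfg.exists_of_ell_pos (D := C₀ - C) (by omega)
  have h2 := (ell_canonical h hC₀).2
  have heq : C₀ - C + div k x = 0 := by
    by_contra hne
    obtain ⟨P, hP⟩ := Finsupp.ne_iff.1 hne
    have h3 : Finsupp.single P 1 ≤ C₀ - C + div k x := fun Q => by
      by_cases hQ : P = Q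
      · subst hQ
        have := hx P
        simp at this hP ⊢; omega
      · have := hx Q
        simp [hQ] at this ⊢; omega
    have := deg_mono h3
    have := hfg.deg_pos P
    rw [deg_single, deg_add, deg_sub, hfg.deg_div] at *
    omega
  obtain ⟨ω, h0, hω⟩ := hC₀
  refine ⟨mulW x (hfg.smul_mem_adele x) ω, fun hz => hx0 (mulW_eq_zero hfg h0 hz), ?_⟩
  have hC : C = C₀ + div k x := by
    have := congrArg (· + C) heq; simp only [zero_add] at this; rw [← this]; abel
  rw [hC]
  exact isDivOf_mulW' hfg hx0 _ hω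

theorem adjoin_eq_top_of_deg_poleDiv (h : IsFG k K) {x : K} (hx : Transcendental k x)
    (hd : (poleDiv (k := k) x).deg = 1) : adjoin k ({x} : Set K) = ⊤ := by
  have hn : Module.finrank (adjoin k ({x} : Set K)) K = 1 := by
    have := h.deg_poleDiv hx; omega
  rw [eq_top_iff]
  intro y _
  obtain ⟨c, hc⟩ := (finrank_eq_one_iff_of_nonzero' (1 : K) one_ne_zero).1 hn y
  rw [← hc, Algebra.smul_def, mul_one]
  exact c.2

theorem poleDiv_eq_single (h : IsFG k K) {x : K} {P : Place k K} {n : ℤ} (hn : 0 ≤ n)
    (hP : P.ord x = -n) (hQ : ∀ Q : Place k K, Q ≠ P → 0 ≤ Q.ord x) :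
    poleDiv (k := k) x = Finsupp.single P n := by
  ext Q
  rw [h.poleDiv_apply]
  by_cases hQP : Q = P
  · subst hQP; simp [hP]; omega
  · have := hQ Q hQP; simp [Ne.symm hQP]; omega

theorem transcendental_of_ord_ne_zero {x : K} {P : Place k K} (hP : P.ord x ≠ 0) :
    Transcendental k x := by
  refine transcendental_of_val_ne_one P (fun h0 => hP (by simp [h0])) fun h1 => hP ?_
  rw [← exp_zero] at h1
  simpa using ord_eq_of_val_eq P h1

theorem adjoin_eq_top_of_simple_pole (h : IsFG k K) {x : K} {P : Place k K} (hd : P.deg = 1)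
    (hP : P.ord x = -1) (hQ : ∀ Q : Place k K, Q ≠ P → 0 ≤ Q.ord x) :
    adjoin k ({x} : Set K) = ⊤ :=
  adjoin_eq_top_of_deg_poleDiv h (transcendental_of_ord_ne_zero (P := P) (by omega))
    (by rw [poleDiv_eq_single h (n := 1) zero_le_one hP hQ, deg_single, hd]; rfl)

/-- A function with a simple pole at a rational place and no other poles, from `ℓ(P) ≥ 2`. -/
theorem exists_simple_pole_of_ell (h : IsFunctionField k K) {P : Place k K}
    (hl : 2 ≤ ell (Finsupp.single P 1 : Divisor k K)) :
    ∃ x : K, P.ord x = -1 ∧ ∀ Q : Place k K, Q ≠ P → 0 ≤ Q.ord x := by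
  have hne : ¬ L (Finsupp.single P 1 : Divisor k K) ≤ L (0 : Divisor k K) := fun hle => by
    have := IsFG.finite_L h.1 (0 : Divisor k K)
    have := Submodule.finrank_mono hle
    have h1 := ell_zero h
    simp only [ell] at hl h1; omega
  obtain ⟨x, hx, hx0⟩ := SetLike.not_le_iff_exists.1 hne
  have hx00 : x ≠ 0 := by rintro rfl; exact hx0 (zero_mem _)
  rw [mem_L_iff_ord hx00] at hx hx0
  have hQ : ∀ Q : Place k K, Q ≠ P → 0 ≤ Q.ord x := fun Q hQ => by
    simpa [Ne.symm hQ] using hx Q
  refine ⟨x, ?_, hQ⟩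
  have := hx P
  simp at this
  push Not at hx0
  obtain ⟨R, hR⟩ := hx0
  by_cases hRP : R = P
  · subst hRP; simp at hR; omega
  · have := hQ R hRP; simp at hR; omega

/-- A rational function field has genus zero and a place of degree one. -/
theorem of_adjoin_eq_top (h : IsFunctionField k K) {x : K}
    (hx : adjoin k ({x} : Set K) = ⊤) :
    genus k K = 0 ∧ ∃ P : Place k K, P.deg = 1 ∧ P.ord x = -1 ∧
      ∀ Q : Place k K, Q ≠ P → 0 ≤ Q.ord x := by
  classical
  have hfg : IsFG k K := h.1
  have hxt : Transcendental k x := by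
    intro halg
    obtain ⟨y, hy, -⟩ := h.1
    obtain ⟨c, hc⟩ := h.2 x halg
    have hy' : y ∈ (⊥ : IntermediateField k K) := by
      have h1 : y ∈ adjoin k ({x} : Set K) := hx ▸ IntermediateField.mem_top
      have h2 : adjoin k ({x} : Set K) ≤ ⊥ := by
        rw [IntermediateField.adjoin_simple_le_iff]; exact ⟨c, hc⟩
      exact h2 h1
    obtain ⟨c', hc'⟩ := IntermediateField.mem_bot.1 hy'
    exact hy (hc' ▸ isAlgebraic_algebraMap c')
  have hn : Module.finrank (adjoin k ({x} : Set K)) K = 1 := by
    rw [hx]; exact IntermediateField.finrank_top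
  have hd := hfg.deg_poleDiv hxt
  rw [hn] at hd
  obtain ⟨P, hP⟩ := hfg.exists_pole hxt
  have hle : Finsupp.single P (-P.ord x) ≤ poleDiv (k := k) x := fun Q => by
    rw [hfg.poleDiv_apply]
    by_cases hQ : P = Q
    · subst hQ; simp
    · simp [hQ]
  have h1 := deg_mono hle
  rw [deg_single, hd] at h1
  have hPd := hfg.deg_pos P
  simp only [Nat.cast_one] at h1
  have hdeg : P.deg = 1 ∧ P.ord x = -1 := by
    have h2 : (1 : ℤ) ≤ -P.ord x := by omega
    have h3 : (1 : ℤ) ≤ P.deg := by exact_mod_cast hPd
    have h4 : -P.ord x ≤ -P.ord x * P.deg := le_mul_of_one_le_right (by omega) h3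
    have h5 : (P.deg : ℤ) ≤ -P.ord x * P.deg := le_mul_of_one_le_left (by omega) h2
    constructor <;> omega
  refine ⟨?_, P, hdeg.1, hdeg.2, fun Q hQ => ?_⟩
  · by_contra hg
    obtain ⟨D, hD⟩ := exists_delta_eq_genus_of_deg h
    set l : ℕ := D.toNat
    have h2 := hD (l • poleDiv (k := k) x) (by rw [deg_nsmul, hd]; omega)
    have hli : l + 1 ≤ ell (l • poleDiv (k := k) x) := by
      have := hfg.finite_L (l • poleDiv (k := k) x)
      have hind : LinearIndependent k fun i : Fin (l + 1) =>
          (⟨x ^ (i : ℕ), hfg.pow_mem_L x (Nat.le_of_lt_succ i.2)⟩ :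
            L (l • poleDiv (k := k) x)) := by
        refine LinearIndependent.of_comp (L (l • poleDiv (k := k) x)).subtype ?_
        exact (linearIndependent_pow_of_transcendental hxt).comp _ Fin.val_injective
      simpa [ell] using hind.fintype_card_le_finrank
    simp only [delta, deg_nsmul, hd] at h2
    omega
  · by_contra hneg
    have hle2 : Finsupp.single P 1 + Finsupp.single Q 1 ≤ poleDiv (k := k) x := fun R => by
      rw [hfg.poleDiv_apply]
      by_cases hRP : P = R
      · subst hRP; simp [hQ, hdeg.2]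
      · by_cases hRQ : Q = R
        · subst hRQ; simp [Ne.symm hQ]; omega
        · simp [hRP, hRQ]
    have h4 := deg_mono hle2
    have := hfg.deg_pos Q
    rw [deg_add, deg_single, deg_single, hd] at h4
    omega

/-- Strong approximation. -/
theorem strong_approximation' (h : IsFunctionField k K) (Pinf : Place k K)
    (S : Finset (Place k K)) (hinf : Pinf ∉ S) (x : Place k K → K) (m : Place k K → ℤ) :
    ∃ y : K, (∀ P ∈ S, val P (y - x P) = exp (m P)) ∧
      ∀ Q : Place k K, Q ≠ Pinf → Q ∉ S → val Q y ≤ 1 := by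
  classical
  have hfg : IsFG k K := h.1
  choose c _ hc using fun P : Place k K => exists_val_eq P (m P)
  obtain ⟨N, hN⟩ := exists_delta_eq_genus_of_deg h
  let E : Divisor k K := ∑ P ∈ S, Finsupp.single P (m P - 1)
  let T : ℤ := max 0 (N - E.deg)
  let D : Divisor k K := E + Finsupp.single Pinf T
  have hD : N ≤ D.deg := by
    rw [deg_add, deg_single]
    have h1 : T ≤ T * Pinf.deg :=
      le_mul_of_one_le_right (le_max_left _ _) (by exact_mod_cast hfg.deg_pos Pinf)
    omega
  let a : Place k K → K := fun P => if P ∈ S then x P + c P else 0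
  have ha : a ∈ adele k K := by
    show ∀ᶠ P : Place k K in Filter.cofinite, val P (a P) ≤ 1
    rw [Filter.eventually_cofinite]
    refine S.finite_toSet.subset fun P hP => ?_
    by_contra hPS
    simp [a, Finset.mem_coe.not.1 hPS] at hP
  have hmem : a ∈ AD D ⊔ Kc k K := by rw [adele_eq_of_delta_eq h (hN D hD)]; exact ha
  obtain ⟨u, hu, v, ⟨y, rfl⟩, huy⟩ := Submodule.mem_sup.1 hmem
  have hy : ∀ P, y = a P - u P := fun P => by
    have := congrFun huy P; rw [Pi.add_apply, diag_apply] at this; rw [← this]; ring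
  have hE : ∀ P, E P = if P ∈ S then m P - 1 else 0 := fun P => by
    simp only [E, Finsupp.finsetSum_apply, Finsupp.single_apply, Finset.sum_ite_eq']
  refine ⟨y, fun P hP => ?_, fun Q hQi hQS => ?_⟩
  · have h1 := hu P
    simp only [D, Finsupp.add_apply, hE P, if_pos hP] at h1
    rw [Finsupp.single_eq_of_ne (fun e : P = Pinf => hinf (e ▸ hP)), add_zero] at h1
    rw [hy P, show a P - u P - x P = c P + -u P by simp [a, hP]; ring,
      (val P).map_add_eq_of_lt_left]
    · exact hc P
    · rw [Valuation.map_neg]; exact h1.trans_lt ((exp_sub_one_lt _).trans_eq (hc P).symm)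
  · have h1 := hu Q
    simp only [D, Finsupp.add_apply, hE Q, if_neg hQS] at h1
    rw [Finsupp.single_eq_of_ne hQi, add_zero, exp_zero] at h1
    rw [hy Q, show a Q - u Q = -u Q by simp [a, hQS], Valuation.map_neg]
    exact h1

/-- Degree one divisors in genus one come from a unique rational place. -/
theorem ell_eq_deg_of_genus_one (h : IsFunctionField k K) (hg : genus k K = 1) {D : Divisor k K}
    (hD : 1 ≤ D.deg) : (ell D : ℤ) = D.deg := by
  rw [ell_eq_of_deg_ge h (D := D) (by rw [hg]; omega), hg]; omega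

theorem eq_of_single_sub_eq_div (h : IsFunctionField k K) (hg : 0 < genus k K) {P P' : Place k K}
    (hP' : P'.deg = 1) {x : K}
    (he : Finsupp.single P 1 - Finsupp.single P' 1 = div k x) : P = P' := by
  by_contra hne
  have hfg : IsFG k K := h.1
  have ho : ∀ Q, Q.ord x = (Finsupp.single P 1 - Finsupp.single P' 1 : Divisor k K) Q := fun Q => by
    rw [he, hfg.div_apply]
  have h1 : P'.ord x = -1 := by rw [ho]; simp [hne]
  have h2 : ∀ Q : Place k K, Q ≠ P' → 0 ≤ Q.ord x := fun Q hQ => by
    rw [ho]; by_cases hQP : P = Q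
    · subst hQP; simp [Ne.symm hQ]
    · simp [hQP, Ne.symm hQ]
  have := (of_adjoin_eq_top h (adjoin_eq_top_of_simple_pole hfg hP' h1 h2)).1
  omega

end GrothLib.FunFld
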