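import Groth.Prelude.Def_W4bk4goldsch23Ext
import Groth.Agent.Lib.FunFld.Conseq
import Mathlib.FieldTheory.IntermediateField.Algebraic

/-! Places in finite extensions: restriction, ramification, `∑ e f = n`. -/

namespace GrothLib.FunFld

open _root_.FunFld WithZero
open IntermediateField (adjoin)

variable {k K K' : Type*} [Field k] [Field K] [Field K'] [Algebra k K] [Algebra K K'] [Algebra k K']
  [IsScalarTower k K K'] [FiniteDimensional K K']

/-- The values of a place on the subfield. -/
theorem exists_restrict_aux (Q : Place k K') :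
    ∃ e : ℕ, 0 < e ∧ (∀ x : K, (e : ℤ) ∣ Q.ord (algebraMap K K' x)) ∧
      ∃ x : K, x ≠ 0 ∧ Q.ord (algebraMap K K' x) = e := by
  let H : AddSubgroup ℤ :=
    { carrier := {n | ∃ x : K, x ≠ 0 ∧ Q.ord (algebraMap K K' x) = n}
      add_mem' := by
        rintro _ _ ⟨x, hx, rfl⟩ ⟨y, hy, rfl⟩
        exact ⟨x * y, mul_ne_zero hx hy, by
          rw [map_mul, ord_mul Q (by simpa using hx) (by simpa using hy)]⟩
      zero_mem' := ⟨1, one_ne_zero, by simp⟩
      neg_mem' := by
        rintro _ ⟨x, hx, rfl⟩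
        exact ⟨x⁻¹, inv_ne_zero hx, by rw [map_inv₀, ord_inv]⟩ }
  obtain ⟨g, hg⟩ := Int.subgroup_cyclic H
  have hg0 : g ≠ 0 := by
    rintro rfl
    -- otherwise `Q` would be a place of `K'` over `K`
    have hle : ∀ c : K, Q.1 (algebraMap K K' c) ≤ 1 := fun c => by
      by_cases hc : c = 0
      · simp [hc]
      have : Q.ord (algebraMap K K' c) ∈ H := ⟨c, hc, rfl⟩
      rw [hg, AddSubgroup.mem_closure_singleton] at this
      obtain ⟨t, ht⟩ := this
      rw [smul_zero] at ht
      exact (val_le_one_iff Q (by simpa using hc)).2 (by rw [← ht])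
    obtain ⟨π, hπ0, hπ⟩ := exists_val_eq Q (-1)
    have h1 := val_eq_one_of_isAlgebraic (k := K) (⟨Q.1, hle, Q.2.2⟩ : Place K K')
      (IsAlgebraic.of_finite K π) hπ0
    change Q.1 π = 1 at h1
    rw [show Q.1 π = exp (-1) from hπ, ← exp_zero, exp_inj] at h1
    omega
  refine ⟨g.natAbs, Int.natAbs_pos.2 hg0, fun x => ?_, ?_⟩
  · by_cases hx : x = 0
    · simp [hx]
    have : Q.ord (algebraMap K K' x) ∈ H := ⟨x, hx, rfl⟩
    rw [hg, AddSubgroup.mem_closure_singleton] at this
    obtain ⟨t, ht⟩ := this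
    rw [← ht, zsmul_eq_mul, Int.natAbs_dvd]
    exact dvd_mul_left _ _
  · have : ((g.natAbs : ℕ) : ℤ) ∈ H := by
      rcases Int.natAbs_eq g with h | h
      · rw [hg, ← h]; exact AddSubgroup.subset_closure rfl
      · rw [hg, show ((g.natAbs : ℕ) : ℤ) = -g by omega]
        exact neg_mem (AddSubgroup.subset_closure rfl)
    exact this

/-- Every place of `K'` lies over a place of `K`. -/
theorem exists_isOverWith (Q : Place k K') :
    ∃ (P : Place k K) (e : ℕ), 0 < e ∧ IsOverWith Q P e := by
  obtain ⟨e, he, hdvd, x₀, hx₀, hx₀e⟩ := exists_restrict_aux (K := K) Q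
  classical
  let f : K → WithZero (Multiplicative ℤ) := fun x =>
    if x = 0 then 0 else exp (-(Q.ord (algebraMap K K' x) / e))
  have hf0 : ∀ x, x ≠ 0 → f x = exp (-(Q.ord (algebraMap K K' x) / e)) := fun x hx => if_neg hx
  have he' : (0 : ℤ) < e := by exact_mod_cast he
  let v : Valuation K (WithZero (Multiplicative ℤ)) :=
    { toFun := f
      map_zero' := if_pos rfl
      map_one' := by rw [hf0 _ one_ne_zero]; simp
      map_mul' := fun y z => by
        by_cases hy : y = 0
        · simp [f, hy]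
        by_cases hz : z = 0
        · simp [f, hz]
        rw [hf0 _ (mul_ne_zero hy hz), hf0 _ hy, hf0 _ hz, map_mul,
          ord_mul Q (by simpa using hy) (by simpa using hz), Int.add_ediv_of_dvd_left (hdvd y),
          ← exp_add]
        congr 1; ring
      map_add_le_max' := fun y z => by
        by_cases hy : y = 0
        · simp [f, hy]
        by_cases hz : z = 0
        · simp [f, hz]
        by_cases hyz : y + z = 0
        · simp [f, hyz]
        have hy' : algebraMap K K' y ≠ 0 := by simpa using hy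
        have hz' : algebraMap K K' z ≠ 0 := by simpa using hz
        have hyz' : algebraMap K K' (y + z) ≠ 0 :=
          fun h => hyz ((algebraMap K K').injective (h.trans (map_zero _).symm))
        have h := (val Q).map_add (algebraMap K K' y) (algebraMap K K' z)
        rw [← map_add, val_eq Q hy', val_eq Q hz', val_eq Q hyz', le_max_iff, exp_le_exp,
          exp_le_exp, neg_le_neg_iff, neg_le_neg_iff] at h
        rcases h with h | h
        · refine le_max_of_le_left ?_
          rw [hf0 _ hyz, hf0 _ hy, exp_le_exp, neg_le_neg_iff]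
          exact Int.ediv_le_ediv he' h
        · refine le_max_of_le_right ?_
          rw [hf0 _ hyz, hf0 _ hz, exp_le_exp, neg_le_neg_iff]
          exact Int.ediv_le_ediv he' h }
  refine ⟨⟨v, fun c => ?_, fun a => ?_⟩, e, he, fun x => ?_⟩
  · show f (algebraMap k K c) ≤ 1
    by_cases hc : algebraMap k K c = 0
    · simp [f, hc]
    rw [hf0 _ hc, ← IsScalarTower.algebraMap_apply, ord_const]
    simp
  · by_cases ha : a = 0
    · exact ⟨0, by rw [ha]; exact map_zero v⟩
    refine ⟨x₀ ^ (-log a), ?_⟩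
    have hv : v x₀ = exp (-1) := by
      show f x₀ = _
      rw [hf0 _ hx₀, hx₀e, Int.ediv_self he'.ne']
    rw [map_zpow₀, hv, ← exp_zsmul]
    simp [exp_log ha]
  · show Q.1 (algebraMap K K' x) = f x ^ e
    by_cases hx : x = 0
    · simp [f, hx, zero_pow he.ne']
    rw [hf0 _ hx, ← exp_nsmul, show Q.1 (algebraMap K K' x) = exp (-Q.ord (algebraMap K K' x)) from
      val_eq Q (by simpa using hx)]
    congr 1
    obtain ⟨t, ht⟩ := hdvd x
    rw [ht, Int.mul_ediv_cancel_left _ he'.ne', nsmul_eq_mul]
    push_cast; ring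

theorem pos_of_isOverWith {Q : Place k K'} {P : Place k K} {e : ℕ} (h : IsOverWith Q P e) :
    0 < e := by
  obtain ⟨e', he', -, x, hx0, hx⟩ := exists_restrict_aux (K := K) Q
  refine Nat.pos_of_ne_zero fun h0 => ?_
  subst h0
  have h1 : val Q (algebraMap K K' x) = exp 0 := (h x).trans ((pow_zero _).trans exp_zero.symm)
  have := ord_eq_of_val_eq Q h1
  omega

theorem ord_of_isOverWith {Q : Place k K'} {P : Place k K} {e : ℕ} (h : IsOverWith Q P e) (x : K) :
    Q.ord (algebraMap K K' x) = e * P.ord x := by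
  show -log (Q.1 (algebraMap K K' x)) = (e : ℤ) * -log (P.1 x)
  rw [h x, log_pow]; simp

theorem val_le_one_iff_of_isOverWith {Q : Place k K'} {P : Place k K} {e : ℕ}
    (h : IsOverWith Q P e) (x : K) : val Q (algebraMap K K' x) ≤ 1 ↔ val P x ≤ 1 := by
  show Q.1 (algebraMap K K' x) ≤ 1 ↔ _
  rw [h x]
  exact pow_le_one_iff (pos_of_isOverWith h).ne'

theorem isOverWith_unique {Q : Place k K'} {P P' : Place k K} {e e' : ℕ}
    (h : IsOverWith Q P e) (h' : IsOverWith Q P' e') : P = P' ∧ e = e' := by
  obtain rfl := place_eq_of_le_one_iff fun x =>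
    (val_le_one_iff_of_isOverWith h x).symm.trans (val_le_one_iff_of_isOverWith h' x)
  obtain ⟨π, hπ0, hπ⟩ := exists_val_eq P (-1)
  have h1 := (ord_of_isOverWith h) π
  have h2 := (ord_of_isOverWith h') π
  rw [h1, ord_eq_of_val_eq P hπ] at h2
  exact ⟨rfl, by omega⟩

theorem ramIdx_eq {Q : Place k K'} {P : Place k K} {e : ℕ} (h : IsOverWith Q P e) :
    ramIdx Q P = e := by
  classical
  have hov : IsOver Q P := ⟨e, h⟩
  rw [ramIdx, dif_pos hov]
  exact (isOverWith_unique (Nat.find_spec hov) h).2

theorem ramIdx_spec {Q : Place k K'} {P : Place k K} (h : IsOver Q P) :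
    IsOverWith Q P (ramIdx Q P) := by
  obtain ⟨e, he⟩ := h
  rwa [ramIdx_eq he]

omit [FiniteDimensional K K'] in
theorem transcendental_algebraMap {x : K} (hx : Transcendental k x) :
    Transcendental k (algebraMap K K' x) :=
  (transcendental_algebraMap_iff (algebraMap K K').injective).2 hx

/-- `[K' : k(x)] = [K' : K] [K : k(x)]`. -/
theorem finrank_adjoin_algebraMap (x : K) :
    Module.finrank (adjoin k ({algebraMap K K' x} : Set K')) K' =
      Module.finrank K K' * Module.finrank (adjoin k ({x} : Set K)) K := by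
  set f := IsScalarTower.toAlgHom k K K'
  have hmap : (adjoin k ({x} : Set K)).map f = adjoin k ({algebraMap K K' x} : Set K') := by
    rw [IntermediateField.adjoin_map, Set.image_singleton]; rfl
  let e : adjoin k ({x} : Set K) ≃ₐ[k] adjoin k ({algebraMap K K' x} : Set K') :=
    (IntermediateField.equivMap _ f).trans (IntermediateField.equivOfEq hmap)
  have h1 : Module.finrank (adjoin k ({x} : Set K)) K' =
      Module.finrank (adjoin k ({algebraMap K K' x} : Set K')) K' := by
    refine Algebra.finrank_eq_of_equiv_equiv e.toRingEquiv (RingEquiv.refl K') ?_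
    ext a; rfl
  rw [← h1, ← Module.finrank_mul_finrank (adjoin k ({x} : Set K)) K K', mul_comm]

theorem isFG_extension (h : IsFG k K) : IsFG k K' := by
  obtain ⟨x, hx, hfin⟩ := h
  refine ⟨algebraMap K K' x, transcendental_algebraMap hx, ?_⟩
  have h1 := finrank_adjoin_algebraMap (K' := K') (k := k) x
  apply Module.finite_of_finrank_pos
  rw [h1]
  exact Nat.mul_pos Module.finrank_pos Module.finrank_pos

theorem exists_single_pole (h : IsFG k K) (P : Place k K) :
    ∃ x : K, P.ord x < 0 ∧ ∀ Q : Place k K, Q ≠ P → 0 ≤ Q.ord x := by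
  obtain ⟨γ, hγ⟩ := h.exists_delta_le
  have hP := h.deg_pos P
  let N : ℕ := (γ + P.deg).toNat
  have h1 := hγ (Finsupp.single P (N : ℤ))
  simp only [delta, deg_single] at h1
  have h2 := h.finite_L_zero.2 P
  have h3 : (N : ℤ) ≤ N * P.deg :=
    le_mul_of_one_le_right (Int.natCast_nonneg _) (by exact_mod_cast hP)
  have hlt : ell (0 : Divisor k K) < ell (Finsupp.single P (N : ℤ) : Divisor k K) := by omega
  have hne : ¬ L (Finsupp.single P (N : ℤ)) ≤ L (0 : Divisor k K) := fun hle => by
    have := h.finite_L (0 : Divisor k K)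
    have := Submodule.finrank_mono hle
    simp only [ell] at hlt; omega
  obtain ⟨x, hx, hx0⟩ := SetLike.not_le_iff_exists.1 hne
  have hx00 : x ≠ 0 := by rintro rfl; exact hx0 (zero_mem _)
  rw [mem_L_iff_ord hx00] at hx hx0
  have hreg : ∀ Q : Place k K, Q ≠ P → 0 ≤ Q.ord x := fun Q hQ => by
    simpa [Ne.symm hQ, hQ] using hx Q
  refine ⟨x, ?_, hreg⟩
  push Not at hx0
  obtain ⟨R, hR⟩ := hx0
  by_cases hRP : R = P
  · subst hRP; simpa using hR
  · have := hreg R hRP; simp at hR; omega

/-- Finitely many places lie over `P`, and `∑ e(Q|P) deg Q = [K' : K] deg P`. -/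
theorem sum_ramIdx (h : IsFG k K) (P : Place k K) :
    {Q : Place k K' | IsOver Q P}.Finite ∧
    ∀ Qs : Finset (Place k K'), (∀ Q, Q ∈ Qs ↔ IsOver Q P) →
      (∑ Q ∈ Qs, ramIdx Q P * Q.deg) = Module.finrank K K' * P.deg := by
  classical
  obtain ⟨x, hxP, hxreg⟩ := exists_single_pole h P
  have h' : IsFG k K' := isFG_extension (K := K) h
  have hxt : Transcendental k x := transcendental_of_ord_ne_zero (P := P) (by omega)
  have hxt' := transcendental_algebraMap (K' := K') hxt
  have hpole : ∀ Q : Place k K', IsOver Q P ↔ Q.ord (algebraMap K K' x) < 0 := by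
    intro Q
    obtain ⟨P', e, he, hPe⟩ := exists_isOverWith (K := K) Q
    rw [(ord_of_isOverWith hPe) x]
    constructor
    · rintro ⟨e', he'⟩
      obtain ⟨rfl, rfl⟩ := isOverWith_unique hPe he'
      exact mul_neg_of_pos_of_neg (by exact_mod_cast he) hxP
    · intro hneg
      refine ⟨e, ?_⟩
      have : P' = P := by
        by_contra hne
        have := hxreg P' hne
        exact absurd hneg (not_lt.2 (mul_nonneg (Int.natCast_nonneg _) this))
      exact this ▸ hPe
  refine ⟨(h'.finite_support_ord (algebraMap K K' x)).subset fun Q hQ =>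
    ((hpole Q).1 hQ).ne, fun Qs hQs => ?_⟩
  have hP0 : (0 : ℤ) < -P.ord x := by omega
  have hdiv : poleDiv (k := k) (algebraMap K K' x) =
      ∑ Q ∈ Qs, Finsupp.single Q (-P.ord x * ramIdx Q P) := by
    ext Q
    rw [h'.poleDiv_apply, Finsupp.finsetSum_apply]
    simp only [Finsupp.single_apply, Finset.sum_ite_eq']
    by_cases hQ : Q ∈ Qs
    · obtain ⟨e, he⟩ := (hQs Q).1 hQ
      rw [if_pos hQ, (ord_of_isOverWith he) x, ramIdx_eq he, max_eq_left]
      · ring
      · have := (pos_of_isOverWith he)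
        nlinarith
    · rw [if_neg hQ, max_eq_right]
      have : ¬ Q.ord (algebraMap K K' x) < 0 := fun hlt => hQ ((hQs Q).2 ((hpole Q).2 hlt))
      omega
  have h2 := h'.deg_poleDiv hxt'
  rw [hdiv, deg_sum, finrank_adjoin_algebraMap (K := K) x] at h2
  simp only [deg_single] at h2
  have h3 := h.deg_poleDiv hxt
  rw [poleDiv_eq_single h (P := P) (n := -P.ord x) (by omega) (by ring) hxreg, deg_single] at h3
  push_cast [← h3] at h2
  have h4 : -P.ord x * ((∑ Q ∈ Qs, ramIdx Q P * Q.deg : ℕ) : ℤ) =
      -P.ord x * ((Module.finrank K K' * P.deg : ℕ) : ℤ) := by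
    push_cast
    rw [Finset.mul_sum]
    calc _ = ∑ Q ∈ Qs, -P.ord x * (ramIdx Q P : ℤ) * Q.deg :=
          Finset.sum_congr rfl fun Q _ => by ring
      _ = (Module.finrank K K' : ℤ) * (-P.ord x * P.deg) := h2
      _ = _ := by ring
  exact_mod_cast mul_left_cancel₀ hP0.ne' h4

/-- A field between `k` and `K` containing a transcendental element is a function field. -/
theorem isFunctionField_intermediateField {k K : Type*} [Field k] [Field K] [Algebra k K]
    (h : IsFunctionField k K) (K₀ : IntermediateField k K) (h₀ : ∃ x ∈ K₀, Transcendental k x) :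
    IsFunctionField k K₀ ∧ FiniteDimensional K₀ K := by
  obtain ⟨x, hx, hxt⟩ := h₀
  have hfin := IsFG.finiteDimensional_adjoin h.1 hxt
  have hle : adjoin k ({x} : Set K) ≤ K₀ := IntermediateField.adjoin_simple_le_iff.2 hx
  let _ : Algebra (adjoin k ({x} : Set K)) K₀ := (IntermediateField.inclusion hle).toRingHom.toAlgebra
  have : IsScalarTower (adjoin k ({x} : Set K)) K₀ K := IsScalarTower.of_algebraMap_eq fun _ => rfl
  have hbot : FiniteDimensional (adjoin k ({x} : Set K)) K₀ := Module.Finite.left _ K₀ K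
  refine ⟨⟨⟨⟨x, hx⟩, ?_, ?_⟩, ?_⟩, Module.Finite.right (adjoin k ({x} : Set K)) K₀ K⟩
  · exact fun halg => hxt (halg.algHom K₀.val)
  · have hmap : (adjoin k ({(⟨x, hx⟩ : K₀)} : Set K₀)).map K₀.val = adjoin k ({x} : Set K) := by
      rw [IntermediateField.adjoin_map, Set.image_singleton]; rfl
    let e : adjoin k ({(⟨x, hx⟩ : K₀)} : Set K₀) ≃ₐ[k] adjoin k ({x} : Set K) :=
      (IntermediateField.equivMap _ K₀.val).trans (IntermediateField.equivOfEq hmap)
    have h1 : Module.finrank (adjoin k ({(⟨x, hx⟩ : K₀)} : Set K₀)) K₀ =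
        Module.finrank (adjoin k ({x} : Set K)) K₀ := by
      refine Algebra.finrank_eq_of_equiv_equiv e.toRingEquiv (RingEquiv.refl K₀) ?_
      ext a; rfl
    refine Module.finite_of_finrank_pos ?_
    rw [h1]; exact Module.finrank_pos
  · intro y hy
    obtain ⟨c, hc⟩ := h.2 (y : K) (hy.algHom K₀.val)
    exact ⟨c, Subtype.ext hc⟩

end GrothLib.FunFld
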