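import Groth.Agent.Lib.FunFld.ZetaCount
import Groth.Agent.Lib.FunFld.Ext
import Mathlib.RingTheory.Polynomial.GaussLemma
import Mathlib.RingTheory.AdjoinRoot
import Mathlib.FieldTheory.Finite.Extension
import Mathlib.FieldTheory.PrimitiveElement

/-! F. K. Schmidt: a function field over a finite field has divisors of degree one. -/

namespace GrothLib.FunFld

open _root_.FunFld WithZero Polynomial

section Constants

variable {k K K' : Type*} [Field k] [Field K] [Field K'] [Algebra k K] [Algebra K K'] [Algebra k K']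
  [IsScalarTower k K K']

/-- Elements algebraic over the constants keep their minimal polynomial over `K`. -/
theorem minpoly_eq_map_of_constants (hc : ∀ y : K, IsAlgebraic k y → y ∈ Set.range (algebraMap k K))
    {η : K'} (hη : IsIntegral k η) : minpoly K η = (minpoly k η).map (algebraMap k K) := by
  have hηK : IsIntegral K η := hη.tower_top
  have hdvd : minpoly K η ∣ (minpoly k η).map (algebraMap k K) :=
    minpoly.dvd K η (by rw [aeval_map_algebraMap, minpoly.aeval])
  have hlift : minpoly K η ∈ lifts (algebraMap k K) := by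
    have h1 := integralClosure.mem_lifts_of_monic_of_dvd_map K (minpoly.monic hη)
      (minpoly.monic hηK) hdvd
    rw [lifts_iff_coeff_lifts] at h1 ⊢
    intro i
    obtain ⟨c, hci⟩ := h1 i
    rw [← hci]
    exact hc _ c.2.isAlgebraic
  obtain ⟨g₀, hg₀, hdeg, hmon⟩ := lifts_and_natDegree_eq_and_monic hlift (minpoly.monic hηK)
  have h0 : aeval η g₀ = 0 := by
    rw [← aeval_map_algebraMap K η g₀, hg₀, minpoly.aeval]
  refine (eq_of_monic_of_dvd_of_natDegree_le (minpoly.monic hηK) ((minpoly.monic hη).map _) hdvd ?_).symm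
  rw [natDegree_map, ← hdeg]
  exact natDegree_le_of_dvd (minpoly.dvd k η h0) hmon.ne_zero

end Constants

section Adjoin

variable {k K : Type*} [Field k] [Field K] [Algebra k K]

theorem irreducible_map_of_constants
    (hc : ∀ y : K, IsAlgebraic k y → y ∈ Set.range (algebraMap k K)) {f : k[X]}
    (hf : Irreducible f) (hmon : f.Monic) : Irreducible (f.map (algebraMap k K)) := by
  obtain ⟨η, hη⟩ := IsAlgClosed.exists_aeval_eq_zero (AlgebraicClosure K) f hf.degree_pos.ne'
  have hmin : minpoly k η = f := (minpoly.eq_of_irreducible_of_monic hf hη hmon).symm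
  have hint : IsIntegral k η := ⟨f, hmon, hη⟩
  rw [← hmin, ← minpoly_eq_map_of_constants hc hint]
  exact minpoly.irreducible hint.tower_top

end Adjoin

section Galois

variable {k K K' : Type*} [Field k] [Field K] [Field K'] [Algebra k K] [Algebra K K'] [Algebra k K']
  [IsScalarTower k K K'] [FiniteDimensional K K']

/-- Transport of a place by an automorphism. -/
def actPlace (σ : K' ≃ₐ[K] K') (Q : Place k K') : Place k K' :=
  ⟨Q.1.comap (σ : K' →+* K'), fun c => by
    show Q.1 (σ (algebraMap k K' c)) ≤ 1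
    rw [IsScalarTower.algebraMap_apply k K K', AlgEquiv.commutes,
      ← IsScalarTower.algebraMap_apply]
    exact Q.2.1 c, fun a => by
    obtain ⟨y, hy⟩ := Q.2.2 a
    exact ⟨σ.symm y, by show Q.1 (σ (σ.symm y)) = a; rw [AlgEquiv.apply_symm_apply]; exact hy⟩⟩

omit [FiniteDimensional K K'] in
theorem isOver_actPlace (σ : K' ≃ₐ[K] K') {Q : Place k K'} {P : Place k K} (h : IsOver Q P) :
    IsOver (actPlace σ Q) P := by
  obtain ⟨e, he⟩ := h
  exact ⟨e, fun x => by show Q.1 (σ (algebraMap K K' x)) = _; rw [AlgEquiv.commutes]; exact he x⟩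

variable [Finite k]

/-- Residue degrees go up. -/
theorem deg_le_deg_of_isOver (h : IsFG k K) {Q : Place k K'} {P : Place k K} (hQ : IsOver Q P) :
    P.deg ≤ Q.deg := by
  obtain ⟨e, he⟩ := hQ
  have h' : IsFG k K' := isFG_extension (K := K) h
  choose l hl using fun r => res_surjective P r
  have hlQ : ∀ r, algebraMap K K' ((l r : P.O) : K) ∈ Q.O := fun r => by
    rw [mem_O_iff]; exact (val_le_one_iff_of_isOverWith he _).2 (l r).2
  let g : IsLocalRing.ResidueField P.O → IsLocalRing.ResidueField Q.O :=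
    fun r => res Q ⟨_, hlQ r⟩
  have hg : Function.Injective g := by
    intro r r' hrr
    have h0 : res Q (⟨_, hlQ r⟩ - ⟨_, hlQ r'⟩) = 0 := by rw [map_sub]; exact sub_eq_zero.2 hrr
    rw [res_eq_zero_iff] at h0
    rw [← hl r, ← hl r', ← sub_eq_zero, ← map_sub, res_eq_zero_iff]
    have h1 : val Q (algebraMap K K' (((l r : P.O) : K) - ((l r' : P.O) : K))) < 1 := by
      rw [map_sub]; exact h0
    by_contra hlt
    rw [not_lt] at hlt
    refine not_le.2 h1 ?_
    show 1 ≤ Q.1 (algebraMap K K' _)
    rw [he]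
    exact one_le_pow₀ hlt
  have := h'.finite_residueField Q
  have : Finite (IsLocalRing.ResidueField Q.O) := Module.finite_of_finite k
  have h2 := Nat.card_le_card_of_injective g hg
  rw [card_residueField h, card_residueField h'] at h2
  exact (Nat.pow_le_pow_iff_right Finite.one_lt_card).1 h2

/-- A constant `z` outside `k` moved by `σ` moves every place, over places of suitable degree. -/
theorem actPlace_ne (h : IsFG k K) {σ : K' ≃ₐ[K] K'} {z : K'} (hz : IsAlgebraic k z)
    (hσ : σ z ≠ z) {Q : Place k K'} {P : Place k K} (hQ : IsOver Q P)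
    (hfix : z ^ Nat.card k ^ P.deg = z) : actPlace σ Q ≠ Q := by
  classical
  intro heq
  obtain ⟨e, he⟩ := hQ
  have := h.finite_residueField P
  have : Finite (IsLocalRing.ResidueField P.O) := Module.finite_of_finite k
  let _ := Fintype.ofFinite (IsLocalRing.ResidueField P.O)
  choose l hl using fun r => res_surjective P r
  have hlQ : ∀ r, val Q (algebraMap K K' ((l r : P.O) : K)) ≤ 1 := fun r =>
    (val_le_one_iff_of_isOverWith he _).2 (l r).2
  -- the polynomial `X ^ q ^ d - X - ∏ (X - a)` has coefficients in the maximal ideal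
  set R : P.O[X] := X ^ Fintype.card (IsLocalRing.ResidueField P.O) - X - ∏ r, (X - C (l r))
  have hR : ∀ i, val P ((R.coeff i : P.O) : K) < 1 := fun i => by
    rw [← res_eq_zero_iff]
    show (res P).toRingHom (R.coeff i) = 0
    rw [← coeff_map]
    suffices hmap : R.map (res P).toRingHom = 0 by rw [hmap, coeff_zero]
    simp only [R, Polynomial.map_sub, Polynomial.map_pow, map_X, Polynomial.map_prod, map_C,
      AlgHom.toRingHom_eq_coe, RingHom.coe_coe, hl]
    have hcard : 1 < Fintype.card (IsLocalRing.ResidueField P.O) := Fintype.one_lt_card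
    have hmonic : (X ^ Fintype.card (IsLocalRing.ResidueField P.O) - X :
        (IsLocalRing.ResidueField P.O)[X]).Monic :=
      (monic_X_pow _).sub_of_left (by rw [degree_X, degree_X_pow]; exact_mod_cast hcard)
    have hroots := prod_multiset_X_sub_C_of_monic_of_roots_card_eq hmonic (by
      rw [FiniteField.roots_X_pow_card_sub_X, FiniteField.X_pow_card_sub_X_natDegree_eq _ hcard]
      rfl)
    rw [FiniteField.roots_X_pow_card_sub_X] at hroots
    rw [← hroots]; exact sub_eq_zero.2 rfl
  have hzval : ∀ y : K', IsAlgebraic k y → val Q y ≤ 1 := fun y hy => by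
    by_cases hy0 : y = 0
    · simp [hy0]
    · rw [val_eq_one_of_isAlgebraic Q hy hy0]
  have hprod : val Q (∏ r, (z - algebraMap K K' ((l r : P.O) : K))) < 1 := by
    let φ : P.O →+* K' := (algebraMap K K').comp P.O.subtype
    have he2 : R.eval₂ φ z = -∏ r, (z - algebraMap K K' ((l r : P.O) : K)) := by
      simp only [R, eval₂_sub, eval₂_pow, eval₂_X, eval₂_finset_prod, eval₂_C]
      rw [← Nat.card_eq_fintype_card, card_residueField h, hfix, sub_self, zero_sub]
      rfl
    rw [← Valuation.map_neg, ← he2, eval₂_eq_sum_range]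
    refine (val Q).map_sum_lt one_ne_zero fun i _ => ?_
    rw [map_mul, map_pow]
    refine (mul_le_of_le_one_right' (pow_le_one₀ zero_le (hzval z hz))).trans_lt ?_
    show Q.1 (algebraMap K K' _) < 1
    rw [he]
    exact pow_lt_one₀ zero_le (hR i) (pos_of_isOverWith he).ne'
  obtain ⟨r, hr⟩ : ∃ r, val Q (z - algebraMap K K' ((l r : P.O) : K)) < 1 := by
    by_contra hcon
    push Not at hcon
    rw [map_prod] at hprod
    exact not_le.2 hprod (Finset.one_le_prod' fun r _ => hcon r)
  set a := algebraMap K K' ((l r : P.O) : K)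
  have h1 : val Q (σ z - a) < 1 := by
    have h2 : Q.1 (σ (z - a)) = Q.1 (z - a) := congrArg (fun R : Place k K' => R.1 (z - a)) heq
    rw [map_sub, show σ a = a from σ.commutes _] at h2
    exact h2.trans_lt hr
  have h3 : val Q (σ z - z) < 1 := by
    rw [show σ z - z = (σ z - a) - (z - a) by ring]
    exact ((val Q).map_sub _ _).trans_lt (max_lt h1 hr)
  refine h3.ne (val_eq_one_of_isAlgebraic Q ?_ (sub_ne_zero.2 hσ))
  exact IsAlgebraic.sub (hz.algHom (σ.toAlgHom.restrictScalars k)) hz

end Galois

section Schmidt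

variable {k K : Type*} [Field k] [Field K] [Algebra k K] [Finite k]

theorem pow_le_effDivCount (h : IsFunctionField k K) {n : ℕ} (hn : 2 * genus k K ≤ n)
    {D : Divisor k K} (hD : D.deg = n) :
    Nat.card k ^ (n - genus k K) ≤ effDivCount k K n := by
  have h1 := effDivCount_of_large h (by omega) hD
  have hq : 1 < Nat.card k := Finite.one_lt_card
  have hh : (1 : ℤ) ≤ classNum k K := by exact_mod_cast classNum_pos h
  have e : n + 1 - genus k K = (n - genus k K) + 1 := by omega
  rw [e, pow_succ] at h1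
  have hpow : (1 : ℤ) ≤ (Nat.card k : ℤ) ^ (n - genus k K) := one_le_pow₀ (by exact_mod_cast hq.le)
  have hq' : (2 : ℤ) ≤ Nat.card k := by exact_mod_cast hq
  suffices ((Nat.card k ^ (n - genus k K) : ℕ) : ℤ) ≤ effDivCount k K n by exact_mod_cast this
  push_cast
  set X := (Nat.card k : ℤ) ^ (n - genus k K)
  have h2 : 1 * (X * (Nat.card k : ℤ) - 1) ≤ (classNum k K : ℤ) * (X * Nat.card k - 1) :=
    mul_le_mul_of_nonneg_right hh (by nlinarith)
  refine le_of_mul_le_mul_left (a := (Nat.card k : ℤ) - 1) ?_ (by omega)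
  rw [h1]
  nlinarith

theorem effDivCount_le (h : IsFunctionField k K) {n : ℕ} (hn : 2 * genus k K ≤ n)
    (hD : ∃ D : Divisor k K, D.deg = n) :
    effDivCount k K n ≤ classNum k K * Nat.card k ^ (n + 1) := by
  obtain ⟨D, hD⟩ := hD
  have h1 := effDivCount_of_large h (by omega) hD
  have hq : (2 : ℤ) ≤ Nat.card k := by exact_mod_cast (Finite.one_lt_card : 1 < Nat.card k)
  have hp : (Nat.card k : ℤ) ^ (n + 1 - genus k K) ≤ (Nat.card k : ℤ) ^ (n + 1) :=
    pow_le_pow_right₀ (by omega) (Nat.sub_le _ _)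
  have hh : (0 : ℤ) ≤ classNum k K := Int.natCast_nonneg _
  have ha : (0 : ℤ) ≤ effDivCount k K n := Int.natCast_nonneg _
  suffices (effDivCount k K n : ℤ) ≤ ((classNum k K * Nat.card k ^ (n + 1) : ℕ) : ℤ) by
    exact_mod_cast this
  push_cast
  nlinarith

/-- The same place, over the larger constant field. -/
def liftConst {k₂ K' : Type*} [Field k₂] [Field K'] [Algebra k K'] [Algebra k₂ K']
    (hk : ∀ c : k₂, IsAlgebraic k (algebraMap k₂ K' c)) (Q : Place k K') : Place k₂ K' :=
  ⟨Q.1, fun c => by
    by_cases h0 : algebraMap k₂ K' c = 0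
    · rw [h0, map_zero]; exact zero_le
    · exact (val_eq_one_of_isAlgebraic Q (hk c) h0).le, Q.2.2⟩

theorem liftConst_injective {k₂ K' : Type*} [Field k₂] [Field K'] [Algebra k K'] [Algebra k₂ K']
    (hk : ∀ c : k₂, IsAlgebraic k (algebraMap k₂ K' c)) :
    Function.Injective (liftConst (k := k) hk) :=
  fun Q Q' hQ => Subtype.ext (congrArg (fun R : Place k₂ K' => R.1) hQ)

theorem deg_mapDomain {k₂ K₂ : Type*} [Field k₂] [Field K₂] [Algebra k₂ K₂]
    {s : Place k K → Place k₂ K₂} {δ : ℕ} (hs : ∀ P, δ * (s P).deg = P.deg) (E : Divisor k K) :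
    (δ : ℤ) * Divisor.deg (Finsupp.mapDomain s E) = E.deg := by
  induction E using Finsupp.induction_linear with
  | zero => simp [deg_zero]
  | add D E hD hE => rw [Finsupp.mapDomain_add, deg_add, deg_add, mul_add, hD, hE]
  | single P n =>
    rw [Finsupp.mapDomain_single, deg_single, deg_single, ← hs P]
    push_cast; ring

/-- F. K. Schmidt. -/
theorem exists_divisor_deg_one (h : IsFunctionField k K) : ∃ D : Divisor k K, D.deg = 1 := by
  classical
  have hfg : IsFG k K := h.1
  obtain ⟨δ, D₁, hδ, hD₁, hdvd⟩ := exists_generator_deg hfg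
  by_contra hcon
  have hδ2 : 2 ≤ δ := by
    by_contra hlt
    exact hcon ⟨D₁, by rw [hD₁]; omega⟩
  have hdvdP : ∀ P : Place k K, δ ∣ P.deg := fun P => by
    have := hdvd (Finsupp.single P 1)
    rw [deg_single, one_mul] at this
    exact_mod_cast this
  obtain ⟨p, hp⟩ := CharP.exists k
  have : Fact p.Prime := ⟨CharP.char_is_prime k p⟩
  have : NeZero δ := ⟨by omega⟩
  obtain ⟨η, hη⟩ := Field.exists_primitive_element k (FiniteField.Extension k p δ)
  have hηi : IsIntegral k η := IsIntegral.of_finite k η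
  set f := minpoly k η with hfdef
  have hfdeg : f.natDegree = δ := by
    rw [hfdef, ← IntermediateField.adjoin.finrank hηi, hη, IntermediateField.finrank_top',
      FiniteField.finrank_extension]
  set F := f.map (algebraMap k K)
  have hFirr : Irreducible F :=
    irreducible_map_of_constants h.2 (minpoly.irreducible hηi) (minpoly.monic hηi)
  have : Fact (Irreducible F) := ⟨hFirr⟩
  let K' := AdjoinRoot F
  set z : K' := AdjoinRoot.root F
  have hFmon : F.Monic := (minpoly.monic hηi).map _
  have hfinK' : FiniteDimensional K K' := hFmon.finite_adjoinRoot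
  have hrankK' : Module.finrank K K' = δ := by
    rw [(AdjoinRoot.powerBasis' hFmon).finrank, AdjoinRoot.powerBasis'_dim, natDegree_map, hfdeg]
  have hz : aeval z f = 0 := by
    have := AdjoinRoot.eval₂_root F
    rw [eval₂_map] at this
    rw [aeval_def, IsScalarTower.algebraMap_eq k K K', AdjoinRoot.algebraMap_eq]
    exact this
  have hzi : IsIntegral k z := ⟨f, minpoly.monic hηi, hz⟩
  have hzmin : minpoly k z = f :=
    (minpoly.eq_of_irreducible_of_monic (minpoly.irreducible hηi) hz (minpoly.monic hηi)).symm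
  -- the constant field `k₂`
  set k₂ := IntermediateField.adjoin k ({z} : Set K') with hk₂
  have hk₂fin : FiniteDimensional k k₂ := IntermediateField.adjoin.finiteDimensional hzi
  have hk₂rank : Module.finrank k k₂ = δ := by
    rw [hk₂, IntermediateField.adjoin.finrank hzi, hzmin, hfdeg]
  have hk₂Fin : Finite k₂ := Module.finite_of_finite k
  have hk₂card : Nat.card k₂ = Nat.card k ^ δ := by rw [Module.natCard_eq_pow_finrank (K := k), hk₂rank]
  have hkalg : ∀ c : k₂, IsAlgebraic k (algebraMap k₂ K' c) := fun c =>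
    (IsAlgebraic.of_finite k c).algHom k₂.val
  set zz : k₂ := ⟨z, IntermediateField.mem_adjoin_simple_self k z⟩
  let _ := Fintype.ofFinite k₂
  have hzq : z ^ Nat.card k ^ δ = z := by
    have := FiniteField.pow_card zz
    rw [← Nat.card_eq_fintype_card, hk₂card] at this
    exact congrArg Subtype.val this
  have hzd : ∀ d, δ ∣ d → z ^ Nat.card k ^ d = z := by
    rintro _ ⟨t, rfl⟩
    induction t with
    | zero => simp
    | succ t ih => rw [Nat.mul_succ, pow_add, pow_mul, ih, hzq]
  -- Frobenius
  let _ := Fintype.ofFinite k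
  have hzq0 : aeval (z ^ Nat.card k) f = 0 := by
    have := congrArg (aeval z) (FiniteField.expand_card f)
    rw [expand_aeval, map_pow, hz, zero_pow (Fintype.card_ne_zero)] at this
    rwa [Nat.card_eq_fintype_card]
  let φ₀ : K' →ₐ[K] K' := AdjoinRoot.liftAlgHom F (Algebra.ofId K K') (z ^ Nat.card k) (by
    show F.eval₂ (algebraMap K K') _ = 0
    rw [← aeval_def, aeval_map_algebraMap]; exact hzq0)
  let φ : K' ≃ₐ[K] K' := AlgEquiv.ofBijective φ₀
    ⟨φ₀.toRingHom.injective, LinearMap.surjective_of_injective (f := φ₀.toLinearMap)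
      φ₀.toRingHom.injective⟩
  have hφz : φ z = z ^ Nat.card k := by
    show φ₀ (AdjoinRoot.root F) = _
    exact AdjoinRoot.liftAlgHom_root F (Algebra.ofId K K') (z ^ Nat.card k) _
  have hφpow : ∀ i : ℕ, (φ ^ i) z = z ^ Nat.card k ^ i := by
    intro i
    induction i with
    | zero => simp
    | succ i ih =>
      rw [pow_succ, AlgEquiv.mul_apply, hφz, map_pow, ih, ← pow_mul, ← pow_succ]
  have hfrob : ∀ i : ℕ, ((FiniteField.frobeniusAlgHom k k₂)^[i]
      (IntermediateField.AdjoinSimple.gen k z) : K') = z ^ Nat.card k ^ i := by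
    intro i
    induction i with
    | zero => simp [IntermediateField.AdjoinSimple.gen]
    | succ i ih =>
      rw [Function.iterate_succ_apply', pow_succ, pow_mul, ← ih, Nat.card_eq_fintype_card]
      simp [FiniteField.coe_frobeniusAlgHom]
  have hmove : ∀ i, 0 < i → i < δ → (φ ^ i) z ≠ z := by
    intro i hi hiδ heq
    rw [hφpow] at heq
    have h1 : (FiniteField.frobeniusAlgHom k k₂) ^ i = 1 := by
      refine (IntermediateField.adjoin.powerBasis hzi).algHom_ext ?_
      rw [IntermediateField.adjoin.powerBasis_gen, AlgHom.coe_pow]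
      exact Subtype.ext ((hfrob i).trans heq)
    have h2 := orderOf_dvd_of_pow_eq_one h1
    rw [FiniteField.orderOf_frobeniusAlgHom, hk₂rank] at h2
    exact absurd (Nat.le_of_dvd hi h2) (by omega)
  -- the places above
  have hK' : IsFG k K' := isFG_extension (K := K) hfg
  have hex : ∀ P : Place k K, ∃ Q : Place k K', IsOver Q P := fun P => by
    obtain ⟨hfin, hsum⟩ := sum_ramIdx (K' := K') hfg P
    by_contra hno
    push Not at hno
    have := hsum ∅ fun Q => by simpa using hno Q
    rw [Finset.sum_empty, hrankK'] at this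
    have := hfg.deg_pos P
    rename_i hz0 _
    have := Nat.mul_pos hδ (hfg.deg_pos P)
    omega
  choose Q₀ hQ₀ using hex
  let s : Fin δ → Place k K → Place k K' := fun i P => actPlace (φ ^ (i : ℕ)) (Q₀ P)
  have hs : ∀ i P, IsOver (s i P) P := fun i P => isOver_actPlace _ (hQ₀ P)
  have hsinj : ∀ P, Function.Injective fun i => s i P := by
    intro P
    have aux : ∀ i j : Fin δ, i < j → s i P ≠ s j P := by
      intro i j hij heq
      refine actPlace_ne hfg (σ := φ ^ ((j : ℕ) - i)) hzi.isAlgebraic
        (hmove _ (by omega) (by omega)) (hs i P) (hzd _ (hdvdP P)) ?_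
      refine Subtype.ext (Valuation.ext fun x => ?_)
      show (Q₀ P).1 ((φ ^ (i : ℕ)) ((φ ^ ((j : ℕ) - i)) x)) = (s i P).1 x
      rw [← AlgEquiv.mul_apply, ← pow_add, show (i : ℕ) + ((j : ℕ) - i) = j by omega]
      exact (congrArg (fun Q : Place k K' => Q.1 x) heq).symm
    intro i j heq
    rcases lt_trichotomy i j with hlt | heqij | hgt
    · exact absurd heq (aux i j hlt)
    · exact heqij
    · exact absurd heq.symm (aux j i hgt)
  have hsdeg : ∀ i P, (s i P).deg = P.deg := by
    intro i P
    obtain ⟨hfin, hsum⟩ := sum_ramIdx (K' := K') hfg P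
    have h1 := hsum hfin.toFinset fun Q => hfin.mem_toFinset
    have hsub : Finset.univ.image (fun j => s j P) ⊆ hfin.toFinset := by
      intro Q hQ
      obtain ⟨j, -, rfl⟩ := Finset.mem_image.1 hQ
      exact hfin.mem_toFinset.2 (hs j P)
    have hterm : ∀ j, P.deg ≤ ramIdx (s j P) P * (s j P).deg := fun j =>
      (deg_le_deg_of_isOver hfg (hs j P)).trans (Nat.le_mul_of_pos_left _
        (pos_of_isOverWith (ramIdx_spec (hs j P))))
    have h2 : ∑ j : Fin δ, ramIdx (s j P) P * (s j P).deg ≤ δ * P.deg := by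
      refine le_of_le_of_eq (b := ∑ Q ∈ hfin.toFinset, ramIdx Q P * Q.deg) ?_
        (h1.trans (by rw [hrankK']))
      rw [← Finset.sum_image (g := fun j => s j P)
        (f := fun Q => ramIdx Q P * Q.deg) fun a _ b _ hab => hsinj P hab]
      exact Finset.sum_le_sum_of_subset hsub
    have h3 : ∑ j : Fin δ, ramIdx (s j P) P * (s j P).deg = ∑ _j : Fin δ, P.deg :=
      le_antisymm (by simpa using h2) (Finset.sum_le_sum fun j _ => hterm j)
    have h4 := ((Finset.sum_eq_sum_iff_of_le fun j _ => hterm j).1 h3.symm i (Finset.mem_univ i))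
    refine le_antisymm ?_ (deg_le_deg_of_isOver hfg (hs i P))
    rw [h4]
    exact Nat.le_mul_of_pos_left _ (pos_of_isOverWith (ramIdx_spec (hs i P)))
  -- pass to the constant field `k₂`
  have hfun₂ : IsFunctionField k₂ K' := by
    obtain ⟨x, hx, hxfin⟩ := id hfg
    set x' := algebraMap K K' x
    have hx' : Transcendental k x' := transcendental_algebraMap hx
    refine ⟨⟨x', fun ha => hx' (ha.restrictScalars k), ?_⟩, ?_⟩
    · have := hK'.finiteDimensional_adjoin hx'
      set B := IntermediateField.adjoin k ({x'} : Set K')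
      set B₂ := IntermediateField.adjoin k₂ ({x'} : Set K')
      have hle : B ≤ B₂.restrictScalars k :=
        IntermediateField.adjoin_simple_le_iff.2 (IntermediateField.mem_adjoin_simple_self k₂ x')
      let _ : Algebra B B₂ := (IntermediateField.inclusion hle).toRingHom.toAlgebra
      have : IsScalarTower B B₂ K' := IsScalarTower.of_algebraMap_eq fun _ => rfl
      exact Module.Finite.of_restrictScalars_finite B B₂ K'
    · intro y hy
      have hyi : IsIntegral k y := (hy.restrictScalars k).isIntegral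
      set M := IntermediateField.adjoin k ({z, y} : Set K')
      have hMfin : FiniteDimensional k M :=
        IntermediateField.finiteDimensional_adjoin fun a ha => by
          rcases ha with rfl | rfl
          · exact hzi
          · exact hyi
      have : Finite M := Module.finite_of_finite k
      obtain ⟨ε, hε⟩ := Field.exists_primitive_element k M
      have hεi : IsIntegral k (ε : K') := (IsIntegral.of_finite k ε).map M.val
      have hle : k₂ ≤ M := IntermediateField.adjoin.mono k _ _ (by simp)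
      have hrM : Module.finrank k M ≤ δ := by
        have e1 : minpoly k (ε : K') = minpoly k ε :=
          minpoly.algHom_eq M.val M.val.toRingHom.injective ε
        have e2 := minpoly_eq_map_of_constants (K := K) h.2 hεi
        have e3 := minpoly.natDegree_le (A := K) (ε : K')
        rw [e2, natDegree_map, e1, hrankK'] at e3
        rwa [← IntermediateField.finrank_top', ← hε, IntermediateField.adjoin.finrank
          (IsIntegral.of_finite k ε)]
      have heq : k₂ = M := IntermediateField.eq_of_le_of_finrank_le hle (hk₂rank.symm ▸ hrM)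
      exact ⟨⟨y, heq ▸ IntermediateField.subset_adjoin _ _ (by simp)⟩, rfl⟩
  set lc := liftConst (k := k) (k₂ := k₂) (K' := K') hkalg
  have hlcdeg : ∀ i P, δ * (lc (s i P)).deg = P.deg := by
    intro i P
    have e1 := card_residueField (k := k₂) hfun₂.1 (lc (s i P))
    have e2 := card_residueField hK' (s i P)
    have e3 : Nat.card (IsLocalRing.ResidueField (lc (s i P)).O) =
        Nat.card (IsLocalRing.ResidueField (s i P).O) := rfl
    rw [e1, e2, hk₂card, ← pow_mul, hsdeg] at e3
    exact Nat.pow_right_injective (Finite.one_lt_card (α := k)) e3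
  -- counting
  set i₀ : Fin δ := ⟨0, by omega⟩
  set i₁ : Fin δ := ⟨1, by omega⟩
  have hij : ∀ P P', lc (s i₀ P) ≠ lc (s i₁ P') := by
    intro P P' heq
    have h1 := liftConst_injective hkalg heq
    obtain ⟨e, he⟩ := hs i₀ P
    obtain ⟨e', he'⟩ := hs i₁ P'
    obtain rfl := (isOverWith_unique he (h1 ▸ he')).1
    exact absurd (hsinj P h1) (by simp [i₀, i₁])
  have hinj : ∀ i, Function.Injective fun P => lc (s i P) := fun i P P' heq => by
    obtain ⟨e, he⟩ := hs i P
    obtain ⟨e', he'⟩ := hs i P'
    exact (isOverWith_unique he (liftConst_injective hkalg heq ▸ he')).1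
  set g := genus k K
  set g₂ := genus k₂ K'
  set j₀ := 2 * g + 2 * g₂
  set C := classNum k₂ K' * Nat.card k ^ (2 * g + δ) + 1
  set m := j₀ + j₀ + C
  let X := Σ i : Fin C, {E : Divisor k K // 0 ≤ E ∧ E.deg = (δ * (j₀ + i) : ℕ)} ×
      {E : Divisor k K // 0 ≤ E ∧ E.deg = (δ * (j₀ + (C - i)) : ℕ)}
  have hnn : ∀ (i : Fin δ) (E : Divisor k K), 0 ≤ E →
      0 ≤ Finsupp.mapDomain (fun P => lc (s i P)) E := fun i E hE Q => by
    by_cases hQ : Q ∈ Set.range fun P => lc (s i P)
    · obtain ⟨P, rfl⟩ := hQ
      rw [Finsupp.mapDomain_apply (hinj i)]; exact hE P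
    · rw [Finsupp.mapDomain_notin_range _ _ hQ]; rfl
  let Φ : X → {E : Divisor k₂ K' // 0 ≤ E ∧ E.deg = m} := fun x =>
    ⟨Finsupp.mapDomain (fun P => lc (s i₀ P)) x.2.1.1 +
      Finsupp.mapDomain (fun P => lc (s i₁ P)) x.2.2.1,
      add_nonneg (hnn _ _ x.2.1.2.1) (hnn _ _ x.2.2.2.1), by
      have h1 := deg_mapDomain (hlcdeg i₀) x.2.1.1
      have h2 := deg_mapDomain (hlcdeg i₁) x.2.2.1
      rw [x.2.1.2.2] at h1
      rw [x.2.2.2.2] at h2
      have hi := x.1.2
      push_cast [Nat.cast_sub hi.le] at h1 h2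
      rw [deg_add]
      apply mul_left_cancel₀ (show (δ : ℤ) ≠ 0 by omega)
      rw [mul_add, h1, h2]
      simp only [m]; push_cast; ring⟩
  have hΦ : Function.Injective Φ := by
    rintro ⟨i, E₁, E₂⟩ ⟨i', E₁', E₂'⟩ heq
    have h1 := congrArg Subtype.val heq
    have hE1 : E₁.1 = E₁'.1 := Finsupp.ext fun P => by
      have h2 := congrArg (fun D : Divisor k₂ K' => D (lc (s i₀ P))) h1
      simpa [Φ, Finsupp.mapDomain_apply (hinj i₀), Finsupp.mapDomain_notin_range _ _
        (fun ⟨P', hP'⟩ => hij P P' hP'.symm : lc (s i₀ P) ∉ Set.range fun P => lc (s i₁ P))] using h2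
    have hE2 : E₂.1 = E₂'.1 := Finsupp.ext fun P => by
      have h2 := congrArg (fun D : Divisor k₂ K' => D (lc (s i₁ P))) h1
      simpa [Φ, Finsupp.mapDomain_apply (hinj i₁), Finsupp.mapDomain_notin_range _ _
        (fun ⟨P', hP'⟩ => hij P' P hP' : lc (s i₁ P) ∉ Set.range fun P => lc (s i₀ P))] using h2
    have hii : i = i' := by
      have h3 := congrArg Divisor.deg hE1
      rw [E₁.2.2, E₁'.2.2] at h3
      have h4 := Nat.eq_of_mul_eq_mul_left hδ (Int.ofNat.inj h3)
      exact Fin.ext (by omega)
    subst hii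
    exact Sigma.ext rfl (heq_of_eq (Prod.ext (Subtype.ext hE1) (Subtype.ext hE2)))
  have : Finite {E : Divisor k₂ K' // 0 ≤ E ∧ E.deg = m} := (finite_effDiv hfun₂.1 m).to_subtype
  have hcount := Nat.card_le_card_of_injective Φ hΦ
  have hdeg : ∀ j : ℕ, ∃ D : Divisor k K, D.deg = (δ * j : ℕ) := fun j =>
    ⟨j • D₁, by rw [deg_nsmul, hD₁]; push_cast; ring⟩
  have : ∀ n : ℕ, Finite {E : Divisor k K // 0 ≤ E ∧ E.deg = n} := fun n =>
    (finite_effDiv hfg n).to_subtype
  have hlow : C * Nat.card k ^ (δ * m - 2 * g) ≤ Nat.card X := by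
    rw [Nat.card_sigma]
    refine le_trans (le_of_eq (by simp)) (Finset.sum_le_sum (f := fun _ : Fin C =>
      Nat.card k ^ (δ * m - 2 * g)) fun i _ => ?_)
    rw [Nat.card_prod]
    obtain ⟨Da, hDa⟩ := hdeg (j₀ + i)
    obtain ⟨Db, hDb⟩ := hdeg (j₀ + (C - i))
    have hj : ∀ j, j₀ ≤ j → 2 * g ≤ δ * j := fun j hj =>
      le_trans (by omega : 2 * g ≤ j) (Nat.le_mul_of_pos_left _ hδ)
    refine le_trans (le_of_eq ?_) (Nat.mul_le_mul (pow_le_effDivCount h (hj _ (by omega)) hDa)
      (pow_le_effDivCount h (hj _ (by omega)) hDb))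
    rw [← pow_add]
    congr 1
    have := hj (j₀ + i) (by omega)
    have := hj (j₀ + (C - i)) (by omega)
    have : δ * m = δ * (j₀ + i) + δ * (j₀ + (C - i)) := by
      rw [← mul_add]; congr 1; have := i.2; omega
    omega
  have hCpos : 0 < C := Nat.succ_pos _
  have hup : Nat.card {E : Divisor k₂ K' // 0 ≤ E ∧ E.deg = m} ≤
      classNum k₂ K' * Nat.card k₂ ^ (m + 1) := by
    refine effDivCount_le hfun₂ (by omega) ?_
    obtain ⟨E, hE, hEdeg⟩ : ∃ E : Divisor k₂ K', 0 ≤ E ∧ E.deg = m := by
      by_contra hno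
      have : IsEmpty {E : Divisor k₂ K' // 0 ≤ E ∧ E.deg = m} := ⟨fun E => hno ⟨E.1, E.2⟩⟩
      have h5 := hlow.trans hcount
      rw [show Nat.card {E : Divisor k₂ K' // 0 ≤ E ∧ E.deg = m} = 0 from Nat.card_eq_zero.2 (Or.inl this),
        Nat.le_zero, Nat.mul_eq_zero] at h5
      rcases h5 with h5 | h5
      · omega
      · exact (pow_ne_zero _ (by have := Finite.one_lt_card (α := k); omega)) h5
    exact ⟨E, hEdeg⟩
  have hall := (hlow.trans hcount).trans hup
  rw [hk₂card, ← pow_mul] at hall
  have hq : 0 < Nat.card k := Nat.card_pos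
  have hexp : δ * (m + 1) = (δ * m - 2 * g) + (2 * g + δ) := by
    have : 2 * g ≤ δ * m := le_trans (by omega : 2 * g ≤ m) (Nat.le_mul_of_pos_left _ hδ)
    rw [Nat.mul_add_one]; omega
  rw [hexp, pow_add, mul_comm (Nat.card k ^ (δ * m - 2 * g)), ← mul_assoc] at hall
  have := Nat.le_of_mul_le_mul_right hall (pow_pos hq _)
  omega

theorem deg_surjective (h : IsFunctionField k K) :
    Function.Surjective (Divisor.deg : Divisor k K → ℤ) := by
  obtain ⟨D, hD⟩ := exists_divisor_deg_one h
  exact fun n => ⟨n • D, by rw [← degHom_apply, map_zsmul, degHom_apply, hD]; simp⟩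

end Schmidt

end GrothLib.FunFld
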