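import Groth.Agent.Lib.FunFld.Riemann
import Groth.Agent.Lib.FunFld.Schmidt
import Mathlib.FieldTheory.SeparablyGenerated
import Mathlib.RingTheory.Unramified.Field
import Mathlib.RingTheory.Etale.Field
import Mathlib.RingTheory.Flat.Basic
import Mathlib.FieldTheory.Perfect
import Mathlib.FieldTheory.RatFunc.AsPolynomial
import Mathlib.RingTheory.Localization.BaseChange
import Mathlib.RingTheory.PolynomialAlgebra

/-!
Separating elements and differentials of a geometric function field.
-/

set_option autoImplicit false

namespace GrothLib.FunFld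

open _root_.FunFld
open scoped TensorProduct
open IntermediateField (adjoin mem_adjoin_simple_self)

universe u v

variable {k : Type u} {K : Type v} [Field k] [Field K] [Algebra k K]

theorem IsFG.essFiniteType (h : IsFG k K) : Algebra.EssFiniteType k K := by
  obtain ⟨x, -, hfin⟩ := h
  have : Algebra.EssFiniteType k (adjoin k ({x} : Set K)) :=
    IntermediateField.essFiniteType_iff.mpr
      (IntermediateField.fg_adjoin_of_finite (Set.finite_singleton x))
  exact Algebra.EssFiniteType.comp k (adjoin k ({x} : Set K)) K

theorem linearIndependent_pow_of_isGeometric (hg : IsGeometric k K) (p : ℕ) [Fact p.Prime] [CharP k p]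
    {ι : Type*} [Fintype ι] (x : ι → K) (hx : LinearIndependent k x) :
    LinearIndependent k fun i => x i ^ p := by
  classical
  rw [Fintype.linearIndependent_iff]
  intro c hc
  choose γ hγ using fun i => IsAlgClosed.exists_pow_nat_eq
    (algebraMap k (AlgebraicClosure k) (c i)) (Fact.out : p.Prime).pos
  let k' := adjoin k (Set.range γ)
  have : FiniteDimensional k k' := IntermediateField.finiteDimensional_adjoin fun y _ =>
    Algebra.IsIntegral.isIntegral y
  let γ' : ι → k' := fun i => ⟨γ i, IntermediateField.subset_adjoin _ _ ⟨i, rfl⟩⟩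
  have hT := hg k' this
  letI := hT.toField
  haveI : CharP (k' ⊗[k] K) p := charP_of_injective_algebraMap (algebraMap k (k' ⊗[k] K)).injective p
  have h0 : ∑ i, γ' i ⊗ₜ[k] x i = 0 := by
    refine eq_zero_of_pow_eq_zero (n := p) ?_
    rw [sum_pow_char]
    have : ∀ i, (γ' i ⊗ₜ[k] x i) ^ p = (1 : k') ⊗ₜ[k] (c i • x i ^ p) := fun i => by
      rw [Algebra.TensorProduct.tmul_pow, show γ' i ^ p = c i • (1 : k') from
        Subtype.ext (by rw [← Algebra.algebraMap_eq_smul_one]; exact hγ i), TensorProduct.smul_tmul]
    rw [Finset.sum_congr rfl fun i _ => this i, ← TensorProduct.tmul_sum, hc, TensorProduct.tmul_zero]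
  intro j
  obtain ⟨f, hf⟩ := LinearMap.exists_leftInverse_of_injective (Fintype.linearCombination k x)
    (Fintype.linearIndependent_iff'.mp hx |> fun h => by
      rw [LinearMap.ker_eq_bot]; exact hx.fintypeLinearCombination_injective)
  let g : K →ₗ[k] k := (LinearMap.proj j).comp f
  have hgx : ∀ i, g (x i) = if i = j then 1 else 0 := fun i => by
    have := congrFun (DFunLike.congr_fun hf (Pi.single i 1)) j
    simpa [g, Fintype.linearCombination_apply, Pi.single_apply, eq_comm] using this
  have h1 := congrArg ((TensorProduct.rid k k').toLinearMap ∘ₗ g.lTensor k') h0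
  simp only [map_sum, map_zero, LinearMap.comp_apply, LinearMap.lTensor_tmul, LinearEquiv.coe_coe,
    TensorProduct.rid_tmul, hgx, ite_smul, one_smul, zero_smul, Finset.sum_ite_eq',
    Finset.mem_univ, if_true] at h1
  have h2 := congrArg (fun z : k' => ((z : AlgebraicClosure k)) ^ p) h1
  simp only [IntermediateField.coe_zero, zero_pow (Fact.out : p.Prime).ne_zero, γ', hγ] at h2
  exact (map_eq_zero_iff _ (algebraMap k (AlgebraicClosure k)).injective).mp h2

theorem exists_separatingElement' (hK : IsFG k K)
    (hlin : ∀ (p : ℕ) [Fact p.Prime] [CharP k p] (s : Finset K), LinearIndepOn k id (s : Set K) →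
      LinearIndepOn k (fun y => y ^ p) (s : Set K)) :
    ∃ x : K, Transcendental k x ∧ Algebra.IsSeparable (adjoin k ({x} : Set K)) K := by
  classical
  have := hK.essFiniteType
  obtain ⟨x, hx, hfin⟩ := hK
  obtain ⟨p, hp⟩ := CharP.exists k
  rcases CharP.char_is_prime_or_zero k p with hpp | rfl
  · haveI : Fact p.Prime := ⟨hpp⟩
    haveI : ExpChar k p := ExpChar.prime hpp
    obtain ⟨s, hs, hsep⟩ := exists_isTranscendenceBasis_and_isSeparable_of_linearIndepOn_pow_of_essFiniteType
      (k := k) (K := K) p hpp (hlin p)
    obtain ⟨i, hi⟩ : s.Nonempty := by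
      rw [Finset.nonempty_iff_ne_empty]
      rintro rfl
      haveI : IsEmpty ↥(∅ : Finset K) := ⟨fun z => Finset.notMem_empty _ z.2⟩
      have := hs.isEmpty_iff_isAlgebraic.mp inferInstance
      exact hx (this.isAlgebraic x)
    have hit : Transcendental k i := hs.1.transcendental ⟨i, hi⟩
    have hs1 : (s : Set K) = {i} := by
      refine Set.eq_singleton_iff_unique_mem.mpr ⟨hi, fun j hj => ?_⟩
      by_contra hne
      have h2 := hs.1.transcendental_adjoin (s := {⟨i, hi⟩}) (i := ⟨j, hj⟩)
        (by simp [hne])
      rw [Set.image_singleton] at h2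
      have := IsFG.finiteDimensional_adjoin ⟨x, hx, hfin⟩ hit
      exact h2 (IntermediateField.isAlgebraic_adjoin_iff.mp
        (Algebra.IsAlgebraic.isAlgebraic (R := adjoin k ({i} : Set K)) j))
    exact ⟨i, hit, by rwa [hs1] at hsep⟩
  · haveI : CharZero k := CharP.charP_to_charZero k
    refine ⟨x, hx, ?_⟩
    haveI : CharZero (adjoin k ({x} : Set K)) :=
      charZero_of_injective_algebraMap (algebraMap k (adjoin k ({x} : Set K))).injective
    exact Algebra.IsAlgebraic.isSeparable_of_perfectField

theorem exists_separatingElement (hK : IsFG k K) (hg : IsGeometric k K) :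
    ∃ x : K, Transcendental k x ∧ Algebra.IsSeparable (adjoin k ({x} : Set K)) K :=
  exists_separatingElement' hK fun p _ _ _ hs => linearIndependent_pow_of_isGeometric hg p _ hs

theorem D_mem_span_of_mem_adjoin {x z : K} (hz : z ∈ adjoin k ({x} : Set K)) :
    KaehlerDifferential.D k K z ∈ Submodule.span K {KaehlerDifferential.D k K x} := by
  induction hz using IntermediateField.adjoin_induction with
  | mem y hy => rw [Set.mem_singleton_iff.mp hy]; exact Submodule.subset_span rfl
  | algebraMap c => simp
  | add a b _ _ ha hb => rw [map_add]; exact add_mem ha hb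
  | inv a _ ha => rw [Derivation.leibniz_inv]; exact Submodule.smul_mem _ _ ha
  | mul a b _ _ ha hb =>
    rw [Derivation.leibniz]; exact add_mem (Submodule.smul_mem _ _ hb) (Submodule.smul_mem _ _ ha)

theorem span_D_eq_top (x : K) [Algebra.IsSeparable (adjoin k ({x} : Set K)) K] :
    Submodule.span K {KaehlerDifferential.D k K x} = ⊤ := by
  set L := adjoin k ({x} : Set K)
  set S := Submodule.span K {KaehlerDifferential.D k K x}
  have : Algebra.FormallyUnramified L K := Algebra.FormallyUnramified.of_isSeparable L K
  let d₀ : Derivation k K (Ω[K⁄k] ⧸ S) := S.mkQ.compDer (KaehlerDifferential.D k K)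
  have hL : ∀ c : L, d₀ (c : K) = 0 := fun c =>
    (Submodule.Quotient.mk_eq_zero S).mpr (D_mem_span_of_mem_adjoin c.2)
  let d : Derivation L K (Ω[K⁄k] ⧸ S) := Derivation.mk'
    { toFun := d₀
      map_add' := map_add _
      map_smul' := fun c a => by
        rw [RingHom.id_apply, ← algebraMap_smul K c (d₀ a)]
        show d₀ ((c : K) * a) = (c : K) • d₀ a
        rw [Derivation.leibniz, hL, smul_zero, add_zero] }
    (fun a b => d₀.leibniz a b)
  have hd : ∀ z, d₀ z = 0 := fun z => by
    show d z = 0
    rw [← d.liftKaehlerDifferential_comp_D z, Subsingleton.elim (KaehlerDifferential.D L K z) 0,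
      map_zero]
  refine top_le_iff.mp ?_
  rw [← KaehlerDifferential.span_range_derivation k K, Submodule.span_le]
  rintro _ ⟨z, rfl⟩
  exact (Submodule.Quotient.mk_eq_zero S).mp (hd z)

theorem isSeparable_of_span_D_eq_top [Algebra.EssFiniteType k K] {x : K} (L : IntermediateField k K)
    (hxL : x ∈ L) (h : Submodule.span K {KaehlerDifferential.D k K x} = ⊤) :
    Algebra.IsSeparable L K := by
  have : Algebra.EssFiniteType L K := Algebra.EssFiniteType.of_comp k L K
  have hsurj := KaehlerDifferential.map_surjective k L K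
  have h0 : KaehlerDifferential.map k L K K (KaehlerDifferential.D k K x) = 0 := by
    rw [KaehlerDifferential.map_D]
    exact (KaehlerDifferential.D L K).map_algebraMap ⟨x, hxL⟩
  have : Subsingleton Ω[K⁄L] := subsingleton_of_forall_eq 0 fun w => by
    obtain ⟨v, rfl⟩ := hsurj w
    obtain ⟨a, rfl⟩ := Submodule.mem_span_singleton.mp (h ▸ Submodule.mem_top : v ∈ _)
    rw [map_smul, h0, smul_zero]
  have : Algebra.FormallyUnramified L K := ⟨this⟩
  exact Algebra.FormallyUnramified.isSeparable L K

theorem D_ne_zero_of_isSeparable (hK : IsFG k K) {x : K}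
    (hsep : Algebra.IsSeparable (adjoin k ({x} : Set K)) K) : KaehlerDifferential.D k K x ≠ 0 := by
  intro h0
  have := hK.essFiniteType
  have h := span_D_eq_top (k := k) x
  rw [h0] at h
  have hbot : Algebra.IsSeparable (⊥ : IntermediateField k K) K :=
    isSeparable_of_span_D_eq_top (x := 0) ⊥ (zero_mem _) (by simpa using h)
  obtain ⟨y, hy, -⟩ := hK
  have halg : IsAlgebraic (⊥ : IntermediateField k K) y := Algebra.IsAlgebraic.isAlgebraic y
  haveI : Algebra.IsAlgebraic k (⊥ : IntermediateField k K) :=
    (IntermediateField.botEquiv k K).symm.isAlgebraic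
  exact hy (IsAlgebraic.restrictScalars k halg)

theorem finrank_kaehler (hK : IsFG k K) (hg : IsGeometric k K) :
    Module.finrank K Ω[K⁄k] = 1 := by
  obtain ⟨x, -, hsep⟩ := exists_separatingElement hK hg
  exact finrank_eq_one _ (D_ne_zero_of_isSeparable hK hsep) fun w => by
    have := span_D_eq_top (k := k) x
    exact Submodule.mem_span_singleton.mp (this ▸ Submodule.mem_top)

theorem isSeparable_iff_D_ne_zero (hK : IsFG k K) (hg : IsGeometric k K) (x : K) :
    Algebra.IsSeparable (adjoin k ({x} : Set K)) K ↔ KaehlerDifferential.D k K x ≠ 0 := by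
  refine ⟨D_ne_zero_of_isSeparable hK, fun h => ?_⟩
  have := hK.essFiniteType
  obtain ⟨y, -, hy⟩ := exists_separatingElement hK hg
  refine isSeparable_of_span_D_eq_top (x := x) _ (mem_adjoin_simple_self k x) ?_
  have hspan := span_D_eq_top (k := k) y
  obtain ⟨a, ha⟩ := Submodule.mem_span_singleton.mp
    (hspan ▸ Submodule.mem_top : KaehlerDifferential.D k K x ∈ _)
  have ha0 : a ≠ 0 := fun h0 => h (by rw [← ha, h0, zero_smul])
  rw [← ha, Submodule.span_singleton_smul_eq (isUnit_iff_ne_zero.mpr ha0), hspan]

theorem transcendental_of_D_ne_zero (hK : IsFunctionField k K) {x : K}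
    (hx : KaehlerDifferential.D k K x ≠ 0) : Transcendental k x := fun halg => by
  obtain ⟨c, rfl⟩ := hK.2 x halg
  exact hx ((KaehlerDifferential.D k K).map_algebraMap c)

section CharP

variable (k K) in
/-- The field `kK^p`. -/
noncomputable abbrev powField (p : ℕ) : IntermediateField k K :=
  adjoin k (Set.range fun y : K => y ^ p)

theorem D_eq_zero_of_mem_powField (p : ℕ) [CharP K p] {z : K} (hz : z ∈ powField k K p) :
    KaehlerDifferential.D k K z = 0 := by
  induction hz using IntermediateField.adjoin_induction with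
  | mem y hy =>
    obtain ⟨a, rfl⟩ := hy
    rw [Derivation.leibniz_pow, ← smul_assoc, nsmul_eq_mul, CharP.cast_eq_zero, zero_mul, zero_smul]
  | algebraMap c => simp
  | add a b _ _ ha hb => rw [map_add, ha, hb, add_zero]
  | inv a _ ha => rw [Derivation.leibniz_inv, ha, smul_zero]
  | mul a b _ _ ha hb => rw [Derivation.leibniz, ha, hb, smul_zero, smul_zero, add_zero]

variable (p : ℕ) [Fact p.Prime] [CharP K p]

theorem isPurelyInseparable_powField : IsPurelyInseparable (powField k K p) K := by
  haveI : CharP (powField k K p) p := (Algebra.charP_iff (powField k K p) K p).mpr inferInstance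
  haveI : ExpChar (powField k K p) p := ExpChar.prime Fact.out
  rw [isPurelyInseparable_iff_pow_mem _ p]
  exact fun y => ⟨1, ⟨y ^ p, IntermediateField.subset_adjoin _ _ ⟨y, rfl⟩⟩, by rw [pow_one]; rfl⟩

theorem adjoin_powField_eq_top (hK : IsFG k K) (hg : IsGeometric k K) {y : K}
    (hy : y ∉ powField k K p) (hx : KaehlerDifferential.D k K y ≠ 0) :
    adjoin (powField k K p) ({y} : Set K) = ⊤ := by
  have hsep := (isSeparable_iff_D_ne_zero hK hg y).mpr hx
  have hpi := isPurelyInseparable_powField (k := k) (K := K) p
  set M := adjoin (powField k K p) ({y} : Set K)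
  have hle : adjoin k ({y} : Set K) ≤ M.restrictScalars k := by
    rw [IntermediateField.adjoin_simple_le_iff]
    exact mem_adjoin_simple_self _ y
  haveI : Algebra.IsSeparable M K := by
    letI : Algebra (adjoin k ({y} : Set K)) M :=
      (IntermediateField.inclusion hle).toRingHom.toAlgebra
    haveI : IsScalarTower (adjoin k ({y} : Set K)) M K := IsScalarTower.of_algebraMap_eq fun _ => rfl
    exact Algebra.isSeparable_tower_top_of_isSeparable (adjoin k ({y} : Set K)) M K
  haveI : IsPurelyInseparable M K := IsPurelyInseparable.tower_top (powField k K p) M K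
  have hs := (IsPurelyInseparable.surjective_algebraMap_of_isSeparable M K)
  refine eq_top_iff.mpr fun z _ => ?_
  obtain ⟨m, rfl⟩ := hs z
  exact m.2

theorem finrank_adjoin_powField {y : K} (hy : y ∉ powField k K p) :
    Module.finrank (powField k K p) (adjoin (powField k K p) ({y} : Set K)) = p := by
  haveI : CharP (powField k K p) p := (Algebra.charP_iff (powField k K p) K p).mpr inferInstance
  let a : powField k K p := ⟨y ^ p, IntermediateField.subset_adjoin _ _ ⟨y, rfl⟩⟩
  have hirr : Irreducible (Polynomial.X ^ p - Polynomial.C a) := by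
    refine X_pow_sub_C_irreducible_of_prime Fact.out fun b hb => hy ?_
    have : (b : K) = y := frobenius_inj K p (congrArg Subtype.val hb)
    exact this ▸ b.2
  have hroot : Polynomial.aeval y (Polynomial.X ^ p - Polynomial.C a) = 0 := by simp [a]
  have hmon : (Polynomial.X ^ p - Polynomial.C a).Monic :=
    Polynomial.monic_X_pow_sub_C a (Fact.out : p.Prime).ne_zero
  rw [IntermediateField.adjoin.finrank ⟨_, hmon, hroot⟩, ← minpoly.eq_of_irreducible_of_monic hirr hroot hmon,
    Polynomial.natDegree_X_pow_sub_C]

theorem finrank_powField (hK : IsFG k K) (hg : IsGeometric k K) :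
    Module.finrank (powField k K p) K = p := by
  obtain ⟨x, -, hsep⟩ := exists_separatingElement hK hg
  have hx := D_ne_zero_of_isSeparable hK hsep
  have hx' : x ∉ powField k K p := fun h => hx (D_eq_zero_of_mem_powField p h)
  have h := finrank_adjoin_powField p hx'
  rw [adjoin_powField_eq_top p hK hg hx' hx, IntermediateField.finrank_top'] at h
  exact h

theorem mem_powField_iff (hK : IsFG k K) (hg : IsGeometric k K) (y : K) :
    y ∈ powField k K p ↔ KaehlerDifferential.D k K y = 0 := by
  refine ⟨D_eq_zero_of_mem_powField p, fun hd => by_contra fun hy => ?_⟩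
  have hfin : FiniteDimensional (powField k K p) K :=
    Module.finite_of_finrank_pos ((finrank_powField p hK hg).symm ▸ (Fact.out : p.Prime).pos)
  have htop : adjoin (powField k K p) ({y} : Set K) = ⊤ := by
    apply IntermediateField.eq_of_le_of_finrank_eq le_top
    rw [finrank_adjoin_powField p hy, IntermediateField.finrank_top', finrank_powField p hK hg]
  obtain ⟨x, -, hsep⟩ := exists_separatingElement hK hg
  have hD := D_ne_zero_of_isSeparable hK hsep
  clear hsep
  refine hD ?_
  clear hD
  have hx : x ∈ adjoin (powField k K p) ({y} : Set K) := htop ▸ IntermediateField.mem_top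
  induction hx using IntermediateField.adjoin_induction with
  | mem z hz => rw [Set.mem_singleton_iff.mp hz]; exact hd
  | algebraMap c => exact D_eq_zero_of_mem_powField p c.2
  | add a b _ _ ha hb => rw [map_add, ha, hb, add_zero]
  | inv a _ ha => rw [Derivation.leibniz_inv, ha, smul_zero]
  | mul a b _ _ ha hb => rw [Derivation.leibniz, ha, hb, smul_zero, smul_zero, add_zero]

end CharP

attribute [local instance] Algebra.TensorProduct.rightAlgebra in
theorem isDomain_tensor_adjoin {x : K} (hxt : Transcendental k x) (k' : Type*) [Field k'] [Algebra k k'] :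
    IsDomain (adjoin k ({x} : Set K) ⊗[k] k') := by
  let e := RatFunc.algEquivOfTranscendental x hxt
  suffices IsDomain (RatFunc k ⊗[k] k') by
    exact MulEquiv.isDomain (RatFunc k ⊗[k] k')
      (Algebra.TensorProduct.congr e.symm (AlgEquiv.refl : k' ≃ₐ[k] k')).toMulEquiv
  let e' : RatFunc k ⊗[k] k' ≃+* RatFunc k ⊗[Polynomial k] (Polynomial k ⊗[k] k') :=
    (Algebra.TensorProduct.cancelBaseChange k (Polynomial k) (Polynomial k) (RatFunc k) k').symm.toRingEquiv
  suffices IsDomain (RatFunc k ⊗[Polynomial k] (Polynomial k ⊗[k] k')) from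
    MulEquiv.isDomain (RatFunc k ⊗[Polynomial k] (Polynomial k ⊗[k] k')) e'.toMulEquiv
  let e'' : Polynomial k ⊗[k] k' ≃ₐ[k] Polynomial k' :=
    (Algebra.TensorProduct.comm k (Polynomial k) k').trans (polyEquivTensor k k').symm
  haveI : IsDomain (Polynomial k ⊗[k] k') := MulEquiv.isDomain (Polynomial k') e''.toMulEquiv
  refine IsLocalization.isDomain_of_le_nonZeroDivisors (R := Polynomial k ⊗[k] k')
    (M := Algebra.algebraMapSubmonoid (Polynomial k ⊗[k] k') (nonZeroDivisors (Polynomial k)))
    (RatFunc k ⊗[Polynomial k] (Polynomial k ⊗[k] k')) ?_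
  rintro _ ⟨f, hf, rfl⟩
  refine mem_nonZeroDivisors_of_ne_zero fun h => nonZeroDivisors.ne_zero hf ?_
  have hinj : Function.Injective
      (Algebra.TensorProduct.includeLeft : Polynomial k →ₐ[k] Polynomial k ⊗[k] k') :=
    Algebra.TensorProduct.includeLeft_injective (S := k) (algebraMap k k').injective
  exact hinj (h.trans (map_zero _).symm)

theorem isField_tensor_of_purelyInseparable {k' : Type*} [Field k'] [Algebra k k']
    (s : IntermediateField k k') [IsPurelyInseparable s k'] (hs : IsField (K ⊗[k] s))
    (hred : IsReduced (K ⊗[k] k')) : IsField (K ⊗[k] k') := by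
  obtain ⟨q, hq⟩ := ExpChar.exists k
  haveI := hq
  haveI : ExpChar s q := expChar_of_injective_algebraMap (algebraMap k s).injective q
  haveI : Nontrivial (K ⊗[k] k') :=
    (Algebra.TensorProduct.includeLeft_injective (R := k) (S := k) (A := K) (B := k')
      (algebraMap k k').injective).nontrivial
  haveI : ExpChar (K ⊗[k] k') q :=
    expChar_of_injective_algebraMap (algebraMap k (K ⊗[k] k')).injective q
  let ι : K ⊗[k] s →+* K ⊗[k] k' := (Algebra.TensorProduct.map (AlgHom.id k K) s.val).toRingHom
  have hι : Function.Injective ι := Module.Flat.lTensor_preserves_injective_linearMap (M := K)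
    s.val.toLinearMap Subtype.val_injective
  have hpow : ∀ z : K ⊗[k] k', ∃ n : ℕ, ∃ w : K ⊗[k] s, ι w = z ^ q ^ n := by
    intro z
    induction z using TensorProduct.induction_on with
    | zero => exact ⟨0, 0, by rw [map_zero, pow_zero, pow_one]⟩
    | tmul a b =>
      obtain ⟨n, c, hc⟩ := IsPurelyInseparable.pow_mem s q b
      exact ⟨n, (a ^ q ^ n) ⊗ₜ[k] c, by
        rw [Algebra.TensorProduct.tmul_pow, ← hc]; rfl⟩
    | add z w hz hw =>
      obtain ⟨n, a, ha⟩ := hz
      obtain ⟨m, b, hb⟩ := hw
      refine ⟨n + m, a ^ q ^ m + b ^ q ^ n, ?_⟩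
      rw [map_add, map_pow, map_pow, ha, hb, ← pow_mul, ← pow_mul, add_pow_expChar_pow, pow_add,
        mul_comm (q ^ m) (q ^ n)]
  refine ⟨exists_pair_ne _, mul_comm, fun {z} hz => ?_⟩
  obtain ⟨n, w, hw⟩ := hpow z
  have hw0 : w ≠ 0 := fun h => hz ((IsReduced.eq_zero z ⟨_, by rw [← hw, h, map_zero]⟩))
  obtain ⟨v, hv⟩ := hs.mul_inv_cancel hw0
  refine ⟨z ^ (q ^ n - 1) * ι v, ?_⟩
  rw [← mul_assoc, mul_pow_sub_one (pow_ne_zero _ (expChar_pos k q).ne'), ← hw, ← map_mul, hv, map_one]

theorem isReduced_tensor_of_formallyUnramified {k' : Type*} [Field k'] [Algebra k k']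
    [FiniteDimensional k k'] (E : Type*) [Field E] [Algebra k E] [Algebra E K] [IsScalarTower k E K]
    [Algebra.FormallyUnramified E K] [Module.Finite E K] (hdom : IsDomain (E ⊗[k] k')) :
    IsReduced (K ⊗[k] k') := by
  have hP : IsField (E ⊗[k] k') :=
    isField_of_isIntegral_of_isField' (R := E) (S := E ⊗[k] k') (Field.toIsField _)
  have h1 : Algebra.FormallyUnramified (E ⊗[k] k') ((E ⊗[k] k') ⊗[E] K) := inferInstance
  have h2 : Algebra.EssFiniteType (E ⊗[k] k') ((E ⊗[k] k') ⊗[E] K) := inferInstance
  have : IsReduced ((E ⊗[k] k') ⊗[E] K) :=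
    @Algebra.FormallyUnramified.isReduced_of_field (E ⊗[k] k') ((E ⊗[k] k') ⊗[E] K) hP.toField _ _ h1 h2
  let e : K ⊗[k] k' ≃+* (E ⊗[k] k') ⊗[E] K :=
    (Algebra.TensorProduct.cancelBaseChange k E E K k').symm.toRingEquiv.trans
      (Algebra.TensorProduct.comm E K (E ⊗[k] k')).toRingEquiv
  exact isReduced_of_injective e e.injective

/-- A separably generated field in which the constants are closed is geometric. -/
theorem isGeometric_of_separating
    (hc : ∀ y : K, IsAlgebraic k y → y ∈ Set.range (algebraMap k K)) {x : K} (hxt : Transcendental k x)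
    [FiniteDimensional (adjoin k ({x} : Set K)) K]
    (hsep : Algebra.IsSeparable (adjoin k ({x} : Set K)) K) : IsGeometric k K := by
  intro k' _ _ hk'
  set F := adjoin k ({x} : Set K)
  set s := separableClosure k k'
  -- the separable part
  have hs : IsField (K ⊗[k] s) := by
    obtain ⟨α, hα⟩ := Field.exists_primitive_element k s
    have hint : IsIntegral k α := Algebra.IsIntegral.isIntegral α
    let e : AdjoinRoot (minpoly k α) ≃ₐ[k] s :=
      (IntermediateField.adjoinRootEquivAdjoin k hint).trans
        ((IntermediateField.equivOfEq hα).trans IntermediateField.topEquiv)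
    have hirr := irreducible_map_of_constants hc (minpoly.irreducible hint) (minpoly.monic hint)
    haveI := Fact.mk hirr
    let c : K ⊗[k] k ≃ₐ[k] K := Algebra.TensorProduct.rid k k K
    let e₂ : AdjoinRoot ((minpoly k α).map (algebraMap k K)) ≃+* K ⊗[k] AdjoinRoot (minpoly k α) :=
      (AdjoinRoot.mapAlgEquiv c.symm _
        ((minpoly k α).map (Algebra.TensorProduct.includeRight : k →ₐ[k] K ⊗[k] k).toRingHom)
        (Associated.of_eq (by
          rw [Polynomial.map_map]
          congr 1
          exact RingHom.ext fun r => by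
            simpa [c] using ((Algebra.TensorProduct.includeRight : k →ₐ[k] K ⊗[k] k).commutes r).symm))).toRingEquiv.trans
        (AdjoinRoot.tensorAlgEquiv (R := k) (T := K) (minpoly k α) _ rfl).symm.toRingEquiv
    exact ((e₂.trans (Algebra.TensorProduct.congr (AlgEquiv.refl : K ≃ₐ[k] K) e).toRingEquiv).symm).toMulEquiv.isField
      (Field.toIsField _)
  -- reducedness
  haveI : Algebra.FormallyUnramified F K := Algebra.FormallyUnramified.of_isSeparable F K
  have hred : IsReduced (K ⊗[k] k') :=
    isReduced_tensor_of_formallyUnramified (K := K) (k' := k') F (isDomain_tensor_adjoin hxt k')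
  have := separableClosure.isPurelyInseparable k k'
  exact (Algebra.TensorProduct.comm k k' K).toMulEquiv.isField (isField_tensor_of_purelyInseparable s hs hred)

theorem isGeometric_of_perfectField [PerfectField k] (hK : IsFunctionField k K) : IsGeometric k K := by
  obtain ⟨x, hx, hsep⟩ := exists_separatingElement' hK.1 fun p _ _ s hs => by
    haveI : ExpChar k p := ExpChar.prime Fact.out
    haveI : ExpChar K p := expChar_of_injective_algebraMap (algebraMap k K).injective p
    rw [LinearIndepOn, Fintype.linearIndependent_iff] at hs ⊢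
    intro c hc i
    haveI : PerfectRing k p := PerfectField.toPerfectRing p
    choose d hd using fun j => (bijective_frobenius k p).2 (c j)
    have h0 : (∑ j, d j • id (j : K)) ^ p = 0 := by
      rw [sum_pow_char, ← hc]
      exact Finset.sum_congr rfl fun j _ => by rw [smul_pow, ← hd j, frobenius_def]; rfl
    rw [← hd i, hs d (eq_zero_of_pow_eq_zero h0) i, map_zero]
  haveI := IsFG.finiteDimensional_adjoin hK.1 hx
  exact isGeometric_of_separating hK.2 hx hsep

end GrothLib.FunFld
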