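import Groth.Agent.Lib.FunFld.LinSeries
import Mathlib.FieldTheory.IntermediateField.Algebraic

/-! Small tools: intersections of Riemann–Roch spaces, base points, generators of a function field. -/

namespace GrothLib.FunFld

open _root_.FunFld WithZero
open IntermediateField (adjoin)

variable {k K : Type*} [Field k] [Field K] [Algebra k K]

theorem L_inf (D E : Divisor k K) : L D ⊓ L E = L (D ⊓ E) := by
  refine le_antisymm (fun x hx P => ?_) (le_inf (L_mono inf_le_left) (L_mono inf_le_right))
  rw [Finsupp.inf_apply]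
  rcases le_total (D P) (E P) with h | h
  · rw [min_eq_left h]; exact hx.1 P
  · rw [min_eq_right h]; exact hx.2 P

theorem exists_single_le {E : Divisor k K} (hE : 0 ≤ E) (h : E ≠ 0) :
    ∃ P, Finsupp.single P 1 ≤ E := by
  obtain ⟨P, hP⟩ := Finsupp.ne_iff.1 h
  refine ⟨P, fun Q => ?_⟩
  by_cases hQ : P = Q
  · subst hQ; have := hE P; simp at this hP ⊢; omega
  · simpa [hQ] using hE Q

theorem IsFG.eq_of_le_of_deg_le (h : IsFG k K) {D E : Divisor k K} (hle : D ≤ E)
    (hd : E.deg ≤ D.deg) : D = E := by
  by_contra hne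
  obtain ⟨P, hP⟩ := exists_single_le (sub_nonneg.2 hle) (sub_ne_zero.2 (Ne.symm hne))
  have := deg_mono hP
  have := h.deg_pos P
  simp at *
  omega

/-- Adding a point to a canonical divisor does not change `L`. -/
theorem L_canonical_add (h : IsFunctionField k K) [IsAlgClosed k] {C : Divisor k K}
    (hC : IsCanonical k K C) (P : Place k K) : L (C + Finsupp.single P 1) = L C := by
  have hfg : IsFG k K := h.1
  have := hfg.finite_L (C + Finsupp.single P 1)
  refine (Submodule.eq_of_le_of_finrank_le (L_mono (le_add_of_nonneg_right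
    (Finsupp.single_nonneg.2 zero_le_one))) ?_).symm
  have h1 := riemann_roch' h hC (C + Finsupp.single P 1)
  have h2 := hfg.ell_eq_zero_of_deg_neg (D := C - (C + Finsupp.single P 1))
    (by rw [deg_sub, deg_add, deg_single, hfg.deg_eq_one P]; push_cast; omega)
  have h3 := ell_canonical h hC
  rw [h2, deg_add, deg_single, hfg.deg_eq_one P, h3.2] at h1
  simp only [ell] at h1 h3
  push_cast at h1
  omega

/-- Two functions with single poles of coprime degree generate the field. -/
theorem adjoin_pair_eq_top (h : IsFG k K) {x y : K} (hx : Transcendental k x)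
    (hy : Transcendental k y)
    (hc : Nat.Coprime (Module.finrank (adjoin k ({x} : Set K)) K)
      (Module.finrank (adjoin k ({y} : Set K)) K)) :
    adjoin k ({x, y} : Set K) = ⊤ := by
  set M := adjoin k ({x, y} : Set K)
  have hd : ∀ z ∈ ({x, y} : Set K),
      Module.finrank M K ∣ Module.finrank (adjoin k ({z} : Set K)) K := fun z hz =>
    IntermediateField.finrank_dvd_of_le_left
      (IntermediateField.adjoin.mono k _ _ (by simpa using hz))
  have h1 : Module.finrank M K = 1 := by
    have := Nat.dvd_gcd (hd x (by simp)) (hd y (by simp))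
    rwa [hc.gcd_eq_one, Nat.dvd_one] at this
  rw [eq_top_iff]
  intro z _
  obtain ⟨c, hc⟩ := (finrank_eq_one_iff_of_nonzero' (1 : K) one_ne_zero).1 h1 z
  rw [← hc, Algebra.smul_def, mul_one]
  exact c.2

theorem finrank_adjoin_of_single_pole (h : IsFG k K) {x : K} {P : Place k K} {n : ℕ} (hn : 0 < n)
    (hP : P.deg = 1) (hord : P.ord x = -(n : ℤ)) (hreg : ∀ Q : Place k K, Q ≠ P → 0 ≤ Q.ord x) :
    Transcendental k x ∧ Module.finrank (adjoin k ({x} : Set K)) K = n := by
  have ht : Transcendental k x := transcendental_of_ord_ne_zero (P := P) (by omega)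
  refine ⟨ht, ?_⟩
  have h1 := h.deg_poleDiv ht
  rw [poleDiv_eq_single h (n := (n : ℤ)) (by omega) hord hreg, deg_single, hP] at h1
  simp at h1
  omega

end GrothLib.FunFld
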