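import Groth.Agent.Lib.FunFld.GenusZero
import Groth.Agent.Lib.FunFld.Linear
import Mathlib.FieldTheory.IntermediateField.Adjoin.Basic

/-! A nonzero conductor for the coordinate ring of a birational projective map. -/

namespace GrothLib.FunFld

open _root_.FunFld WithZero

variable {k K : Type*} [Field k] [Field K] [Algebra k K]

/-- In a finite family of directions, some element attains all minimal orders at once. -/
theorem exists_ord_eq_all [Infinite k] {W : Submodule k K} {D : Divisor k K} (hD : W ≤ L D)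
    (S : Finset (Place k K)) (hS : ∀ R ∈ S, ∃ w ∈ W, val R w = exp (D R)) :
    ∃ g ∈ W, ∀ R ∈ S, val R g = exp (D R) := by
  classical
  induction S using Finset.induction with
  | empty => exact ⟨0, zero_mem _, by simp⟩
  | insert a S ha ih =>
    obtain ⟨g, hgW, hg⟩ := ih fun R hR => hS R (Finset.mem_insert_of_mem hR)
    obtain ⟨w, hwW, hw⟩ := hS a (Finset.mem_insert_self a S)
    have hbad : ∀ R ∈ insert a S, {c : k | val R (g + c • w) < exp (D R)}.Subsingleton := by
      intro R hR c hc c' hc'
      by_contra hne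
      have hd : (c - c') ≠ 0 := sub_ne_zero.2 hne
      have h1 : val R w < exp (D R) := by
        have h2 := ((val R).map_sub (g + c • w) (g + c' • w)).trans_lt (max_lt hc hc')
        rw [show g + c • w - (g + c' • w) = (c - c') • w by rw [sub_smul]; abel, Algebra.smul_def,
          map_mul, val_const R hd, one_mul] at h2
        exact h2
      rcases Finset.mem_insert.1 hR with rfl | hR'
      · exact h1.ne hw
      · have h3 : val R g < exp (D R) := by
          have h2 : val R (c • w) < exp (D R) := by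
            rw [Algebra.smul_def, map_mul]
            exact (mul_le_of_le_one_left' (R.2.1 c)).trans_lt h1
          have := ((val R).map_sub (g + c • w) (c • w)).trans_lt (max_lt hc h2)
          rwa [add_sub_cancel_right] at this
        exact h3.ne (hg R hR')
    have hfin : (⋃ R ∈ insert a S, {c : k | val R (g + c • w) < exp (D R)}).Finite :=
      (insert a S).finite_toSet.biUnion fun R hR => (hbad R hR).finite
    obtain ⟨c, hc⟩ := Infinite.exists_notMem_finset hfin.toFinset
    simp only [Set.Finite.mem_toFinset, Set.mem_iUnion, Set.mem_ofPred_eq, not_exists, not_lt] at hc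
    exact ⟨g + c • w, add_mem hgW (Submodule.smul_mem _ c hwW), fun R hR =>
      le_antisymm (hD (add_mem hgW (Submodule.smul_mem _ c hwW)) R) (hc R hR)⟩

theorem infinite_of_isAlgClosed (k : Type*) [Field k] [IsAlgClosed k] : Infinite k :=
  inferInstance

/-- Elements of `adjoin W` are integral wherever `W` is. -/
theorem val_le_one_of_mem_adjoin {s : Set K} {R : Place k K} (hs : ∀ w ∈ s, val R w ≤ 1) {a : K}
    (ha : a ∈ Algebra.adjoin k s) : val R a ≤ 1 := by
  induction ha using Algebra.adjoin_induction with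
  | mem x hx => exact hs x hx
  | algebraMap c => exact R.2.1 c
  | add x y _ _ hx hy => exact ((val R).map_add x y).trans (max_le hx hy)
  | mul x y _ _ hx hy => rw [map_mul]; exact mul_le_one' hx hy

/-- The conductor. -/
theorem exists_conductor (h : IsFunctionField k K) [IsAlgClosed k] {ι : Type*} [Fintype ι]
    (ψ : ι → K) (h1 : ∃ i, ψ i = 1)
    (hgen : IntermediateField.adjoin k (Set.range ψ) = ⊤) :
    ∃ c ∈ Algebra.adjoin k (Set.range ψ), c ≠ 0 ∧
      (∀ b : K, (∀ R : Place k K, (∀ i, val R (ψ i) ≤ 1) → val R b ≤ 1) →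
        c * b ∈ Algebra.adjoin k (Set.range ψ)) ∧
      ∃ R : Place k K, ∃ i, 1 < val R (ψ i) := by
  classical
  have hfg : IsFG k K := h.1
  obtain ⟨i₁, hi₁⟩ := h1
  have : Nonempty ι := ⟨i₁⟩
  set A := Algebra.adjoin k (Set.range ψ)
  let D : Divisor k K := Finset.univ.sup' Finset.univ_nonempty fun i => poleDiv (k := k) (ψ i)
  have hDR : ∀ R, D R = Finset.univ.sup' Finset.univ_nonempty
      fun i => max (-R.ord (ψ i)) 0 := fun R => by
    have key : ∀ (s : Finset ι) (hs : s.Nonempty),
        (s.sup' hs fun i => poleDiv (k := k) (ψ i)) R = s.sup' hs fun i => max (-R.ord (ψ i)) 0 := by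
      intro s hs
      induction hs using Finset.Nonempty.cons_induction with
      | singleton a => simp [hfg.poleDiv_apply]
      | cons a s ha hs ih =>
        rw [Finset.sup'_cons hs, Finset.sup'_cons hs, Finsupp.sup_apply, ih, hfg.poleDiv_apply]
    exact key _ _
  have hD0 : ∀ R, 0 ≤ D R := fun R => by
    rw [hDR]; exact le_trans (le_max_right _ _) (Finset.le_sup' (fun i => max (-R.ord (ψ i)) 0)
      (Finset.mem_univ i₁))
  have hDnn : 0 ≤ D := hD0
  let W : Submodule k K := Submodule.span k (Set.range ψ)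
  have hψD : ∀ i, ψ i ∈ L D := fun i R => by
    by_cases h0 : ψ i = 0
    · simp [h0]
    · refine (val_le_exp_iff R h0 _).2 ?_
      have := Finset.le_sup' (fun i => max (-R.ord (ψ i)) 0) (Finset.mem_univ i)
      rw [← hDR] at this
      omega
  have hWD : W ≤ L D := Submodule.span_le.2 (by rintro _ ⟨i, rfl⟩; exact hψD i)
  have h1W : (1 : K) ∈ W := hi₁ ▸ Submodule.subset_span ⟨i₁, rfl⟩
  have hWA : ∀ x ∈ W, x ∈ A := fun x hx => Algebra.span_le_adjoin k _ hx
  have hchart : ∀ R, (∀ i, val R (ψ i) ≤ 1) ↔ D R = 0 := by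
    intro R
    constructor
    · intro hR
      refine le_antisymm ?_ (hD0 R)
      rw [hDR, Finset.sup'_le_iff]
      intro i _
      by_cases h0 : ψ i = 0
      · simp [h0]
      · have := (val_le_one_iff R h0).1 (hR i); omega
    · intro hR i
      have := hψD i R
      rwa [hR, exp_zero] at this
  have hattain : ∀ R ∈ D.support, ∃ w ∈ W, val R w = exp (D R) := fun R hR => by
    obtain ⟨i, -, hi⟩ := Finset.exists_mem_eq_sup' Finset.univ_nonempty
      fun i => max (-R.ord (ψ i)) 0
    rw [← hDR] at hi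
    have hne : D R ≠ 0 := Finsupp.mem_support_iff.1 hR
    have hψ0 : ψ i ≠ 0 := by rintro h0; simp [h0] at hi; omega
    refine ⟨ψ i, Submodule.subset_span ⟨i, rfl⟩, ?_⟩
    rw [val_eq R hψ0, exp_inj]; omega
  obtain ⟨g, hgW, hg⟩ := exists_ord_eq_all hWD D.support hattain
  -- the divisor is nonzero
  have hDne : D ≠ 0 := by
    intro h0
    obtain ⟨y, hy, -⟩ := h.1
    have hle : IntermediateField.adjoin k (Set.range ψ) ≤ ⊥ := by
      rw [IntermediateField.adjoin_le_iff]
      rintro _ ⟨i, rfl⟩
      have := hψD i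
      rw [h0, L_zero_eq_one h, Submodule.mem_one] at this
      obtain ⟨c, hc⟩ := this
      exact IntermediateField.mem_bot.2 ⟨c, hc⟩
    rw [hgen] at hle
    obtain ⟨c, hc⟩ := IntermediateField.mem_bot.1 (hle (IntermediateField.mem_top (x := y)))
    exact hy (hc ▸ isAlgebraic_algebraMap c)
  obtain ⟨R₀, hR₀⟩ := exists_single_le hDnn hDne
  have hdeg : 1 ≤ D.deg := by
    have := deg_mono hR₀; rw [deg_single, hfg.deg_eq_one R₀] at this; simpa using this
  have hR₀' : ¬ ∀ i, val R₀ (ψ i) ≤ 1 := fun hc => by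
    have := hR₀ R₀
    rw [(hchart R₀).1 hc] at this
    simp at this
  push Not at hR₀'
  -- Castelnuovo step
  set m₀ := 2 * genus k K + 1 with hm₀
  have hg0 : g ≠ 0 := by
    rintro rfl
    obtain ⟨R, hR⟩ := Finsupp.support_nonempty_iff.2 hDne
    have := hg R hR
    rw [map_zero] at this
    exact exp_ne_zero this.symm
  have hgD : g ∈ L D := hWD hgW
  have hpred : ∀ m : ℕ, (m : ℕ) • D ≤ (m + 1) • D := fun m =>
    nsmul_le_nsmul_left hDnn (Nat.le_succ m)
  have step : ∀ m, m₀ ≤ m →
      L ((m + 1) • D) ≤ L (m • D) ⊔ (L (m • D)).map (mulEquiv (k := k) g hg0).toLinearMap := by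
    intro m hm
    obtain ⟨m', rfl⟩ : ∃ m', m = m' + 1 := ⟨m - 1, by omega⟩
    set M := (L ((m' + 1) • D)).map (mulEquiv (k := k) g hg0).toLinearMap
    have hM : M ≤ L ((m' + 1 + 1) • D) := by
      rintro _ ⟨y, hy, rfl⟩ R
      show val R (g * y) ≤ _
      rw [map_mul, succ_nsmul' D (m' + 1), Finsupp.add_apply, exp_add]
      exact mul_le_mul' (hgD R) (hy R)
    have hinf : L ((m' + 1) • D) ⊓ M ≤ (L (m' • D)).map (mulEquiv (k := k) g hg0).toLinearMap := by
      rintro _ ⟨h1, y, hy, rfl⟩
      refine ⟨y, fun R => ?_, rfl⟩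
      by_cases hR : R ∈ D.support
      · have h2 : val R (g * y) ≤ _ := h1 R
        rw [map_mul, hg R hR, succ_nsmul', Finsupp.add_apply, exp_add] at h2
        exact le_of_mul_le_mul_left h2 (zero_lt_iff.2 exp_ne_zero)
      · have := hy R
        rw [Finsupp.smul_apply, Finsupp.notMem_support_iff.1 hR, smul_zero] at this ⊢
        exact this
    have := hfg.finite_L ((m' + 1 + 1) • D)
    have := hfg.finite_L ((m' + 1) • D)
    have := hfg.finite_L (m' • D)
    have hsub : L ((m' + 1) • D) ⊔ M ≤ L ((m' + 1 + 1) • D) :=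
      sup_le (L_mono (hpred _)) hM
    refine (Submodule.eq_of_le_of_finrank_le hsub ?_).ge
    have e1 := Submodule.finrank_sup_add_finrank_inf_eq (L ((m' + 1) • D)) M
    have e2 := Submodule.finrank_mono hinf
    have e3 : Module.finrank k M = ell ((m' + 1) • D) :=
      (Submodule.equivMapOfInjective _ (mulEquiv g hg0).injective _).finrank_eq.symm
    have e4 : Module.finrank k ↥((L (m' • D)).map (mulEquiv (k := k) g hg0).toLinearMap) =
        ell (m' • D) :=
      (Submodule.equivMapOfInjective _ (mulEquiv g hg0).injective _).finrank_eq.symm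
    have hl : ∀ m : ℕ, 2 * genus k K ≤ m →
        (ell (m • D) : ℤ) = m * D.deg + 1 - genus k K := fun m hm => by
      rw [ell_eq_of_deg_ge h (D := m • D) (by
        rw [deg_nsmul]
        have : (m : ℤ) ≤ m * D.deg := le_mul_of_one_le_right (Int.natCast_nonneg _) hdeg
        omega), deg_nsmul]
    have l1 := hl m' (by omega)
    have l2 := hl (m' + 1) (by omega)
    have l3 := hl (m' + 1 + 1) (by omega)
    push_cast at l2 l3
    simp only [ell] at l1 l2 l3 e3 e4
    rw [e3] at e1
    rw [e4] at e2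
    zify at e1 e2 ⊢
    nlinarith
  -- common denominator for `L(m₀ D)`
  have hfin := hfg.finite_L (m₀ • D)
  let b := Module.finBasis k (L (m₀ • D))
  have hfrac : ∀ i, ∃ u ∈ A, ∃ w ∈ A, w ≠ 0 ∧ (b i : K) * w = u := fun i => by
    have hmem : (b i : K) ∈ IntermediateField.adjoin k (Set.range ψ) :=
      hgen ▸ IntermediateField.mem_top
    obtain ⟨u, hu, w, hw, he⟩ := IntermediateField.mem_adjoin_iff_div.1 hmem
    by_cases hw0 : w = 0
    · exact ⟨0, zero_mem _, 1, one_mem _, one_ne_zero, by
        rw [hw0, div_zero] at he; rw [mul_one, he]⟩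
    · exact ⟨u, hu, w, hw, hw0, by rw [he, div_mul_cancel₀ _ hw0]⟩
  choose u hu w hw hw0 huw using hfrac
  refine ⟨∏ i, w i, prod_mem fun i _ => hw i, Finset.prod_ne_zero_iff.2 fun i _ => hw0 i,
    ?_, R₀, hR₀'⟩
  have hbase : ∀ y ∈ L (m₀ • D), (∏ i, w i) * y ∈ A := by
    intro y hy
    have : y = ∑ i, b.repr ⟨y, hy⟩ i • (b i : K) := by
      have := congrArg Subtype.val (b.sum_repr ⟨y, hy⟩)
      rw [Submodule.coe_sum] at this
      exact this.symm
    rw [this, Finset.mul_sum]
    refine sum_mem fun i _ => ?_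
    rw [mul_smul_comm]
    refine Subalgebra.smul_mem _ ?_ _
    rw [← Finset.prod_erase_mul _ _ (Finset.mem_univ i), mul_assoc, mul_comm (w i), huw]
    exact mul_mem (prod_mem fun j _ => hw j) (hu i)
  have hall : ∀ j, ∀ y ∈ L ((m₀ + j) • D), (∏ i, w i) * y ∈ A := by
    intro j
    induction j with
    | zero => exact hbase
    | succ j ih =>
      intro y hy
      obtain ⟨a, ha, _, ⟨c, hc, rfl⟩, rfl⟩ := Submodule.mem_sup.1 (step (m₀ + j) (by omega) hy)
      rw [mul_add]
      refine add_mem (ih a ha) ?_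
      show (∏ i, w i) * (g * c) ∈ A
      rw [mul_left_comm]
      exact mul_mem (hWA g hgW) (ih c hc)
  intro y hy
  by_cases hy0 : y = 0
  · simp [hy0]
  let N : ℕ := ∑ R ∈ D.support, (-R.ord y).toNat
  refine hall N y ?_
  rw [mem_L_iff_ord hy0]
  intro R
  rw [Finsupp.smul_apply, nsmul_eq_mul]
  by_cases hR : D R = 0
  · rw [hR, mul_zero, add_zero, ← val_le_one_iff R hy0]
    exact hy R ((hchart R).2 hR)
  · have h3 : (-R.ord y).toNat ≤ N :=
      Finset.single_le_sum (f := fun R => (-R.ord y).toNat) (fun _ _ => Nat.zero_le _)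
        (Finsupp.mem_support_iff.2 hR)
    have h4 : ((m₀ + N : ℕ) : ℤ) ≤ (m₀ + N : ℕ) * D R :=
      le_mul_of_one_le_right (Int.natCast_nonneg _) (by have := hD0 R; omega)
    omega

end GrothLib.FunFld
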