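import Groth.Agent.Lib.FunFld.Repart

/-! Weil differentials and the Riemann–Roch theorem. -/

namespace GrothLib.FunFld

open _root_.FunFld WithZero

variable {k K : Type*} [Field k] [Field K] [Algebra k K]

theorem mem_WD_iff {D : Divisor k K} {ω : Module.Dual k (adele k K)} :
    ω ∈ WD D ↔ ∀ a : adele k K, (a : Place k K → K) ∈ AD D ⊔ Kc k K → ω a = 0 :=
  Submodule.mem_dualAnnihilator ω

theorem WD_anti {D E : Divisor k K} (h : D ≤ E) : WD E ≤ WD D := fun _ hω =>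
  mem_WD_iff.2 fun a ha => mem_WD_iff.1 hω a (sup_le_sup_right (AD_mono h) _ ha)

theorem WD_inf_le (D E : Divisor k K) : WD D ⊓ WD E ≤ WD (D ⊔ E) := by
  rintro ω ⟨h₁, h₂⟩
  refine mem_WD_iff.2 fun a ha => ?_
  rw [AD_sup', sup_assoc] at ha
  obtain ⟨u, hu, v, hv, huv⟩ := Submodule.mem_sup.1 ha
  have hu' : u ∈ adele k K := AD_le_adele D hu
  have hv' : v ∈ adele k K := by
    rw [show v = (a : Place k K → K) - u by rw [← huv]; abel]; exact sub_mem a.2 hu'
  rw [show a = ⟨u, hu'⟩ + ⟨v, hv'⟩ from Subtype.ext huv.symm, map_add,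
    mem_WD_iff.1 h₁ ⟨u, hu'⟩ (Submodule.mem_sup_left hu), mem_WD_iff.1 h₂ ⟨v, hv'⟩ hv, add_zero]

theorem IsFG.smul_mem_adele (h : IsFG k K) (x : K) :
    ∀ a ∈ adele k K, x • a ∈ adele k K := by
  intro a ha
  have h1 : ∀ᶠ P : Place k K in Filter.cofinite, val P (a P) ≤ 1 := ha
  have h2 : ∀ᶠ P : Place k K in Filter.cofinite, val P x ≤ 1 := h.Kc_le_adele ⟨x, rfl⟩
  exact (h1.and h2).mono fun P hP => by
    show val P (x • a P) ≤ 1
    rw [smul_eq_mul, map_mul]; exact mul_le_one' hP.2 hP.1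

theorem mulW_apply (x : K) (hx : ∀ a ∈ adele k K, x • a ∈ adele k K)
    (ω : Module.Dual k (adele k K)) (a : adele k K) :
    mulW x hx ω a = ω ⟨x • (a : Place k K → K), hx a a.2⟩ := rfl

theorem smul_mem_ADK {C D : Divisor k K} {x : K} (hx : x ∈ L D) {a : Place k K → K}
    (ha : a ∈ AD (C - D) ⊔ Kc k K) : x • a ∈ AD C ⊔ Kc k K := by
  obtain ⟨u, hu, v, hv, rfl⟩ := Submodule.mem_sup.1 ha
  rw [smul_add]
  refine add_mem (Submodule.mem_sup_left fun P => ?_) (Submodule.mem_sup_right ?_)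
  · show val P (x • u P) ≤ _
    rw [smul_eq_mul, map_mul]
    refine (mul_le_mul' (hx P) (hu P)).trans_eq ?_
    rw [← exp_add, Finsupp.sub_apply]
    congr 1; ring
  · obtain ⟨y, rfl⟩ := hv
    exact ⟨x * y, rfl⟩

theorem mulW_mem_WD' {C D : Divisor k K} {x : K} (hxD : x ∈ L D)
    (hx : ∀ a ∈ adele k K, x • a ∈ adele k K)
    {ω : Module.Dual k (adele k K)} (hω : ω ∈ WD C) : mulW x hx ω ∈ WD (C - D) :=
  mem_WD_iff.2 fun _ ha => mem_WD_iff.1 hω _ (smul_mem_ADK hxD ha)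

theorem IsFG.mem_L_neg_div (h : IsFG k K) (x : K) : x ∈ L (-div k x) := by
  by_cases hx : x = 0
  · rw [hx]; exact zero_mem _
  rw [mem_L_iff_ord hx]
  intro P; simp [h.div_apply]

theorem mulW_mulW (x y : K) (hx : ∀ a ∈ adele k K, x • a ∈ adele k K)
    (hy : ∀ a ∈ adele k K, y • a ∈ adele k K) (hxy : ∀ a ∈ adele k K, (x * y) • a ∈ adele k K)
    (ω : Module.Dual k (adele k K)) : mulW x hx (mulW y hy ω) = mulW (x * y) hxy ω := by
  refine LinearMap.ext fun a => ?_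
  simp only [mulW_apply]
  exact congrArg ω (Subtype.ext ((smul_smul y x _).trans (by rw [mul_comm])))

theorem mulW_one (h1 : ∀ a ∈ adele k K, (1 : K) • a ∈ adele k K)
    (ω : Module.Dual k (adele k K)) : mulW 1 h1 ω = ω :=
  LinearMap.ext fun a => congrArg ω (Subtype.ext (one_smul K (a : Place k K → K)))

theorem mulW_congr {x y : K} (h : x = y) (hx : ∀ a ∈ adele k K, x • a ∈ adele k K)
    (hy : ∀ a ∈ adele k K, y • a ∈ adele k K)
    (ω : Module.Dual k (adele k K)) : mulW x hx ω = mulW y hy ω := by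
  subst h; rfl

theorem mulW_eq_zero (h : IsFG k K) {x : K} {hx : ∀ a ∈ adele k K, x • a ∈ adele k K}
    {ω : Module.Dual k (adele k K)} (hω : ω ≠ 0) (h0 : mulW x hx ω = 0) : x = 0 := by
  by_contra hx0
  refine hω ?_
  rw [← mulW_one (h.smul_mem_adele 1) ω,
    mulW_congr (inv_mul_cancel₀ hx0).symm _ (h.smul_mem_adele _) ω,
    ← mulW_mulW x⁻¹ x (h.smul_mem_adele _) hx _ ω, h0]
  exact LinearMap.ext fun _ => rfl

/-- `x ↦ x ω`. -/
def mulMap (h : IsFG k K) (ω : Module.Dual k (adele k K)) : K →ₗ[k] Module.Dual k (adele k K) where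
  toFun x := mulW x (h.smul_mem_adele x) ω
  map_add' x y := LinearMap.ext fun a => by
    simp only [LinearMap.add_apply, mulW_apply, ← map_add]
    exact congrArg ω (Subtype.ext (add_smul x y _))
  map_smul' c x := LinearMap.ext fun a => by
    simp only [RingHom.id_apply, LinearMap.smul_apply, mulW_apply, ← map_smul]
    exact congrArg ω (Subtype.ext (smul_assoc c x _))

theorem mulMap_injective (h : IsFG k K) {ω : Module.Dual k (adele k K)} (hω : ω ≠ 0) :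
    Function.Injective (mulMap h ω) :=
  (injective_iff_map_eq_zero _).2 fun x hx => mulW_eq_zero h (hx := h.smul_mem_adele x) hω hx

theorem IsFG.not_mem_WD_of_delta_eq (hK : IsFunctionField k K) {D : Divisor k K}
    (hD : delta D = genus k K) {ω : Module.Dual k (adele k K)} (hω : ω ∈ WD D) : ω = 0 := by
  refine LinearMap.ext fun a => mem_WD_iff.1 hω a ?_
  rw [adele_eq_of_delta_eq hK hD]; exact a.2

theorem exists_isDivOf' (h : IsFunctionField k K) {ω : Module.Dual k (adele k K)}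
    (hω : IsWeil ω) (h0 : ω ≠ 0) : ∃ C, IsDivOf ω C := by
  classical
  have hfg : IsFG k K := h.1
  obtain ⟨N, hN⟩ := exists_delta_eq_genus_of_deg h
  have hbound : ∀ D, ω ∈ WD D → D.deg < N := fun D hD => by
    by_contra hlt
    exact h0 (IsFG.not_mem_WD_of_delta_eq h (hN D (not_lt.1 hlt)) hD)
  obtain ⟨D₀, hD₀⟩ := hω
  obtain ⟨m, ⟨C, hC, rfl⟩, hmax⟩ := Int.exists_greatest_of_bdd
    (P := fun m : ℤ => ∃ D, ω ∈ WD D ∧ D.deg = m)
    ⟨N, by rintro _ ⟨D, hD, rfl⟩; exact (hbound D hD).le⟩ ⟨_, D₀, hD₀, rfl⟩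
  refine ⟨C, fun E => ⟨fun hE => ?_, fun hE => WD_anti hE hC⟩⟩
  have h1 := hmax _ ⟨_, WD_inf_le C E ⟨hC, hE⟩, rfl⟩
  intro P
  by_contra hP
  rw [not_le] at hP
  have h2 : C + Finsupp.single P 1 ≤ C ⊔ E := fun Q => by
    by_cases hQ : P = Q
    · subst hQ; simp; omega
    · simp [hQ]
  have h3 := deg_mono h2
  have := hfg.deg_pos P
  simp at h3
  omega

theorem exists_smul_eq (h : IsFunctionField k K) {ω₁ ω₂ : Module.Dual k (adele k K)}
    (h₁ : IsWeil ω₁) (h0 : ω₁ ≠ 0) (h₂ : IsWeil ω₂) :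
    ∃ x : K, mulMap h.1 ω₁ x = ω₂ := by
  classical
  have hfg : IsFG k K := h.1
  by_cases hω₂ : ω₂ = 0
  · exact ⟨0, by rw [hω₂, map_zero]⟩
  obtain ⟨C₁, hC₁⟩ := h₁
  obtain ⟨C₂, hC₂⟩ := h₂
  obtain ⟨P⟩ := hfg.exists_place
  have hP := hfg.deg_pos P
  -- `B = n P`, with `n` large
  let n : ℕ := (|C₁.deg| + |C₂.deg| + 3 * genus k K + 3).toNat
  let B : Divisor k K := Finsupp.single P (n : ℤ)
  have hB : B.deg = n * P.deg := deg_single P _
  have hBn : |C₁.deg| + |C₂.deg| + 3 * (genus k K) + 3 ≤ B.deg := by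
    rw [hB]
    have h1 := Int.self_le_toNat (|C₁.deg| + |C₂.deg| + 3 * genus k K + 3)
    have h2 : (1 : ℤ) ≤ P.deg := by exact_mod_cast hP
    have h3 : (n : ℤ) ≤ n * P.deg := le_mul_of_one_le_right (Int.natCast_nonneg _) h2
    omega
  have hW := finrank_WD' h (-B)
  have := hW.1
  let V : Module.Dual k (adele k K) → Divisor k K → Submodule k (Module.Dual k (adele k K)) :=
    fun ω C => (L (C + B)).map (mulMap hfg ω)
  have hV : ∀ ω C, ω ∈ WD C → V ω C ≤ WD (-B) := by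
    rintro ω C hω _ ⟨x, hx, rfl⟩
    have := mulW_mem_WD' hx (hfg.smul_mem_adele x) hω
    rwa [show C - (C + B) = -B by abel] at this
  have hdim : ∀ ω C, ω ≠ 0 → Module.finrank k (V ω C) = ell (C + B) := fun ω C hω =>
    (Submodule.equivMapOfInjective _ (mulMap_injective hfg hω) _).finrank_eq.symm
  have := Submodule.finiteDimensional_of_le (hV _ _ hC₁)
  have := Submodule.finiteDimensional_of_le (hV _ _ hC₂)
  have hne : V ω₁ C₁ ⊓ V ω₂ C₂ ≠ ⊥ := by
    intro hb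
    have hsum := Submodule.finrank_sup_add_finrank_inf_eq (V ω₁ C₁) (V ω₂ C₂)
    rw [hb, finrank_bot, hdim _ _ h0, hdim _ _ hω₂] at hsum
    have hle := Submodule.finrank_mono (sup_le (hV _ _ hC₁) (hV _ _ hC₂))
    have h1 := hfg.delta_le_genus (C₁ + B)
    have h2 := hfg.delta_le_genus (C₂ + B)
    have h5 := abs_nonneg C₁.deg
    have h6 := abs_nonneg C₂.deg
    have h7 := le_abs_self C₁.deg
    have h8 := le_abs_self C₂.deg
    have h9 := neg_abs_le C₁.deg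
    have h10 := neg_abs_le C₂.deg
    have h11 := hW.2
    have h3 := hfg.ell_eq_zero_of_deg_neg (D := -B) (by rw [deg_neg]; omega)
    have h4 : delta (-B) = -B.deg + 1 := by simp [delta, h3]
    simp only [delta, deg_add] at h1 h2
    omega
  obtain ⟨_, ⟨⟨x, -, rfl⟩, ⟨y, -, hy⟩⟩, hne0⟩ := Submodule.exists_mem_ne_zero_of_ne_bot hne
  have hy0 : y ≠ 0 := by
    rintro rfl
    rw [map_zero] at hy
    exact hne0 hy.symm
  refine ⟨y⁻¹ * x, ?_⟩
  show mulW (y⁻¹ * x) (hfg.smul_mem_adele _) ω₁ = ω₂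
  rw [← mulW_mulW y⁻¹ x (hfg.smul_mem_adele _) (hfg.smul_mem_adele _) _ ω₁,
    show mulW x (hfg.smul_mem_adele x) ω₁ = mulW y (hfg.smul_mem_adele y) ω₂ from hy.symm,
    mulW_mulW y⁻¹ y (hfg.smul_mem_adele _) (hfg.smul_mem_adele _) (hfg.smul_mem_adele _) ω₂,
    mulW_congr (inv_mul_cancel₀ hy0) _ (hfg.smul_mem_adele 1) ω₂, mulW_one]

theorem isDivOf_mulW' (h : IsFG k K) {x : K} (h0 : x ≠ 0)
    (hx : ∀ a ∈ adele k K, x • a ∈ adele k K) {ω : Module.Dual k (adele k K)} {C : Divisor k K}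
    (hω : IsDivOf ω C) : IsDivOf (mulW x hx ω) (C + div k x) := by
  intro E
  constructor
  · intro hE
    have h1 := mulW_mem_WD' (h.mem_L_neg_div x⁻¹) (h.smul_mem_adele x⁻¹) hE
    rw [mulW_mulW x⁻¹ x _ hx (h.smul_mem_adele _) ω,
      mulW_congr (inv_mul_cancel₀ h0) _ (h.smul_mem_adele 1) ω, mulW_one, h.div_inv] at h1
    have := (hω _).1 h1
    rw [neg_neg] at this
    exact sub_le_iff_le_add.1 this
  · intro hE
    have h1 := mulW_mem_WD' (h.mem_L_neg_div x) hx ((hω C).2 le_rfl)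
    rw [sub_neg_eq_add] at h1
    exact WD_anti hE h1

theorem exists_mem_L_mulMap (h : IsFunctionField k K) {ω : Module.Dual k (adele k K)}
    (h0 : ω ≠ 0) {C : Divisor k K} (hω : IsDivOf ω C) {D : Divisor k K}
    {ω' : Module.Dual k (adele k K)} (hω' : ω' ∈ WD D) :
    ∃ x ∈ L (C - D), mulMap h.1 ω x = ω' := by
  obtain ⟨x, rfl⟩ := exists_smul_eq h ⟨C, (hω C).2 le_rfl⟩ h0 ⟨D, hω'⟩
  refine ⟨x, ?_, rfl⟩
  by_cases hx : x = 0
  · rw [hx]; exact zero_mem _
  have := (isDivOf_mulW' h.1 hx (IsFG.smul_mem_adele h.1 x) hω D).1 hω'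
  rw [mem_L_iff_ord hx]
  intro P
  have h1 := this P
  rw [Finsupp.add_apply, IsFG.div_apply h.1] at h1
  rw [Finsupp.sub_apply]; omega

theorem finrank_WD_eq_ell (h : IsFunctionField k K) {ω : Module.Dual k (adele k K)}
    (h0 : ω ≠ 0) {C : Divisor k K} (hω : IsDivOf ω C) (D : Divisor k K) :
    Module.finrank k (WD D) = ell (C - D) := by
  have : WD D = (L (C - D)).map (mulMap h.1 ω) := by
    refine le_antisymm (fun ω' hω' => ?_) ?_
    · obtain ⟨x, hx, he⟩ := exists_mem_L_mulMap h h0 hω hω'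
      exact ⟨x, hx, he⟩
    · rintro _ ⟨x, hx, rfl⟩
      have := mulW_mem_WD' hx (IsFG.smul_mem_adele h.1 x) ((hω C).2 le_rfl)
      rwa [sub_sub_cancel] at this
  rw [this]
  exact (Submodule.equivMapOfInjective _ (mulMap_injective h.1 h0) _).finrank_eq.symm

/-- Riemann–Roch. -/
theorem riemann_roch' (h : IsFunctionField k K) {C : Divisor k K} (hC : IsCanonical k K C)
    (D : Divisor k K) : (ell D : ℤ) = D.deg + 1 - genus k K + ell (C - D) := by
  obtain ⟨ω, h0, hω⟩ := hC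
  have h1 := (finrank_WD' h D).2
  rw [finrank_WD_eq_ell h h0 hω D] at h1
  simp only [delta] at h1; omega

theorem exists_isCanonical (h : IsFunctionField k K) : ∃ C : Divisor k K, IsCanonical k K C := by
  have hfg : IsFG k K := h.1
  obtain ⟨P⟩ := hfg.exists_place
  let D : Divisor k K := Finsupp.single P (-2)
  have hD : D.deg = -2 * P.deg := deg_single P _
  have hP := hfg.deg_pos P
  obtain ⟨-, h2⟩ := finrank_WD' h D
  have h3 := hfg.ell_eq_zero_of_deg_neg (D := D) (by omega)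
  obtain ⟨ω, hω, h0⟩ := Submodule.exists_mem_ne_zero_of_ne_bot (p := WD D) (by
    intro hb; rw [hb, finrank_bot, delta, h3] at h2; omega)
  obtain ⟨C, hC⟩ := exists_isDivOf' h ⟨D, hω⟩ h0
  exact ⟨C, ω, h0, hC⟩

theorem ell_canonical (h : IsFunctionField k K) {C : Divisor k K} (hC : IsCanonical k K C) :
    ell C = genus k K ∧ C.deg = 2 * genus k K - 2 := by
  have h0 := riemann_roch' h hC 0
  rw [ell_zero h, sub_zero, deg_zero] at h0
  have h1 := riemann_roch' h hC C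
  rw [sub_self, ell_zero h] at h1
  omega

theorem ell_eq_of_deg_ge (h : IsFunctionField k K) {D : Divisor k K}
    (hD : 2 * (genus k K : ℤ) - 1 ≤ D.deg) : (ell D : ℤ) = D.deg + 1 - genus k K := by
  obtain ⟨C, hC⟩ := exists_isCanonical h
  have := (ell_canonical h hC).2
  rw [riemann_roch' h hC D, IsFG.ell_eq_zero_of_deg_neg h.1 (D := C - D) (by rw [deg_sub]; omega)]
  simp

theorem canonical_unique (h : IsFunctionField k K) {C₁ C₂ : Divisor k K}
    (h₁ : IsCanonical k K C₁) (h₂ : IsCanonical k K C₂) :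
    ∃ x : K, x ≠ 0 ∧ C₂ = C₁ + div k x := by
  obtain ⟨ω₁, h10, hω₁⟩ := h₁
  obtain ⟨ω₂, h20, hω₂⟩ := h₂
  obtain ⟨x, hx⟩ := exists_smul_eq h ⟨C₁, (hω₁ C₁).2 le_rfl⟩ h10 ⟨C₂, (hω₂ C₂).2 le_rfl⟩
  have hx0 : x ≠ 0 := by rintro rfl; rw [map_zero] at hx; exact h20 hx.symm
  refine ⟨x, hx0, ?_⟩
  have h3 := isDivOf_mulW' h.1 hx0 (IsFG.smul_mem_adele h.1 x) hω₁
  rw [show mulW x _ ω₁ = ω₂ from hx] at h3
  exact le_antisymm ((h3 C₂).1 ((hω₂ C₂).2 le_rfl))
    ((hω₂ _).1 ((h3 _).2 le_rfl))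

end GrothLib.FunFld
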