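import Groth.Prelude.Def_W4bk4goldsch45
import Groth.Agent.Lib.FunFld.RR
import Groth.Agent.Lib.FunFld.Linear
import Mathlib.FieldTheory.Finite.Basic

/-! Function fields over finite fields: effective divisors, class group, counting. -/

namespace GrothLib.FunFld

open _root_.FunFld WithZero

variable {k K : Type*} [Field k] [Field K] [Algebra k K]

theorem degHom_apply (D : Divisor k K) : degHom k K D = D.deg := rfl

/-- Principal divisors form exactly the range of `div`. -/
theorem mem_prinDivs_iff (h : IsFG k K) (D : Divisor k K) :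
    D ∈ prinDivs k K ↔ ∃ x : K, x ≠ 0 ∧ div k x = D := by
  constructor
  · intro hD
    induction hD using AddSubgroup.closure_induction with
    | mem D hD =>
      obtain ⟨x, rfl⟩ := hD
      by_cases hx : x = 0
      · exact ⟨1, one_ne_zero, by ext P; simp [hx, h.div_apply]⟩
      · exact ⟨x, hx, rfl⟩
    | zero => exact ⟨1, one_ne_zero, by ext P; simp [h.div_apply]⟩
    | add D E _ _ hD hE =>
      obtain ⟨x, hx, rfl⟩ := hD
      obtain ⟨y, hy, rfl⟩ := hE
      exact ⟨x * y, mul_ne_zero hx hy, h.div_mul hx hy⟩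
    | neg D _ hD =>
      obtain ⟨x, hx, rfl⟩ := hD
      exact ⟨x⁻¹, inv_ne_zero hx, h.div_inv x⟩
  · rintro ⟨x, -, rfl⟩
    exact AddSubgroup.subset_closure ⟨x, rfl⟩

theorem deg_eq_zero_of_mem_prinDivs (h : IsFG k K) {D : Divisor k K} (hD : D ∈ prinDivs k K) :
    D.deg = 0 := by
  obtain ⟨x, -, rfl⟩ := (mem_prinDivs_iff h D).1 hD
  exact h.deg_div x

/-- Divisor classes of degree zero. -/
abbrev Cl0 (k K : Type*) [Field k] [Field K] [Algebra k K] : Type _ :=
  (degHom k K).ker ⧸ (prinDivs k K).addSubgroupOf (degHom k K).ker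

/-- The effective divisors linearly equivalent to `D`. -/
def linSys (D : Divisor k K) : Set (Divisor k K) := {E | 0 ≤ E ∧ E - D ∈ prinDivs k K}

theorem exists_generator_deg (h : IsFG k K) :
    ∃ (δ : ℕ) (D : Divisor k K), 0 < δ ∧ D.deg = δ ∧ ∀ E : Divisor k K, (δ : ℤ) ∣ E.deg := by
  obtain ⟨g, hg⟩ := Int.subgroup_cyclic (degHom k K).range
  obtain ⟨P⟩ := h.exists_place
  have hmem : ∀ E : Divisor k K, g ∣ E.deg := fun E => by
    have : E.deg ∈ AddSubgroup.closure {g} := hg ▸ ⟨E, rfl⟩
    rw [AddSubgroup.mem_closure_singleton] at this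
    obtain ⟨t, ht⟩ := this
    exact ⟨t, by rw [← ht, smul_eq_mul, mul_comm]⟩
  have hg0 : g ≠ 0 := by
    rintro rfl
    have h1 := hmem (Finsupp.single P 1)
    rw [zero_dvd_iff, deg_single] at h1
    have := h.deg_pos P
    omega
  obtain ⟨D, hD⟩ : g ∈ (degHom k K).range := hg ▸ AddSubgroup.subset_closure rfl
  rcases le_total 0 g with hpos | hneg
  · exact ⟨g.natAbs, D, by omega, by rw [← degHom_apply, hD]; omega, fun E => by
      rw [Int.natAbs_dvd]; exact hmem E⟩
  · exact ⟨g.natAbs, -D, by omega, by rw [← degHom_apply, map_neg, hD]; omega, fun E => by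
      rw [Int.natAbs_dvd]; exact hmem E⟩

section Finite

variable [Finite k]

theorem card_residueField (h : IsFG k K) (P : Place k K) :
    Nat.card (IsLocalRing.ResidueField P.O) = Nat.card k ^ P.deg := by
  have := h.finite_residueField P
  exact Module.natCard_eq_pow_finrank

/-- Finitely many places of bounded degree. -/
theorem finite_places_deg_le (h : IsFG k K) (n : ℕ) : {P : Place k K | P.deg ≤ n}.Finite := by
  classical
  obtain ⟨x, hx, -⟩ := id h
  have hx0 : x ≠ 0 := by rintro rfl; exact hx isAlgebraic_zero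
  refine ((h.finite_support_ord x).union ((Finset.range (n + 1)).finite_toSet.biUnion
    fun d _ => h.finite_support_ord (x ^ Nat.card k ^ d - x))).subset ?_
  intro P hP
  by_cases hxP : P.ord x = 0
  swap
  · exact Or.inl hxP
  refine Or.inr (Set.mem_biUnion (Finset.mem_range.2 (Nat.lt_succ_of_le hP)) ?_)
  have hdeg := h.deg_pos P
  have hne : x ^ Nat.card k ^ P.deg - x ≠ 0 := by
    intro h0
    refine hx ⟨Polynomial.X ^ Nat.card k ^ P.deg - Polynomial.X,
      (FiniteField.X_pow_card_sub_X_ne_zero k ?_), by simpa using h0⟩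
    exact Nat.one_lt_pow hdeg.ne' Finite.one_lt_card
  have hxO : val P x ≤ 1 := (val_le_one_iff P hx0).2 hxP.ge
  have := h.finite_residueField P
  have : Finite (IsLocalRing.ResidueField P.O) := Module.finite_of_finite k
  let _ := Fintype.ofFinite (IsLocalRing.ResidueField P.O)
  have hr : res P ((⟨x, hxO⟩ : P.O) ^ Nat.card k ^ P.deg - ⟨x, hxO⟩) = 0 := by
    rw [map_sub, map_pow, ← card_residueField h P, Nat.card_eq_fintype_card, FiniteField.pow_card,
      sub_self]
  have hlt : val P (x ^ Nat.card k ^ P.deg - x) < 1 := (res_eq_zero_iff P _).1 hr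
  exact ((val_lt_one_iff P hne).1 hlt).ne'

/-- Finitely many effective divisors of each degree. -/
theorem finite_effDiv (h : IsFG k K) (n : ℤ) :
    {D : Divisor k K | 0 ≤ D ∧ D.deg = n}.Finite := by
  classical
  set S := (finite_places_deg_le h n.toNat).toFinset
  have key : ∀ D : Divisor k K, 0 ≤ D → D.deg = n →
      D.support ⊆ S ∧ ∀ P, D P ≤ n.toNat := by
    intro D hD hdeg
    have hb : ∀ P, D P * P.deg ≤ n := fun P => by
      have hle : Finsupp.single P (D P) ≤ D := fun Q => by
        by_cases hQ : Q = P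
        · subst hQ; simp
        · simp [hQ]; exact hD Q
      have := deg_mono hle
      rwa [deg_single, hdeg] at this
    refine ⟨fun P hP => ?_, fun P => ?_⟩
    · rw [Finsupp.mem_support_iff] at hP
      have h1 : (1 : ℤ) ≤ D P := by have : (0 : ℤ) ≤ D P := hD P; omega
      have h2 : (P.deg : ℤ) ≤ D P * P.deg := le_mul_of_one_le_left (Int.natCast_nonneg _) h1
      have := hb P
      simp only [S, Set.Finite.mem_toFinset, Set.mem_setOf_eq]
      omega
    · have h1 : (0 : ℤ) ≤ D P := hD P
      have h2 : D P ≤ D P * P.deg :=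
        le_mul_of_one_le_right h1 (by exact_mod_cast h.deg_pos P)
      have := hb P
      omega
  let f : {D : Divisor k K | 0 ≤ D ∧ D.deg = n} → (S → Fin (n.toNat + 1)) := fun D P =>
    ⟨(D.1 P).toNat, by
      have := (key D.1 D.2.1 D.2.2).2 P
      omega⟩
  have : Finite {D : Divisor k K | 0 ≤ D ∧ D.deg = n} := Finite.of_injective f fun D E hDE => by
    refine Subtype.ext (Finsupp.ext fun P => ?_)
    by_cases hP : P ∈ S
    · have h1 : (D.1 P).toNat = (E.1 P).toNat := congrArg Fin.val (congrFun hDE ⟨P, hP⟩)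
      have h2 : (0 : ℤ) ≤ D.1 P := D.2.1 P
      have h3 : (0 : ℤ) ≤ E.1 P := E.2.1 P
      omega
    · rw [Finsupp.notMem_support_iff.1 fun hs => hP ((key D.1 D.2.1 D.2.2).1 hs),
        Finsupp.notMem_support_iff.1 fun hs => hP ((key E.1 E.2.1 E.2.2).1 hs)]
  exact Set.toFinite _

theorem finite_cl0 (h : IsFunctionField k K) : Finite (Cl0 k K) := by
  have hfg : IsFG k K := h.1
  obtain ⟨δ, D₁, hδ, hD₁, -⟩ := exists_generator_deg hfg
  set m := genus k K
  set B := m • D₁
  have hB : (m : ℤ) ≤ B.deg := by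
    rw [deg_nsmul, hD₁]
    exact le_mul_of_one_le_right (Int.natCast_nonneg _) (by exact_mod_cast hδ)
  have := (finite_effDiv hfg B.deg).to_subtype
  let f : {D : Divisor k K | 0 ≤ D ∧ D.deg = B.deg} → Cl0 k K := fun E =>
    QuotientAddGroup.mk ⟨E.1 - B, by
      rw [AddMonoidHom.mem_ker, degHom_apply, deg_sub, E.2.2, sub_self]⟩
  refine Finite.of_surjective f fun c => ?_
  obtain ⟨⟨D, hD⟩, rfl⟩ := QuotientAddGroup.mk_surjective c
  rw [AddMonoidHom.mem_ker, degHom_apply] at hD
  have h1 := hfg.delta_le_genus (D + B)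
  simp only [delta, deg_add, hD] at h1
  obtain ⟨x, hx, -, hE⟩ := hfg.exists_of_ell_pos (D := D + B) (by omega)
  refine ⟨⟨D + B + div k x, hE, by rw [deg_add, hfg.deg_div, deg_add, hD]; simp⟩, ?_⟩
  refine (QuotientAddGroup.eq.2 ?_)
  rw [AddSubgroup.mem_addSubgroupOf]
  refine (mem_prinDivs_iff hfg _).2 ⟨x⁻¹, inv_ne_zero hx, ?_⟩
  rw [hfg.div_inv]
  show -div k x = -(D + B + div k x - B) + D
  abel

theorem classNum_pos (h : IsFunctionField k K) : 0 < classNum k K :=
  have := finite_cl0 h
  Nat.card_pos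

/-- A linear system over a finite field is a projective space. -/
theorem card_linSys (h : IsFunctionField k K) (D : Divisor k K) :
    ((Nat.card k : ℤ) - 1) * Nat.card (linSys D) = (Nat.card k : ℤ) ^ ell D - 1 := by
  classical
  have hfg : IsFG k K := h.1
  have := hfg.finite_L D
  have : Finite (L D) := Module.finite_of_finite k
  have hL : Nat.card (L D) = Nat.card k ^ ell D := Module.natCard_eq_pow_finrank
  have hmap : ∀ x : {x : L D // x ≠ 0}, D + div k (x.1 : K) ∈ linSys D := fun x => by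
    have hx : (x.1 : K) ≠ 0 := fun h0 => x.2 (Subtype.ext h0)
    refine ⟨fun P => ?_, by rw [add_sub_cancel_left]; exact AddSubgroup.subset_closure ⟨_, rfl⟩⟩
    rw [Finsupp.add_apply, hfg.div_apply, Finsupp.zero_apply]
    have := (mem_L_iff_ord hx).1 x.1.2 P
    omega
  let f : {x : L D // x ≠ 0} → linSys D := fun x => ⟨_, hmap x⟩
  have hsurj : Function.Surjective f := by
    rintro ⟨E, hE0, hEp⟩
    obtain ⟨x, hx, hd⟩ := (mem_prinDivs_iff hfg _).1 hEp
    have hxL : x ∈ L D := (mem_L_iff_ord hx).2 fun P => by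
      have h1 : (0 : ℤ) ≤ E P := hE0 P
      have h2 := congrArg (fun F : Divisor k K => F P) hd
      simp only [Finsupp.sub_apply, hfg.div_apply] at h2
      omega
    exact ⟨⟨⟨x, hxL⟩, fun h0 => hx (congrArg Subtype.val h0)⟩, Subtype.ext (by
      show D + div k x = E
      rw [hd]; abel)⟩
  have : Finite {x : L D // x ≠ 0} := inferInstance
  have : Finite (linSys D) := Finite.of_surjective f hsurj
  -- the fibres are the orbits of `kˣ`
  have hfib : ∀ E : linSys D, Nat.card {x // f x = E} = Nat.card kˣ := by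
    intro E
    obtain ⟨x₀, hx₀⟩ := hsurj E
    have hx0 : (x₀.1 : K) ≠ 0 := fun h0 => x₀.2 (Subtype.ext h0)
    let g : kˣ → {x // f x = E} := fun c =>
      ⟨⟨(c : k) • x₀.1, smul_ne_zero c.ne_zero x₀.2⟩, by
        rw [← hx₀]
        refine Subtype.ext (congrArg (D + ·) ?_)
        ext P
        rw [hfg.div_apply, hfg.div_apply]
        exact ord_smul P c.ne_zero _⟩
    refine (Nat.card_eq_of_bijective g ⟨fun c c' hcc => ?_, ?_⟩).symm
    · have h1 : (c : k) • x₀.1 = (c' : k) • x₀.1 := congrArg (fun z => (z.1.1 : L D)) hcc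
      exact Units.ext (smul_left_injective k x₀.2 h1)
    · rintro ⟨⟨⟨x, hxL⟩, hx⟩, hfx⟩
      have hx' : x ≠ 0 := fun h0 => hx (Subtype.ext h0)
      have h1 : D + div k x = D + div k (x₀.1 : K) :=
        congrArg Subtype.val (hfx.trans hx₀.symm)
      have hmem : x / (x₀.1 : K) ∈ L (0 : Divisor k K) := by
        refine (mem_L_iff_ord (div_ne_zero hx' hx0)).2 fun P => ?_
        have h2 := congrArg (fun F : Divisor k K => F P) (add_left_cancel h1)
        simp only [hfg.div_apply] at h2
        rw [div_eq_mul_inv, ord_mul P hx' (inv_ne_zero hx0), ord_inv, h2]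
        simp
      rw [L_zero_eq_one h, Submodule.mem_one] at hmem
      obtain ⟨c, hc⟩ := hmem
      have hc0 : c ≠ 0 := by
        rintro rfl; rw [map_zero] at hc; exact div_ne_zero hx' hx0 hc.symm
      refine ⟨Units.mk0 c hc0, Subtype.ext (Subtype.ext (Subtype.ext ?_))⟩
      show c • (x₀.1 : K) = x
      rw [Algebra.smul_def, hc, div_mul_cancel₀ _ hx0]
  let _ := Fintype.ofFinite (linSys D)
  have hcard : Nat.card {x : L D // x ≠ 0} = Nat.card (linSys D) * Nat.card kˣ := by
    rw [← Nat.card_congr (Equiv.sigmaFiberEquiv f), Nat.card_sigma,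
      Finset.sum_congr rfl (fun E _ => hfib E), Finset.sum_const, Finset.card_univ, smul_eq_mul,
      Nat.card_eq_fintype_card (α := linSys D)]
  have hne : Nat.card {x : L D // x ≠ 0} + 1 = Nat.card (L D) := by
    let _ := Fintype.ofFinite (L D)
    rw [Nat.card_eq_fintype_card, Nat.card_eq_fintype_card, Fintype.card_subtype_compl,
      Fintype.card_subtype_eq]
    have := Fintype.card_pos (α := L D)
    omega
  rw [Nat.card_units] at hcard
  have hq : 1 < Nat.card k := Finite.one_lt_card
  rw [hcard, hL] at hne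
  have h3 : ((Nat.card (linSys D) * (Nat.card k - 1) + 1 : ℕ) : ℤ) = ((Nat.card k ^ ell D : ℕ) : ℤ) :=
    congrArg Nat.cast hne
  push_cast [Nat.cast_sub hq.le] at h3
  linarith

/-- Counting effective divisors by classes. -/
theorem effDivCount_mul (h : IsFunctionField k K) [Fintype (Cl0 k K)] {n : ℕ}
    {D₀ : Divisor k K} (hD₀ : D₀.deg = n) :
    ((Nat.card k : ℤ) - 1) * effDivCount k K n =
      ∑ c : Cl0 k K, ((Nat.card k : ℤ) ^ ell (D₀ + (c.out : Divisor k K)) - 1) := by
  classical
  have hfg : IsFG k K := h.1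
  have : Finite {D : Divisor k K // 0 ≤ D ∧ D.deg = n} := (finite_effDiv hfg n).to_subtype
  have hmem : ∀ E : {D : Divisor k K // 0 ≤ D ∧ D.deg = n}, E.1 - D₀ ∈ (degHom k K).ker := fun E => by
    rw [AddMonoidHom.mem_ker, degHom_apply, deg_sub, E.2.2, hD₀, sub_self]
  let f : {D : Divisor k K // 0 ≤ D ∧ D.deg = n} → Cl0 k K := fun E =>
    QuotientAddGroup.mk ⟨E.1 - D₀, hmem E⟩
  have hfib : ∀ c : Cl0 k K,
      Nat.card {E // f E = c} = Nat.card (linSys (D₀ + (c.out : Divisor k K))) := by
    intro c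
    have hc : (c.out : Divisor k K).deg = 0 := (AddMonoidHom.mem_ker).1 c.out.2
    have key : ∀ E : {D : Divisor k K // 0 ≤ D ∧ D.deg = n},
        f E = c ↔ E.1 - (D₀ + (c.out : Divisor k K)) ∈ prinDivs k K := by
      intro E
      conv_lhs => rhs; rw [← QuotientAddGroup.out_eq' c]
      refine (QuotientAddGroup.eq (s := (prinDivs k K).addSubgroupOf _)).trans ?_
      rw [AddSubgroup.mem_addSubgroupOf, ← neg_mem_iff (H := prinDivs k K)]
      refine Iff.of_eq (congrArg (· ∈ prinDivs k K) ?_)
      show -(-(E.1 - D₀) + (c.out : Divisor k K)) = _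
      abel
    refine Nat.card_congr
      { toFun := fun E => ⟨E.1.1, E.1.2.1, (key _).1 E.2⟩
        invFun := fun E => ⟨⟨E.1, E.2.1, ?_⟩, (key _).2 E.2.2⟩
        left_inv := fun _ => rfl
        right_inv := fun _ => rfl }
    have := deg_eq_zero_of_mem_prinDivs hfg E.2.2
    rw [deg_sub, deg_add, hc, hD₀] at this
    omega
  rw [effDivCount, ← Nat.card_congr (Equiv.sigmaFiberEquiv f), Nat.card_sigma, Nat.cast_sum,
    Finset.mul_sum]
  exact Finset.sum_congr rfl fun c _ => by rw [hfib, card_linSys h]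

/-- In large degree. -/
theorem effDivCount_of_large (h : IsFunctionField k K) {n : ℕ} (hn : 2 * genus k K ≤ n + 1)
    {D₀ : Divisor k K} (hD₀ : D₀.deg = n) :
    ((Nat.card k : ℤ) - 1) * effDivCount k K n =
      (classNum k K : ℤ) * ((Nat.card k : ℤ) ^ (n + 1 - genus k K) - 1) := by
  have := finite_cl0 h
  let _ := Fintype.ofFinite (Cl0 k K)
  have hell : ∀ c : Cl0 k K, ell (D₀ + (c.out : Divisor k K)) = n + 1 - genus k K := fun c => by
    have hd : (D₀ + (c.out : Divisor k K)).deg = n := by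
      rw [deg_add, hD₀, show (c.out : Divisor k K).deg = 0 from (AddMonoidHom.mem_ker).1 c.out.2,
        add_zero]
    have := ell_eq_of_deg_ge h (D := D₀ + (c.out : Divisor k K)) (by omega)
    omega
  rw [effDivCount_mul h hD₀]
  simp only [hell]
  rw [Finset.sum_const, Finset.card_univ, nsmul_eq_mul]
  simp [classNum, Nat.card_eq_fintype_card]

end Finite

end GrothLib.FunFld
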