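import Groth.Agent.Lib.CurveRR.Setup
import Groth.Agent.Lib.CurveRR.Special
import Groth.Agent.Lib.FunFld.Linear
import Groth.Agent.Lib.FunFld.LinSeries
import Groth.Agent.Lib.FunFld.ZetaCount
import Groth.Agent.Lib.FunFld.Conseq

/-!
# The case of equality in Clifford's theorem
-/

set_option autoImplicit false

namespace GrothLib.FunFld

open _root_.FunFld

variable {k K : Type*} [Field k] [Field K] [Algebra k K]

theorem ell_add_ell_le_inf_sup (h : IsFG k K) (D E : Divisor k K) :
    ell D + ell E ≤ ell (D ⊓ E) + ell (D ⊔ E) := by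
  haveI := h.finite_L D
  haveI := h.finite_L E
  haveI := h.finite_L (D ⊔ E)
  have h1 := Submodule.finrank_sup_add_finrank_inf_eq (L D) (L E)
  have h2 : Module.finrank k ↥(L D ⊔ L E) ≤ ell (D ⊔ E) :=
    Submodule.finrank_mono (sup_le (L_mono le_sup_left) (L_mono le_sup_right))
  rw [L_inf] at h1
  show Module.finrank k (L D) + Module.finrank k (L E) ≤ Module.finrank k (L (D ⊓ E)) + _
  omega

/-- A divisor of canonical degree and dimension is canonical up to equivalence. -/
theorem sub_mem_prinDivs_of_canonical (h : IsFunctionField k K) {C A : Divisor k K}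
    (hC : IsCanonical k K C) (hd : A.deg = 2 * genus k K - 2) (hl : genus k K ≤ ell A) :
    A - C ∈ prinDivs k K := by
  classical
  have hfg : IsFG k K := h.1
  have h1 := riemann_roch' h hC A
  obtain ⟨x, hx0, -, hx⟩ := hfg.exists_of_ell_pos (D := C - A) (by omega)
  have hzero : C - A + div k x = 0 := by
    by_contra hne
    obtain ⟨P, hP⟩ := exists_single_le hx hne
    have h3 := deg_mono hP
    have h4 := hfg.deg_pos P
    rw [deg_single, deg_add, deg_sub, hfg.deg_div, one_mul, (ell_canonical h hC).2] at h3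
    omega
  refine (mem_prinDivs_iff hfg _).2 ⟨x, hx0, ?_⟩
  calc div k x = (C - A + div k x) + (A - C) := by abel
    _ = A - C := by rw [hzero, zero_add]

variable [IsAlgClosed k]

theorem succ_le_ell_nsmul (h : IsFunctionField k K) {E : Divisor k K} (hE : 2 ≤ ell E) :
    ∀ n : ℕ, n + 1 ≤ ell (n • E) := by
  intro n
  induction n with
  | zero => rw [zero_smul, ell_zero h]
  | succ n ih =>
    have := CurveRR.FF.ell_add_ell_le h (D := n • E) (E := E) (by omega) (by omega)
    rw [succ_nsmul]
    omega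

/-- Equality in Clifford's theorem forces a pencil of degree two. -/
theorem exists_g12_of_clifford_eq (h : IsFunctionField k K) {C : Divisor k K} (hC : IsCanonical k K C) :
    ∀ (r : ℕ) (D : Divisor k K), D.deg = 2 * r → r + 1 ≤ ell D → 1 ≤ r → r + 1 < genus k K →
      ∃ E : Divisor k K, E.deg = 2 ∧ 2 ≤ ell E := by
  classical
  intro r
  induction r using Nat.strong_induction_on with
  | _ r ih =>
  intro D hd hl hr1 hrg
  rcases eq_or_lt_of_le hr1 with rfl | hr2
  · exact ⟨D, by simpa using hd, hl⟩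
  have hfg : IsFG k K := h.1
  have hRR := riemann_roch' h hC D
  obtain ⟨-, hdC⟩ := ell_canonical h hC
  have hcd : 2 ≤ ell (C - D) := by omega
  obtain ⟨y, hy0, -, hy⟩ := hfg.exists_of_ell_pos (D := C - D) (by omega)
  obtain ⟨E, hEdef⟩ : ∃ E, E = C - D + div k y := ⟨_, rfl⟩
  rw [← hEdef] at hy
  have hEdeg : E.deg = 2 * (genus k K : ℤ) - 2 - 2 * r := by
    rw [hEdef, deg_add, deg_sub, hfg.deg_div, hdC, hd]; ring
  obtain ⟨P, hP⟩ := exists_single_le hy (fun h0 => by rw [h0, deg_zero] at hEdeg; omega)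
  obtain ⟨Q, hQ⟩ := CurveRR.FF.exists_place_notMem hfg E.support
  have hQ0 : E Q = 0 := Finsupp.notMem_support_iff.1 hQ
  have hP1 : 1 ≤ E P := by simpa using hP P
  have hPQ : P ≠ Q := fun h' => by subst h'; omega
  -- a member through both points
  have hlow : ∀ (A : Divisor k K) (R : Place k K), ell A ≤ ell (A - Finsupp.single R 1) + 1 := fun A R => by
    have h1 := vdim_ge hfg (le_refl (L A)) (hfg.deg_eq_one R) 1
    have h2 := vdim_le_ell hfg (L A) A R 1
    have h3 : Module.finrank k (L A) = ell A := rfl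
    push_cast at h1
    omega
  have hsub := hlow D P
  have hsub' := hlow (D - Finsupp.single P 1) Q
  obtain ⟨x, hx0, -, hx⟩ := hfg.exists_of_ell_pos (D := D - Finsupp.single P 1 - Finsupp.single Q 1) (by omega)
  obtain ⟨D1, hD1def⟩ : ∃ D1, D1 = D + div k x := ⟨_, rfl⟩
  have hD1 : ∀ R, (Finsupp.single P 1 + Finsupp.single Q 1 : Divisor k K) R ≤ D1 R := fun R => by
    have := hx R
    simp only [hD1def, Finsupp.add_apply, Finsupp.sub_apply, Finsupp.zero_apply] at this ⊢
    omega
  have hD1P : 1 ≤ D1 P := by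
    have := hD1 P
    rw [Finsupp.add_apply, Finsupp.single_eq_same, Finsupp.single_eq_of_ne hPQ] at this
    omega
  have hD1Q : 1 ≤ D1 Q := by
    have := hD1 Q
    rw [Finsupp.add_apply, Finsupp.single_eq_same, Finsupp.single_eq_of_ne hPQ.symm] at this
    omega
  have hD10 : 0 ≤ D1 := fun R => le_trans (by
    simp only [Finsupp.zero_apply, Finsupp.add_apply, Finsupp.single_apply]
    split_ifs <;> norm_num) (hD1 R)
  obtain ⟨G, hGdef⟩ : ∃ G, G = D1 ⊓ E := ⟨_, rfl⟩
  have hG0 : 0 ≤ G := hGdef ▸ le_inf hD10 hy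
  have hGP : Finsupp.single P 1 ≤ G := by
    rw [hGdef]
    exact le_inf (fun R => by
      rcases eq_or_ne P R with rfl | hR
      · simpa using hD1P
      · rw [Finsupp.single_eq_of_ne' hR]; exact hD10 R) hP
  have hGQ : G + Finsupp.single Q 1 ≤ D1 := fun R => by
    rw [Finsupp.add_apply, hGdef, Finsupp.inf_apply]
    rcases eq_or_ne Q R with rfl | hR
    · rw [Finsupp.single_eq_same, hQ0]
      have : D1 Q ⊓ 0 ≤ 0 := inf_le_right
      omega
    · rw [Finsupp.single_eq_of_ne' hR, add_zero]; exact inf_le_left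
  have hGdeg1 : 1 ≤ G.deg := by
    have := deg_mono hGP
    rwa [deg_single, one_mul, show (P.deg : ℤ) = 1 by rw [hfg.deg_eq_one P]; rfl] at this
  have hGdeg2 : G.deg + 1 ≤ 2 * r := by
    have := deg_mono hGQ
    rwa [deg_add, deg_single, one_mul, show (Q.deg : ℤ) = 1 by rw [hfg.deg_eq_one Q]; rfl, hD1def, deg_add,
      hfg.deg_div, add_zero, hd] at this
  -- the inequality
  have hsum := ell_add_ell_le_inf_sup hfg D1 E
  have e1 : ell D1 = ell D := by rw [hD1def, hfg.ell_add_div _ hx0]
  have e2 : ell E = ell (C - D) := by rw [hEdef, hfg.ell_add_div _ hy0]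
  have hsupeq : D1 ⊔ E = C - G + div k (x * y) := by
    have h2 : div k (x * y) = div k x + div k y := Finsupp.ext fun R => by
      rw [Finsupp.add_apply, hfg.div_apply, hfg.div_apply, hfg.div_apply, ord_mul R hx0 hy0]
    have h3 : G + (D1 ⊔ E) = D1 + E := hGdef ▸ inf_add_sup D1 E
    rw [h2]
    calc D1 ⊔ E = (G + (D1 ⊔ E)) - G := by abel
      _ = (D + div k x + (C - D + div k y)) - G := by rw [h3, hD1def, hEdef]
      _ = _ := by abel
  rw [← hGdef, e1, e2, hsupeq, hfg.ell_add_div _ (mul_ne_zero hx0 hy0)] at hsum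
  have hG := riemann_roch' h hC G
  have hGl : 0 < ell G := by
    have : ell (0 : Divisor k K) ≤ ell G := by
      haveI := hfg.finite_L G
      exact Submodule.finrank_mono (L_mono hG0)
    rw [ell_zero h] at this
    omega
  have hCG : 0 < ell (C - G) := by omega
  have hcl := CurveRR.FF.clifford h hC hGl hCG
  refine ih (ell G - 1) (by omega) G (by omega) (by omega) (by omega) (by omega)

/-- A divisor reaching Clifford's bound is a multiple of the pencil. -/
theorem sub_mem_prinDivs_nsmul (h : IsFunctionField k K) {C : Divisor k K} (hC : IsCanonical k K C)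
    {D E : Divisor k K} {r : ℕ} (hD : D.deg = 2 * r) (hlD : r + 1 ≤ ell D) (hr : r + 1 ≤ genus k K)
    (hE : E.deg = 2) (hlE : 2 ≤ ell E) : D - r • E ∈ prinDivs k K := by
  obtain ⟨m, hm⟩ : ∃ m, genus k K = r + 1 + m := ⟨genus k K - (r + 1), by omega⟩
  have hdn : ∀ n : ℕ, (n • E).deg = 2 * n := by
    intro n
    induction n with
    | zero => simp [deg_zero]
    | succ n ih => rw [succ_nsmul, deg_add, ih, hE]; push_cast; ring
  have h1 : D + m • E - C ∈ prinDivs k K := by
    refine sub_mem_prinDivs_of_canonical h hC (by rw [deg_add, hD, hdn, hm]; push_cast; ring) ?_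
    have := succ_le_ell_nsmul h hlE m
    have := CurveRR.FF.ell_add_ell_le h (D := D) (E := m • E) (by omega) (by omega)
    omega
  have h2 : (r + m) • E - C ∈ prinDivs k K := by
    refine sub_mem_prinDivs_of_canonical h hC (by rw [hdn, hm]; push_cast; ring) ?_
    have := succ_le_ell_nsmul h hlE (r + m)
    omega
  have := AddSubgroup.sub_mem _ h1 h2
  convert this using 1
  rw [add_smul]; abel

end GrothLib.FunFld
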