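import Groth.Agent.Lib.FunFld.LocRing
import Groth.Agent.Lib.FunFld.LinSeries

/-! Separation of places and tangent directions: when is a projective map an embedding? -/

namespace GrothLib.FunFld

open _root_.FunFld WithZero

variable {k K : Type*} [Field k] [Field K] [Algebra k K] {ι : Type*}

theorem val_eq_one_of_sub_lt (R : Place k K) {x : K} {c : k} (hc : c ≠ 0)
    (h : val R (x - algebraMap k K c) < 1) : val R x = 1 := by
  rw [(val R).map_eq_of_sub_lt (x := algebraMap k K c) (by rw [val_const R hc]; exact h)]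
  exact val_const R hc

theorem inLocRing_of_mem_chart {φ : ι → K} {P : Place k K} {j : ι} (hj : IsLead φ P j) {a : K}
    (ha : a ∈ chart k φ j) : InLocRing φ P a :=
  (inLocRing_iff hj).2 ⟨a, ha, 1, one_mem _, map_one _, mul_one a⟩

theorem div_mem_chart_of_mem_span {φ : ι → K} {j : ι} {v : K}
    (hv : v ∈ Submodule.span k (Set.range φ)) : v / φ j ∈ chart k φ j := by
  induction hv using Submodule.span_induction with
  | mem x hx => obtain ⟨i, rfl⟩ := hx; exact ratio_mem_chart φ i j
  | zero => rw [zero_div]; exact zero_mem _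
  | add x y _ _ hx hy => rw [add_div]; exact add_mem hx hy
  | smul c x _ hx => rw [smul_div_assoc]; exact Subalgebra.smul_mem _ hx c

theorem inFibre_of_locRing {φ : ι → K} {P Q : Place k K} {j : ι} (hj : IsLead φ P j)
    (H : ∀ z, InLocRing φ P z → val Q z ≤ 1 ∧ (val Q z < 1 ↔ val P z < 1)) : InFibre φ j P Q :=
  fun i => ⟨(H _ (inLocRing_of_mem_chart hj (ratio_mem_chart φ i j))).1, fun c hc =>
    (H _ (inLocRing_of_mem_chart hj
      (sub_mem (ratio_mem_chart φ i j) (Subalgebra.algebraMap_mem _ c)))).2.2 hc⟩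

section Closed

variable [IsAlgClosed k]

theorem locRing_le_of_inFibre (h : IsFG k K) {φ : ι → K} {P Q : Place k K} {j : ι}
    (hj : IsLead φ P j) (hQ : InFibre φ j P Q) {z : K} (hz : InLocRing φ P z) :
    val Q z ≤ 1 ∧ (val Q z < 1 ↔ val P z < 1) := by
  obtain ⟨u, hu, w, hw, hw1, he⟩ := (inLocRing_iff hj).1 hz
  obtain ⟨d, hdP, hdQ⟩ := exists_common_residue h hj hQ hw
  have hd0 : d ≠ 0 := fun h0 => by
    rw [h0, map_zero, sub_zero, hw1] at hdP; exact lt_irrefl _ hdP
  have hzQ : val Q z = val Q u := by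
    rw [← he, map_mul, val_eq_one_of_sub_lt Q hd0 hdQ, mul_one]
  have hzP : val P z = val P u := by rw [← he, map_mul, hw1, mul_one]
  obtain ⟨c, hcP, hcQ⟩ := exists_common_residue h hj hQ hu
  rw [hzQ, hzP]
  by_cases hc0 : c = 0
  · rw [hc0, map_zero, sub_zero] at hcP hcQ
    exact ⟨hcQ.le, iff_of_true hcQ hcP⟩
  · rw [val_eq_one_of_sub_lt Q hc0 hcQ, val_eq_one_of_sub_lt P hc0 hcP]
    exact ⟨le_rfl, Iff.rfl⟩

theorem sameImage_iff_locRing (h : IsFG k K) {φ : ι → K} {P Q : Place k K} {j : ι}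
    (hj : IsLead φ P j) :
    SameImage φ P Q ↔ ∀ z, InLocRing φ P z → val Q z ≤ 1 ∧ (val Q z < 1 ↔ val P z < 1) :=
  (sameImage_iff h hj).trans ⟨fun hQ _ hz => locRing_le_of_inFibre h hj hQ hz,
    inFibre_of_locRing hj⟩

variable [Fintype ι]

theorem isNonsingularAt_iff_locRing (h : IsFunctionField k K) {φ : ι → K} {i₀ : ι} (h0 : φ i₀ ≠ 0)
    (hbir : IntermediateField.adjoin k (Set.range fun i => φ i / φ i₀) = ⊤) (P : Place k K) :
    IsNonsingularAt φ P ↔
      (∀ Q : Place k K, (∀ z : K, InLocRing φ P z → val Q z ≤ 1) → Q = P) ∧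
        ∃ t : K, InLocRing φ P t ∧ val P t = exp (-1) := by
  have : Nonempty ι := ⟨i₀⟩
  have hfg : IsFG k K := h.1
  obtain ⟨j, hj⟩ := exists_isLead ⟨i₀, h0⟩ P
  constructor
  · intro hns
    refine ⟨fun Q hQ => ?_, ?_⟩
    · by_contra hne
      obtain ⟨z, hzP, hzQ⟩ := exists_le_one_and_one_lt (Ne.symm hne)
      exact not_lt.2 (hQ z (hns z hzP)) hzQ
    · obtain ⟨-, t, htA, ht⟩ := fibre_and_parameter_of_isNonsingularAt hfg hj hns
      exact ⟨t, inLocRing_of_mem_chart hj htA, ht⟩
  · rintro ⟨huniq, t, ht, htv⟩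
    obtain ⟨u, hu, w, hw, hw1, he⟩ := (inLocRing_iff hj).1 ht
    refine isNonsingularAt_of h h0 hbir hj
      (fun Q hQ => huniq Q fun z hz => (locRing_le_of_inFibre hfg hj hQ hz).1) hu ?_
    rw [← he, map_mul, htv, hw1, mul_one]

/-- A map normalised at `P` has a parameter in its span if it has one in its local ring. -/
theorem exists_parameter_iff_span (h : IsFG k K) {φ : ι → K} {P : Place k K}
    (heff : (1 : K) ∈ Submodule.span k (Set.range φ)) (hnorm : ∀ i, val P (φ i) ≤ 1) :
    (∃ t : K, InLocRing φ P t ∧ val P t = exp (-1)) ↔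
      ∃ t ∈ Submodule.span k (Set.range φ), val P t = exp (-1) := by
  have hne : ∃ i, φ i ≠ 0 := by
    by_contra hc; push Not at hc
    have hb : Submodule.span k (Set.range φ) = ⊥ := by
      rw [Submodule.span_eq_bot]; rintro _ ⟨i, rfl⟩; exact hc i
    rw [hb, Submodule.mem_bot] at heff
    exact one_ne_zero heff
  obtain ⟨i₀, hi₀⟩ := hne
  have : Nonempty ι := ⟨i₀⟩
  obtain ⟨j, hj⟩ := exists_isLead ⟨i₀, hi₀⟩ P
  have hj1 : val P (φ j) = 1 := by
    refine le_antisymm (hnorm j) ?_
    by_contra hlt; rw [not_le] at hlt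
    have hspan : Submodule.span k (Set.range φ) ≤ ball P (-1) := by
      rw [Submodule.span_le]; rintro _ ⟨i, rfl⟩
      rw [SetLike.mem_coe, mem_ball, show (-1 : ℤ) = 0 - 1 by norm_num, le_exp_sub_one_iff, exp_zero]
      exact (hj.2 i).trans_lt hlt
    have := hspan heff
    rw [mem_ball, map_one, ← exp_zero, exp_le_exp] at this
    omega
  constructor
  · rintro ⟨t, ht, htv⟩
    obtain ⟨u, hu, w, hw, hw1, he⟩ := (inLocRing_iff hj).1 ht
    obtain ⟨i, c, hic⟩ := exists_coord_parameter h hj hu (by rw [← he, map_mul, htv, hw1, mul_one])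
    refine ⟨φ i - c • φ j, sub_mem (Submodule.subset_span ⟨i, rfl⟩)
      (Submodule.smul_mem _ c (Submodule.subset_span ⟨j, rfl⟩)), ?_⟩
    have hφj := hj.1
    rw [show φ i - c • φ j = (φ i / φ j - algebraMap k K c) * φ j by
      rw [Algebra.smul_def]; field_simp, map_mul, hic, hj1, mul_one]
  · rintro ⟨t, ht, htv⟩
    exact ⟨t / φ j, inLocRing_of_mem_chart hj (div_mem_chart_of_mem_span ht),
      by rw [map_div₀, htv, hj1, div_one]⟩

/-- A birational map is nonsingular outside a finite set. -/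
theorem finite_singular (h : IsFunctionField k K) {φ : ι → K} {i₀ : ι} (h0 : φ i₀ ≠ 0)
    (hbir : IntermediateField.adjoin k (Set.range fun i => φ i / φ i₀) = ⊤) :
    {P : Place k K | ¬ IsNonsingularAt φ P}.Finite := by
  classical
  have hfg : IsFG k K := h.1
  obtain ⟨cd, hcdA, hcd0, hcd, Pinf, i₁, hinf⟩ :=
    exists_conductor h (fun i => φ i / φ i₀) ⟨i₀, div_self h0⟩ hbir
  refine ((Set.finite_iUnion fun i => hfg.finite_support_ord (φ i / φ i₀)).union
    (hfg.finite_support_ord cd)).subset ?_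
  intro P hP
  by_contra hgood
  simp only [Set.mem_union, Set.mem_iUnion, Function.mem_support, not_or, not_exists, not_not]
    at hgood
  obtain ⟨hψ0, hcdP⟩ := hgood
  refine hP ?_
  have hψ : ∀ i, val P (φ i / φ i₀) ≤ 1 := fun i => by
    by_cases hi : φ i / φ i₀ = 0
    · rw [hi, map_zero]; exact zero_le
    · rw [val_le_one_iff P hi, hψ0 i]
  have hj : IsLead φ P i₀ := isLead_iff.2 ⟨h0, hψ⟩
  have hcd1 : val P cd = 1 := by rw [val_eq P hcd0, hcdP, neg_zero, exp_zero]
  have hPinf : Pinf ≠ P := by rintro rfl; exact not_lt.2 (hψ i₁) hinf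
  have hreg : ∀ (S : Finset (Place k K)) (y : K), (∀ R ∈ S, val R y ≤ 1) →
      (∀ R, R ≠ Pinf → R ∉ S → val R y ≤ 1) → cd * y ∈ chart k φ i₀ :=
    fun S y hS hout => hcd y fun R hR => by
      by_cases hRS : R ∈ S
      · exact hS R hRS
      · exact hout R (by rintro rfl; exact not_lt.2 (hR i₁) hinf) hRS
  have hlt1 : exp (-1 : ℤ) < (1 : WithZero (Multiplicative ℤ)) := by
    rw [← exp_zero, exp_lt_exp]; omega
  obtain ⟨t, htS, htout⟩ := strong_approximation' h Pinf {P} (by simpa using hPinf)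
    (fun _ => 0) (fun _ => -1)
  have htP : val P t = exp (-1) := by simpa using htS P (Finset.mem_singleton_self P)
  refine isNonsingularAt_of h h0 hbir hj (fun Q hQ => ?_) (t := cd * t)
    (hreg {P} t (fun R hR => by rw [Finset.mem_singleton.1 hR, htP]; exact hlt1.le) htout)
    (by rw [map_mul, hcd1, htP, one_mul])
  by_contra hne
  have hQinf : Pinf ≠ Q := by rintro rfl; exact not_lt.2 (hQ i₁).1 hinf
  obtain ⟨y, hyS, hyout⟩ := strong_approximation' h Pinf {P, Q}
    (by simp only [Finset.mem_insert, Finset.mem_singleton, not_or]; exact ⟨hPinf, hQinf⟩)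
    (fun R => if R = P then 1 else 0) (fun _ => -1)
  have hyQ : val Q y < 1 := by
    have := hyS Q (by simp)
    rw [if_neg hne, sub_zero] at this
    exact this ▸ hlt1
  have hyP : val P y = 1 := by
    have := hyS P (by simp)
    rw [if_pos rfl] at this
    exact val_eq_one_of_sub_lt P one_ne_zero (by rw [map_one, this]; exact hlt1)
  have hyA : cd * y ∈ chart k φ i₀ := hreg {P, Q} y (fun R hR => by
    rcases Finset.mem_insert.1 hR with rfl | hR
    · exact hyP.le
    · rw [Finset.mem_singleton.1 hR]; exact hyQ.le) hyout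
  have hyloc : InLocRing φ P y :=
    (inLocRing_iff hj).2 ⟨cd * y, hyA, cd, hcdA, hcd1, mul_comm y cd⟩
  exact (((locRing_le_of_inFibre hfg hj hQ hyloc).2.1 hyQ).ne) hyP

end Closed

section Divisor

variable [Fintype ι] [Nonempty ι]

theorem mapDiv_apply (h : IsFG k K) (φ : ι → K) (R : Place k K) :
    mapDiv k φ R = -Finset.univ.inf' Finset.univ_nonempty (fun i => R.ord (φ i)) := by
  classical
  have hfin : (Function.support fun R : Place k K =>
      -Finset.univ.inf' Finset.univ_nonempty (fun i => R.ord (φ i))).Finite := by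
    refine (Set.finite_iUnion fun i => h.finite_support_ord (φ i)).subset fun P hP => ?_
    obtain ⟨i, -, hi⟩ := Finset.exists_mem_eq_inf' Finset.univ_nonempty fun i => P.ord (φ i)
    rw [Function.mem_support, neg_ne_zero, hi] at hP
    exact Set.mem_iUnion.2 ⟨i, hP⟩
  rw [mapDiv, dif_pos hfin, Finsupp.ofSupportFinite_coe]

theorem val_le_exp_mapDiv (h : IsFG k K) {φ : ι → K} (hφ : ∀ i, φ i ≠ 0) (R : Place k K) (i : ι) :
    val R (φ i) ≤ exp (mapDiv k φ R) := by
  rw [val_eq R (hφ i), exp_le_exp, mapDiv_apply h, neg_le_neg_iff]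
  exact Finset.inf'_le _ (Finset.mem_univ i)

theorem IsLead.val_eq_mapDiv (h : IsFG k K) {φ : ι → K} (hφ : ∀ i, φ i ≠ 0) {R : Place k K}
    {j : ι} (hj : IsLead φ R j) : val R (φ j) = exp (mapDiv k φ R) := by
  obtain ⟨i, -, hi⟩ := Finset.exists_mem_eq_inf' Finset.univ_nonempty fun i => R.ord (φ i)
  refine le_antisymm (val_le_exp_mapDiv h hφ R j) ?_
  rw [mapDiv_apply h, hi, ← val_eq R (hφ i)]
  exact hj.2 i

theorem span_le_L_mapDiv (h : IsFG k K) {φ : ι → K} (hφ : ∀ i, φ i ≠ 0) :
    Submodule.span k (Set.range φ) ≤ L (mapDiv k φ) := by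
  rw [Submodule.span_le]; rintro _ ⟨i, rfl⟩ R
  exact val_le_exp_mapDiv h hφ R i

/-- If the span is all of `L D` and `D` has no base points, then `D` is the divisor of the map. -/
theorem mapDiv_eq_of_span (h : IsFG k K) {φ : ι → K} (hφ : ∀ i, φ i ≠ 0) {D : Divisor k K}
    (hspan : Submodule.span k (Set.range φ) = L D)
    (hbpf : ∀ R : Place k K, ¬ L D ≤ L (D - Finsupp.single R 1)) : mapDiv k φ = D := by
  classical
  ext R
  have hmem : ∀ i, φ i ∈ L D := fun i => hspan ▸ Submodule.subset_span ⟨i, rfl⟩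
  refine le_antisymm ?_ (not_lt.1 fun hlt => hbpf R ?_)
  · obtain ⟨j, hj⟩ := exists_isLead ⟨Classical.arbitrary ι, hφ _⟩ R
    have := hmem j R
    rw [show R.1 (φ j) = val R (φ j) from rfl, hj.val_eq_mapDiv h hφ, exp_le_exp] at this
    exact this
  · rw [← hspan, Submodule.span_le]
    rintro _ ⟨i, rfl⟩ S
    show val S (φ i) ≤ _
    by_cases hS : S = R
    · subst hS
      refine (val_le_exp_mapDiv h hφ S i).trans (exp_le_exp.2 ?_)
      simp; omega
    · rw [Finsupp.sub_apply, Finsupp.single_eq_of_ne hS, sub_zero]; exact hmem i S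

variable [IsAlgClosed k]

/-- The criterion for nonsingularity in terms of the span. -/
theorem exists_of_isNonsingularAt (h : IsFG k K) {φ : ι → K} (hφ : ∀ i, φ i ≠ 0) {P : Place k K}
    (hns : IsNonsingularAt φ P) (Q : Place k K) :
    ∃ v ∈ Submodule.span k (Set.range φ), v ∈ L (mapDiv k φ - Finsupp.single P 1) ∧
      v ∉ L (mapDiv k φ - Finsupp.single P 1 - Finsupp.single Q 1) := by
  classical
  obtain ⟨j, hj⟩ := exists_isLead ⟨Classical.arbitrary ι, hφ _⟩ P
  obtain ⟨hfib, t, htA, ht⟩ := fibre_and_parameter_of_isNonsingularAt h hj hns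
  set D := mapDiv k φ
  set W := Submodule.span k (Set.range φ)
  have hW : ∀ i, φ i ∈ W := fun i => Submodule.subset_span ⟨i, rfl⟩
  have hlead : val P (φ j) = exp (D P) := hj.val_eq_mapDiv h hφ
  have mk : ∀ v ∈ W, val P v ≤ exp (D P - 1) → v ∈ L (D - Finsupp.single P 1) := by
    intro v hv hvP R
    by_cases hR : R = P
    · subst hR; rw [Finsupp.sub_apply, Finsupp.single_eq_same]; exact hvP
    · have := span_le_L_mapDiv h hφ hv R
      rwa [Finsupp.sub_apply, Finsupp.single_eq_of_ne hR, sub_zero]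
  have hsmall : ∀ x : K, val P x < 1 → val P (x * φ j) ≤ exp (D P - 1) := fun x hx => by
    rw [map_mul, hlead, le_exp_sub_one_iff]
    exact mul_lt_of_lt_one_left exp_pos hx
  by_cases hQP : Q = P
  · subst hQP
    obtain ⟨i, c, hic⟩ := exists_coord_parameter h hj htA ht
    have hφj := hj.1
    have he : φ i - c • φ j = (φ i / φ j - algebraMap k K c) * φ j := by
      rw [Algebra.smul_def]; field_simp
    have hv : φ i - c • φ j ∈ W := sub_mem (hW i) (W.smul_mem c (hW j))
    refine ⟨_, hv, mk _ hv (he ▸ hsmall _ (by rw [hic, ← exp_zero, exp_lt_exp]; omega)), fun hmem => ?_⟩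
    have := hmem Q
    rw [show Q.1 (φ i - c • φ j) = val Q _ from rfl, he, map_mul, hic, hlead, ← exp_add, exp_le_exp,
      Finsupp.sub_apply, Finsupp.sub_apply, Finsupp.single_eq_same] at this
    omega
  · have hnot : ¬ InFibre φ j P Q := fun hf => hQP (hfib Q hf)
    obtain ⟨j', hj'⟩ := exists_isLead ⟨Classical.arbitrary ι, hφ _⟩ Q
    suffices H : ∃ i c, val P (φ i / φ j - algebraMap k K c) < 1 ∧
        val Q (φ i - c • φ j) = exp (D Q) by
      obtain ⟨i, c, hiP, hiQ⟩ := H
      have hφj := hj.1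
      have he : φ i - c • φ j = (φ i / φ j - algebraMap k K c) * φ j := by
        rw [Algebra.smul_def]; field_simp
      have hv : φ i - c • φ j ∈ W := sub_mem (hW i) (W.smul_mem c (hW j))
      refine ⟨_, hv, mk _ hv (he ▸ hsmall _ hiP), fun hmem => ?_⟩
      have := hmem Q
      rw [show Q.1 (φ i - c • φ j) = val Q _ from rfl, hiQ, exp_le_exp, Finsupp.sub_apply,
        Finsupp.sub_apply, Finsupp.single_eq_same, Finsupp.single_eq_of_ne hQP] at this
      omega
    by_cases hch : ∀ i, val Q (φ i / φ j) ≤ 1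
    · simp only [InFibre, not_forall, not_and] at hnot
      obtain ⟨i, hi⟩ := hnot
      obtain ⟨c, hcP, hcQ⟩ := hi (hch i)
      refine ⟨i, c, hcP, ?_⟩
      have hjQ : IsLead φ Q j := isLead_iff.2 ⟨hj.1, hch⟩
      have h1 : val Q (φ i / φ j - algebraMap k K c) = 1 :=
        le_antisymm (((val Q).map_sub _ _).trans (max_le (hch i) (Q.2.1 c))) (not_lt.1 hcQ)
      have hφj := hj.1
      rw [show φ i - c • φ j = (φ i / φ j - algebraMap k K c) * φ j by
        rw [Algebra.smul_def]; field_simp, map_mul, h1, one_mul, hjQ.val_eq_mapDiv h hφ]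
    · push Not at hch
      obtain ⟨i, hi⟩ := hch
      rw [map_div₀, one_lt_div₀ (zero_lt_iff.2 ((val Q).ne_zero_iff.2 hj.1))] at hi
      obtain ⟨c, hc⟩ := exists_residue h P ((isLead_iff.1 hj).2 j')
      refine ⟨j', c, hc, ?_⟩
      rw [(val Q).map_sub_eq_of_lt_left, hj'.val_eq_mapDiv h hφ]
      rw [Algebra.smul_def, map_mul]
      exact ((mul_le_of_le_one_left' (Q.2.1 c)).trans_lt hi).trans_le (hj'.2 i)

theorem isNonsingularAt_of_exists (h : IsFunctionField k K) {φ : ι → K} (hφ : ∀ i, φ i ≠ 0)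
    {P : Place k K}
    (H : ∀ Q : Place k K, ∃ v ∈ Submodule.span k (Set.range φ),
      v ∈ L (mapDiv k φ - Finsupp.single P 1) ∧
        v ∉ L (mapDiv k φ - Finsupp.single P 1 - Finsupp.single Q 1)) :
    IsNonsingularAt φ P := by
  classical
  have hfg : IsFG k K := h.1
  obtain ⟨j, hj⟩ := exists_isLead ⟨Classical.arbitrary ι, hφ _⟩ P
  set D := mapDiv k φ
  have hjD : val P (φ j) = exp (D P) := hj.val_eq_mapDiv hfg hφ
  have hfib : ∀ Q, InFibre φ j P Q → Q = P := by
    intro Q hQ
    by_contra hne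
    obtain ⟨v, hvW, hv1, hv2⟩ := H Q
    have hjQ : val Q (φ j) = exp (D Q) :=
      (isLead_iff.2 ⟨hj.1, fun i => (hQ i).1⟩ : IsLead φ Q j).val_eq_mapDiv hfg hφ
    have hP1 : val P (v / φ j) < 1 := by
      have := hv1 P
      rw [Finsupp.sub_apply, Finsupp.single_eq_same, le_exp_sub_one_iff] at this
      rwa [map_div₀, hjD, div_lt_one₀ exp_pos]
    have hQ1 := (locRing_le_of_inFibre hfg hj hQ
      (inLocRing_of_mem_chart hj (div_mem_chart_of_mem_span hvW))).2.2 hP1
    rw [map_div₀, hjQ, div_lt_one₀ exp_pos] at hQ1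
    refine hv2 fun R => ?_
    by_cases hR : R = Q
    · subst hR
      rw [Finsupp.sub_apply, Finsupp.sub_apply, Finsupp.single_eq_same,
        Finsupp.single_eq_of_ne hne, sub_zero, le_exp_sub_one_iff]
      exact hQ1
    · rw [Finsupp.sub_apply (g₁ := D - _), Finsupp.single_eq_of_ne hR, sub_zero]
      exact hv1 R
  obtain ⟨v, hvW, hv1, hv2⟩ := H P
  have hv : val P v = exp (D P - 1) := by
    refine le_antisymm ?_ (not_lt.1 fun hlt => hv2 fun R => ?_)
    · have := hv1 P
      rwa [Finsupp.sub_apply, Finsupp.single_eq_same] at this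
    · by_cases hR : R = P
      · subst hR
        rw [Finsupp.sub_apply, Finsupp.sub_apply, Finsupp.single_eq_same, le_exp_sub_one_iff]
        exact hlt
      · rw [Finsupp.sub_apply (g₁ := D - _), Finsupp.single_eq_of_ne hR, sub_zero]
        exact hv1 R
  have ht : val P (v / φ j) = exp (-1) := by
    rw [map_div₀, hv, hjD, div_eq_iff exp_ne_zero, ← exp_add]; congr 1; ring
  have htA := div_mem_chart_of_mem_span (j := j) hvW
  exact isNonsingularAt_of h hj.1 (adjoin_ratios_eq_top h hj.1 hj hfib htA ht) hj hfib htA ht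

/-- Codimension two characterises the criterion. -/
theorem codim_two_iff (h : IsFG k K) {φ : ι → K} (hφ : ∀ i, φ i ≠ 0) (P Q : Place k K) :
    Module.finrank k ↥(Submodule.span k (Set.range φ) ⊓
        L (mapDiv k φ - Finsupp.single P 1 - Finsupp.single Q 1)) + 2 =
      Module.finrank k ↥(Submodule.span k (Set.range φ)) ↔
    ∃ v ∈ Submodule.span k (Set.range φ), v ∈ L (mapDiv k φ - Finsupp.single P 1) ∧
      v ∉ L (mapDiv k φ - Finsupp.single P 1 - Finsupp.single Q 1) := by
  classical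
  set W := Submodule.span k (Set.range φ)
  set D := mapDiv k φ
  have hWD : W ≤ L D := span_le_L_mapDiv h hφ
  have := finite_of_le_L h hWD
  set A := W ⊓ L (D - Finsupp.single P 1) with hA
  set B := W ⊓ L (D - Finsupp.single P 1 - Finsupp.single Q 1) with hB
  have h1 : Module.finrank k W ≤ Module.finrank k A + 1 := by
    simpa [vdim] using vdim_ge h hWD (h.deg_eq_one P) 1
  have hAW : A < W := by
    refine lt_of_le_of_ne inf_le_left fun he => ?_
    obtain ⟨j, hj⟩ := exists_isLead ⟨Classical.arbitrary ι, hφ _⟩ P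
    have := (he.ge.trans inf_le_right) (Submodule.subset_span ⟨j, rfl⟩) P
    rw [Finsupp.sub_apply, Finsupp.single_eq_same, le_exp_sub_one_iff,
      show P.1 (φ j) = val P (φ j) from rfl, hj.val_eq_mapDiv h hφ] at this
    exact lt_irrefl _ this
  have h2 := Submodule.finrank_lt_finrank_of_lt hAW
  obtain ⟨m, hm, hc⟩ := h.hasCodim_L_step (D - Finsupp.single P 1 - Finsupp.single Q 1) Q
  rw [sub_add_cancel] at hc
  obtain ⟨m', hm', hc'⟩ := hc.mono_inf W
  rw [inf_comm _ W, inf_comm _ W] at hc'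
  have := finite_inf_L h W (D - Finsupp.single P 1 - Finsupp.single Q 1)
  have h3 : Module.finrank k A = Module.finrank k B + m' := hc'.finite_right.2
  rw [h.deg_eq_one Q] at hm
  constructor
  · intro he
    by_contra hcon
    push Not at hcon
    have := Submodule.finrank_mono (show A ≤ B from fun v hv => ⟨hv.1, hcon v hv.1 hv.2⟩)
    omega
  · rintro ⟨v, hvW, hv1, hv2⟩
    have := finite_inf_L h W (D - Finsupp.single P 1)
    have hlt : B < A := lt_of_le_of_ne hc'.le fun he => hv2 (he.ge ⟨hvW, hv1⟩ : v ∈ B).2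
    have : Module.finrank k B < Module.finrank k A := Submodule.finrank_lt_finrank_of_lt hlt
    omega

/-- Riemann–Roch criterion: `ℓ` drops twice. -/
theorem isNonsingularAt_of_ell (h : IsFunctionField k K) {φ : ι → K} (hφ : ∀ i, φ i ≠ 0)
    {D : Divisor k K} (hspan : Submodule.span k (Set.range φ) = L D)
    (h1 : ∀ R, ell (D - Finsupp.single R 1) < ell D)
    (h2 : ∀ R S, ell (D - Finsupp.single R 1 - Finsupp.single S 1) < ell (D - Finsupp.single R 1))
    (P : Place k K) : IsNonsingularAt φ P := by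
  have hfg : IsFG k K := h.1
  have hD : mapDiv k φ = D := mapDiv_eq_of_span hfg hφ hspan fun R hle =>
    (h1 R).not_ge (have := hfg.finite_L (D - Finsupp.single R 1); Submodule.finrank_mono hle)
  refine isNonsingularAt_of_exists h hφ fun Q => ?_
  rw [hD, hspan]
  by_contra hcon
  push Not at hcon
  refine (h2 P Q).not_ge ?_
  have := hfg.finite_L (D - Finsupp.single P 1 - Finsupp.single Q 1)
  refine Submodule.finrank_mono fun v hv => hcon v (L_mono ?_ hv) hv
  exact sub_le_self _ (Finsupp.single_nonneg.2 zero_le_one)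

/-- Embedding by a divisor of degree at least `2 g + 1`. -/
theorem isNonsingularAt_of_deg_ge' (h : IsFunctionField k K) {φ : ι → K} (hφ : ∀ i, φ i ≠ 0)
    {D : Divisor k K} (hspan : Submodule.span k (Set.range φ) = L D)
    (hD : 2 * (genus k K : ℤ) + 1 ≤ D.deg) (P : Place k K) : IsNonsingularAt φ P := by
  have hfg : IsFG k K := h.1
  have hd : ∀ R : Place k K, (D - Finsupp.single R 1).deg = D.deg - 1 := fun R => by
    rw [deg_sub, deg_single, hfg.deg_eq_one R]; simp
  have hd2 : ∀ R S : Place k K, (D - Finsupp.single R 1 - Finsupp.single S 1).deg = D.deg - 2 :=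
    fun R S => by rw [deg_sub, hd, deg_single, hfg.deg_eq_one S]; simp; ring
  refine isNonsingularAt_of_ell h hφ hspan (fun R => ?_) (fun R S => ?_) P
  · have e1 := ell_eq_of_deg_ge h (D := D) (by omega)
    have e2 := ell_eq_of_deg_ge h (D := D - Finsupp.single R 1) (by rw [hd]; omega)
    rw [hd] at e2; omega
  · have e1 := ell_eq_of_deg_ge h (D := D - Finsupp.single R 1) (by rw [hd]; omega)
    have e2 := ell_eq_of_deg_ge h (D := D - Finsupp.single R 1 - Finsupp.single S 1)
      (by rw [hd2]; omega)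
    rw [hd] at e1; rw [hd2] at e2; omega

/-- The canonical embedding. -/
theorem isNonsingularAt_canonical (h : IsFunctionField k K)
    (h3 : ∀ x : K, Transcendental k x →
      2 < Module.finrank (IntermediateField.adjoin k ({x} : Set K)) K)
    {φ : ι → K} (hφ : ∀ i, φ i ≠ 0) {C : Divisor k K} (hC : IsCanonical k K C)
    (hspan : Submodule.span k (Set.range φ) = L C) (P : Place k K) : IsNonsingularAt φ P := by
  have hfg : IsFG k K := h.1
  have hsmall : ∀ E : Divisor k K, 0 ≤ E → E.deg ≤ 2 → ell E = 1 := by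
    intro E hE hdeg
    refine le_antisymm ?_ ((ell_zero h).ge.trans (hfg.ell_mono hE))
    refine le_trans ?_ (ell_zero h).le
    have := hfg.finite_L (0 : Divisor k K)
    refine Submodule.finrank_mono fun x hx => ?_
    by_cases h0 : x = 0
    · subst h0; exact zero_mem _
    by_cases halg : IsAlgebraic k x
    · intro R
      rw [show R.1 x = val R x from rfl, val_eq_one_of_isAlgebraic R halg h0]
      simp
    · exfalso
      have hle : poleDiv (k := k) x ≤ E := fun R => by
        have h1 := (mem_L_iff_ord h0).1 hx R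
        have h2 : (0 : ℤ) ≤ E R := hE R
        rw [hfg.poleDiv_apply]; omega
      have h4 := deg_mono hle
      rw [hfg.deg_poleDiv halg] at h4
      have := h3 x halg
      omega
  have hl : ∀ E : Divisor k K, 0 ≤ E → E.deg ≤ 2 →
      (ell (C - E) : ℤ) = genus k K - E.deg := by
    intro E hE hdeg
    have := riemann_roch' h hC E
    rw [hsmall E hE hdeg] at this
    have := (ell_canonical h hC).2
    omega
  have hdeg1 : ∀ R : Place k K, Divisor.deg (Finsupp.single R (1 : ℤ)) = 1 := fun R => by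
    rw [deg_single, hfg.deg_eq_one R]; simp
  have hd2 : ∀ R S : Place k K,
      Divisor.deg (Finsupp.single R (1 : ℤ) + Finsupp.single S 1) = 2 := fun R S => by
    rw [deg_add, hdeg1, hdeg1]; rfl
  refine isNonsingularAt_of_ell h hφ hspan (fun R => ?_) (fun R S => ?_) P
  · have := hl (Finsupp.single R 1) (Finsupp.single_nonneg.2 zero_le_one) (by rw [hdeg1]; omega)
    rw [hdeg1] at this
    have := (ell_canonical h hC).1
    omega
  · have := hl (Finsupp.single R 1) (Finsupp.single_nonneg.2 zero_le_one) (by rw [hdeg1]; omega)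
    rw [hdeg1] at this
    have e2 := hl (Finsupp.single R 1 + Finsupp.single S 1)
      (add_nonneg (Finsupp.single_nonneg.2 zero_le_one) (Finsupp.single_nonneg.2 zero_le_one))
      (hd2 R S).le
    rw [hd2, ← sub_sub] at e2
    omega

end Divisor

end GrothLib.FunFld
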