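import Groth.Agent.Lib.FunFld.Ext
import Groth.Agent.Lib.FunFld.Embedding
import Mathlib.RingTheory.Finiteness.Basic

/-! The conorm of divisors in a finite extension. -/

namespace GrothLib.FunFld

open _root_.FunFld WithZero

variable {k K K' : Type*} [Field k] [Field K] [Field K'] [Algebra k K] [Algebra K K'] [Algebra k K']
  [IsScalarTower k K K'] [FiniteDimensional K K']

theorem conorm_single (h : IsFG k K) (P : Place k K) (n : ℤ) :
    conorm K' (Finsupp.single P n) =
      ∑ Q ∈ ((sum_ramIdx (K' := K') h P).1).toFinset, Finsupp.single Q (n * ramIdx Q P) := by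
  classical
  rw [conorm, Finsupp.sum_single_index (by simp), dif_pos (sum_ramIdx (K' := K') h P).1,
    Finset.smul_sum]
  exact Finset.sum_congr rfl fun Q _ => by
    rw [smul_smul, Finsupp.smul_single, smul_eq_mul, mul_one]

omit [IsScalarTower k K K'] [FiniteDimensional K K'] in
theorem conorm_add (D E : Divisor k K) : conorm K' (D + E) = conorm K' D + conorm K' E :=
  Finsupp.sum_add_index' (fun P => zero_smul _ _) fun P m n => add_smul m n _

omit [IsScalarTower k K K'] [FiniteDimensional K K'] in
theorem conorm_zero : conorm K' (0 : Divisor k K) = 0 := Finsupp.sum_zero_index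

/-- The value of the conorm at a place. -/
theorem conorm_apply (h : IsFG k K) {Q : Place k K'} {P : Place k K} {e : ℕ}
    (hQ : IsOverWith Q P e) (D : Divisor k K) : conorm K' D Q = e * D P := by
  classical
  induction D using Finsupp.induction_linear with
  | zero => simp [conorm_zero]
  | add D E hD hE => rw [conorm_add, Finsupp.add_apply, hD, hE, Finsupp.add_apply]; ring
  | single R n =>
    rw [conorm_single h, Finsupp.finsetSum_apply]
    simp only [Finsupp.single_apply, Finset.sum_ite_eq', Set.Finite.mem_toFinset, Set.mem_setOf_eq]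
    by_cases hR : R = P
    · subst hR; rw [if_pos ⟨e, hQ⟩, ramIdx_eq hQ, if_pos rfl, mul_comm]
    · rw [if_neg (Ne.symm (fun hh => hR hh.symm)), mul_zero, if_neg]
      rintro ⟨e', he'⟩
      exact hR (isOverWith_unique he' hQ).1

theorem deg_conorm (h : IsFG k K) (D : Divisor k K) :
    (conorm K' D).deg = Module.finrank K K' * D.deg := by
  classical
  induction D using Finsupp.induction_linear with
  | zero => rw [conorm_zero, deg_zero]; simp [deg_zero]
  | add D E hD hE => rw [conorm_add, deg_add, hD, hE, deg_add]; ring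
  | single P n =>
    rw [conorm_single h, deg_sum, deg_single]
    simp only [deg_single]
    have h2 := (sum_ramIdx (K' := K') h P).2 ((sum_ramIdx (K' := K') h P).1).toFinset
      fun Q => Set.Finite.mem_toFinset _
    calc _ = n * ((∑ Q ∈ ((sum_ramIdx (K' := K') h P).1).toFinset, ramIdx Q P * Q.deg : ℕ) : ℤ) := by
          push_cast; rw [Finset.mul_sum]
          exact Finset.sum_congr rfl fun Q _ => by ring
      _ = _ := by rw [h2]; push_cast; ring

theorem conorm_div (h : IsFG k K) (x : K) :
    conorm K' (div k x) = div k (algebraMap K K' x) := by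
  ext Q
  obtain ⟨P, e, -, he⟩ := exists_isOverWith (K := K) Q
  rw [conorm_apply h he, h.div_apply, (isFG_extension (K := K) (K' := K') h).div_apply,
    ord_of_isOverWith he]

theorem mapDiv_algebraMap (h : IsFG k K) {ι : Type*} [Fintype ι] [Nonempty ι] (φ : ι → K) :
    mapDiv k (fun i => algebraMap K K' (φ i)) = conorm K' (mapDiv k φ) := by
  ext Q
  obtain ⟨P, e, hpos, he⟩ := exists_isOverWith (K := K) Q
  rw [conorm_apply h he, mapDiv_apply (isFG_extension (K := K) (K' := K') h), mapDiv_apply h,
    mul_neg]
  congr 1
  obtain ⟨i, -, hi⟩ := Finset.exists_mem_eq_inf' Finset.univ_nonempty fun i => P.ord (φ i)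
  refine le_antisymm ?_ ?_
  · rw [hi, ← ord_of_isOverWith he]
    exact Finset.inf'_le _ (Finset.mem_univ i)
  · refine Finset.le_inf' _ _ fun j _ => ?_
    rw [ord_of_isOverWith he]
    exact mul_le_mul_of_nonneg_left (Finset.inf'_le _ (Finset.mem_univ j)) (Int.natCast_nonneg _)

theorem conorm_conorm {K'' : Type*} [Field K''] [Algebra K' K''] [Algebra K K''] [Algebra k K'']
    [IsScalarTower k K' K''] [IsScalarTower k K K''] [IsScalarTower K K' K'']
    [FiniteDimensional K' K''] (h : IsFG k K) (D : Divisor k K) :
    conorm K'' (conorm K' D) = conorm K'' D := by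
  have : FiniteDimensional K K'' := Module.Finite.trans K' K''
  ext R
  obtain ⟨Q, e, -, he⟩ := exists_isOverWith (K := K') R
  obtain ⟨P, e', -, he'⟩ := exists_isOverWith (K := K) Q
  have hR : IsOverWith R P (e' * e) := fun x => by
    rw [IsScalarTower.algebraMap_apply K K' K'', he, he', pow_mul]
  rw [conorm_apply (isFG_extension (K := K) h) he, conorm_apply h he', conorm_apply h hR]
  push_cast; ring

/-- An embedding of function fields multiplies the degree of a map by its degree. -/
theorem deg_mapDiv_comp {k F E : Type*} [Field k] [Field F] [Field E] [Algebra k F] [Algebra k E]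
    (hF : IsFG k F) (hE : IsFunctionField k E) (f : F →ₐ[k] E) {ι : Type*} [Fintype ι] [Nonempty ι]
    (φ : ι → F) :
    (mapDiv k (f ∘ φ)).deg = Module.finrank f.fieldRange E * (mapDiv k φ).deg := by
  obtain ⟨x, hx, -⟩ := id hF
  obtain ⟨-, hfinr⟩ := isFunctionField_intermediateField hE f.fieldRange
    ⟨f x, ⟨x, rfl⟩, fun ha => hx ((isAlgebraic_algHom_iff f f.injective).1 ha)⟩
  let e : F ≃ₐ[k] f.fieldRange := AlgEquiv.ofInjectiveField f
  let _ : Algebra F E := f.toRingHom.toAlgebra
  have : IsScalarTower k F E := IsScalarTower.of_algebraMap_eq fun c => (f.commutes c).symm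
  have hc : (algebraMap F E).comp e.symm.toRingEquiv.toRingHom =
      (RingEquiv.refl E).toRingHom.comp (algebraMap f.fieldRange E) := by
    ext z
    obtain ⟨a, rfl⟩ := e.surjective z
    show f (e.symm (e a)) = (e a : E)
    rw [AlgEquiv.symm_apply_apply]; rfl
  have : FiniteDimensional F E := Module.Finite.of_equiv_equiv e.symm.toRingEquiv (RingEquiv.refl E) hc
  rw [Algebra.finrank_eq_of_equiv_equiv e.symm.toRingEquiv (RingEquiv.refl E) hc]
  exact (congrArg Divisor.deg (mapDiv_algebraMap hF φ)).trans (deg_conorm hF _)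

end GrothLib.FunFld
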