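import Groth.Agent.Lib.FunFld.Hasse
import Mathlib.RingTheory.AdicCompletion.Completeness
import Mathlib.RingTheory.Henselian
import Mathlib.FieldTheory.PrimitiveElement
import Mathlib.FieldTheory.Minpoly.Field

/-!
Existence of total Hasse derivatives with respect to a separating element.
-/

set_option autoImplicit false
set_option linter.style.haveILetI false

namespace GrothLib.FunFld

open _root_.FunFld Polynomial

variable {k K : Type*} [Field k] [Field K] [Algebra k K]

theorem exists_isHasseFamily {t : K} (ht : Transcendental k t)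
    [FiniteDimensional (IntermediateField.adjoin k ({t} : Set K)) K]
    [Algebra.IsSeparable (IntermediateField.adjoin k ({t} : Set K)) K] :
    ∃ H : K →ₐ[k] PowerSeries K, _root_.LocRes.IsHasseFamily t H := by
  classical
  set F₀ := IntermediateField.adjoin k ({t} : Set K)
  let f0 : k[X] →ₐ[k] PowerSeries K := aeval (PowerSeries.C t + PowerSeries.X)
  have hconst : ∀ p : k[X], PowerSeries.constantCoeff (f0 p) = aeval t p := by
    intro p
    induction p using Polynomial.induction_on' with
    | add p q hp hq => rw [map_add, map_add, map_add, hp, hq]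
    | monomial n c =>
      simp only [f0, aeval_monomial, map_mul, map_pow, map_add, PowerSeries.constantCoeff_C,
        PowerSeries.constantCoeff_X, add_zero, PowerSeries.algebraMap_apply]
  have hunit : ∀ y : nonZeroDivisors k[X], IsUnit (f0 y) := fun y => by
    rw [PowerSeries.isUnit_iff_constantCoeff, hconst, isUnit_iff_ne_zero]
    exact fun h => nonZeroDivisors.ne_zero y.2 (transcendental_iff.1 ht _ h)
  let g : RatFunc k →+* PowerSeries K := IsLocalization.lift (g := f0.toRingHom) hunit
  have hg : ∀ p : k[X], g (algebraMap k[X] (RatFunc k) p) = f0 p := fun p => IsLocalization.lift_eq hunit p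
  let e := RatFunc.algEquivOfTranscendental t ht
  let i0 : F₀ →+* PowerSeries K := g.comp e.symm.toRingEquiv.toRingHom
  have hi0p : ∀ p : k[X], i0 (e (algebraMap k[X] (RatFunc k) p)) = f0 p := fun p => by
    show g (e.symm (e _)) = _
    rw [AlgEquiv.symm_apply_apply, hg]
  have he : ∀ p : k[X], ((e (algebraMap k[X] (RatFunc k) p) : F₀) : K) = aeval t p := fun p => by simp [e]
  have hi0c : ∀ z : F₀, PowerSeries.constantCoeff (i0 z) = (z : K) := fun z => by
    have h : (PowerSeries.constantCoeff (R := K)).comp g = (F₀.val.comp e.toAlgHom).toRingHom := by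
      refine IsLocalization.ringHom_ext (nonZeroDivisors k[X]) (RingHom.ext fun p => ?_)
      show PowerSeries.constantCoeff (g (algebraMap k[X] (RatFunc k) p)) = _
      rw [hg, hconst]
      exact (he p).symm
    have h2 := RingHom.congr_fun h (e.symm z)
    exact h2.trans (congrArg Subtype.val (e.apply_symm_apply z))
  obtain ⟨α, hα⟩ := Field.exists_primitive_element F₀ K
  have hint : IsIntegral F₀ α := Algebra.IsIntegral.isIntegral α
  set μ := minpoly F₀ α with hμ
  have hconv : ∀ q : F₀[X], PowerSeries.constantCoeff ((q.map i0).eval (PowerSeries.C α)) = aeval α q := fun q => by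
    rw [eval_map, hom_eval₂, PowerSeries.constantCoeff_C, aeval_def]
    congr 1
    exact RingHom.ext hi0c
  obtain ⟨β, hβ, hβ0⟩ := HenselianRing.is_henselian (I := Ideal.span {(PowerSeries.X : PowerSeries K)})
    (μ.map i0) ((minpoly.monic hint).map _) (PowerSeries.C α)
    (Ideal.mem_span_singleton.2 (PowerSeries.X_dvd_iff.2 (by rw [hconv, hμ, minpoly.aeval])))
    (IsUnit.map _ (PowerSeries.isUnit_iff_constantCoeff.2 (isUnit_iff_ne_zero.2 (by
      rw [derivative_map, hconv]
      exact (Algebra.IsSeparable.isSeparable F₀ α).aeval_derivative_ne_zero (minpoly.aeval _ _)))))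
  have hβ0' : PowerSeries.constantCoeff β = α := by
    have := PowerSeries.X_dvd_iff.1 (Ideal.mem_span_singleton.1 hβ0)
    rwa [map_sub, PowerSeries.constantCoeff_C, sub_eq_zero] at this
  let π : F₀[X] →+* K := (aeval α).toRingHom
  have hπ : Function.Surjective π := fun z => by
    have hz : z ∈ Algebra.adjoin F₀ ({α} : Set K) := by
      rw [← IntermediateField.adjoin_simple_toSubalgebra_of_isAlgebraic hint.isAlgebraic, hα]
      exact IntermediateField.mem_top
    rw [Algebra.adjoin_singleton_eq_range_aeval] at hz
    exact hz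
  let Ψ : F₀[X] →+* PowerSeries K := Polynomial.eval₂RingHom i0 β
  have hker : RingHom.ker π ≤ RingHom.ker Ψ := fun q hq => by
    obtain ⟨r, rfl⟩ := minpoly.dvd F₀ α hq
    rw [RingHom.mem_ker, map_mul]
    have : Ψ μ = 0 := by
      show μ.eval₂ i0 β = 0
      rw [← eval_map]
      exact hβ
    rw [this, zero_mul]
  let H₀ := π.liftOfSurjective hπ ⟨Ψ, hker⟩
  have hH : ∀ q, H₀ (aeval α q) = Ψ q := fun q => RingHom.liftOfRightInverse_comp_apply π _ _ ⟨Ψ, hker⟩ q
  have hc : ∀ z : F₀, H₀ (z : K) = i0 z := fun z => by
    have := hH (C z)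
    rw [aeval_C] at this
    exact this.trans (eval₂_C i0 β)
  have hk : ∀ c : k, H₀ (algebraMap k K c) = algebraMap k (PowerSeries K) c := fun c => by
    have h1 := hi0p (C c)
    rw [show algebraMap k[X] (RatFunc k) (C c) = algebraMap k (RatFunc k) c by
      rw [← algebraMap_eq, ← IsScalarTower.algebraMap_apply], AlgEquiv.commutes] at h1
    rw [← show ((algebraMap k F₀ c : F₀) : K) = algebraMap k K c from rfl, hc, h1]
    exact aeval_C _ c
  refine ⟨{ H₀ with commutes' := hk }, ?_, fun y => ?_⟩
  · show H₀ t = _
    have h1 := hi0p X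
    rw [show f0 X = PowerSeries.C t + PowerSeries.X from aeval_X _] at h1
    rw [← h1, ← hc, he, aeval_X]
  · obtain ⟨q, rfl⟩ := hπ y
    show PowerSeries.constantCoeff (H₀ (aeval α q)) = aeval α q
    rw [hH]
    show PowerSeries.constantCoeff (q.eval₂ i0 β) = _
    rw [hom_eval₂, hβ0', aeval_def]
    congr 1
    exact RingHom.ext hi0c

end GrothLib.FunFld
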