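import Groth.Agent.Lib.FunFld.Orders

/-!
Orders and Wronskians of a rescaled tuple.
-/

set_option autoImplicit false
set_option linter.style.haveILetI false

namespace GrothLib.FunFld

open _root_.FunFld

variable {k K : Type*} [Field k] [Field K] [Algebra k K] {n : ℕ} {φ : Fin (n + 1) → K} {τ : K →ₐ[k] K}
  {s : K} {H : K →ₐ[k] PowerSeries K}

theorem hcol_smul_sub_mem (hH : _root_.LocRes.IsHasseFamily s H) (y : K) (j : ℕ) :
    hcol τ H (y • φ) (j + 1) - y • hcol τ H φ (j + 1) ∈
      Submodule.span K (hcol τ H φ '' Set.Iio (j + 1)) := by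
  classical
  have h : hcol τ H (y • φ) (j + 1) - y • hcol τ H φ (j + 1) =
      ∑ x ∈ (Finset.HasAntidiagonal.antidiagonal j).erase (0, j),
        _root_.LocRes.hasseD H x.1 y • hcol τ H φ (x.2 + 1) := by
    funext i
    simp only [Pi.sub_apply, Pi.smul_apply, Finset.sum_apply, smul_eq_mul, hcol]
    rw [hasseD_mul, ← Finset.add_sum_erase _ _ (show (0, j) ∈ Finset.HasAntidiagonal.antidiagonal j by simp),
      hasseD_zero hH, add_sub_cancel_left]
  rw [h]
  refine Submodule.sum_mem _ fun x hx => Submodule.smul_mem _ _ (Submodule.subset_span ⟨x.2 + 1, ?_, rfl⟩)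
  obtain ⟨hne, hx⟩ := Finset.mem_erase.1 hx
  rw [Finset.HasAntidiagonal.mem_antidiagonal] at hx
  have : x.1 ≠ 0 := fun h0 => hne (by ext <;> simp <;> omega)
  simp only [Set.mem_Iio]; omega

theorem span_hcol_smul_le (hH : _root_.LocRes.IsHasseFamily s H) (y : K) (m : ℕ) :
    Submodule.span K (hcol τ H (y • φ) '' Set.Iio m) ≤ Submodule.span K (hcol τ H φ '' Set.Iio m) := by
  rw [Submodule.span_le]
  rintro _ ⟨i, hi, rfl⟩
  rcases i with _ | i
  · have : hcol τ H (y • φ) 0 = τ y • hcol τ H φ 0 := funext fun i => by simp [hcol]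
    rw [this]
    exact Submodule.smul_mem _ _ (Submodule.subset_span ⟨0, hi, rfl⟩)
  · rw [← sub_add_cancel (hcol τ H (y • φ) (i + 1)) (y • hcol τ H φ (i + 1))]
    refine add_mem ?_ (Submodule.smul_mem _ _ (Submodule.subset_span ⟨i + 1, hi, rfl⟩))
    exact Submodule.span_mono (Set.image_mono (Set.Iio_subset_Iio (Nat.le_of_lt hi)))
      (hcol_smul_sub_mem hH y i)

theorem span_hcol_smul_eq (hH : _root_.LocRes.IsHasseFamily s H) {y : K} (hy : y ≠ 0) (m : ℕ) :
    Submodule.span K (hcol τ H (y • φ) '' Set.Iio m) = Submodule.span K (hcol τ H φ '' Set.Iio m) := by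
  refine le_antisymm (span_hcol_smul_le hH y m) ?_
  have h := span_hcol_smul_le (τ := τ) (φ := y • φ) hH y⁻¹ m
  rwa [inv_smul_smul₀ hy] at h

theorem isOrders_smul (hH : _root_.LocRes.IsHasseFamily s H) {y : K} (hy : y ≠ 0) (J : Fin n → ℕ) :
    IsOrders K (hcol τ H (y • φ)) J ↔ IsOrders K (hcol τ H φ) J :=
  and_congr_right fun _ => forall_congr' fun j =>
    iff_congr Iff.rfl (isJump_congr (fun m => span_hcol_smul_eq hH hy m) (j + 1))

theorem det_wrMat_smul (hH : _root_.LocRes.IsHasseFamily s H) (hφ : LinearIndependent k φ) (y : K)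
    {J : Fin n → ℕ} (hJ : IsOrders K (hcol τ H φ) J) :
    (wrMat τ H (y • φ) J).det = τ y * y ^ n * (wrMat τ H φ J).det := by
  classical
  let d : Fin (n + 1) → K := Fin.cons (τ y) fun _ => y
  have hcol' : ∀ a, ∃ cf : Fin (n + 1) → K, (∀ b, ¬ b < a → cf b = 0) ∧
      hcol τ H (y • φ) (sel J a) = d a • hcol τ H φ (sel J a) + ∑ b, cf b • hcol τ H φ (sel J b) := by
    intro a
    refine Fin.cases ⟨fun _ => 0, fun _ _ => rfl, ?_⟩ (fun l => ?_) a
    · funext i; simp [d, sel, hcol]
    have h1 := hcol_smul_sub_mem (τ := τ) (φ := φ) hH y (J l)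
    rw [← span_jumps, ← range_sel _ hJ (hcol_zero_ne_zero hφ)] at h1
    have h2 : hcol τ H (y • φ) (J l + 1) - y • hcol τ H φ (J l + 1) ∈
        Submodule.span K ((fun b => hcol τ H φ (sel J b)) '' Set.Iio l.succ) := by
      refine Submodule.span_mono ?_ h1
      rintro _ ⟨_, ⟨⟨b, rfl⟩, hb⟩, rfl⟩
      refine ⟨b, ?_, rfl⟩
      simp only [Set.mem_Iio] at hb ⊢
      exact (strictMono_sel hJ.1).lt_iff_lt.mp (by simpa [sel] using hb)
    obtain ⟨cf, hcf, hcf'⟩ := (Finsupp.mem_span_image_iff_linearCombination K).mp h2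
    refine ⟨cf, fun b hb => by
      by_contra hne
      exact hb (Finsupp.mem_supported K cf |>.mp hcf (Finsupp.mem_support_iff.mpr hne)), ?_⟩
    rw [Finsupp.linearCombination_apply, Finsupp.sum_fintype _ _ (by simp)] at hcf'
    simp only [d, sel, Fin.cons_succ] at hcf' ⊢
    rw [hcf']
    abel
  choose cf hcf0 hcf using hcol'
  let M : Matrix (Fin (n + 1)) (Fin (n + 1)) K := Matrix.of fun b a => (if b = a then d a else 0) + cf a b
  have hM : wrMat τ H (y • φ) J = wrMat τ H φ J * M := by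
    ext i a
    rw [Matrix.mul_apply, wrMat_col, hcf]
    simp only [Pi.add_apply, Pi.smul_apply, Finset.sum_apply, smul_eq_mul, M, Matrix.of_apply,
      wrMat_col, mul_add, Finset.sum_add_distrib, mul_ite, mul_zero, Finset.sum_ite_eq', Finset.mem_univ,
      if_true]
    rw [mul_comm (d a)]
    exact congrArg (_ + ·) (Finset.sum_congr rfl fun b _ => mul_comm _ _)
  rw [hM, Matrix.det_mul, mul_comm]
  congr 1
  rw [Matrix.det_of_upperTriangular]
  · simp only [M, Matrix.of_apply, if_true, hcf0 _ _ (lt_irrefl _), add_zero]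
    rw [Fin.prod_univ_succ]
    simp [d]
  · intro b a hab
    simp only [id_eq] at hab
    simp [M, (ne_of_gt hab : b ≠ a), hcf0 a b (not_lt_of_gt hab)]

end GrothLib.FunFld
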