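import Groth.Agent.Lib.FunFld.WronskianLocal
import Groth.Agent.Lib.FunFld.OrdersScale
import Groth.Agent.Lib.FunFld.HasseExists
import Groth.Agent.Lib.FunFld.Embedding
import Groth.Agent.Lib.FunFld.Conorm
import Groth.Agent.Lib.LocRes.ResidueTheorem

/-!
The Weierstrass divisor: local description, invariance, positivity, degree.
-/

set_option autoImplicit false
set_option linter.style.haveILetI false

namespace GrothLib.FunFld

open _root_.FunFld

variable {k K : Type*} [Field k] [Field K] [Algebra k K]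

theorem mapDiv_le_of_span_le (h : IsFG k K) {ι κ : Type*} [Fintype ι] [Nonempty ι] [Fintype κ] [Nonempty κ]
    {φ : ι → K} {ψ : κ → K} (hφ : ∀ i, φ i ≠ 0) (hψ : ∀ i, ψ i ≠ 0)
    (hle : ∀ i, φ i ∈ Submodule.span k (Set.range ψ)) (P : Place k K) : mapDiv k φ P ≤ mapDiv k ψ P := by
  obtain ⟨j, hj⟩ := exists_isLead ⟨Classical.arbitrary ι, hφ _⟩ P
  have h1 := span_le_L_mapDiv h hψ (hle j) P
  rw [show P.1 (φ j) = val P (φ j) from rfl, hj.val_eq_mapDiv h hφ, WithZero.exp_le_exp] at h1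
  exact h1

theorem mapDiv_eq_of_span_eq (h : IsFG k K) {ι κ : Type*} [Fintype ι] [Nonempty ι] [Fintype κ] [Nonempty κ]
    {φ : ι → K} {ψ : κ → K} (hφ : ∀ i, φ i ≠ 0) (hψ : ∀ i, ψ i ≠ 0)
    (he : Submodule.span k (Set.range φ) = Submodule.span k (Set.range ψ)) : mapDiv k φ = mapDiv k ψ :=
  Finsupp.ext fun P => le_antisymm
    (mapDiv_le_of_span_le h hφ hψ (fun i => he ▸ Submodule.subset_span ⟨i, rfl⟩) P)
    (mapDiv_le_of_span_le h hψ hφ (fun i => he.symm ▸ Submodule.subset_span ⟨i, rfl⟩) P)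

theorem mapDiv_smul_apply (h : IsFG k K) {ι : Type*} [Fintype ι] [Nonempty ι] {φ : ι → K}
    (hφ : ∀ i, φ i ≠ 0) {y : K} (hy : y ≠ 0) (P : Place k K) :
    mapDiv k (y • φ) P = mapDiv k φ P - P.ord y := by
  obtain ⟨j, hj⟩ := exists_isLead ⟨Classical.arbitrary ι, hφ _⟩ P
  have hj' : IsLead (y • φ) P j := ⟨mul_ne_zero hy hj.1, fun i => by
    simp only [Pi.smul_apply, smul_eq_mul, map_mul]
    exact mul_le_mul' le_rfl (hj.2 i)⟩
  have h1 := hj'.val_eq_mapDiv h (φ := y • φ) fun i => mul_ne_zero hy (hφ i)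
  rw [Pi.smul_apply, smul_eq_mul, map_mul, hj.val_eq_mapDiv h hφ, val_eq P hy, ← WithZero.exp_add,
    WithZero.exp_inj] at h1
  omega

theorem mapDiv_eq_zero_of_normalised (h : IsFG k K) {ι : Type*} [Fintype ι] [Nonempty ι] {φ : ι → K}
    (hφ : ∀ i, φ i ≠ 0) {P : Place k K} (heff : (1 : K) ∈ Submodule.span k (Set.range φ))
    (hnorm : ∀ i, val P (φ i) ≤ 1) : mapDiv k φ P = 0 := by
  obtain ⟨j, hj⟩ := exists_isLead ⟨Classical.arbitrary ι, hφ _⟩ P
  have h1 := hj.val_eq_mapDiv h hφ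
  have h2 := hnorm j
  rw [h1, ← WithZero.exp_zero, WithZero.exp_le_exp] at h2
  have h3 := span_le_L_mapDiv h hφ heff P
  rw [map_one, ← WithZero.exp_zero, WithZero.exp_le_exp] at h3
  omega

theorem linearIndependent_smul {n : ℕ} {φ : Fin (n + 1) → K} (hφ : LinearIndependent k φ) {y : K} (hy : y ≠ 0) :
    LinearIndependent k (y • φ) := by
  rw [Fintype.linearIndependent_iff] at hφ ⊢
  intro g hg i
  refine hφ g ?_ i
  refine (mul_eq_zero.1 (show y * ∑ i, g i • φ i = 0 from ?_)).resolve_left hy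
  rw [← hg, Finset.mul_sum]
  exact Finset.sum_congr rfl fun i _ => by rw [Pi.smul_apply, smul_eq_mul, mul_smul_comm]

theorem linearIndependent_map {n : ℕ} {φ : Fin (n + 1) → K} (hφ : LinearIndependent k φ) (τ : K →ₐ[k] K) :
    LinearIndependent k (τ ∘ φ) :=
  hφ.map' τ.toLinearMap (LinearMap.ker_eq_bot.2 τ.toRingHom.injective)

theorem val_det_le_one {ι : Type*} [Fintype ι] [DecidableEq ι] (P : Place k K) {M : Matrix ι ι K}
    (h : ∀ i j, val P (M i j) ≤ 1) : val P M.det ≤ 1 := by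
  let N : Matrix ι ι P.O := Matrix.of fun i j => ⟨M i j, h i j⟩
  have : M.det = ((N.det : P.O) : K) := by
    rw [show ((N.det : P.O) : K) = P.O.subtype N.det from rfl, RingHom.map_det]
    rfl
  rw [this]
  exact N.det.2

variable [IsAlgClosed k]

theorem val_hasseD_le_one' (hK : IsFunctionField k K) {P : Place k K} {t : K}
    (ht : val P t = WithZero.exp (-1)) {Ht : K →ₐ[k] PowerSeries K} (hHt : _root_.LocRes.IsHasseFamily t Ht)
    {x : K} (hx : val P x ≤ 1) (j : ℕ) : val P (_root_.LocRes.hasseD Ht j x) ≤ 1 := by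
  obtain ⟨ψ, hψ, hψt⟩ := exists_expansion_closed hK.1 ht
  exact val_hasseD_le_one hK.1 (isGeometric_of_perfectField hK) hψ hψt hHt hx j

/-- Every place has a parameter with a Hasse family. -/
theorem exists_parameter_hasse (hK : IsFunctionField k K) (P : Place k K) :
    ∃ (t : K) (Ht : K →ₐ[k] PowerSeries K), val P t = WithZero.exp (-1) ∧ _root_.LocRes.IsHasseFamily t Ht := by
  obtain ⟨t, ht0, ht⟩ := exists_val_eq P (-1)
  obtain ⟨ψ, hψ, -⟩ := exists_expansion_closed hK.1 ht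
  have htr : Transcendental k t := transcendental_of_val_ne_one P ht0 (by
    rw [ht, ← WithZero.exp_zero, Ne, WithZero.exp_inj]; omega)
  haveI := hK.1
  haveI := IsFG.finiteDimensional_adjoin hK.1 htr
  haveI := (isSeparable_iff_D_ne_zero hK.1 (isGeometric_of_perfectField hK) t).2
    (GrothLib.LocRes.D_ne_zero_of_val_eq hψ ht)
  obtain ⟨H, hH⟩ := exists_isHasseFamily htr
  exact ⟨t, H, ht, hH⟩

/-- The order of `ds` read through any expansion is the order of `ds/dt`. -/
theorem ordDiff_one_eq_ord (hK : IsFunctionField k K) {P : Place k K} {t s : K} {Ht H : K →ₐ[k] PowerSeries K}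
    (ht : val P t = WithZero.exp (-1)) (hHt : _root_.LocRes.IsHasseFamily t Ht)
    (hH : _root_.LocRes.IsHasseFamily s H) {ψ : K →ₐ[k] LaurentSeries k}
    (hψ : _root_.LocRes.IsExpansionAt P.1 ψ) :
    _root_.LocRes.hasseD Ht 1 s ≠ 0 ∧
      _root_.LocRes.ordDiff ψ 1 s = P.ord (_root_.LocRes.hasseD Ht 1 s) := by
  have hg := isGeometric_of_perfectField hK
  obtain ⟨c, hc⟩ := GrothLib.LocRes.exists_D_eq hK.1 hg (D_self_ne_zero hHt) s
  let d : Derivation k K K := Derivation.mk'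
    { toFun := fun y => PowerSeries.coeff 1 (Ht y)
      map_add' := fun a b => by rw [map_add, map_add]
      map_smul' := fun a y => by rw [map_smul, PowerSeries.coeff_smul, RingHom.id_apply] }
    fun a b => by
      show PowerSeries.coeff 1 (Ht (a * b)) = a * PowerSeries.coeff 1 (Ht b) + b * PowerSeries.coeff 1 (Ht a)
      rw [map_mul, PowerSeries.coeff_mul, Finset.Nat.sum_antidiagonal_eq_sum_range_succ_mk,
        Finset.sum_range_succ, Finset.sum_range_succ, Finset.sum_range_zero]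
      simp only [PowerSeries.coeff_zero_eq_constantCoeff_apply, Nat.sub_self, Nat.sub_zero, hHt.2, zero_add]
      ring
  have hc1 : c = _root_.LocRes.hasseD Ht 1 s := by
    have h2 := congrArg d.liftKaehlerDifferential hc
    rw [map_smul, Derivation.liftKaehlerDifferential_comp_D, Derivation.liftKaehlerDifferential_comp_D] at h2
    change c * PowerSeries.coeff 1 (Ht t) = PowerSeries.coeff 1 (Ht s) at h2
    rw [← _root_.LocRes.hasseD_apply, ← _root_.LocRes.hasseD_apply, hasseD_one_self hHt, mul_one] at h2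
    exact h2
  subst hc1
  have hc0 : _root_.LocRes.hasseD Ht 1 s ≠ 0 := fun h0 => D_self_ne_zero hH (by rw [← hc, h0, zero_smul])
  refine ⟨hc0, ?_⟩
  have hv1 : Valued.v (_root_.LocRes.D k (ψ t)) = 1 := by
    have hvt : Valued.v (ψ t) = WithZero.exp (-1) := by rw [hψ.1]; exact ht
    have hlow : ∀ a < (1 : ℤ), (ψ t).coeff a = 0 :=
      (LaurentSeries.valuation_le_iff_coeff_lt_eq_zero k).1 hvt.le
    have hne : (ψ t).coeff 1 ≠ 0 := fun h0 => by
      have : Valued.v (ψ t) ≤ WithZero.exp (-(2 : ℤ)) := by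
        rw [LaurentSeries.valuation_le_iff_coeff_lt_eq_zero]
        intro a ha
        rcases lt_or_eq_of_le (show a ≤ 1 by omega) with h | rfl
        · exact hlow a h
        · exact h0
      rw [hvt, WithZero.exp_le_exp] at this
      omega
    refine le_antisymm ?_ (not_lt.1 fun hlt => ?_)
    · rw [← WithZero.exp_zero, show (0 : ℤ) = -0 by ring, LaurentSeries.valuation_le_iff_coeff_lt_eq_zero]
      intro a ha
      rw [_root_.LocRes.D_coeff, hlow _ (by omega), smul_zero]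
    · rw [← WithZero.exp_zero, ← le_exp_sub_one_iff, show (0 : ℤ) - 1 = -1 by ring,
        LaurentSeries.valuation_le_iff_coeff_lt_eq_zero] at hlt
      have := hlt 0 (by omega)
      rw [_root_.LocRes.D_coeff, zero_add, one_smul] at this
      exact hne this
  have hvt : _root_.LocRes.vDiff ψ 1 t = 1 := by rw [_root_.LocRes.vDiff, map_one, one_mul]; exact hv1
  rw [GrothLib.LocRes.ordDiff_one_eq ψ hc (by rw [hψ.1]; exact (val P).ne_zero_iff.2 hc0)
    (by rw [hvt]; exact one_ne_zero), _root_.LocRes.ordDiff, hvt, hψ.1]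
  simp [Place.ord]

theorem divDiff_spec (hK : IsFunctionField k K) {s : K} {H : K →ₐ[k] PowerSeries K}
    (hH : _root_.LocRes.IsHasseFamily s H) {Φ : Place k K → (K →ₐ[k] LaurentSeries k)}
    (hΦ : ∀ P : Place k K, _root_.LocRes.IsExpansionAt P.1 (Φ P)) :
    (∀ P, divDiff Φ 1 s P = _root_.LocRes.ordDiff (Φ P) 1 s) ∧ IsCanonical k K (divDiff Φ 1 s) := by
  classical
  have hg := isGeometric_of_perfectField hK
  obtain ⟨ω, hW, hs, -⟩ := GrothLib.LocRes.exists_weil_mul (F := fun _ : Place k K => k) hΦ hK hg 1 s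
  obtain ⟨h0, hdiv⟩ := GrothLib.LocRes.isDivOf_eq_ordDiff (F := fun _ : Place k K => k) hΦ hK hg one_ne_zero
    (D_self_ne_zero hH) hs
  obtain ⟨C, hC⟩ := exists_isDivOf' hK hW h0
  have hfin : (Function.support fun P : Place k K => _root_.LocRes.ordDiff (Φ P) 1 s).Finite :=
    C.finite_support.subset fun P hP => by rw [Function.mem_support, hdiv C hC P]; exact hP
  have happ : ∀ P, divDiff Φ 1 s P = _root_.LocRes.ordDiff (Φ P) 1 s := fun P => by
    rw [divDiff, dif_pos hfin]; rfl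
  refine ⟨happ, ω, h0, ?_⟩
  rwa [show divDiff Φ 1 s = C from Finsupp.ext fun P => (happ P).trans (hdiv C hC P).symm]

variable {n : ℕ} {φ : Fin (n + 1) → K} {τ : K →ₐ[k] K} {s : K} {H : K →ₐ[k] PowerSeries K} {J : Fin n → ℕ}
  {Φ : Place k K → (K →ₐ[k] LaurentSeries k)}

theorem det_wrMat_ne_zero (hK : IsFunctionField k K) (hH : _root_.LocRes.IsHasseFamily s H)
    (hφ : LinearIndependent k φ) (hJ : IsOrders K (hcol τ H φ) J) : (wrMat τ H φ J).det ≠ 0 :=
  (det_wrMat_ne_zero_iff J).2 (linearIndependent_sel (R := K) _ hJ (hcol_zero_ne_zero hφ))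

/-- The Weierstrass divisor at `P`, computed with any parameter and any rescaling. -/
theorem wDiv_apply_eq (hK : IsFunctionField k K) (hφ : LinearIndependent k φ)
    (hH : _root_.LocRes.IsHasseFamily s H) (hJ : IsOrders K (hcol τ H φ) J)
    (hΦ : ∀ P : Place k K, _root_.LocRes.IsExpansionAt P.1 (Φ P)) {y : K} (hy : y ≠ 0) {P : Place k K}
    {t : K} (ht : val P t = WithZero.exp (-1)) {Ht : K →ₐ[k] PowerSeries K}
    (hHt : _root_.LocRes.IsHasseFamily t Ht) :
    IsOrders K (hcol τ Ht (y • φ)) J ∧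
    wDiv τ H Φ s φ J P =
      P.ord (wrMat τ Ht (y • φ) J).det + mapDiv k (τ ∘ (y • φ)) P + (n : ℤ) * mapDiv k (y • φ) P := by
  have hg := isGeometric_of_perfectField hK
  have hne : ∀ i, φ i ≠ 0 := fun i => hφ.ne_zero i
  have hτy : τ y ≠ 0 := (map_ne_zero τ).2 hy
  have hJy : IsOrders K (hcol τ H (y • φ)) J := (isOrders_smul hH hy J).2 hJ
  refine ⟨(isOrders_change hH hHt hK.1 hg J).2 hJy, ?_⟩
  obtain ⟨hc0, hord⟩ := ordDiff_one_eq_ord hK ht hHt hH (hΦ P)
  have hdet : (wrMat τ Ht (y • φ) J).det =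
      _root_.LocRes.hasseD Ht 1 s ^ (∑ l, J l) * (τ y * y ^ n * (wrMat τ H φ J).det) := by
    rw [det_wrMat_change hH hHt hK.1 hg (linearIndependent_smul hφ hy) hJy, det_wrMat_smul hH hφ y hJ]
  have hd0 := det_wrMat_ne_zero hK hH hφ hJ
  have hcomp : τ ∘ (y • φ) = τ y • (τ ∘ φ) := funext fun i => by simp
  rw [hdet, hcomp, mapDiv_smul_apply hK.1 (φ := τ ∘ φ) (fun i => (map_ne_zero τ).2 (hne i)) hτy,
    mapDiv_smul_apply hK.1 hne hy, ord_mul P (pow_ne_zero _ hc0) (mul_ne_zero (mul_ne_zero hτy (pow_ne_zero _ hy)) hd0),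
    ord_mul P (mul_ne_zero hτy (pow_ne_zero _ hy)) hd0, ord_mul P hτy (pow_ne_zero _ hy), ord_pow, ord_pow]
  simp only [wDiv, Finsupp.add_apply, Finsupp.smul_apply, smul_eq_mul, hK.1 |> fun h => IsFG.div_apply h,
    (divDiff_spec hK hH hΦ).1 P, hord]
  push_cast
  ring

/-- A normalisation at a place. -/
theorem exists_normalisation (hφ : LinearIndependent k φ) (P : Place k K) :
    ∃ y : K, y ≠ 0 ∧ LinearIndependent k (y • φ) ∧ (1 : K) ∈ Submodule.span k (Set.range (y • φ)) ∧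
      ∀ i, val P ((y • φ) i) ≤ 1 := by
  obtain ⟨j, hj⟩ := exists_isLead ⟨0, hφ.ne_zero 0⟩ P
  refine ⟨(φ j)⁻¹, inv_ne_zero hj.1, linearIndependent_smul hφ (inv_ne_zero hj.1),
    Submodule.subset_span ⟨j, by simp [hj.1]⟩, fun i => ?_⟩
  rw [Pi.smul_apply, smul_eq_mul, mul_comm, ← div_eq_mul_inv]
  exact (isLead_iff.1 hj).2 i

/-- The Weierstrass divisor is effective. -/
theorem wDiv_nonneg (hK : IsFunctionField k K) (hφ : LinearIndependent k φ)
    (hH : _root_.LocRes.IsHasseFamily s H) (hJ : IsOrders K (hcol τ H φ) J)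
    (hΦ : ∀ P : Place k K, _root_.LocRes.IsExpansionAt P.1 (Φ P)) : 0 ≤ wDiv τ H Φ s φ J := by
  classical
  intro P
  show (0 : ℤ) ≤ _
  obtain ⟨t, Ht, ht, hHt⟩ := exists_parameter_hasse hK P
  obtain ⟨y, hy, hli, heff, hnorm⟩ := exists_normalisation hφ P
  obtain ⟨hJ', he⟩ := wDiv_apply_eq hK hφ hH hJ hΦ hy ht hHt
  rw [he, mapDiv_eq_zero_of_normalised hK.1 (fun i => hli.ne_zero i) heff hnorm, mul_zero, add_zero]
  have hd0 := det_wrMat_ne_zero hK hHt hli hJ'
  have hτli := linearIndependent_map hli τ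
  have hb : val P (wrMat τ Ht (y • φ) J).det ≤ WithZero.exp (mapDiv k (τ ∘ (y • φ)) P) := by
    rw [Matrix.det_succ_column_zero]
    refine (val P).map_sum_le fun r _ => ?_
    rw [map_mul, map_mul, map_pow, Valuation.map_neg, map_one, one_pow, one_mul]
    refine (mul_le_of_le_one_right' (val_det_le_one P fun a b => ?_)).trans ?_
    · simp only [Matrix.submatrix_apply, wrMat, Matrix.of_apply, Fin.cases_succ]
      exact val_hasseD_le_one' hK ht hHt (hnorm _) _
    · simp only [wrMat, Matrix.of_apply, Fin.cases_zero]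
      exact val_le_exp_mapDiv hK.1 (fun i => hτli.ne_zero i) P r
  rw [val_eq P hd0, WithZero.exp_le_exp] at hb
  omega

theorem deg_smul' (c : ℤ) (D : Divisor k K) : (c • D).deg = c * D.deg := by
  rw [deg_eq_degHom, Finsupp.sum_smul_index (fun P => by simp), deg_eq_degHom, Finsupp.mul_sum]
  exact Finsupp.sum_congr fun P _ => by ring

/-- The degree of the Weierstrass divisor. -/
theorem deg_wDiv (hK : IsFunctionField k K)
    (hH : _root_.LocRes.IsHasseFamily s H)
    (hΦ : ∀ P : Place k K, _root_.LocRes.IsExpansionAt P.1 (Φ P)) :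
    (wDiv τ H Φ s φ J).deg =
      ((Module.finrank τ.fieldRange K : ℤ) + n) * (mapDiv k φ).deg +
        (2 * (genus k K : ℤ) - 2) * ∑ l, (J l : ℤ) := by
  simp only [wDiv, deg_add, deg_smul', IsFG.deg_div hK.1, deg_mapDiv_comp hK.1 hK τ,
    (ell_canonical hK (divDiff_spec hK hH hΦ).2).2]
  ring

/-- The orders at a place exist. -/
theorem exists_isOrders_at (hK : IsFunctionField k K) (hφ : LinearIndependent k φ) {P : Place k K} {t : K}
    (ht : val P t = WithZero.exp (-1)) {Ht : K →ₐ[k] PowerSeries K} (hHt : _root_.LocRes.IsHasseFamily t Ht)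
    (heff : (1 : K) ∈ Submodule.span k (Set.range φ)) (hnorm : ∀ i, val P (φ i) ≤ 1) :
    ∃ J' : Fin n → ℕ, IsOrders (IsLocalRing.ResidueField P.O) (hcolAt P Ht φ) J' := by
  classical
  obtain ⟨ψ, hψ, hψt⟩ := exists_expansion_closed hK.1 ht
  let κ := IsLocalRing.ResidueField P.O
  have hkill : ∀ L : Module.Dual κ (Fin (n + 1) → κ), (∀ m, L (hcolAt P Ht φ m) = 0) → L = 0 := by
    intro L hL
    choose c hc using fun i => residue_surj hK.1 P (L (Pi.single i 1))
    have hy : ∑ i, c i • φ i = 0 := by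
      refine (map_eq_zero ψ).1 ?_
      ext a
      rw [HahnSeries.coeff_zero]
      rcases lt_or_ge a 0 with ha | ha
      · refine (val_le_iff_coeff hψ _ 0).1 ?_ a ha
        rw [neg_zero, WithZero.exp_zero]
        exact (val P).map_sum_le fun i _ => by
          rw [Algebra.smul_def, map_mul]; exact mul_le_one' (P.2.1 _) (hnorm i)
      obtain ⟨m, rfl⟩ := Int.eq_ofNat_of_zero_le ha
      refine (algebraMap k κ).injective ?_
      rw [map_zero, ← hL (m + 1)]
      conv_rhs => rw [pi_eq_sum_univ' (hcolAt P Ht φ (m + 1))]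
      rw [map_sum, map_sum, HahnSeries.coeff_sum, map_sum]
      refine Finset.sum_congr rfl fun i _ => ?_
      rw [coeff_smul_map, map_mul, map_smul, ← hc i, hcolAt_succ_eq hK hψ hψt hHt hnorm, smul_eq_mul, mul_comm]
    refine LinearMap.pi_ext' fun i => LinearMap.ext_ring ?_
    show L (Pi.single i 1) = 0
    rw [← hc i, Fintype.linearIndependent_iff.1 hφ c hy i, map_zero]
  refine exists_isOrders (n := n) _ (fun h0 => ?_) ?_ (by simp)
  · obtain ⟨c, hc⟩ := (Submodule.mem_span_range_iff_exists_fun k).1 heff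
    have h1 : Fintype.linearCombination κ (fun i => algebraMap k κ (c i)) (hcolAt P Ht φ 0) = 0 := by
      rw [h0, map_zero]
    rw [Fintype.linearCombination_apply] at h1
    have h2 : ∑ i, hcolAt P Ht φ 0 i • algebraMap k κ (c i) = algebraMap k κ ((ψ 1).coeff 0) := by
      rw [← hc, map_sum, HahnSeries.coeff_sum, map_sum]
      refine Finset.sum_congr rfl fun i _ => ?_
      rw [coeff_smul_map, map_mul, show hcolAt P Ht φ 0 i = evalP P (φ i) from rfl, evalP_eq_coeff hψ (hnorm i),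
        smul_eq_mul, mul_comm]
    rw [h1] at h2
    simp at h2
  · by_contra hne
    obtain ⟨x, -, hx⟩ := SetLike.exists_of_lt (lt_top_iff_ne_top.2 hne)
    obtain ⟨L, hL, hker⟩ := Submodule.exists_dual_map_eq_bot_of_notMem hx inferInstance
    rw [← LinearMap.le_ker_iff_map] at hker
    rw [hkill L fun m => hker (Submodule.subset_span ⟨m, rfl⟩)] at hL
    exact hL rfl

/-- A lower bound for the Weierstrass divisor at a fixed place, with the case of equality. -/
theorem sum_sub_le_wDiv (hK : IsFunctionField k K) (hφ : LinearIndependent k φ) {P : Place k K}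
    (hP : IsFixedPt τ P) (heff : (1 : K) ∈ Submodule.span k (Set.range φ)) (hnorm : ∀ i, val P (φ i) ≤ 1)
    {t : K} (ht : val P t = WithZero.exp (-1)) {Ht : K →ₐ[k] PowerSeries K}
    (hHt : _root_.LocRes.IsHasseFamily t Ht) (hJ : IsOrders K (hcol τ Ht φ) J) {J' : Fin n → ℕ}
    (hJ' : IsOrders (IsLocalRing.ResidueField P.O) (hcolAt P Ht φ) J')
    (hΦ : ∀ P : Place k K, _root_.LocRes.IsExpansionAt P.1 (Φ P)) :
    wDiv τ Ht Φ t φ J P = P.ord (wrMat τ Ht φ J).det ∧
    (∑ l, ((J' l : ℤ) - J l)) ≤ wDiv τ Ht Φ t φ J P ∧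
    ((τ = AlgHom.id k K ∨ IsStrongFixedPt τ P) →
      (wDiv τ Ht Φ t φ J P = ∑ l, ((J' l : ℤ) - J l) ↔ (binomMat k J' J).det ≠ 0)) := by
  obtain ⟨-, he⟩ := wDiv_apply_eq hK hφ hHt hJ hΦ one_ne_zero ht hHt
  rw [one_smul] at he
  have hne : ∀ i, φ i ≠ 0 := fun i => hφ.ne_zero i
  have hint : ∀ x, val P x ≤ 1 → val P (τ x) ≤ 1 := fun x hx => by
    obtain ⟨c, hc⟩ := exists_residue hK.1 P hx
    have h1 : val P (τ (x - algebraMap k K c)) < 1 := hP _ hc
    rw [map_sub, AlgHom.commutes] at h1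
    have h2 := (val P).map_add (τ x - algebraMap k K c) (algebraMap k K c)
    rw [sub_add_cancel] at h2
    exact h2.trans (max_le h1.le (P.2.1 c))
  have hτ1 : (1 : K) ∈ Submodule.span k (Set.range (τ ∘ φ)) := by
    obtain ⟨c, hc⟩ := (Submodule.mem_span_range_iff_exists_fun k).1 heff
    exact (Submodule.mem_span_range_iff_exists_fun k).2 ⟨c, by
      rw [← map_one τ, ← hc, map_sum]
      exact Finset.sum_congr rfl fun i _ => (map_smul τ _ _).symm⟩
  rw [mapDiv_eq_zero_of_normalised hK.1 hne heff hnorm,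
    mapDiv_eq_zero_of_normalised hK.1 (φ := τ ∘ φ) (fun i => (map_ne_zero τ).2 (hne i)) hτ1 (fun i => hint _ (hnorm i)),
    mul_zero, add_zero, add_zero] at he
  obtain ⟨hle, hiff⟩ := val_det_wrMat hK hP hφ heff hnorm ht hHt hJ' J
  have hd0 := det_wrMat_ne_zero hK hHt hφ hJ
  rw [val_eq P hd0, WithZero.exp_le_exp] at hle
  refine ⟨he, by rw [he]; omega, fun hcase => ?_⟩
  rw [val_eq P hd0, WithZero.exp_inj, neg_inj] at hiff
  rw [he]
  refine hiff (hcase.imp (fun hid l => ?_) id)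
  subst hid
  by_contra h0
  have hj : IsJump K (hcol (AlgHom.id k K) Ht φ) (0 + 1) := (hJ.2 0).1 ⟨l, by omega⟩
  exact hj (Submodule.subset_span ⟨0, Nat.zero_lt_one, funext fun i => (hasseD_zero hHt (φ i)).symm⟩)

/-- The divisor does not see the rescaling and the parameter. -/
theorem wDiv_apply_local (hK : IsFunctionField k K) (hφ : LinearIndependent k φ)
    (hH : _root_.LocRes.IsHasseFamily s H) (hJ : IsOrders K (hcol τ H φ) J)
    (hΦ : ∀ P : Place k K, _root_.LocRes.IsExpansionAt P.1 (Φ P)) {y : K} (hy : y ≠ 0) {P : Place k K}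
    {t : K} (ht : val P t = WithZero.exp (-1)) {Ht : K →ₐ[k] PowerSeries K}
    (hHt : _root_.LocRes.IsHasseFamily t Ht) :
    IsOrders K (hcol τ Ht (y • φ)) J ∧ wDiv τ H Φ s φ J P = wDiv τ Ht Φ t (y • φ) J P := by
  obtain ⟨hJ', he⟩ := wDiv_apply_eq hK hφ hH hJ hΦ hy ht hHt
  obtain ⟨-, he'⟩ := wDiv_apply_eq hK (linearIndependent_smul hφ hy) hHt hJ' hΦ one_ne_zero ht hHt
  rw [one_smul] at he'
  exact ⟨hJ', he.trans he'.symm⟩

end GrothLib.FunFld
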