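import Groth.Agent.Lib.FunFld.IntClosure
import Mathlib.RingTheory.Unramified.Field
import Mathlib.RingTheory.Flat.Basic
import Mathlib.LinearAlgebra.TensorProduct.RightExactness
import Mathlib.RingTheory.Polynomial.ScaleRoots
import Mathlib.FieldTheory.PurelyInseparable.Basic
import Mathlib.FieldTheory.SeparableClosure
import Mathlib.RingTheory.Valuation.Extension

/-!
Places in a constant field extension.
-/

set_option autoImplicit false
set_option linter.style.haveILetI false
set_option linter.unusedSectionVars false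

namespace GrothLib.FunFld

open _root_.FunFld WithZero Polynomial
open scoped TensorProduct

universe u v

noncomputable local instance (priority := high) resSMul {k K : Type*} [Field k] [Field K] [Algebra k K]
    (P : Place k K) : SMul k (IsLocalRing.ResidueField P.O) := Algebra.toSMul

noncomputable local instance (priority := high) resModule {k K : Type*} [Field k] [Field K] [Algebra k K]
    (P : Place k K) : Module k (IsLocalRing.ResidueField P.O) := Algebra.toModule

theorem isReduced_tensor_right {F A B : Type*} [Field F] [Field A] [Field B] [Algebra F A] [Algebra F B]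
    [FiniteDimensional F B] [Algebra.IsSeparable F B] : IsReduced (A ⊗[F] B) := by
  haveI : Algebra.FormallyUnramified F B := Algebra.FormallyUnramified.of_isSeparable F B
  exact Algebra.FormallyUnramified.isReduced_of_field A (A ⊗[F] B)

theorem isReduced_tensor_left {F A B : Type*} [Field F] [Field A] [Field B] [Algebra F A] [Algebra F B]
    [FiniteDimensional F A] [Algebra.IsSeparable F A] : IsReduced (A ⊗[F] B) := by
  haveI : IsReduced (B ⊗[F] A) := isReduced_tensor_right
  exact isReduced_of_injective (Algebra.TensorProduct.comm F A B).toRingEquiv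
    (Algebra.TensorProduct.comm F A B).injective

/-- In `L ⊗ κ` with `κ` purely inseparable, high powers are constants. -/
theorem exists_pow_mem_range {F A B : Type*} [Field F] [Field A] [Field B] [Algebra F A] [Algebra F B]
    [IsPurelyInseparable F B] (q : ℕ) [ExpChar F q] (x : A ⊗[F] B) :
    ∃ m : ℕ, ∃ a : A, x ^ q ^ m = a ⊗ₜ[F] (1 : B) := by
  haveI : Nontrivial (A ⊗[F] B) := (Algebra.TensorProduct.includeLeft_injective (R := F) (S := F) (A := A) (B := B)
    (algebraMap F B).injective).nontrivial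
  haveI : ExpChar (A ⊗[F] B) q :=
    expChar_of_injective_ringHom (algebraMap F (A ⊗[F] B)).injective q
  suffices ∃ m : ℕ, ∀ n, m ≤ n → ∃ a : A, x ^ q ^ n = a ⊗ₜ[F] (1 : B) by
    obtain ⟨m, hm⟩ := this; exact ⟨m, hm m le_rfl⟩
  induction x using TensorProduct.induction_on with
  | zero => exact ⟨0, fun n _ => ⟨0, by simp [(expChar_pos F q).ne']⟩⟩
  | tmul a b =>
    obtain ⟨m, c, hc⟩ := IsPurelyInseparable.pow_mem F q b
    refine ⟨m, fun n hn => ⟨(c ^ q ^ (n - m)) • a ^ q ^ n, ?_⟩⟩
    rw [Algebra.TensorProduct.tmul_pow, show q ^ n = q ^ m * q ^ (n - m) by rw [← pow_add]; congr 1; omega,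
      pow_mul b, ← hc, ← map_pow, Algebra.algebraMap_eq_smul_one, TensorProduct.smul_tmul]
  | add y z hy hz =>
    obtain ⟨m, hm⟩ := hy
    obtain ⟨m', hm'⟩ := hz
    refine ⟨max m m', fun n hn => ?_⟩
    obtain ⟨a, ha⟩ := hm n ((le_max_left _ _).trans hn)
    obtain ⟨a', ha'⟩ := hm' n ((le_max_right _ _).trans hn)
    exact ⟨a + a', by rw [add_pow_expChar_pow, ha, ha', ← TensorProduct.add_tmul]⟩

section Model

variable {k : Type u} {K K' L : Type*} [Field k] [Field K] [Field K'] [Field L] [Algebra k K]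
  [Algebra K K'] [Algebra k K'] [IsScalarTower k K K'] [Algebra k L] [FiniteDimensional k L]
  (P : Place k K) (ψ : L →ₐ[k] K')

/-- The inclusion `O_P → K` as an algebra map. -/
def incO : P.O →ₐ[k] K :=
  { P.O.subtype with commutes' := fun c => algebraMap_O_coe P c }

/-- `L ⊗ K → K'`. -/
noncomputable def tot : L ⊗[k] K →ₐ[k] K' :=
  Algebra.TensorProduct.productMap ψ (IsScalarTower.toAlgHom k K K')

/-- `L ⊗ O_P → K'`. -/
noncomputable def model : L ⊗[k] P.O →ₐ[k] K' :=
  (tot ψ).comp (Algebra.TensorProduct.map (AlgHom.id k L) (incO P))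

theorem model_tmul (l : L) (o : P.O) : model P ψ (l ⊗ₜ o) = ψ l * algebraMap K K' (o : K) := rfl

/-- `L ⊗ O_P → L ⊗ κ_P`. -/
noncomputable def red : L ⊗[k] P.O →ₐ[k] L ⊗[k] IsLocalRing.ResidueField P.O :=
  Algebra.TensorProduct.map (AlgHom.id k L) (res P)

theorem red_tmul (l : L) (o : P.O) : red (L := L) P (l ⊗ₜ o) = l ⊗ₜ[k] res P o := rfl

variable {P ψ}

theorem model_injective (hψ : Function.Injective (tot (K := K) ψ)) : Function.Injective (model P ψ) := by
  refine hψ.comp ?_
  exact Module.Flat.lTensor_preserves_injective_linearMap (M := L) (incO P).toLinearMap Subtype.coe_injective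

theorem exists_of_red_eq_zero {π : P.O} (hπ : val P (π : K) = exp (-1)) {w : L ⊗[k] P.O}
    (hw : red P w = 0) : ∃ w', w = (1 : L) ⊗ₜ π * w' := by
  have hex : Function.Exact (LinearMap.mulLeft k π) (res P).toLinearMap := by
    intro x
    show res P x = 0 ↔ _
    rw [res_eq_zero_iff]
    refine ⟨fun hx => ?_, ?_⟩
    · refine ⟨⟨(x : K) / π, ?_⟩, Subtype.ext (mul_div_cancel₀ _ fun h => ?_)⟩
      · show val P _ ≤ 1
        rw [map_div₀, hπ]
        refine (div_le_one₀ (zero_lt_iff.mpr exp_ne_zero)).mpr ?_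
        rw [show (-1 : ℤ) = 0 - 1 by ring, le_exp_sub_one_iff, exp_zero]; exact hx
      · rw [h, map_zero] at hπ; exact exp_ne_zero hπ.symm
    · rintro ⟨y, rfl⟩
      show val P ((π : K) * y) < 1
      rw [map_mul, hπ]
      exact (mul_le_of_le_one_right' y.2).trans_lt (by rw [← exp_zero, exp_lt_exp]; omega)
  obtain ⟨w', rfl⟩ := (lTensor_exact L hex (res_surjective P) w).mp hw
  refine ⟨w', ?_⟩
  clear hw
  induction w' using TensorProduct.induction_on with
  | zero => simp
  | tmul l o => rw [LinearMap.lTensor_tmul, Algebra.TensorProduct.tmul_mul_tmul, one_mul]; rfl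
  | add a b ha hb => rw [map_add, mul_add, ha, hb]

theorem exists_pow_mul_mem {π : P.O} (hπ : val P (π : K) = exp (-1)) (u : L ⊗[k] K) :
    ∃ n : ℕ, algebraMap K K' ((π : K) ^ n) * tot ψ u ∈ (model P ψ).range := by
  induction u using TensorProduct.induction_on with
  | zero => exact ⟨0, 0, by simp⟩
  | tmul l a =>
    rcases eq_or_ne a 0 with rfl | ha
    · exact ⟨0, 0, by simp⟩
    refine ⟨(-P.ord a).toNat, l ⊗ₜ ⟨(π : K) ^ (-P.ord a).toNat * a, ?_⟩, ?_⟩
    · show val P _ ≤ 1
      rw [map_mul, map_pow, hπ, val_eq P ha, ← exp_nsmul, ← exp_add, ← exp_zero, exp_le_exp, nsmul_eq_mul]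
      omega
    · show model P ψ _ = _ * tot ψ (l ⊗ₜ a)
      rw [model_tmul]
      show _ = _ * (ψ l * algebraMap K K' a)
      rw [map_mul]; ring
  | add a b ha hb =>
    obtain ⟨n, wa, hwa⟩ := ha
    obtain ⟨m, wb, hwb⟩ := hb
    refine ⟨n + m, (1 : L) ⊗ₜ (π ^ m) * wa + (1 : L) ⊗ₜ (π ^ n) * wb, ?_⟩
    show model P ψ _ = _
    rw [map_add, map_mul, map_mul, show model P ψ wa = _ from hwa, show model P ψ wb = _ from hwb,
      model_tmul, model_tmul, map_one, one_mul, one_mul, map_add, pow_add, map_mul]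
    simp only [SubmonoidClass.coe_pow, map_pow]
    ring

/-- The model is saturated when `L ⊗ κ_P` is reduced. -/
theorem mem_range_of_isIntegral [Algebra P.O K'] [IsScalarTower P.O K K']
    (hψ : Function.Injective (tot (K := K) ψ)) [IsReduced (L ⊗[k] IsLocalRing.ResidueField P.O)]
    {z : K'} (hz : IsIntegral P.O z) {u : L ⊗[k] K} (hu : tot ψ u = z) : z ∈ (model P ψ).range := by
  obtain ⟨t, -, ht⟩ := exists_val_eq P (-1)
  let π : P.O := ⟨t, by show val P t ≤ 1; rw [ht, ← exp_zero, exp_le_exp]; omega⟩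
  have hπ : val P (π : K) = exp (-1) := ht
  have hπ0 : algebraMap K K' (π : K) ≠ 0 := by
    rw [_root_.map_ne_zero]; intro h; rw [h, map_zero] at hπ; exact exp_ne_zero hπ.symm
  obtain ⟨n, hn⟩ := exists_pow_mul_mem (ψ := ψ) hπ u
  rw [hu] at hn
  clear hu u
  induction n generalizing z with
  | zero => simpa using hn
  | succ n ih =>
    obtain ⟨w, hw⟩ := hn
    obtain ⟨p, hp, hev⟩ := hz
    set q := p.scaleRoots (π ^ (n + 1)) with hq
    have hcomm : (model P ψ).toRingHom.comp
        (Algebra.TensorProduct.includeRight : P.O →ₐ[k] L ⊗[k] P.O).toRingHom = algebraMap P.O K' := by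
      ext o
      show model P ψ ((1 : L) ⊗ₜ o) = _
      rw [model_tmul, map_one, one_mul, IsScalarTower.algebraMap_apply P.O K K']
      rfl
    have hqw : q.eval₂ (Algebra.TensorProduct.includeRight : P.O →ₐ[k] L ⊗[k] P.O).toRingHom w = 0 := by
      refine model_injective hψ ?_
      rw [map_zero]
      show (model P ψ).toRingHom _ = 0
      rw [Polynomial.hom_eval₂, hcomm]
      show q.eval₂ _ (model P ψ w) = 0
      rw [show model P ψ w = _ from hw, show algebraMap K K' ((π : K) ^ (n + 1)) =
        algebraMap P.O K' (π ^ (n + 1)) by rw [IsScalarTower.algebraMap_apply P.O K K']; rfl]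
      exact scaleRoots_eval₂_eq_zero (algebraMap P.O K') hev
    have hred0 : res P π = 0 := (res_eq_zero_iff P π).mpr (by rw [hπ, ← exp_zero, exp_lt_exp]; omega)
    have hnil : red P w ^ p.natDegree = 0 := by
      have h2 := congrArg (red P).toRingHom hqw
      rw [map_zero, Polynomial.hom_eval₂] at h2
      rw [← h2, show red P w = (red P).toRingHom w from rfl, Polynomial.eval₂_eq_sum_range,
        hq, natDegree_scaleRoots, Finset.sum_range_succ, coeff_scaleRoots_natDegree, hp.leadingCoeff,
        map_one, one_mul, Finset.sum_eq_zero fun i hi => ?_, zero_add]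
      rw [coeff_scaleRoots]
      show red P ((1 : L) ⊗ₜ _) * _ = 0
      rw [red_tmul, map_mul, map_pow, map_pow, hred0, zero_pow (Nat.succ_ne_zero n),
        zero_pow (by have := Finset.mem_range.mp hi; omega), mul_zero, TensorProduct.tmul_zero, zero_mul]
    have hw0 : red P w = 0 := IsNilpotent.eq_zero ⟨_, hnil⟩
    obtain ⟨w', rfl⟩ := exists_of_red_eq_zero hπ hw0
    refine ih ⟨p, hp, hev⟩ ⟨w', ?_⟩
    show model P ψ w' = _
    refine mul_left_cancel₀ hπ0 ?_
    rw [← mul_assoc, ← map_mul, ← pow_succ', ← show model P ψ ((1 : L) ⊗ₜ π * w') = _ from hw, map_mul,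
      model_tmul, map_one, one_mul]

end Model

section Place

variable {k K K' : Type*} [Field k] [Field K] [Field K'] [Algebra k K] [Algebra K K'] [Algebra k K']
  [IsScalarTower k K K'] [FiniteDimensional K K'] {P : Place k K} [Algebra P.O K'] [IsScalarTower P.O K K']

theorem isIntegral_iff_forall (h : IsFG k K) (x : K') :
    IsIntegral P.O x ↔ ∀ Q : Place k K', IsOver Q P → val Q x ≤ 1 := by
  refine ⟨fun hx Q hQ => val_le_one_of_isIntegral hQ hx, fun hx => ?_⟩
  obtain ⟨M, hfg, hM⟩ := exists_lattice (K' := K') h P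
  let S : Subalgebra P.O K' := M.toSubalgebra ((hM 1).2 fun Q _ => (map_one _).le)
    fun a b ha hb => (hM _).2 fun Q hQ => by
      rw [map_mul]; exact mul_le_one' ((hM a).1 ha Q hQ) ((hM b).1 hb Q hQ)
  exact IsIntegral.of_mem_of_fg S (by rwa [Submodule.toSubalgebra_toSubmodule]) x ((hM x).2 hx)

/-- An element integral over `O_P` with prescribed behaviour at the places above. -/
theorem exists_integral_val_eq (h : IsFG k K) :
    ∃ y : K', IsIntegral P.O y ∧ ∀ Q : Place k K', IsOver Q P → val Q y = exp (-1) := by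
  obtain ⟨hfin, -⟩ := sum_ramIdx (K' := K') h P
  obtain ⟨y, hy⟩ := exists_approx_eq hfin.toFinset (fun _ => 0) fun _ => -1
  have hy' : ∀ Q : Place k K', IsOver Q P → val Q y = exp (-1) := fun Q hQ => by
    simpa using hy Q (hfin.mem_toFinset.mpr hQ)
  refine ⟨y, (isIntegral_iff_forall h y).mpr fun Q hQ => ?_, hy'⟩
  rw [hy' Q hQ, ← exp_zero, exp_le_exp]; omega

/-- An element integral over `O_P` close to given ones. -/
theorem exists_integral_approx (h : IsFG k K) (x : Place k K' → K') (hx : ∀ Q, val Q (x Q) ≤ 1) :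
    ∃ y : K', IsIntegral P.O y ∧ ∀ Q : Place k K', IsOver Q P → val Q (y - x Q) < 1 := by
  obtain ⟨hfin, -⟩ := sum_ramIdx (K' := K') h P
  obtain ⟨y, hy⟩ := exists_approx hfin.toFinset x fun _ => -1
  have hy' : ∀ Q : Place k K', IsOver Q P → val Q (y - x Q) < 1 := fun Q hQ =>
    (hy Q (hfin.mem_toFinset.mpr hQ)).trans_lt (by rw [← exp_zero, exp_lt_exp]; omega)
  refine ⟨y, (isIntegral_iff_forall h y).mpr fun Q hQ => ?_, hy'⟩
  rw [show y = (y - x Q) + x Q by ring]
  exact ((val Q).map_add _ _).trans (max_le (hy' Q hQ).le (hx Q))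

end Place

section Main

variable {k k' : Type u} {K K' : Type v} [Field k] [Field k'] [Field K] [Field K']
  [Algebra k k'] [FiniteDimensional k k'] [Algebra k K] [Algebra K K'] [Algebra k' K'] [Algebra k K']
  [IsScalarTower k k' K'] [IsScalarTower k K K']
  (h : Function.Bijective (Algebra.TensorProduct.productMap
    (IsScalarTower.toAlgHom k k' K') (IsScalarTower.toAlgHom k K K')))
include h

theorem finiteDimensional_constExt : FiniteDimensional K K' := by
  refine Module.Finite.of_surjective
    (LinearMap.liftBaseChange K (IsScalarTower.toAlgHom k k' K').toLinearMap) fun z => ?_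
  obtain ⟨u, rfl⟩ := h.2 z
  refine ⟨TensorProduct.comm k k' K u, ?_⟩
  induction u using TensorProduct.induction_on with
  | zero => simp
  | tmul c a =>
    rw [TensorProduct.comm_tmul, LinearMap.liftBaseChange_tmul, Algebra.TensorProduct.productMap_apply_tmul,
      Algebra.smul_def]
    exact mul_comm _ _
  | add a b ha hb => rw [map_add, map_add, map_add, ha, hb]

omit h in
theorem model_range_le_adjoin (P : Place k K) [Algebra P.O K'] [IsScalarTower P.O K K'] {z : K'}
    (hz : z ∈ (model P (IsScalarTower.toAlgHom k k' K')).range) :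
    z ∈ Algebra.adjoin P.O (Set.range (algebraMap k' K')) := by
  obtain ⟨w, rfl⟩ := hz
  induction w using TensorProduct.induction_on with
  | zero => simp
  | tmul c o =>
    show model P _ (c ⊗ₜ o) ∈ _
    rw [model_tmul]
    refine mul_mem (Algebra.subset_adjoin ⟨c, rfl⟩) ?_
    rw [show algebraMap K K' (o : K) = algebraMap P.O K' o from
      (IsScalarTower.algebraMap_apply P.O K K' o).symm]
    exact Subalgebra.algebraMap_mem _ _
  | add a b ha hb =>
    show model P _ (a + b) ∈ _
    rw [map_add]; exact add_mem ha hb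

omit h in
theorem isIntegral_of_mem_adjoin (P : Place k K) [Algebra P.O K'] [IsScalarTower P.O K K'] {z : K'}
    (hz : z ∈ Algebra.adjoin P.O (Set.range (algebraMap k' K'))) : IsIntegral P.O z := by
  haveI : IsScalarTower k P.O K' := IsScalarTower.of_algebraMap_eq fun c => by
    rw [IsScalarTower.algebraMap_apply P.O K K', IsScalarTower.algebraMap_apply k K K']
    exact congrArg (algebraMap K K') (algebraMap_O_coe P c).symm
  refine Algebra.adjoin_le (?_ : _ ⊆ (integralClosure P.O K' : Set K')) hz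
  rintro _ ⟨c, rfl⟩
  exact IsIntegral.tower_top ((Algebra.IsIntegral.isIntegral (R := k) c).map
    (IsScalarTower.toAlgHom k k' K'))

theorem integralClosure_eq_adjoin (P : Place k K) [Algebra P.O K'] [IsScalarTower P.O K K']
    [IsReduced (k' ⊗[k] IsLocalRing.ResidueField P.O)] :
    (integralClosure P.O K').toSubring = (Algebra.adjoin P.O (Set.range (algebraMap k' K'))).toSubring := by
  ext z
  refine ⟨fun hz => ?_, fun hz => isIntegral_of_mem_adjoin P hz⟩
  obtain ⟨u, hu⟩ := h.2 z
  exact model_range_le_adjoin P (mem_range_of_isIntegral (ψ := IsScalarTower.toAlgHom k k' K') h.1 hz hu)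

theorem isOverWith_one (hK : IsFG k K) (P : Place k K) [Algebra P.O K'] [IsScalarTower P.O K K']
    [IsReduced (k' ⊗[k] IsLocalRing.ResidueField P.O)] {Q : Place k K'} (hQ : IsOver Q P) :
    IsOverWith Q P 1 := by
  haveI := finiteDimensional_constExt h
  obtain ⟨e, he⟩ := hQ
  suffices e = 1 by rwa [this] at he
  obtain ⟨y, hyint, hy⟩ := exists_integral_val_eq (K' := K') (P := P) hK
  obtain ⟨t, ht0, ht⟩ := exists_val_eq P (-1)
  let π : P.O := ⟨t, by show val P t ≤ 1; rw [ht, ← exp_zero, exp_le_exp]; omega⟩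
  obtain ⟨hfin, -⟩ := sum_ramIdx (K' := K') hK P
  let N : ℕ := ∑ Q' ∈ hfin.toFinset, ramIdx Q' P
  have hval : ∀ Q' : Place k K', ∀ e', IsOverWith Q' P e' →
      val Q' (algebraMap K K' t) = exp (-(e' : ℤ)) := fun Q' e' he' => by
    rw [show val Q' (algebraMap K K' t) = _ from he' t, show P.1 t = exp (-1) from ht, ← exp_nsmul]; simp
  have hint : IsIntegral P.O (y ^ N / algebraMap K K' t) := (isIntegral_iff_forall hK _).mpr fun Q' hQ' => by
    obtain ⟨e', he'⟩ := hQ'
    have hN : ramIdx Q' P ≤ N :=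
      Finset.single_le_sum (f := fun R => ramIdx R P) (fun _ _ => Nat.zero_le _) (hfin.mem_toFinset.mpr ⟨e', he'⟩)
    rw [ramIdx_eq he'] at hN
    rw [map_div₀, map_pow, hy Q' ⟨e', he'⟩, hval Q' e' he', div_le_one₀ (zero_lt_iff.mpr exp_ne_zero),
      ← exp_nsmul, exp_le_exp, nsmul_eq_mul]
    omega
  set ψ := IsScalarTower.toAlgHom k k' K'
  obtain ⟨u, hu⟩ := h.2 y
  obtain ⟨w, hw⟩ := mem_range_of_isIntegral (ψ := ψ) h.1 hyint hu
  obtain ⟨u', hu'⟩ := h.2 (y ^ N / algebraMap K K' t)
  obtain ⟨w₂, hw₂⟩ := mem_range_of_isIntegral (ψ := ψ) h.1 hint hu'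
  have hwN : w ^ N = (1 : k') ⊗ₜ π * w₂ := model_injective (ψ := ψ) h.1 (by
    rw [map_pow, map_mul, show model P ψ w = y from hw, show model P ψ w₂ = _ from hw₂, model_tmul,
      map_one, one_mul, mul_div_cancel₀]
    rw [_root_.map_ne_zero]; exact ht0)
  have hπres : res P π = 0 := (res_eq_zero_iff P π).mpr (by
    show val P t < 1
    rw [ht, ← exp_zero, exp_lt_exp]; omega)
  have hnil : red P w ^ N = 0 := by
    rw [← map_pow, hwN, map_mul, red_tmul, hπres, TensorProduct.tmul_zero, zero_mul]
  obtain ⟨w', rfl⟩ := exists_of_red_eq_zero (π := π) ht (IsNilpotent.eq_zero ⟨_, hnil⟩)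
  have hy1 := hy Q ⟨e, he⟩
  rw [← show model P ψ ((1 : k') ⊗ₜ π * w') = y from hw, map_mul (model P ψ), map_mul, model_tmul,
    map_one, one_mul, hval Q e he] at hy1
  have hle : val Q (model P ψ w') ≤ 1 :=
    val_le_one_of_isIntegral ⟨e, he⟩ (isIntegral_of_mem_adjoin P (model_range_le_adjoin P ⟨w', rfl⟩))
  have := pos_of_isOverWith he
  have hge : (exp (-1 : ℤ) : WithZero (Multiplicative ℤ)) ≤ exp (-(e : ℤ)) :=
    hy1 ▸ mul_le_of_le_one_right' hle
  rw [exp_le_exp] at hge
  omega

theorem integralClosure_eq_adjoin_of_left [Algebra.IsSeparable k k'] (P : Place k K) [Algebra P.O K']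
    [IsScalarTower P.O K K'] :
    (integralClosure P.O K').toSubring = (Algebra.adjoin P.O (Set.range (algebraMap k' K'))).toSubring :=
  haveI : IsReduced (k' ⊗[k] IsLocalRing.ResidueField P.O) := isReduced_tensor_left
  integralClosure_eq_adjoin h P

theorem integralClosure_eq_adjoin_of_right (hK : IsFG k K) (P : Place k K)
    [Algebra.IsSeparable k (IsLocalRing.ResidueField P.O)] [Algebra P.O K']
    [IsScalarTower P.O K K'] :
    (integralClosure P.O K').toSubring = (Algebra.adjoin P.O (Set.range (algebraMap k' K'))).toSubring :=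
  have hfin : @Module.Finite k (IsLocalRing.ResidueField P.O) _ _ Algebra.toModule := hK.finite_residueField P
  haveI : IsReduced (k' ⊗[k] IsLocalRing.ResidueField P.O) := isReduced_tensor_right
  integralClosure_eq_adjoin h P

theorem isOverWith_one_of_left [Algebra.IsSeparable k k'] (hK : IsFG k K) (P : Place k K) [Algebra P.O K']
    [IsScalarTower P.O K K'] {Q : Place k K'} (hQ : IsOver Q P) : IsOverWith Q P 1 :=
  haveI : IsReduced (k' ⊗[k] IsLocalRing.ResidueField P.O) := isReduced_tensor_left
  isOverWith_one h hK P hQ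

theorem existsUnique_isOver (hK : IsFG k K) (P : Place k K)
    (hpi : IsPurelyInseparable k k' ∨ IsPurelyInseparable k (IsLocalRing.ResidueField P.O)) :
    ∃! Q : Place k K', IsOver Q P := by
  classical
  haveI := finiteDimensional_constExt h
  letI : Algebra P.O K' := ((algebraMap K K').comp P.O.subtype).toAlgebra
  haveI : IsScalarTower P.O K K' := IsScalarTower.of_algebraMap_eq fun _ => rfl
  obtain ⟨hfin, hsum⟩ := sum_ramIdx (K' := K') hK P
  obtain ⟨Q₀, hQ₀⟩ : ∃ Q : Place k K', IsOver Q P := by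
    by_contra hn
    push_neg at hn
    have := hsum ∅ (by simpa using hn)
    rw [Finset.sum_empty] at this
    exact (Nat.mul_pos Module.finrank_pos (hK.deg_pos P)).ne this
  refine ⟨Q₀, hQ₀, fun Q hQ => ?_⟩
  set q := ringExpChar k
  haveI : ExpChar k q := inferInstance
  haveI : ExpChar K' q := expChar_of_injective_ringHom (algebraMap k K').injective q
  rcases hpi with hpi | hpi
  · -- some power of each element lies in `K`
    have key : ∀ x : K', ∃ m : ℕ, ∀ n, m ≤ n → x ^ q ^ n ∈ Set.range (algebraMap K K') := by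
      intro x
      obtain ⟨u, rfl⟩ := h.2 x
      induction u using TensorProduct.induction_on with
      | zero => exact ⟨0, fun n _ => ⟨0, by simp [(expChar_pos k q).ne']⟩⟩
      | tmul c a =>
        obtain ⟨m, c₀, hc₀⟩ := IsPurelyInseparable.pow_mem k q c
        refine ⟨m, fun n hn => ⟨algebraMap k K (c₀ ^ q ^ (n - m)) * a ^ q ^ n, ?_⟩⟩
        rw [Algebra.TensorProduct.productMap_apply_tmul, mul_pow, map_mul,
          ← IsScalarTower.algebraMap_apply k K K']
        congr 1
        rw [show q ^ n = q ^ m * q ^ (n - m) by rw [← pow_add]; congr 1; omega, pow_mul, map_pow]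
        congr 1
        · congr 1
          rw [← map_pow, ← hc₀]
          exact (AlgHom.commutes _ _).symm
        · exact map_pow _ _ _
      | add a b ha hb =>
        obtain ⟨m, hm⟩ := ha
        obtain ⟨m', hm'⟩ := hb
        refine ⟨max m m', fun n hn => ?_⟩
        obtain ⟨a', ha'⟩ := hm n ((le_max_left _ _).trans hn)
        obtain ⟨b', hb'⟩ := hm' n ((le_max_right _ _).trans hn)
        exact ⟨a' + b', by rw [map_add, map_add, ha', hb', add_pow_expChar_pow]⟩
    obtain ⟨e, he⟩ := hQ
    obtain ⟨e₀, he₀⟩ := hQ₀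
    refine place_eq_of_le_one_iff fun x => ?_
    obtain ⟨m, hm⟩ := key x
    obtain ⟨a, ha⟩ := hm m le_rfl
    have hq : q ^ m ≠ 0 := pow_ne_zero _ (expChar_pos k q).ne'
    rw [← pow_le_one_iff hq, ← map_pow, ← ha, val_le_one_iff_of_isOverWith he,
      ← val_le_one_iff_of_isOverWith he₀, ha, map_pow, pow_le_one_iff hq]
  · by_contra hne
    obtain ⟨y, hyint, hy⟩ := exists_integral_approx (K' := K') (P := P) hK
      (fun R => if R = Q then 1 else 0) (fun R => by split_ifs <;> simp)
    set L := separableClosure k k'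
    set ψ : L →ₐ[k] K' := (IsScalarTower.toAlgHom k k' K').comp L.val
    have hψ : Function.Injective (tot (K := K) ψ) := by
      have : tot (K := K) ψ = (Algebra.TensorProduct.productMap (IsScalarTower.toAlgHom k k' K')
          (IsScalarTower.toAlgHom k K K')).comp (Algebra.TensorProduct.map L.val (AlgHom.id k K)) :=
        Algebra.TensorProduct.ext' fun a b => rfl
      rw [this, AlgHom.coe_comp]
      exact h.1.comp (Module.Flat.rTensor_preserves_injective_linearMap (M := K) L.val.toLinearMap
        Subtype.coe_injective)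
    haveI : ExpChar k' q := expChar_of_injective_ringHom (algebraMap k k').injective q
    haveI : ExpChar L q := expChar_of_injective_ringHom (algebraMap k L).injective q
    have key : ∀ x : K', ∃ m : ℕ, ∀ n, m ≤ n → x ^ q ^ n ∈ Set.range (tot (K := K) ψ) := by
      intro x
      obtain ⟨u, rfl⟩ := h.2 x
      induction u using TensorProduct.induction_on with
      | zero => exact ⟨0, fun n _ => ⟨0, by simp [(expChar_pos k q).ne']⟩⟩
      | tmul c a =>
        obtain ⟨m, c₀, hc₀⟩ := IsPurelyInseparable.pow_mem L q c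
        refine ⟨m, fun n hn => ⟨(c₀ ^ q ^ (n - m)) ⊗ₜ (a ^ q ^ n), ?_⟩⟩
        rw [tot, Algebra.TensorProduct.productMap_apply_tmul, Algebra.TensorProduct.productMap_apply_tmul,
          mul_pow, map_pow (IsScalarTower.toAlgHom k K K')]
        congr 1
        rw [show q ^ n = q ^ m * q ^ (n - m) by rw [← pow_add]; congr 1; omega, pow_mul, map_pow,
          ← map_pow, ← map_pow (IsScalarTower.toAlgHom k k' K') c, ← hc₀, map_pow]
        rfl
      | add a b ha hb =>
        obtain ⟨m, hm⟩ := ha
        obtain ⟨m', hm'⟩ := hb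
        refine ⟨max m m', fun n hn => ?_⟩
        obtain ⟨a', ha'⟩ := hm n ((le_max_left _ _).trans hn)
        obtain ⟨b', hb'⟩ := hm' n ((le_max_right _ _).trans hn)
        exact ⟨a' + b', by rw [map_add, map_add, ha', hb', add_pow_expChar_pow]⟩
    obtain ⟨m, hm⟩ := key y
    obtain ⟨u, hu⟩ := hm m le_rfl
    have hfinP : @Module.Finite k (IsLocalRing.ResidueField P.O) _ _ Algebra.toModule :=
      hK.finite_residueField P
    haveI : IsReduced (L ⊗[k] IsLocalRing.ResidueField P.O) := isReduced_tensor_left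
    obtain ⟨w, hw⟩ := mem_range_of_isIntegral hψ (hyint.pow _) hu
    obtain ⟨m', c, hc⟩ := exists_pow_mem_range q (red P w)
    obtain ⟨t, -, ht⟩ := exists_val_eq P (-1)
    let π : P.O := ⟨t, by show val P t ≤ 1; rw [ht, ← exp_zero, exp_le_exp]; omega⟩
    obtain ⟨w', hw'⟩ := exists_of_red_eq_zero (π := π) ht (w := w ^ q ^ m' - c ⊗ₜ 1) (by
      rw [map_sub, map_pow, hc, red_tmul, map_one, sub_self])
    have hd := congrArg (model P ψ) hw'
    rw [map_sub, map_pow, show model P ψ w = _ from hw, model_tmul, map_mul, model_tmul, map_one,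
      one_mul] at hd
    simp only [ZeroMemClass.coe_zero, OneMemClass.coe_one, map_one, mul_one] at hd
    have hlt : ∀ R : Place k K', IsOver R P → val R (y ^ q ^ (m + m') - ψ c) < 1 := fun R hR => by
      obtain ⟨e, he⟩ := hR
      rw [pow_add, pow_mul, hd, map_mul]
      refine lt_of_le_of_lt (mul_le_of_le_one_right' ?_) ?_
      · clear hd hw'
        induction w' using TensorProduct.induction_on with
        | zero => simp
        | tmul l o =>
          rw [model_tmul, map_mul]
          refine mul_le_one' ?_ ((val_le_one_iff_of_isOverWith he _).mpr o.2)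
          rcases eq_or_ne l 0 with rfl | hl
          · simp
          · exact (val_eq_one_of_isAlgebraic R ((Algebra.IsAlgebraic.isAlgebraic (R := k) l).algHom ψ)
              (by rwa [_root_.map_ne_zero])).le
        | add a b ha hb => rw [map_add (model P ψ)]; exact ((val R).map_add _ _).trans (max_le ha hb)
      · show val R (algebraMap K K' t) < 1
        rw [show val R (algebraMap K K' t) = _ from he t, show P.1 t = exp (-1) from ht]
        exact pow_lt_one₀ zero_le (by rw [← exp_zero, exp_lt_exp]; omega) (pos_of_isOverWith he).ne'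
    have hq : q ^ (m + m') ≠ 0 := pow_ne_zero _ (expChar_pos k q).ne'
    have h1 : val Q (y ^ q ^ (m + m')) = 1 := by
      have := hy Q hQ
      rw [if_pos rfl] at this
      rw [map_pow, show y = 1 + (y - 1) by ring, (val Q).map_add_eq_of_lt_left (by rwa [map_one]),
        map_one, one_pow]
    have h0 : val Q₀ (y ^ q ^ (m + m')) < 1 := by
      have := hy Q₀ hQ₀
      rw [if_neg (Ne.symm hne), sub_zero] at this
      rw [map_pow]; exact pow_lt_one₀ zero_le this hq
    rcases eq_or_ne c 0 with rfl | hc0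
    · have := hlt Q hQ
      rw [map_zero, sub_zero, h1] at this
      exact lt_irrefl _ this
    · have h2 := hlt Q₀ hQ₀
      have h3 : val Q₀ (ψ c) = 1 := val_eq_one_of_isAlgebraic Q₀
        ((Algebra.IsAlgebraic.isAlgebraic (R := k) c).algHom ψ) (by rwa [_root_.map_ne_zero])
      rw [(val Q₀).map_sub_eq_of_lt_right (h0.trans_le h3.ge), h3] at h2
      exact lt_irrefl _ h2

theorem conductor_and_finite (hK : IsFG k K) (P : Place k K) [Algebra P.O K'] [IsScalarTower P.O K K'] :
    (∃ V : Submodule k K', FiniteDimensional k V ∧ ∀ r ∈ integralClosure P.O K',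
        ∃ s ∈ Algebra.adjoin P.O (Set.range (algebraMap k' K')), r - s ∈ V) ∧
    (∃ c ∈ integralClosure P.O K', c ≠ 0 ∧ ∀ r ∈ integralClosure P.O K',
        c * r ∈ Algebra.adjoin P.O (Set.range (algebraMap k' K'))) := by
  classical
  haveI := finiteDimensional_constExt h
  haveI := integralClosure_finite (K' := K') hK P
  obtain ⟨s, hs⟩ := Module.Finite.fg_top (R := P.O) (M := integralClosure P.O K')
  obtain ⟨t, ht0, ht⟩ := exists_val_eq P (-1)
  let π : P.O := ⟨t, by show val P t ≤ 1; rw [ht, ← exp_zero, exp_le_exp]; omega⟩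
  have hg : ∀ g : integralClosure P.O K', ∃ n : ℕ, algebraMap K K' (t ^ n) * (g : K') ∈
      Algebra.adjoin P.O (Set.range (algebraMap k' K')) := fun g => by
    obtain ⟨u, hu⟩ := h.2 (g : K')
    obtain ⟨n, hn⟩ := exists_pow_mul_mem (ψ := IsScalarTower.toAlgHom k k' K') (π := π) ht u
    exact ⟨n, model_range_le_adjoin P (hu ▸ hn :)⟩
  choose n hn using hg
  set M := ∑ g ∈ s, n g
  set A := Algebra.adjoin P.O (Set.range (algebraMap k' K'))
  have hOA : ∀ (a : K), val P a ≤ 1 → algebraMap K K' a ∈ A := fun a ha => by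
    rw [show algebraMap K K' a = algebraMap P.O K' ⟨a, ha⟩ from
      (IsScalarTower.algebraMap_apply P.O K K' ⟨a, ha⟩).symm]
    exact Subalgebra.algebraMap_mem _ _
  have ht1 : val P t ≤ 1 := π.2
  have hall : ∀ r ∈ integralClosure P.O K', algebraMap K K' (t ^ M) * r ∈ A := by
    intro r hr
    have : (⟨r, hr⟩ : integralClosure P.O K') ∈ Submodule.span P.O (s : Set (integralClosure P.O K')) :=
      hs ▸ Submodule.mem_top
    suffices ∀ x ∈ Submodule.span P.O (s : Set (integralClosure P.O K')),
        algebraMap K K' (t ^ M) * (x : K') ∈ A from this _ ‹_›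
    intro x hx
    induction hx using Submodule.span_induction with
    | mem g hg =>
      rw [show M = (M - n g) + n g from (Nat.sub_add_cancel (Finset.single_le_sum
        (fun _ _ => Nat.zero_le _) hg)).symm, pow_add, map_mul, mul_assoc]
      exact mul_mem (hOA _ (by rw [map_pow]; exact pow_le_one₀ zero_le ht1)) (hn g)
    | zero => simp
    | add a b _ _ ha hb => rw [Subalgebra.coe_add, mul_add]; exact add_mem ha hb
    | smul o a _ ha =>
      rw [Subalgebra.coe_smul, Algebra.smul_def, mul_left_comm]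
      exact mul_mem (Subalgebra.algebraMap_mem _ _) ha
  refine ⟨?_, algebraMap K K' (t ^ M), ?_, by rw [_root_.map_ne_zero]; exact pow_ne_zero _ ht0, hall⟩
  · obtain ⟨hfin, -⟩ := sum_ramIdx (K' := K') hK P
    set S := hfin.toFinset
    set E : ℕ := ∑ R ∈ S, ramIdx R P
    have hcd := hasCodim_finsetInf_ball (isFG_extension (K := K) (K' := K') hK) S
      (fun _ => -((M * E : ℕ) : ℤ)) (fun _ => M * E)
    set B := S.inf fun R => ball R (-((M * E : ℕ) : ℤ) + (M * E : ℕ))
    set A₀ := S.inf fun R => ball R (-((M * E : ℕ) : ℤ))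
    obtain ⟨C, hC⟩ := Submodule.exists_isCompl (A₀.comap B.subtype)
    haveI := hcd.finite
    haveI : FiniteDimensional k C := Module.Finite.equiv (Submodule.quotientEquivOfIsCompl _ _ hC)
    refine ⟨C.map B.subtype, inferInstance, fun r hr => ?_⟩
    have hrB : r ∈ B := (mem_finsetInf_ball _ _ _).mpr fun R hR => by
      rw [neg_add_cancel, exp_zero]
      exact val_le_one_of_isIntegral (hfin.mem_toFinset.mp hR) hr
    obtain ⟨a, ha, c, hc, hac⟩ := Submodule.mem_sup.mp
      (hC.sup_eq_top ▸ Submodule.mem_top : (⟨r, hrB⟩ : B) ∈ A₀.comap B.subtype ⊔ C)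
    refine ⟨(a : K'), ?_, ?_⟩
    · have haA : (a : K') ∈ A₀ := ha
      rw [mem_finsetInf_ball] at haA
      have htM : algebraMap K K' (t ^ M) ≠ 0 := by rw [_root_.map_ne_zero]; exact pow_ne_zero _ ht0
      rw [← mul_div_cancel₀ (a : K') htM]
      refine hall _ ((isIntegral_iff_forall hK _).mpr fun R hR => ?_)
      obtain ⟨e, he⟩ := hR
      have hle : e ≤ E := ramIdx_eq he ▸ Finset.single_le_sum (f := fun R => ramIdx R P)
        (fun _ _ => Nat.zero_le _) (hfin.mem_toFinset.mpr ⟨e, he⟩)
      rw [map_div₀, show val R (algebraMap K K' (t ^ M)) = _ from he _, map_pow, show P.1 t = exp (-1) from ht,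
        ← exp_nsmul, ← exp_nsmul, div_le_one₀ (zero_lt_iff.mpr exp_ne_zero)]
      refine (haA R (hfin.mem_toFinset.mpr ⟨e, he⟩)).trans (exp_le_exp.mpr ?_)
      have : M * e ≤ M * E := Nat.mul_le_mul_left M hle
      simp only [nsmul_eq_mul, Nat.cast_id]
      push_cast
      nlinarith
    · refine ⟨c, hc, ?_⟩
      have := congrArg Subtype.val hac
      rw [Submodule.coe_add] at this
      show (c : K') = _
      exact eq_sub_of_add_eq' this
  · exact isIntegral_of_mem_adjoin P (hOA _ (by rw [map_pow]; exact pow_le_one₀ zero_le ht1))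

theorem residueField_eq_adjoin (hK : IsFG k K) (P : Place k K) [Algebra P.O K'] [IsScalarTower P.O K K']
    (hns : (integralClosure P.O K').toSubring = (Algebra.adjoin P.O (Set.range (algebraMap k' K'))).toSubring)
    (Q : Place k K') [P.1.HasExtension Q.1] (hk' : ∀ c : k', Q.1 (algebraMap k' K' c) ≤ 1) :
    Algebra.adjoin (IsLocalRing.ResidueField P.O)
      (Set.range fun c : k' => IsLocalRing.residue Q.O ⟨algebraMap k' K' c, hk' c⟩) = ⊤ := by
  classical
  haveI := finiteDimensional_constExt h
  obtain ⟨P', e, -, he'⟩ := exists_isOverWith (K := K) Q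
  obtain rfl : P' = P := place_eq_of_le_one_iff fun x =>
    (val_le_one_iff_of_isOverWith he' x).symm.trans (Valuation.HasExtension.val_map_le_one_iff P.1 Q.1 x)
  rw [eq_top_iff]
  intro a _
  obtain ⟨z, rfl⟩ := IsLocalRing.residue_surjective a
  obtain ⟨y, hyint, hy⟩ := exists_integral_approx (K' := K') (P := P') hK
    (fun R => if R = Q then (z : K') else 0) (fun R => by
      split_ifs with hR
      · subst hR; exact z.2
      · simp)
  have hy1 := hy Q ⟨e, he'⟩
  rw [if_pos rfl] at hy1
  have hyA : y ∈ Algebra.adjoin P'.O (Set.range (algebraMap k' K')) := by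
    rw [← Subalgebra.mem_toSubring, ← hns]; exact hyint
  set S := Algebra.adjoin (IsLocalRing.ResidueField P'.O)
    (Set.range fun c : k' => IsLocalRing.residue Q.O ⟨algebraMap k' K' c, hk' c⟩) with hS
  suffices ∀ w ∈ Algebra.adjoin P'.O (Set.range (algebraMap k' K')),
      ∃ hw : w ∈ Q.O, IsLocalRing.residue Q.O ⟨w, hw⟩ ∈ S by
    obtain ⟨hw, hmem⟩ := this y hyA
    have : IsLocalRing.residue Q.O z = IsLocalRing.residue Q.O ⟨y, hw⟩ := by
      rw [← sub_eq_zero, ← map_sub]
      refine (res_eq_zero_iff Q _).mpr ?_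
      show val Q ((z : K') - y) < 1
      rwa [(val Q).map_sub_swap]
    rwa [this]
  intro w hw
  induction hw using Algebra.adjoin_induction with
  | mem x hx =>
    obtain ⟨c, rfl⟩ := hx
    exact ⟨hk' c, Algebra.subset_adjoin ⟨c, rfl⟩⟩
  | algebraMap o =>
    have ho : algebraMap P'.O K' o = algebraMap K K' (o : K) :=
      IsScalarTower.algebraMap_apply P'.O K K' o
    have hmem : algebraMap P'.O K' o ∈ Q.O := by
      rw [ho]; exact (val_le_one_iff_of_isOverWith he' _).mpr o.2
    refine ⟨hmem, ?_⟩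
    have : IsLocalRing.residue Q.O ⟨_, hmem⟩ =
        algebraMap (IsLocalRing.ResidueField P'.O) (IsLocalRing.ResidueField Q.O) (IsLocalRing.residue P'.O o) :=
      congrArg (IsLocalRing.residue Q.O) (Subtype.ext ho)
    rw [this]
    exact Subalgebra.algebraMap_mem _ _
  | add a b _ _ ha hb =>
    obtain ⟨ha1, ha2⟩ := ha
    obtain ⟨hb1, hb2⟩ := hb
    exact ⟨add_mem ha1 hb1, by
      rw [show (⟨a + b, add_mem ha1 hb1⟩ : Q.O) = ⟨a, ha1⟩ + ⟨b, hb1⟩ from rfl, map_add]
      exact add_mem ha2 hb2⟩
  | mul a b _ _ ha hb =>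
    obtain ⟨ha1, ha2⟩ := ha
    obtain ⟨hb1, hb2⟩ := hb
    exact ⟨mul_mem ha1 hb1, by
      rw [show (⟨a * b, mul_mem ha1 hb1⟩ : Q.O) = ⟨a, ha1⟩ * ⟨b, hb1⟩ from rfl, map_mul]
      exact mul_mem ha2 hb2⟩

end Main

end GrothLib.FunFld
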