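import Groth.Agent.Lib.FunFld.SplitField
import Groth.Agent.Lib.FunFld.ConstExt
import Mathlib.FieldTheory.PurelyInseparable.Basic

/-!
The places over a nonsingular place in a splitting field.
-/

set_option autoImplicit false
set_option linter.style.haveILetI false
set_option linter.unusedSectionVars false

namespace GrothLib.FunFld.SplitCount

open _root_.FunFld GrothLib.FunFld GrothLib.FunFld.SplitField WithZero Polynomial
open IntermediateField (adjoin)
open scoped TensorProduct

universe u v

noncomputable local instance (priority := high) resSMul {k K : Type*} [Field k] [Field K] [Algebra k K]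
    (P : Place k K) : SMul k (IsLocalRing.ResidueField P.O) := Algebra.toSMul

noncomputable local instance (priority := high) resModule {k K : Type*} [Field k] [Field K] [Algebra k K]
    (P : Place k K) : Module k (IsLocalRing.ResidueField P.O) := Algebra.toModule

section

variable {c F : Type*} [Field c] [Field F] [Algebra c F] (Q : Place c F)

theorem val_aeval_le_one {z : F} (hz : val Q z ≤ 1) (p : c[X]) : val Q (aeval z p) ≤ 1 := by
  induction p using Polynomial.induction_on' with
  | add a b ha hb => rw [map_add]; exact ((val Q).map_add _ _).trans (max_le ha hb)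
  | monomial n a =>
    rw [aeval_monomial, map_mul, map_pow]
    exact mul_le_one' (Q.2.1 a) (pow_le_one₀ zero_le hz)

theorem eq_of_val_sub_lt {z : F} {a b : c} (ha : val Q (z - algebraMap c F a) < 1)
    (hb : val Q (z - algebraMap c F b) < 1) : a = b := by
  by_contra hne
  have h := ((val Q).map_sub (z - algebraMap c F b) (z - algebraMap c F a)).trans_lt (max_lt hb ha)
  rw [sub_sub_sub_cancel_left, ← map_sub, val_const Q (sub_ne_zero.2 hne)] at h
  exact lt_irrefl _ h

theorem exists_const (hd : Q.deg = 1) {y : F} (hy : val Q y ≤ 1) :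
    ∃ a : c, val Q (y - algebraMap c F a) < 1 := by
  haveI : Module.Finite c (IsLocalRing.ResidueField Q.O) :=
    Module.finite_of_finrank_eq_succ (n := 0) hd
  obtain ⟨a, ha⟩ : ∃ a : c, a • (1 : IsLocalRing.ResidueField Q.O) = res Q ⟨y, hy⟩ :=
    (finrank_eq_one_iff_of_nonzero' _ one_ne_zero).1 hd _
  refine ⟨a, ?_⟩
  have h0 : res Q ((⟨y, hy⟩ : Q.O) - a • 1) = 0 := by
    rw [map_sub, map_smul, map_one, ha, sub_self]
  have := (res_eq_zero_iff Q _).1 h0
  have hc : (((⟨y, hy⟩ : Q.O) - a • 1 : Q.O) : F) = y - algebraMap c F a := by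
    rw [Algebra.smul_def, mul_one]; rfl
  rwa [hc] at this

/-- A simple root modulo the place is approximated as well as the polynomial vanishes. -/
theorem val_sub_root_le {z : F} {a : c} (hz : val Q z ≤ 1) (ha : val Q (z - algebraMap c F a) < 1)
    {f : c[X]} (hf : f.Separable) {B : WithZero (Multiplicative ℤ)} (hB : B < 1)
    (hfz : val Q (aeval z f) ≤ B) : val Q (z - algebraMap c F a) ≤ B := by
  have split : ∀ p : c[X], aeval z p =
      algebraMap c F (p.eval a) + (z - algebraMap c F a) * aeval z (p /ₘ (X - C a)) := fun p => by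
    conv_lhs => rw [← modByMonic_add_div p (X - C a), modByMonic_X_sub_C_eq_C_eval]
    simp only [map_add, map_mul, map_sub, aeval_C, aeval_X]
  set g := f /ₘ (X - C a) with hg
  have hsmall : ∀ p : c[X], val Q ((z - algebraMap c F a) * aeval z p) < 1 := fun p => by
    rw [map_mul]
    exact (mul_le_of_le_one_right' (val_aeval_le_one Q hz p)).trans_lt ha
  have hfa : f.eval a = 0 := by
    by_contra hne
    have h1 := split f
    rw [← sub_eq_iff_eq_add] at h1
    have h2 : val Q (aeval z f - (z - algebraMap c F a) * aeval z g) < 1 :=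
      ((val Q).map_sub _ _).trans_lt (max_lt (hfz.trans_lt hB) (hsmall g))
    rw [h1, val_const Q hne] at h2
    exact lt_irrefl _ h2
  have hga : g.eval a ≠ 0 := fun h0 => by
    have hd : f.derivative.eval a = 0 := by
      rw [← modByMonic_add_div f (X - C a), modByMonic_X_sub_C_eq_C_eval, hfa, ← hg]
      simp [h0]
    exact hf.eval₂_derivative_ne_zero (RingHom.id c) (x := a) (by simpa using hfa) (by simpa using hd)
  have hg1 : val Q (aeval z g) = 1 := by
    rw [split g, (val Q).map_add_eq_of_lt_left (by rw [val_const Q hga]; exact hsmall _), val_const Q hga]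
  rw [split f, hfa, map_zero, zero_add, map_mul, ← hg, hg1, mul_one] at hfz
  exact hfz

end

section Main

variable {k k' : Type u} {K K' : Type v} [Field k] [Field k'] [Field K] [Field K']
  [Algebra k k'] [FiniteDimensional k k'] [Algebra k K] [Algebra K K'] [Algebra k' K'] [Algebra k K']
  [IsScalarTower k k' K'] [IsScalarTower k K K']

/-- A place over `k'` as a place over `k`. -/
def toBase (Q : Place k' K') : Place k K' :=
  ⟨Q.1, fun a => by rw [IsScalarTower.algebraMap_apply k k' K']; exact Q.2.1 _, Q.2.2⟩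

theorem toBase_injective : Function.Injective (toBase (k := k) (k' := k') (K' := K')) :=
  fun _ _ h => Subtype.ext (congrArg Subtype.val h :)

variable (h : Function.Bijective (Algebra.TensorProduct.productMap
    (IsScalarTower.toAlgHom k k' K') (IsScalarTower.toAlgHom k K K')))
  {P : Place k K}
  (hns : integralClosure (P.O.toSubring.map (algebraMap K K')) K' =
    Algebra.adjoin (P.O.toSubring.map (algebraMap K K')) (Set.range (algebraMap k' K')))

include h hns in
theorem exists_model_approx (hK : IsFG k K) (x : Place k K' → K') (hx : ∀ R, val R (x R) ≤ 1) (n : ℕ) :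
    ∃ w : k' ⊗[k] P.O, ∀ R : Place k K', IsOver R P →
      val R (model P (IsScalarTower.toAlgHom k k' K') w - x R) ≤ exp (-(n : ℤ)) := by
  haveI := finiteDimensional_constExt h
  letI : Algebra P.O K' := ((algebraMap K K').comp P.O.subtype).toAlgebra
  haveI : IsScalarTower P.O K K' := IsScalarTower.of_algebraMap_eq fun _ => rfl
  obtain ⟨hfin, -⟩ := sum_ramIdx (K' := K') hK P
  obtain ⟨y, hy⟩ := exists_approx hfin.toFinset x fun _ => -(n : ℤ)
  have hy' : ∀ R : Place k K', IsOver R P → val R (y - x R) ≤ exp (-(n : ℤ)) := fun R hR =>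
    hy R (hfin.mem_toFinset.2 hR)
  have hint : IsIntegral P.O y := (isIntegral_iff_forall hK y).2 fun R hR => by
    rw [← sub_add_cancel y (x R)]
    refine ((val R).map_add _ _).trans (max_le ((hy' R hR).trans ?_) (hx R))
    rw [← exp_zero, exp_le_exp]; omega
  set S := P.O.toSubring.map (algebraMap K K')
  have hintS : y ∈ integralClosure S K' := by
    obtain ⟨p, hp, hev⟩ := hint
    let σ : P.O →+* S :=
      ((algebraMap K K').comp P.O.subtype).codRestrict S fun o => ⟨o, o.2, rfl⟩
    exact ⟨p.map σ, hp.map σ, by rw [Polynomial.eval₂_map]; exact hev⟩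
  rw [hns] at hintS
  suffices ∃ w, model P (IsScalarTower.toAlgHom k k' K') w = y by
    obtain ⟨w, hw⟩ := this
    exact ⟨w, fun R hR => by rw [hw]; exact hy' R hR⟩
  clear hy hy' hint
  induction hintS using Algebra.adjoin_induction with
  | mem z hz =>
    obtain ⟨a, rfl⟩ := hz
    exact ⟨a ⊗ₜ 1, by rw [model_tmul]; simp⟩
  | algebraMap r =>
    obtain ⟨_, o, ho, rfl⟩ := r
    exact ⟨1 ⊗ₜ ⟨o, ho⟩, by rw [model_tmul, map_one, one_mul]; rfl⟩
  | add a b _ _ ha hb =>
    obtain ⟨a', rfl⟩ := ha; obtain ⟨b', rfl⟩ := hb; exact ⟨a' + b', map_add _ _ _⟩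
  | mul a b _ _ ha hb =>
    obtain ⟨a', rfl⟩ := ha; obtain ⟨b', rfl⟩ := hb; exact ⟨a' * b', map_mul _ _ _⟩

theorem val_le_exp_of_res_eq_zero {Q : Place k' K'} {e : ℕ} (he : ∀ z : K, Q.1 (algebraMap K K' z) = P.1 z ^ e)
    {o : P.O} (ho : res P o = 0) : val Q (algebraMap K K' (o : K)) ≤ exp (-(e : ℤ)) := by
  have h1 := (res_eq_zero_iff P o).1 ho
  rw [← exp_zero, ← le_exp_sub_one_iff] at h1
  show Q.1 _ ≤ _
  rw [he]
  refine (pow_le_pow_left₀ zero_le h1 e).trans ?_
  rw [← exp_nsmul, exp_le_exp]; simp

theorem val_coe_le_one {Q : Place k' K'} {e : ℕ} (he : ∀ z : K, Q.1 (algebraMap K K' z) = P.1 z ^ e) (o : P.O) :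
    val Q (algebraMap K K' (o : K)) ≤ 1 := by
  show Q.1 _ ≤ _
  rw [he]; exact pow_le_one₀ zero_le o.2

include h hns in
theorem le_finrank_separableClosure (hK : IsFG k K) (hK' : IsFG k' K') (Q : Place k' K') {e : ℕ}
    (he : ∀ z : K, Q.1 (algebraMap K K' z) = P.1 z ^ e) (hd : Q.deg = 1) :
    e ≤ Module.finrank (separableClosure k (IsLocalRing.ResidueField P.O)) (IsLocalRing.ResidueField P.O) := by
  classical
  haveI hfinκ : @Module.Finite k (IsLocalRing.ResidueField P.O) _ _ Algebra.toModule := hK.finite_residueField P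
  haveI : Module.Finite (separableClosure k (IsLocalRing.ResidueField P.O)) (IsLocalRing.ResidueField P.O) :=
    Module.Finite.of_restrictScalars_finite k _ _
  haveI := finiteDimensional_constExt h
  rcases Nat.eq_zero_or_pos e with rfl | hepos
  · exact Nat.zero_le _
  set κ := IsLocalRing.ResidueField P.O
  set E := separableClosure k κ
  set ψ := IsScalarTower.toAlgHom k k' K'
  let ι : P.O →ₐ[k] K' := (IsScalarTower.toAlgHom k K K').comp (incO P)
  have hB : exp (-(e : ℤ)) < (1 : WithZero (Multiplicative ℤ)) := by rw [← exp_zero, exp_lt_exp]; omega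
  have hsep : ∀ o : P.O, res P o ∈ E → ∃ a : k', val Q (ι o - algebraMap k' K' a) ≤ exp (-(e : ℤ)) := by
    intro o ho
    have hz : val Q (ι o) ≤ 1 := val_coe_le_one he o
    obtain ⟨a, ha⟩ := exists_const Q hd hz
    refine ⟨a, val_sub_root_le Q hz ha (f := (minpoly k (res P o)).map (algebraMap k k'))
      (Polynomial.Separable.map (mem_separableClosure_iff.1 ho)) hB ?_⟩
    rw [aeval_map_algebraMap, aeval_algHom_apply ι]
    refine val_le_exp_of_res_eq_zero he ?_
    rw [← aeval_algHom_apply (res P), minpoly.aeval]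
  let b := Module.finBasis E κ
  choose o ho using fun i => res_surjective P (b i)
  let B := ball Q (-(e : ℤ))
  let W : Submodule k' K' := Submodule.span k' (Set.range fun i => ι (o i))
  have hmodel : ∀ w : k' ⊗[k] P.O, model P ψ w ∈ W ⊔ B := by
    intro w
    induction w using TensorProduct.induction_on with
    | zero => rw [map_zero]; exact zero_mem _
    | add a b ha hb => rw [map_add]; exact add_mem ha hb
    | tmul l x =>
      rw [model_tmul, show ψ l * algebraMap K K' (x : K) = l • ι x from (Algebra.smul_def l (ι x)).symm]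
      refine Submodule.smul_mem _ _ ?_
      choose α hα using fun i => res_surjective P ((b.repr (res P x) i : E) : κ)
      choose a ha using fun i => hsep (α i) (by rw [hα i]; exact SetLike.coe_mem _)
      have hdiff : res P (x - ∑ i, α i * o i) = 0 := by
        simp only [map_sub, map_sum, map_mul, hα, ho]
        rw [sub_eq_zero]
        conv_lhs => rw [← b.sum_repr (res P x)]
        rfl
      have hx : ι x = (∑ i, a i • ι (o i)) + (ι (x - ∑ i, α i * o i) +
          ∑ i, (ι (α i) - algebraMap k' K' (a i)) * ι (o i)) := by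
        simp only [map_sub, map_sum, map_mul, sub_mul, Finset.sum_sub_distrib, Algebra.smul_def]
        ring
      rw [hx]
      refine add_mem (Submodule.mem_sup_left (Submodule.sum_mem _ fun i _ =>
        Submodule.smul_mem _ _ (Submodule.subset_span ⟨i, rfl⟩))) (Submodule.mem_sup_right (add_mem ?_ ?_))
      · exact mem_ball.2 (val_le_exp_of_res_eq_zero he hdiff)
      · refine Submodule.sum_mem _ fun i _ => mem_ball.2 ?_
        rw [map_mul]
        exact (mul_le_of_le_one_right' (val_coe_le_one he (o i))).trans (ha i)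
  have hball : ball Q 0 ≤ W ⊔ B := by
    intro z hz
    obtain ⟨w, hw⟩ := exists_model_approx h hns hK
      (fun R => if R = toBase Q then z else 0) (fun R => by
        split_ifs with hR
        · subst hR; exact (mem_ball.1 hz).trans_eq exp_zero
        · simp) e
    have h1 := hw (toBase Q) ⟨e, he⟩
    rw [if_pos rfl] at h1
    rw [← sub_sub_self (model P ψ w) z]
    exact sub_mem (hmodel w) (Submodule.mem_sup_right (mem_ball.2 h1))
  haveI := hK'.finite_residueField Q
  have hcd := hasCodim_ball Q (-(e : ℤ)) e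
  rw [neg_add_cancel, hd, mul_one] at hcd
  have hWball : ∀ i, ι (o i) ∈ ball Q 0 := fun i =>
    mem_ball.2 ((val_coe_le_one he (o i)).trans_eq exp_zero.symm)
  let q : Fin (Module.finrank E κ) → (ball Q 0) ⧸ B.comap (ball Q 0).subtype :=
    fun i => Submodule.Quotient.mk ⟨ι (o i), hWball i⟩
  have hsurj : Function.Surjective (Fintype.linearCombination k' q) := by
    intro y
    obtain ⟨⟨z, hz⟩, rfl⟩ := Submodule.Quotient.mk_surjective _ y
    obtain ⟨w, hw, t, ht, hwt⟩ := Submodule.mem_sup.1 (hball hz)
    obtain ⟨l, hl⟩ := (Submodule.mem_span_range_iff_exists_fun k').1 hw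
    refine ⟨l, ?_⟩
    rw [Fintype.linearCombination_apply]
    have : ∑ i, l i • q i = Submodule.Quotient.mk (∑ i, l i • (⟨ι (o i), hWball i⟩ : ball Q 0)) := by
      simp only [q, ← Submodule.mkQ_apply, map_sum, map_smul]
    rw [this, eq_comm, Submodule.Quotient.eq]
    show (((⟨z, hz⟩ : ball Q 0) - ∑ i, l i • (⟨ι (o i), hWball i⟩ : ball Q 0) : ball Q 0) : K') ∈ B
    rw [Submodule.coe_sub, Submodule.coe_sum]
    simp only [Submodule.coe_smul]
    rw [hl, ← hwt, add_sub_cancel_left]
    exact ht
  have hle := LinearMap.finrank_le_finrank_of_surjective hsurj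
  rw [hcd.finrank_eq] at hle
  simpa using hle

theorem exists_resHom (Q : Place k' K') {e : ℕ} (hepos : 0 < e)
    (he : ∀ z : K, Q.1 (algebraMap K K' z) = P.1 z ^ e) (hd : Q.deg = 1) :
    ∃ φ : IsLocalRing.ResidueField P.O →ₐ[k] k',
      ∀ o : P.O, val Q (algebraMap K K' (o : K) - algebraMap k' K' (φ (res P o))) < 1 := by
  choose c hc using fun o : P.O => exists_const Q hd (val_coe_le_one he o)
  let f : IsLocalRing.ResidueField P.O → k' := fun a => c (Function.surjInv (res_surjective P) a)
  have hf : ∀ o, f (res P o) = c o := fun o => by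
    set o₁ := Function.surjInv (res_surjective P) (res P o)
    have h0 : res P (o₁ - o) = 0 := by rw [map_sub, Function.surjInv_eq (res_surjective P), sub_self]
    have h1 : val Q (algebraMap K K' ((o₁ - o : P.O) : K)) < 1 :=
      (val_le_exp_of_res_eq_zero he h0).trans_lt (by rw [← exp_zero, exp_lt_exp]; omega)
    refine eq_of_val_sub_lt Q ?_ (hc o)
    show val Q (algebraMap K K' (o : K) - algebraMap k' K' (c o₁)) < 1
    have h2 := ((val Q).map_sub _ _).trans_lt (max_lt (hc o₁) h1)
    rwa [show algebraMap K K' (o₁ : K) - algebraMap k' K' (c o₁) - algebraMap K K' ((o₁ - o : P.O) : K) =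
      algebraMap K K' (o : K) - algebraMap k' K' (c o₁) by simp only [AddSubgroupClass.coe_sub, map_sub]; ring] at h2
  have huniq : ∀ (o : P.O) (a : k'), val Q (algebraMap K K' (o : K) - algebraMap k' K' a) < 1 → c o = a :=
    fun o a ha => eq_of_val_sub_lt Q (hc o) ha
  have hmul : ∀ o o' : P.O, c (o * o') = c o * c o' := fun o o' => huniq _ _ (by
    have : algebraMap K K' ((o * o' : P.O) : K) - algebraMap k' K' (c o * c o') =
        (algebraMap K K' (o : K) - algebraMap k' K' (c o)) * algebraMap K K' (o' : K) +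
          algebraMap k' K' (c o) * (algebraMap K K' (o' : K) - algebraMap k' K' (c o')) := by
      simp only [MulMemClass.coe_mul, map_mul]; ring
    rw [this]
    refine ((val Q).map_add _ _).trans_lt (max_lt ?_ ?_) <;> rw [map_mul]
    · exact (mul_le_of_le_one_right' (val_coe_le_one he o')).trans_lt (hc o)
    · exact (mul_le_of_le_one_left' (Q.2.1 _)).trans_lt (hc o'))
  have hadd : ∀ o o' : P.O, c (o + o') = c o + c o' := fun o o' => huniq _ _ (by
    have : algebraMap K K' ((o + o' : P.O) : K) - algebraMap k' K' (c o + c o') =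
        (algebraMap K K' (o : K) - algebraMap k' K' (c o)) +
          (algebraMap K K' (o' : K) - algebraMap k' K' (c o')) := by
      simp only [AddMemClass.coe_add, map_add]; ring
    rw [this]
    exact ((val Q).map_add _ _).trans_lt (max_lt (hc o) (hc o')))
  have hconst : ∀ a : k, c (algebraMap k P.O a) = algebraMap k k' a := fun a => huniq _ _ (by
    rw [algebraMap_O_coe, ← IsScalarTower.algebraMap_apply, ← IsScalarTower.algebraMap_apply, sub_self]
    simp)
  let φ : IsLocalRing.ResidueField P.O →ₐ[k] k' :=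
    { toFun := f
      map_one' := by rw [← map_one (res P), hf, ← map_one (algebraMap k P.O), hconst, map_one]
      map_mul' := fun a b => by
        obtain ⟨o, rfl⟩ := res_surjective P a
        obtain ⟨o', rfl⟩ := res_surjective P b
        rw [← map_mul, hf, hf, hf, hmul]
      map_zero' := by rw [← map_zero (res P), hf, ← map_zero (algebraMap k P.O), hconst, map_zero]
      map_add' := fun a b => by
        obtain ⟨o, rfl⟩ := res_surjective P a
        obtain ⟨o', rfl⟩ := res_surjective P b
        rw [← map_add, hf, hf, hf, hadd]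
      commutes' := fun a => by rw [← (res P).commutes, hf, hconst] }
  refine ⟨φ, fun o => ?_⟩
  show val Q (_ - algebraMap k' K' (f (res P o))) < 1
  rw [hf]; exact hc o

include h hns in
theorem resHom_injective (hK : IsFG k K) {Q₁ Q₂ : Place k' K'}
    (h₁ : ∃ e : ℕ, ∀ z : K, Q₁.1 (algebraMap K K' z) = P.1 z ^ e)
    (h₂ : ∃ e : ℕ, ∀ z : K, Q₂.1 (algebraMap K K' z) = P.1 z ^ e)
    (φ : IsLocalRing.ResidueField P.O →ₐ[k] k')
    (hφ₁ : ∀ o : P.O, val Q₁ (algebraMap K K' (o : K) - algebraMap k' K' (φ (res P o))) < 1)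
    (hφ₂ : ∀ o : P.O, val Q₂ (algebraMap K K' (o : K) - algebraMap k' K' (φ (res P o))) < 1) :
    Q₁ = Q₂ := by
  classical
  by_contra hne
  obtain ⟨w, hw⟩ := exists_model_approx h hns hK (fun R => if R = toBase Q₁ then 1 else 0)
    (fun R => by split_ifs <;> simp) 1
  have hall : ∀ w : k' ⊗[k] P.O, ∃ a : k', ∀ Q : Place k' K',
      (∀ o : P.O, val Q (algebraMap K K' (o : K) - algebraMap k' K' (φ (res P o))) < 1) →
      val Q (model P (IsScalarTower.toAlgHom k k' K') w - algebraMap k' K' a) < 1 := by
    intro w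
    induction w using TensorProduct.induction_on with
    | zero => exact ⟨0, fun Q _ => by simp⟩
    | tmul l o =>
      refine ⟨l * φ (res P o), fun Q hQ => ?_⟩
      rw [model_tmul, IsScalarTower.toAlgHom_apply, map_mul, ← mul_sub, map_mul]
      exact (mul_le_of_le_one_left' (Q.2.1 l)).trans_lt (hQ o)
    | add a b ha hb =>
      obtain ⟨a', ha'⟩ := ha; obtain ⟨b', hb'⟩ := hb
      refine ⟨a' + b', fun Q hQ => ?_⟩
      rw [map_add, map_add, add_sub_add_comm]
      exact ((val Q).map_add _ _).trans_lt (max_lt (ha' Q hQ) (hb' Q hQ))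
  obtain ⟨a, ha⟩ := hall w
  have h1 := hw (toBase Q₁) h₁
  have h2 := hw (toBase Q₂) h₂
  rw [if_pos rfl] at h1
  rw [if_neg fun hh => hne (toBase_injective hh).symm, sub_zero] at h2
  have hlt : exp (-((1 : ℕ) : ℤ)) < (1 : WithZero (Multiplicative ℤ)) := by rw [← exp_zero, exp_lt_exp]; omega
  have e1 : (1 : k') = a := eq_of_val_sub_lt Q₁ (by rw [map_one]; exact h1.trans_lt hlt) (ha Q₁ hφ₁)
  have e2 : (0 : k') = a := eq_of_val_sub_lt Q₂ (by rw [map_zero, sub_zero]; exact h2.trans_lt hlt) (ha Q₂ hφ₂)
  exact one_ne_zero (e1.trans e2.symm)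

include h hns in
theorem card_places (hK : IsFG k K)
    (hsplit : ∀ Q : Place k' K', (∃ e : ℕ, ∀ z : K, Q.1 (algebraMap K K' z) = P.1 z ^ e) → Q.deg = 1) :
    {Q : Place k' K' | ∃ e : ℕ, ∀ z : K, Q.1 (algebraMap K K' z) = P.1 z ^ e}.Finite ∧
    {Q : Place k' K' | ∃ e : ℕ, ∀ z : K, Q.1 (algebraMap K K' z) = P.1 z ^ e}.ncard =
      Field.finSepDegree k (IsLocalRing.ResidueField P.O) ∧
    ∀ Q : Place k' K', (∃ e : ℕ, ∀ z : K, Q.1 (algebraMap K K' z) = P.1 z ^ e) →
      ∀ z : K, Q.1 (algebraMap K K' z) =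
        P.1 z ^ Module.finrank (separableClosure k (IsLocalRing.ResidueField P.O)) (IsLocalRing.ResidueField P.O) := by
  classical
  haveI hfinκ : @Module.Finite k (IsLocalRing.ResidueField P.O) _ _ Algebra.toModule := hK.finite_residueField P
  haveI : Module.Finite (separableClosure k (IsLocalRing.ResidueField P.O)) (IsLocalRing.ResidueField P.O) :=
    Module.Finite.of_restrictScalars_finite k _ _
  haveI := finiteDimensional_constExt h
  set κ := IsLocalRing.ResidueField P.O
  set m := Module.finrank (separableClosure k κ) κ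
  have hbar : RH.IsBar k K k' K' := h
  obtain ⟨x, hxP, hxreg⟩ := exists_single_pole hK P
  have hxt : Transcendental k x := transcendental_of_ord_ne_zero (P := P) hxP.ne
  haveI := IsFG.finiteDimensional_adjoin hK hxt
  set x' := algebraMap K K' x
  have hx't : Transcendental k' x' := hbar.transcendental hxt
  haveI := hbar.finiteDimensional (x := x)
  have hfg' : IsFG k' K' := ⟨x', hx't, inferInstance⟩
  obtain ⟨S, hS, hSsum⟩ := exists_poles hfg' hx't
  have hmem : ∀ Q : Place k' K', Q ∈ S ↔ ∃ e : ℕ, ∀ z : K, Q.1 (algebraMap K K' z) = P.1 z ^ e := by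
    intro Q
    rw [hS]
    obtain ⟨P', e, he0, he⟩ := exists_isOverWith (K := K) (toBase (k := k) Q)
    have hord : Q.ord x' = e * P'.ord x := ord_of_isOverWith he x
    constructor
    · intro hneg
      obtain rfl : P' = P := by
        by_contra hne
        have := hxreg P' hne
        rw [hord] at hneg
        exact absurd hneg (not_lt.2 (mul_nonneg (Int.natCast_nonneg _) this))
      exact ⟨e, he⟩
    · rintro ⟨e', he'⟩
      obtain ⟨rfl, rfl⟩ := isOverWith_unique (Q := toBase (k := k) Q) he he'
      rw [hord]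
      exact mul_neg_of_pos_of_neg (by exact_mod_cast he0) hxP
  have hset : {Q : Place k' K' | ∃ e : ℕ, ∀ z : K, Q.1 (algebraMap K K' z) = P.1 z ^ e} = (S : Set _) :=
    Set.ext fun Q => (hmem Q).symm
  choose ex hex using fun Q : S => (hmem Q.1).1 Q.2
  have hdeg : ∀ Q : S, Q.1.deg = 1 := fun Q => hsplit Q.1 ⟨ex Q, hex Q⟩
  have hepos : ∀ Q : S, 0 < ex Q := fun Q => pos_of_isOverWith (Q := toBase (k := k) Q.1) (hex Q)
  have hsum : ∑ Q : S, ex Q = P.deg := by
    have h1 : Module.finrank (adjoin k' ({x'} : Set K')) K' = Module.finrank (adjoin k ({x} : Set K)) K :=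
      le_antisymm (finrank_adjoin_le hbar x) (le_finrank_adjoin hbar hxt)
    have h2 := hK.deg_poleDiv hxt
    rw [poleDiv_eq_single hK (P := P) (n := -P.ord x) (by omega) (by ring) hxreg, deg_single, ← h1,
      ← hSsum, ← Finset.sum_coe_sort S] at h2
    have h3 : ∀ Q : S, -Q.1.ord x' * (Q.1.deg : ℤ) = -P.ord x * ex Q := fun Q => by
      rw [hdeg Q, show Q.1.ord x' = ex Q * P.ord x from ord_of_isOverWith (Q := toBase (k := k) Q.1) (hex Q) x]
      push_cast; ring
    rw [Finset.sum_congr rfl (fun Q _ => h3 Q), ← Finset.mul_sum] at h2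
    exact_mod_cast (mul_left_cancel₀ (by omega : -P.ord x ≠ 0) h2).symm
  have hle : ∀ Q : S, ex Q ≤ m := fun Q => le_finrank_separableClosure h hns hK hfg' Q.1 (hex Q) (hdeg Q)
  choose φ hφ using fun Q : S => exists_resHom Q.1 (hepos Q) (hex Q) (hdeg Q)
  let ιk : k' →ₐ[k] AlgebraicClosure κ := IsAlgClosed.lift
  have hinj : Function.Injective (fun Q : S => (ιk.comp (φ Q) : Field.Emb k κ)) := by
    intro Q₁ Q₂ heq
    have hφeq : φ Q₂ = φ Q₁ := AlgHom.ext fun a => (ιk.toRingHom.injective (DFunLike.congr_fun heq a)).symm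
    exact Subtype.ext (resHom_injective h hns hK ⟨_, hex Q₁⟩ ⟨_, hex Q₂⟩ (φ Q₁) (hφ Q₁) (hφeq ▸ hφ Q₂))
  have hcard : S.card ≤ Field.finSepDegree k κ := by
    have := Nat.card_le_card_of_injective _ hinj
    simpa [Field.finSepDegree] using this
  have hdm : Field.finSepDegree k κ * m = P.deg := Field.finSepDegree_mul_finInsepDegree k κ
  have hm : 0 < m := Module.finrank_pos
  have htot : ∑ Q : S, ex Q = Field.finSepDegree k κ * m := by rw [hsum, hdm]
  have hub : ∑ Q : S, ex Q ≤ S.card * m := by
    simpa using Finset.sum_le_card_nsmul Finset.univ ex m fun Q _ => hle Q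
  have hN : S.card = Field.finSepDegree k κ := le_antisymm hcard (Nat.le_of_mul_le_mul_right (htot ▸ hub) hm)
  refine ⟨hset ▸ S.finite_toSet, by rw [hset, Set.ncard_coe_finset, hN], fun Q hQ z => ?_⟩
  have hQS := (hmem Q).2 hQ
  have heq : ex ⟨Q, hQS⟩ = m := by
    by_contra hne
    have hlt : ∑ R : S, ex R < ∑ _R : S, m :=
      Finset.sum_lt_sum (fun R _ => hle R) ⟨⟨Q, hQS⟩, Finset.mem_univ _, lt_of_le_of_ne (hle _) hne⟩
    rw [htot, Finset.sum_const, Finset.card_univ, Fintype.card_coe, smul_eq_mul, hN] at hlt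
    exact lt_irrefl _ hlt
  rw [← heq]
  exact hex ⟨Q, hQS⟩ z

end Main

end GrothLib.FunFld.SplitCount
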