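import Groth.Agent.Lib.FunFld.PlaneSetup
import Groth.Agent.Lib.FunFld.RR

/-!
The genus of a plane curve and nonsingularity.
-/

set_option autoImplicit false
set_option linter.style.haveILetI false

namespace GrothLib.FunFld

open Polynomial _root_.FunFld
open scoped Polynomial.Bivariate

variable {k K : Type*} [Field k] [Field K] [Algebra k K] {u v : K} {F : k[X][Y]}

theorem le_ord_of_val_le (P : Place k K) {u w : K} (hu0 : u ≠ 0) (hu : P.ord u ≤ 0)
    (h : val P w ≤ val P u) : P.ord u ≤ P.ord w := by
  by_cases hw : w = 0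
  · simpa [hw, Place.ord] using hu
  · rw [val_eq P hw, val_eq P hu0, WithZero.exp_le_exp] at h; omega

theorem IsPlaneModel.mapDiv_eq (h : IsPlaneModel u v F) (hfg : IsFG k K) {x : K} {c : k}
    (hx : u = x + algebraMap k K c * v) : mapDiv k ![(1 : K), x, v] = poleDiv u := by
  classical
  ext P
  rw [mapDiv_apply hfg, hfg.poleDiv_apply]
  have hinf : ∀ g : Fin 3 → ℤ, Finset.univ.inf' Finset.univ_nonempty g = min (g 0) (min (g 1) (g 2)) := by
    intro g
    refine le_antisymm (le_min (Finset.inf'_le g (Finset.mem_univ 0)) (le_min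
      (Finset.inf'_le g (Finset.mem_univ 1)) (Finset.inf'_le g (Finset.mem_univ 2)))) ?_
    refine Finset.le_inf' _ _ fun i _ => ?_
    fin_cases i <;> simp
  rw [hinf]
  show -min (P.ord (1 : K)) (min (P.ord x) (P.ord v)) = _
  rw [show (1 : K) = algebraMap k K 1 by rw [map_one], ord_const]
  have hu0 := h.u_ne_zero
  have hv := h.val_v_le P
  rcases le_or_gt (val P u) 1 with hu | hu
  · have hu' := (val_le_one_iff P hu0).1 hu
    have hxval : val P x ≤ 1 := by
      rw [show x = u - algebraMap k K c * v by rw [hx]; ring]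
      refine ((val P).map_sub _ _).trans (max_le hu ?_)
      rw [map_mul]
      exact mul_le_one' (P.2.1 c) (hv.trans (max_le hu le_rfl))
    have key : ∀ w : K, val P w ≤ 1 → 0 ≤ P.ord w := fun w hw => by
      by_cases hw0 : w = 0
      · simp [hw0, Place.ord]
      · exact (val_le_one_iff P hw0).1 hw
    have := key x hxval
    have := key v (hv.trans (max_le hu le_rfl))
    omega
  · have hu' : P.ord u < 0 := by
      rw [val_eq P hu0, ← WithZero.exp_zero, WithZero.exp_lt_exp] at hu; omega
    have hv' : val P v ≤ val P u := hv.trans (max_le le_rfl hu.le)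
    have hxval : val P x ≤ val P u := by
      rw [show x = u - algebraMap k K c * v by rw [hx]; ring]
      refine ((val P).map_sub _ _).trans (max_le le_rfl ?_)
      rw [map_mul]
      exact (mul_le_of_le_one_left' (P.2.1 c)).trans hv'
    have h1 := le_ord_of_val_le P hu0 hu'.le hxval
    have h2 := le_ord_of_val_le P hu0 hu'.le hv'
    have h3 : P.ord x ≤ P.ord u ∨ P.ord v ≤ P.ord u := by
      by_contra hcon
      push Not at hcon
      have hlt : ∀ w : K, P.ord u < P.ord w → val P w < val P u := fun w hw => by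
        by_cases hw0 : w = 0
        · rw [hw0, map_zero]; exact zero_lt_one.trans hu
        · rw [val_eq P hw0, val_eq P hu0, WithZero.exp_lt_exp]; omega
      have := (val P).map_add_lt (hlt x hcon.1)
        (show val P (algebraMap k K c * v) < val P u by
          rw [map_mul]; exact (mul_le_of_le_one_left' (P.2.1 c)).trans_lt (hlt v hcon.2))
      rw [← hx] at this
      exact lt_irrefl _ this
    rw [max_eq_left (by omega)]
    omega

theorem IsPlaneModel.deg_poleDiv (h : IsPlaneModel u v F) (hfg : IsFG k K) :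
    (poleDiv (k := k) u).deg = F.natDegree := by
  rw [hfg.deg_poleDiv h.pair.tr, h.pair.deg]

theorem span_change_eq (x v : K) (c : k) :
    Submodule.span k (Set.range ![(1 : K), x, v]) =
      Submodule.span k (Set.range ![(1 : K), x + algebraMap k K c * v, v]) := by
  refine le_antisymm ?_ ?_ <;> rw [Submodule.span_le] <;> rintro _ ⟨i, rfl⟩ <;> fin_cases i
  · exact Submodule.subset_span ⟨0, rfl⟩
  · show x ∈ Submodule.span k (Set.range ![(1 : K), x + algebraMap k K c * v, v])
    have h := sub_mem (Submodule.subset_span (R := k) (show x + algebraMap k K c * v ∈ Set.range ![(1 : K), x + algebraMap k K c * v, v] from ⟨1, by simp⟩))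
      (Submodule.smul_mem _ c (Submodule.subset_span (R := k) (show v ∈ Set.range ![(1 : K), x + algebraMap k K c * v, v] from ⟨2, by simp⟩)))
    rwa [Algebra.smul_def, add_sub_cancel_right] at h
  · exact Submodule.subset_span ⟨2, rfl⟩
  · exact Submodule.subset_span ⟨0, rfl⟩
  · show x + algebraMap k K c * v ∈ Submodule.span k (Set.range ![(1 : K), x, v])
    rw [← Algebra.smul_def]
    exact add_mem (Submodule.subset_span ⟨1, by simp⟩) (Submodule.smul_mem _ c (Submodule.subset_span ⟨2, by simp⟩))
  · exact Submodule.subset_span ⟨2, rfl⟩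

theorem IsPlaneModel.isLead (h : IsPlaneModel u v F) (P : Place k K) :
    (val P u ≤ 1 → IsLead ![(1 : K), u, v] P 0) ∧ (1 < val P u → IsLead ![(1 : K), u, v] P 1) := by
  have hv := h.val_v_le P
  refine ⟨fun hu => ⟨by simp, fun i => ?_⟩, fun hu => ⟨by simpa using h.u_ne_zero, fun i => ?_⟩⟩
  · fin_cases i
    · simp
    · simpa using hu
    · simpa using hv.trans (max_le hu le_rfl)
  · fin_cases i
    · simpa using hu.le
    · simp
    · simpa using hv.trans (max_le le_rfl hu.le)

theorem exists_chart_zero {z : K} (hz : z ∈ chart k ![(1 : K), u, v] 0) :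
    ∃ G : k[X][Y], aevalAeval u v G = z := by
  have : chart k ![(1 : K), u, v] 0 ≤ (aevalAeval (R := k) u v).range := by
    refine Algebra.adjoin_le ?_
    rintro _ ⟨i, rfl⟩
    fin_cases i
    · exact ⟨1, by simp⟩
    · exact ⟨C X, by simp⟩
    · exact ⟨Y, by simp⟩
  exact this hz

theorem exists_chart_one (hu : u ≠ 0) {z : K} (hz : z ∈ chart k ![(1 : K), u, v] 1) :
    ∃ G : k[X][Y], aevalAeval u⁻¹ (v / u) G = z := by
  have : chart k ![(1 : K), u, v] 1 ≤ (aevalAeval (R := k) u⁻¹ (v / u)).range := by
    refine Algebra.adjoin_le ?_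
    rintro _ ⟨i, rfl⟩
    fin_cases i
    · exact ⟨C X, by simp⟩
    · exact ⟨1, by simp [hu]⟩
    · exact ⟨Y, by simp⟩
  exact this hz

theorem IsPlaneModel.isLocallyComplete (h : IsPlaneModel u v F)
    (hns : ∀ P : Place k K, IsNonsingularAt ![(1 : K), u, v] P) : IsLocallyComplete (k := k) u v := by
  intro P z hz
  refine ⟨fun hu => ?_, fun hu => ?_⟩
  · obtain ⟨U, hU, W, hW, hW1, he⟩ := (inLocRing_iff ((h.isLead P).1 hu)).1 (hns P z hz)
    obtain ⟨U', rfl⟩ := exists_chart_zero hU
    obtain ⟨W', rfl⟩ := exists_chart_zero hW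
    exact ⟨W', U', hW1, he⟩
  · obtain ⟨U, hU, W, hW, hW1, he⟩ := (inLocRing_iff ((h.isLead P).2 hu)).1 (hns P z hz)
    obtain ⟨U', rfl⟩ := exists_chart_one h.u_ne_zero hU
    obtain ⟨W', rfl⟩ := exists_chart_one h.u_ne_zero hW
    exact ⟨W', U', hW1, he⟩

theorem IsPlaneModel.two_mul_finrank_planeSpan (h : IsPlaneModel u v F) {m : ℕ} (hm : F.natDegree ≤ m + 1) :
    2 * (Module.finrank k (planeSpan (k := k) u v m) : ℤ) =
      2 * (m : ℤ) * F.natDegree + 2 - ((F.natDegree : ℤ) - 1) * ((F.natDegree : ℤ) - 2) := by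
  rw [h.finrank_planeSpan, two_mul_sum_range_sub _ _ hm]

/-- The genus of a plane curve of degree `d` is at most `(d-1)(d-2)/2`. -/
theorem IsPlaneModel.two_mul_genus_le (h : IsPlaneModel u v F) (hK : IsFunctionField k K) :
    2 * (genus k K : ℤ) ≤ ((F.natDegree : ℤ) - 1) * ((F.natDegree : ℤ) - 2) := by
  have hfg : IsFG k K := hK.1
  set m := F.natDegree + 2 * genus k K
  have hd := h.pair.natDegree_pos
  have hdeg : ((m : ℤ) • poleDiv (k := k) u).deg = m * F.natDegree := by
    rw [deg_eq_degHom, Finsupp.sum_smul_index (fun P => by simp), ← h.deg_poleDiv hfg, deg_eq_degHom,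
      Finsupp.mul_sum]
    exact Finsupp.sum_congr fun P _ => by ring
  have h1 : 2 * (genus k K : ℤ) - 1 ≤ ((m : ℤ) • poleDiv (k := k) u).deg := by
    rw [hdeg]
    have : (m : ℤ) ≤ m * F.natDegree := le_mul_of_one_le_right (by omega) (by omega)
    omega
  have hell := ell_eq_of_deg_ge hK h1
  haveI := hfg.finite_L ((m : ℤ) • poleDiv (k := k) u)
  have hle := Submodule.finrank_mono (h.planeSpan_le_L hfg m)
  have hcount := h.two_mul_finrank_planeSpan (m := m) (by omega)
  rw [hdeg] at hell
  have : (Module.finrank k (planeSpan (k := k) u v m) : ℤ) ≤ (ell ((m : ℤ) • poleDiv (k := k) u) : ℤ) := by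
    exact_mod_cast hle
  linarith

variable [IsAlgClosed k]

/-- Equality holds exactly for nonsingular curves. -/
theorem IsPlaneModel.two_mul_genus_eq_iff (h : IsPlaneModel u v F) (hK : IsFunctionField k K) :
    2 * (genus k K : ℤ) = ((F.natDegree : ℤ) - 1) * ((F.natDegree : ℤ) - 2) ↔
      ∀ P : Place k K, IsNonsingularAt ![(1 : K), u, v] P := by
  classical
  have hfg : IsFG k K := hK.1
  have hd := h.pair.natDegree_pos
  have hdeg : ∀ m : ℕ, ((m : ℤ) • poleDiv (k := k) u).deg = m * F.natDegree := fun m => by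
    rw [deg_eq_degHom, Finsupp.sum_smul_index (fun P => by simp), ← h.deg_poleDiv hfg, deg_eq_degHom,
      Finsupp.mul_sum]
    exact Finsupp.sum_congr fun P _ => by ring
  constructor
  · intro heq P z hz
    set E := poleDiv (k := k) z with hEdef
    have hE0 : 0 ≤ E.deg := deg_nonneg (by rw [hEdef]; exact le_sup_right)
    have hEP : E P = 0 := by
      rw [hEdef, hfg.poleDiv_apply]
      by_cases hz0 : z = 0
      · simp [hz0, Place.ord]
      · have := (val_le_one_iff P hz0).1 hz
        omega
    set m := F.natDegree + 2 * genus k K + E.deg.toNat + 1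
    set D := (m : ℤ) • poleDiv (k := k) u with hD
    have hdm : (m : ℤ) ≤ D.deg := by rw [hD, hdeg]; nlinarith
    have hspan : planeSpan (k := k) u v m = L D := by
      haveI := hfg.finite_L D
      refine Submodule.eq_of_le_of_finrank_eq (h.planeSpan_le_L hfg m) ?_
      have h1 := ell_eq_of_deg_ge hK (D := D) (by omega)
      have h2 := h.two_mul_finrank_planeSpan (m := m) (by omega)
      rw [show D.deg = (m : ℤ) * F.natDegree from hdeg m] at h1
      have : (Module.finrank k (planeSpan (k := k) u v m) : ℤ) = (ell D : ℤ) := by linarith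
      exact_mod_cast this
    have hlt : L (D - E - Finsupp.single P 1) < L (D - E) := by
      refine lt_of_le_of_ne (L_mono (sub_le_self _ (Finsupp.single_nonneg.2 zero_le_one))) fun he => ?_
      have h1 := ell_eq_of_deg_ge hK (D := D - E) (by rw [deg_sub]; omega)
      have h2 := ell_eq_of_deg_ge hK (D := D - E - Finsupp.single P 1)
        (by rw [deg_sub, deg_sub, deg_single, hfg.deg_eq_one P]; omega)
      simp only [ell] at h1 h2
      rw [← he, h2, deg_sub (D - E), deg_single, hfg.deg_eq_one P] at h1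
      omega
    obtain ⟨w, hw, hw'⟩ := SetLike.exists_of_lt hlt
    have hwP : val P w = WithZero.exp (D P) := by
      have h1 := hw P
      rw [Finsupp.sub_apply, hEP, sub_zero] at h1
      refine le_antisymm h1 (not_lt.1 fun hcon => hw' fun R => ?_)
      by_cases hR : R = P
      · rw [hR, Finsupp.sub_apply, Finsupp.sub_apply, hEP, sub_zero, Finsupp.single_eq_same,
          le_exp_sub_one_iff]
        exact hcon
      · rw [Finsupp.sub_apply (g₁ := D - E), Finsupp.single_eq_of_ne hR, sub_zero]
        exact hw R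
    have hwD : w ∈ L D := L_mono (sub_le_self _ (by rw [hEdef]; exact le_sup_right)) hw
    have hzwD : z * w ∈ L D := fun R => by
      show val R (z * w) ≤ _
      have h1 := hw R
      rw [Finsupp.sub_apply] at h1
      by_cases hz0 : z = 0
      · simp [hz0]
      rw [map_mul]
      refine (mul_le_mul' (le_of_eq (val_eq R hz0)) h1).trans ?_
      rw [← WithZero.exp_add, WithZero.exp_le_exp, hEdef, hfg.poleDiv_apply]
      omega
    rw [← hspan, mem_planeSpan] at hwD hzwD
    obtain ⟨G, hG, hGe⟩ := hwD
    obtain ⟨H, hH, hHe⟩ := hzwD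
    rcases le_or_gt (val P u) 1 with hu | hu
    · have hlead := (h.isLead P).1 hu
      have hc : ∀ G : k[X][Y], aevalAeval u v G ∈ chart k ![(1 : K), u, v] 0 := fun G =>
        aevalAeval_mem _ (Algebra.subset_adjoin (show u ∈ Set.range (fun i => ![(1 : K), u, v] i / ![(1 : K), u, v] 0) from ⟨1, by simp⟩)) (Algebra.subset_adjoin (show v ∈ Set.range (fun i => ![(1 : K), u, v] i / ![(1 : K), u, v] 0) from ⟨2, by simp⟩)) G
      have hD0 : D P = 0 := by
        rw [hD, Finsupp.smul_apply, hfg.poleDiv_apply]
        have := (val_le_one_iff P h.u_ne_zero).1 hu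
        rw [max_eq_right (by omega), smul_zero]
      refine (inLocRing_iff hlead).2 ⟨_, hc H, _, hc G, ?_, ?_⟩
      · rw [hGe, hwP, hD0, WithZero.exp_zero]
      · rw [hGe, hHe]
    · have hlead := (h.isLead P).2 hu
      have hu0 := h.u_ne_zero
      have hc : ∀ G : k[X][Y], aevalAeval u⁻¹ (v / u) G ∈ chart k ![(1 : K), u, v] 1 := fun G =>
        aevalAeval_mem _ (Algebra.subset_adjoin (show u⁻¹ ∈ Set.range (fun i => ![(1 : K), u, v] i / ![(1 : K), u, v] 1) from ⟨0, by simp⟩)) (Algebra.subset_adjoin (show v / u ∈ Set.range (fun i => ![(1 : K), u, v] i / ![(1 : K), u, v] 1) from ⟨2, by simp⟩)) G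
      refine (inLocRing_iff hlead).2 ⟨_, hc (hmg m H), _, hc (hmg m G), ?_, ?_⟩
      · rw [aevalAeval_hmg hG hu0, hGe, map_div₀, hwP, map_pow, val_eq P hu0, ← WithZero.exp_nsmul,
          hD, Finsupp.smul_apply, hfg.poleDiv_apply, max_eq_left (by
            rw [val_eq P hu0, ← WithZero.exp_zero, WithZero.exp_lt_exp] at hu; omega), smul_eq_mul,
          nsmul_eq_mul, div_self WithZero.exp_ne_zero]
      · rw [aevalAeval_hmg hG hu0, aevalAeval_hmg hH hu0, hGe, hHe, mul_div_assoc]
  · intro hns
    set m := F.natDegree + 2 * genus k K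
    have he := h.planeSpan_eq_L hfg (h.isLocallyComplete hns) m
    have hell := ell_eq_of_deg_ge hK (D := (m : ℤ) • poleDiv (k := k) u) (by
      rw [hdeg]
      have : (m : ℤ) ≤ m * F.natDegree := le_mul_of_one_le_right (by omega) (by omega)
      omega)
    have hcount := h.two_mul_finrank_planeSpan (m := m) (by omega)
    rw [he] at hcount
    rw [hdeg] at hell
    simp only [ell] at hell
    linarith

end GrothLib.FunFld
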