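import Groth.Agent.Lib.FunFld.CliffordEq
import Groth.Agent.Lib.FunFld.Embedding
import Groth.Agent.Lib.FunFld.PlaneGenus
import Mathlib.LinearAlgebra.QuadraticForm.IsometryEquiv
import Mathlib.LinearAlgebra.Matrix.BilinearForm

/-!
# Divisors computing a small Clifford index
-/

set_option autoImplicit false
set_option linter.style.haveILetI false
set_option linter.unusedSectionVars false

noncomputable section

namespace GrothLib.FunFld.CliffIdx

open _root_.FunFld GrothLib.FunFld

variable {k K : Type*} [Field k] [IsAlgClosed k] [Field K] [Algebra k K]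

/-- `c` is a lower bound for the Clifford index. -/
def Bound (k : Type*) [Field k] {K : Type*} [Field K] [Algebra k K] (C : Divisor k K) (c : ℕ) : Prop :=
  ∀ A : Divisor k K, 2 ≤ ell A → 2 ≤ ell (C - A) → 2 * (ell A : ℤ) - 2 + c ≤ A.deg

theorem ell_le_sub_add (h : IsFG k K) (A B : Divisor k K) (hB : 0 ≤ B) :
    (ell A : ℤ) ≤ ell (A - B) + B.deg := by
  have h1 := h.ell_sub_ell_le (D₁ := A - B) (D₂ := A) (sub_le_self _ hB)
  rw [deg_sub] at h1
  linarith

theorem exists_sub_effective (h : IsFG k K) {E : Divisor k K} (hE : 0 ≤ E) :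
    ∀ n : ℕ, (n : ℤ) ≤ E.deg → ∃ S : Divisor k K, 0 ≤ S ∧ S ≤ E ∧ S.deg = n := by
  classical
  intro n
  induction n with
  | zero => exact fun _ => ⟨0, le_rfl, hE, by simp [deg_zero]⟩
  | succ n ih =>
    intro hn
    push_cast at hn
    obtain ⟨S, hS0, hSE, hSd⟩ := ih (by omega)
    obtain ⟨P, hP⟩ := exists_single_le (sub_nonneg.2 hSE) (fun h0 => by
      have := congrArg Divisor.deg h0
      rw [deg_sub, deg_zero] at this
      omega)
    refine ⟨S + Finsupp.single P 1, add_nonneg hS0 (Finsupp.single_nonneg.2 zero_le_one), ?_, ?_⟩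
    · exact le_sub_iff_add_le'.1 hP
    · rw [deg_add, deg_single, h.deg_eq_one P, hSd]; push_cast; ring

/-- A system of dimension at least `c + 2` computing the Clifford index `c` yields a smaller one. -/
theorem exists_descent (h : IsFunctionField k K) {C : Divisor k K} (hC : IsCanonical k K C) {c : ℕ}
    (hc : 1 ≤ c) (hb : Bound k C c) {D : Divisor k K} {r : ℕ} (hd : D.deg = 2 * r + c) (hl : ell D = r + 1)
    (hr : c + 2 ≤ r) (hdg : (D.deg : ℤ) + 1 ≤ genus k K) :
    ∃ (G : Divisor k K) (r' : ℕ), 1 ≤ r' ∧ r' < r ∧ G.deg = 2 * r' + c ∧ ell G = r' + 1 ∧ 2 ≤ ell (C - G) := by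
  classical
  have hfg : IsFG k K := h.1
  obtain ⟨-, hdC⟩ := ell_canonical h hC
  have hRR := riemann_roch' h hC D
  have hcd : 2 ≤ ell (C - D) := by omega
  obtain ⟨y, hy0, -, hy⟩ := hfg.exists_of_ell_pos (D := C - D) (by omega)
  obtain ⟨E, hEdef⟩ : ∃ E, E = C - D + div k y := ⟨_, rfl⟩
  rw [← hEdef] at hy
  have hEdeg : E.deg = 2 * (genus k K : ℤ) - 2 - D.deg := by
    rw [hEdef, deg_add, deg_sub, hfg.deg_div, hdC]; ring
  obtain ⟨S, hS0, hSE, hSd⟩ := exists_sub_effective hfg hy (c + 1) (by push_cast; omega)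
  obtain ⟨R, hR⟩ := CurveRR.FF.exists_place_notMem hfg E.support
  have hR0 : E R = 0 := Finsupp.notMem_support_iff.1 hR
  have hSR : 0 ≤ S + Finsupp.single R 1 := add_nonneg hS0 (Finsupp.single_nonneg.2 zero_le_one)
  have hlow := ell_le_sub_add hfg D _ hSR
  rw [deg_add, deg_single, hfg.deg_eq_one R, hSd] at hlow
  push_cast at hlow
  obtain ⟨x, hx0, -, hx⟩ := hfg.exists_of_ell_pos (D := D - (S + Finsupp.single R 1)) (by omega)
  obtain ⟨D1, hD1def⟩ : ∃ D1, D1 = D + div k x := ⟨_, rfl⟩
  have hD1 : S + Finsupp.single R 1 ≤ D1 := by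
    rw [hD1def, ← sub_nonneg, show D + div k x - (S + Finsupp.single R 1) = D - (S + Finsupp.single R 1) + div k x by abel]
    exact hx
  obtain ⟨G, hGdef⟩ : ∃ G, G = D1 ⊓ E := ⟨_, rfl⟩
  have hGS : S ≤ G := hGdef ▸ le_inf ((le_add_of_nonneg_right (Finsupp.single_nonneg.2 zero_le_one)).trans hD1) hSE
  have hGR : G + Finsupp.single R 1 ≤ D1 := fun P => by
    rw [Finsupp.add_apply, hGdef, Finsupp.inf_apply]
    rcases eq_or_ne R P with rfl | hP
    · rw [Finsupp.single_eq_same, hR0]
      have h1 : D1 R ⊓ 0 ≤ 0 := inf_le_right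
      have h2 := hD1 R
      rw [Finsupp.add_apply, Finsupp.single_eq_same] at h2
      have h3 := hS0 R
      rw [Finsupp.zero_apply] at h3
      omega
    · rw [Finsupp.single_eq_of_ne' hP, add_zero]; exact inf_le_left
  have hGd1 := deg_mono hGS
  have hGd2 := deg_mono hGR
  rw [hSd] at hGd1
  rw [deg_add, deg_single, hfg.deg_eq_one R, hD1def, deg_add, hfg.deg_div] at hGd2
  push_cast at hGd1 hGd2
  have hsum := ell_add_ell_le_inf_sup hfg D1 E
  have e1 : ell D1 = ell D := by rw [hD1def, hfg.ell_add_div _ hx0]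
  have e2 : ell E = ell (C - D) := by rw [hEdef, hfg.ell_add_div _ hy0]
  have hsupeq : D1 ⊔ E = C - G + div k (x * y) := by
    have h3 : G + (D1 ⊔ E) = D1 + E := hGdef ▸ inf_add_sup D1 E
    rw [hfg.div_mul hx0 hy0]
    calc D1 ⊔ E = (G + (D1 ⊔ E)) - G := by abel
      _ = (D + div k x + (C - D + div k y)) - G := by rw [h3, hD1def, hEdef]
      _ = _ := by abel
  rw [← hGdef, e1, e2, hsupeq, hfg.ell_add_div _ (mul_ne_zero hx0 hy0)] at hsum
  have hG := riemann_roch' h hC G
  have hl2 : 2 ≤ ell G := by omega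
  have hcg : 2 ≤ ell (C - G) := by omega
  have hbG := hb G hl2 hcg
  exact ⟨G, ell G - 1, by omega, by omega, by omega, by omega, hcg⟩

theorem exists_perm : ∀ l l' : Fin 4, l ≠ l' → ∃ σ : Equiv.Perm (Fin 4), σ 0 = l ∧ σ 2 = l' := by decide

/-- Four sections of degree two relation split into two pencils. -/
theorem exists_pencils_of_quadric [CharZero k] (h : IsFG k K) {D : Divisor k K} (hl : ell D = 4)
    (h2 : ell (D + D) < 10) : ∃ A : Divisor k K, 2 ≤ ell A ∧ 2 ≤ ell (D - A) := by
  classical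
  haveI := h.finite_L D
  haveI := h.finite_L (D + D)
  let b : Module.Basis (Fin 4) k (L D) := Module.finBasisOfFinrankEq k (L D) hl
  let x : Fin 4 → K := fun i => (b i : K)
  let P := {p : Fin 4 × Fin 4 // p.1 ≤ p.2}
  let m : P → L (D + D) := fun p => ⟨x p.1.1 * x p.1.2, fun R => by
    rw [map_mul, Finsupp.add_apply, WithZero.exp_add]
    exact mul_le_mul' ((b p.1.1).2 R) ((b p.1.2).2 R)⟩
  have hdep : ¬ LinearIndependent k m := fun hi => by
    have := hi.fintype_card_le_finrank
    simp only [P, Fintype.card_subtype] at this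
    have h10 : (Finset.univ.filter fun p : Fin 4 × Fin 4 => p.1 ≤ p.2).card = 10 := by decide
    rw [h10] at this
    exact absurd (this.trans_lt h2) (lt_irrefl _)
  rw [Fintype.linearIndependent_iff] at hdep
  push Not at hdep
  obtain ⟨c, hc, p₀, hp₀⟩ := hdep
  let e : Fin 4 → Fin 4 → k := fun i j => if hij : i ≤ j then c ⟨(i, j), hij⟩ else 0
  let S : Matrix (Fin 4) (Fin 4) k := Matrix.of fun i j => e i j + e j i
  have hS0 : S p₀.1.1 p₀.1.2 ≠ 0 := by
    show e _ _ + e _ _ ≠ 0
    rcases eq_or_lt_of_le p₀.2 with heq | hlt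
    · rw [show e p₀.1.2 p₀.1.1 = e p₀.1.1 p₀.1.2 by rw [heq]]
      simp only [e, dif_pos p₀.2]
      intro h0
      exact hp₀ (by linear_combination (2 : k)⁻¹ * h0)
    · simp only [e, dif_pos p₀.2, dif_neg (not_le.2 hlt), add_zero]
      exact hp₀
  have hrel : ∑ i, ∑ j, algebraMap k K (S i j) * (x i * x j) = 0 := by
    have h1 : ∑ i, ∑ j, algebraMap k K (e i j) * (x i * x j) = 0 := by
      have h0 := congrArg (fun z : L (D + D) => (z : K)) hc
      simp only [AddSubmonoidClass.coe_finset_sum, Submodule.coe_smul, ZeroMemClass.coe_zero] at h0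
      refine Eq.trans ?_ h0
      rw [← Fintype.sum_prod_type' (f := fun i j => algebraMap k K (e i j) * (x i * x j)),
        ← Finset.sum_filter_add_sum_filter_not Finset.univ (fun p : Fin 4 × Fin 4 => p.1 ≤ p.2)]
      rw [Finset.sum_eq_zero (s := Finset.univ.filter fun p : Fin 4 × Fin 4 => ¬ p.1 ≤ p.2) fun p hp => by
        simp [e, (Finset.mem_filter.1 hp).2], add_zero,
        Finset.sum_subtype (p := fun p : Fin 4 × Fin 4 => p.1 ≤ p.2) _ (fun p => by simp)]
      refine Finset.sum_congr rfl fun p _ => ?_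
      show algebraMap k K (e p.1.1 p.1.2) * _ = c p • (x p.1.1 * x p.1.2)
      simp only [e, dif_pos p.2, Algebra.smul_def]
    simp only [S, Matrix.of_apply, map_add, add_mul, Finset.sum_add_distrib, h1, zero_add]
    rw [Finset.sum_comm]
    exact Eq.trans (Finset.sum_congr rfl fun i _ => Finset.sum_congr rfl fun j _ => by rw [mul_comm (x j)]) h1
  -- diagonalise
  haveI : Invertible (2 : k) := invertibleOfNonzero two_ne_zero
  let B : LinearMap.BilinForm k (Fin 4 → k) := Matrix.toBilin' S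
  have hsym : B.IsSymm := ⟨fun u v => by
    simp only [B, Matrix.toBilin'_apply]
    rw [Finset.sum_comm]
    exact Finset.sum_congr rfl fun i _ => Finset.sum_congr rfl fun j _ => by
      simp only [S, Matrix.of_apply]; ring⟩
  obtain ⟨v, hv⟩ := LinearMap.BilinForm.exists_orthogonal_basis (LinearMap.BilinForm.isSymm_iff.1 hsym)
  have hn : Module.finrank k (Fin 4 → k) = 4 := Module.finrank_fin_fun k
  let v' : Module.Basis (Fin 4) k (Fin 4 → k) := v.reindex (finCongr hn)
  have hv' : ∀ l l', l ≠ l' → B (v' l) (v' l') = 0 := fun l l' hll => by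
    simp only [v', Module.Basis.reindex_apply]
    exact hv (fun he => hll (by simpa using he))
  let w : Fin 4 → k := fun l => B (v' l) (v' l)
  let M : Fin 4 → Fin 4 → k := fun l i => v'.repr (Pi.single i 1) l
  have hSM : ∀ i j, S i j = ∑ l, w l * (M l i * M l j) := by
    intro i j
    have h1 : B (Pi.single i 1) (Pi.single j 1) = S i j := Matrix.toBilin'_single _ _ _
    rw [← h1, ← LinearMap.BilinForm.sum_repr_mul_repr_mul (b := v') (Pi.single i 1) (Pi.single j 1)]
    rw [Finsupp.sum_fintype _ _ (fun _ => by simp)]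
    refine Finset.sum_congr rfl fun l _ => ?_
    rw [Finsupp.sum_fintype _ _ (fun _ => by simp), Finset.sum_eq_single l (fun l' _ hl' => by
      rw [hv' l l' hl'.symm, smul_zero, smul_zero]) (by simp)]
    simp only [smul_eq_mul, w, M]
    ring
  let y : Fin 4 → L D := fun l => ∑ i, M l i • b i
  have hyv : ∀ l, (y l : K) = ∑ i, algebraMap k K (M l i) * x i := fun l => by
    simp only [y, AddSubmonoidClass.coe_finset_sum, Submodule.coe_smul, Algebra.smul_def, x]
  have hyind : LinearIndependent k y := by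
    rw [Fintype.linearIndependent_iff]
    intro g hg l
    have h1 : ∑ i, (∑ l, g l * M l i) • b i = 0 := by
      simp only [Finset.sum_smul, mul_smul]
      rw [Finset.sum_comm, ← hg]
      simp only [y, Finset.smul_sum]
    have h2 := Fintype.linearIndependent_iff.1 b.linearIndependent _ h1
    have h3 : ∀ l', (∑ i, v' l i * M l' i) = if l' = l then 1 else 0 := fun l' => by
      have h4 : ∑ i, v' l i • v'.repr (Pi.single i 1) = v'.repr (v' l) := by
        have h6 := (Pi.basisFun k (Fin 4)).sum_repr (v' l)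
        simp only [Pi.basisFun_repr, Pi.basisFun_apply] at h6
        conv_rhs => rw [← h6, map_sum]
        simp only [map_smul]
      have h5 := congrArg (fun f : Fin 4 →₀ k => f l') h4
      simpa [M, Finsupp.finset_sum_apply, Finsupp.single_apply, eq_comm] using h5
    calc g l = ∑ l', g l' * (∑ i, v' l i * M l' i) := by simp [h3]
      _ = ∑ i, v' l i * (∑ l', g l' * M l' i) := by
        simp only [Finset.mul_sum]
        rw [Finset.sum_comm]
        exact Finset.sum_congr rfl fun i _ => Finset.sum_congr rfl fun l' _ => by ring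
      _ = 0 := by simp [h2]
  have hw : ∃ l, w l ≠ 0 := by
    by_contra hall
    push Not at hall
    exact hS0 ((hSM _ _).trans (Finset.sum_eq_zero fun l _ => by rw [hall l, zero_mul]))
  have hy2 : ∑ l, algebraMap k K (w l) * ((y l : K) * (y l : K)) = 0 := by
    rw [← hrel]
    simp only [hyv, hSM, Finset.mul_sum, Finset.sum_mul, map_sum, map_mul]
    rw [Finset.sum_comm]
    refine Finset.sum_congr rfl fun i _ => ?_
    rw [Finset.sum_comm]
    exact Finset.sum_congr rfl fun j _ => Finset.sum_congr rfl fun l _ => by ring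
  choose q hq using fun l => IsAlgClosed.exists_pow_nat_eq (w l) (n := 2) (by norm_num)
  obtain ⟨im, him⟩ := IsAlgClosed.exists_pow_nat_eq (-1 : k) (n := 2) (by norm_num)
  obtain ⟨l, hl0⟩ := hw
  obtain ⟨l', hll', hl'0⟩ : ∃ l', l ≠ l' ∧ w l' ≠ 0 := by
    by_contra hall
    push Not at hall
    rw [Finset.sum_eq_single l (fun l' _ hne => by rw [hall l' hne.symm, map_zero, zero_mul]) (by simp)] at hy2
    rcases mul_eq_zero.1 hy2 with h' | h'
    · exact hl0 ((map_eq_zero _).1 h')
    · exact hyind.ne_zero l (Subtype.ext (mul_self_eq_zero.1 h'))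
  obtain ⟨σ, hσ0, hσ2⟩ := exists_perm l l' hll'
  have hq0 : ∀ l, w l ≠ 0 → q l ≠ 0 := fun l hne h0 => hne (by rw [← hq l, h0]; norm_num)
  -- the two factorisations
  let c1 : Fin 4 → k := fun j => ![q (σ 0), im * q (σ 1), 0, 0] (σ.symm j)
  let c2 : Fin 4 → k := fun j => ![q (σ 0), -(im * q (σ 1)), 0, 0] (σ.symm j)
  let c3 : Fin 4 → k := fun j => ![0, 0, -q (σ 2), -(im * q (σ 3))] (σ.symm j)
  let c4 : Fin 4 → k := fun j => ![0, 0, q (σ 2), -(im * q (σ 3))] (σ.symm j)
  let u : (Fin 4 → k) → L D := fun d => ∑ j, d j • y j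
  have hu : ∀ d, (u d : K) = ∑ i, algebraMap k K (d (σ i)) * (y (σ i) : K) := fun d => by
    rw [Equiv.sum_comp σ fun j => algebraMap k K (d j) * (y j : K)]
    simp only [u, AddSubmonoidClass.coe_finset_sum, Submodule.coe_smul, Algebra.smul_def]
  have hpair : ∀ d d' : Fin 4 → k, d l ≠ 0 → d l' = 0 → d' l = 0 → d' l' ≠ 0 →
      ∀ g g' : k, g • u d + g' • u d' = 0 → g = 0 ∧ g' = 0 := by
    intro d d' h1 h2 h3 h4 g g' hz
    have hz' : ∑ j, (g * d j + g' * d' j) • y j = 0 := by
      rw [← hz]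
      simp only [u, Finset.smul_sum, ← Finset.sum_add_distrib, add_smul, mul_smul]
    have hj := Fintype.linearIndependent_iff.1 hyind _ hz'
    have a := hj l
    have b := hj l'
    rw [h3, mul_zero, add_zero] at a
    rw [h2, mul_zero, zero_add] at b
    exact ⟨(mul_eq_zero.1 a).resolve_right h1, (mul_eq_zero.1 b).resolve_right h4⟩
  have e0 : σ.symm l = 0 := by rw [← hσ0, Equiv.symm_apply_apply]
  have e2 : σ.symm l' = 2 := by rw [← hσ2, Equiv.symm_apply_apply]
  have p13 := hpair c1 c3 (by simpa [c1, e0, hσ0] using hq0 l hl0) (by simp [c1, e2]) (by simp [c3, e0])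
    (by simpa [c3, e2, hσ2] using hq0 l' hl'0)
  have p23 := hpair c2 c3 (by simpa [c2, e0, hσ0] using hq0 l hl0) (by simp [c2, e2]) (by simp [c3, e0])
    (by simpa [c3, e2, hσ2] using hq0 l' hl'0)
  have hprod : (u c1 : K) * u c2 = u c3 * u c4 := by
    have hy3 := hy2
    rw [← Equiv.sum_comp σ fun j => algebraMap k K (w j) * ((y j : K) * (y j : K))] at hy3
    simp only [hu, Fin.sum_univ_four, c1, c2, c3, c4, Equiv.symm_apply_apply] at hy3 ⊢
    simp only [← hq, map_pow] at hy3
    have him' : algebraMap k K im ^ 2 = -1 := by rw [← map_pow, him, map_neg, map_one]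
    simp only [Matrix.cons_val, map_zero, map_mul, map_neg]
    linear_combination hy3 - (algebraMap k K (q (σ 1)) ^ 2 * ((y (σ 1) : K) * y (σ 1)) +
      algebraMap k K (q (σ 3)) ^ 2 * ((y (σ 3) : K) * y (σ 3))) * him'
  have hu3 : (u c3 : K) ≠ 0 := fun h0 => one_ne_zero (α := k)
    (p13 0 1 (by rw [zero_smul, one_smul, zero_add]; exact Subtype.ext h0)).2
  set t : K := (u c1 : K) / u c3 with ht
  have htu3 : t * u c3 = u c1 := div_mul_cancel₀ _ hu3
  have htu2 : t * u c2 = u c4 := by rw [ht, div_mul_eq_mul_div, hprod, mul_div_cancel_left₀ _ hu3]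
  set A := poleDiv (k := k) t with hA
  have hA1 : (1 : K) ∈ L A := (mem_L_iff_ord one_ne_zero).2 fun R => by
    rw [hA, h.poleDiv_apply, ← map_one (algebraMap k K), show R.ord (algebraMap k K 1) = 0 by
      rw [map_one]; simp [Place.ord]]
    omega
  have ht0 : t ≠ 0 := fun h0 => one_ne_zero (α := k) (p13 1 0 (by
    rw [zero_smul, one_smul, add_zero]
    exact Subtype.ext (by rw [← htu3, h0, zero_mul]; rfl))).1
  have hAt : t ∈ L A := (mem_L_iff_ord ht0).2 fun R => by
    rw [hA, h.poleDiv_apply]; omega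
  have hDA : ∀ z : L D, t * (z : K) ∈ L D → (z : K) ∈ L (D - A) := fun z hz => by
    rcases eq_or_ne (z : K) 0 with h0 | h0
    · rw [h0]; exact zero_mem _
    refine (mem_L_iff_ord h0).2 fun R => ?_
    have h1 := (mem_L_iff_ord h0).1 z.2 R
    have h2 := (mem_L_iff_ord (mul_ne_zero ht0 h0)).1 hz R
    rw [ord_mul R ht0 h0] at h2
    rw [Finsupp.sub_apply, hA, h.poleDiv_apply]
    omega
  refine ⟨A, ?_, ?_⟩
  · haveI := h.finite_L A
    have hi : LinearIndependent k ![(⟨1, hA1⟩ : L A), ⟨t, hAt⟩] := by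
      rw [LinearIndependent.pair_iff]
      intro g g' hz
      have hz' := congrArg (fun a : L A => (a : K)) hz
      simp only [Submodule.coe_add, Submodule.coe_smul, ZeroMemClass.coe_zero, Algebra.smul_def] at hz'
      have := p13 g' g (Subtype.ext (by
        simp only [Submodule.coe_add, Submodule.coe_smul, ZeroMemClass.coe_zero, Algebra.smul_def]
        linear_combination (u c3 : K) * hz' - algebraMap k K g' * htu3))
      exact ⟨this.2, this.1⟩
    have := hi.fintype_card_le_finrank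
    rwa [Fintype.card_fin] at this
  · haveI := h.finite_L (D - A)
    have hi : LinearIndependent k ![(⟨(u c2 : K), hDA _ (htu2 ▸ (u c4).2)⟩ : L (D - A)),
        ⟨(u c3 : K), hDA _ (htu3 ▸ (u c1).2)⟩] := by
      rw [LinearIndependent.pair_iff]
      intro g g' hz
      have hz' := congrArg (fun a : ↥(L (D - A)) => (a : K)) hz
      simp only [Submodule.coe_add, Submodule.coe_smul, ZeroMemClass.coe_zero] at hz'
      exact p23 g g' (Subtype.ext hz')
    have := hi.fintype_card_le_finrank
    rwa [Fintype.card_fin] at this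

/-- Three sections separating every two points give a smooth plane model. -/
theorem two_mul_genus_of_separated (h : IsFunctionField k K) {D : Divisor k K} (hl : ell D = 3)
    (h1 : ∀ R : Place k K, ell (D - Finsupp.single R 1) < ell D)
    (h2 : ∀ R S : Place k K, ell (D - Finsupp.single R 1 - Finsupp.single S 1) < ell (D - Finsupp.single R 1)) :
    2 * (genus k K : ℤ) = (D.deg - 1) * (D.deg - 2) := by
  classical
  have hfg : IsFG k K := h.1
  haveI := hfg.finite_L D
  let b : Module.Basis (Fin 3) k (L D) := Module.finBasisOfFinrankEq k (L D) hl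
  let φ : Fin 3 → K := fun i => (b i : K)
  have hφ : ∀ i, φ i ≠ 0 := fun i h0 => b.ne_zero i (Subtype.ext h0)
  obtain ⟨D', hD'⟩ : ∃ D', D' = D + div k (φ 0) := ⟨_, rfl⟩
  obtain ⟨ψ, hψdef⟩ : ∃ ψ : Fin 3 → K, ψ = ![(1 : K), φ 1 / φ 0, φ 2 / φ 0] := ⟨_, rfl⟩
  have hψe : ψ = fun i => (φ 0)⁻¹ * φ i := by
    funext i
    fin_cases i <;> simp [hψdef, div_eq_inv_mul, hφ 0]
  have hψ : ∀ i, ψ i ≠ 0 := fun i => by rw [hψe]; exact mul_ne_zero (inv_ne_zero (hφ 0)) (hφ i)
  have hmem : ∀ i, ψ i ∈ L D' := fun i => by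
    refine (mem_L_iff_ord (hψ i)).2 fun R => ?_
    have a := (mem_L_iff_ord (hφ i)).1 (b i).2 R
    rw [hψe]
    rw [ord_mul R (inv_ne_zero (hφ 0)) (hφ i), hD', Finsupp.add_apply, hfg.div_apply,
      show R.ord (φ 0)⁻¹ = -R.ord (φ 0) by
        rw [← zpow_neg_one, ord_zpow]; ring]
    linarith
  have hl' : ell D' = 3 := by rw [hD', hfg.ell_add_div _ (hφ 0), hl]
  have hind : LinearIndependent k ψ := by
    rw [hψe]
    exact (b.linearIndependent.map' (L D).subtype (Submodule.ker_subtype _)).map'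
      (LinearMap.mulLeft k (φ 0)⁻¹) (LinearMap.ker_eq_bot.2 fun a c e => mul_left_cancel₀ (inv_ne_zero (hφ 0)) e)
  have hspan : Submodule.span k (Set.range ψ) = L D' := by
    haveI := hfg.finite_L D'
    refine Submodule.eq_of_le_of_finrank_eq (Submodule.span_le.2 (by rintro _ ⟨i, rfl⟩; exact hmem i)) ?_
    rw [finrank_span_eq_card hind, Fintype.card_fin]
    exact hl'.symm
  have hsh : ∀ E, ell (D' - E) = ell (D - E) := fun E => by
    rw [hD', show D + div k (φ 0) - E = D - E + div k (φ 0) by abel, hfg.ell_add_div _ (hφ 0)]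
  have h1' : ∀ R, ell (D' - Finsupp.single R 1) < ell D' := fun R => by rw [hsh, hl', ← hl]; exact h1 R
  have h2' : ∀ R S, ell (D' - Finsupp.single R 1 - Finsupp.single S 1) < ell (D' - Finsupp.single R 1) :=
    fun R S => by rw [sub_sub, hsh, hsh, ← sub_sub]; exact h2 R S
  have hns := isNonsingularAt_of_ell h hψ hspan h1' h2'
  have hmap : mapDiv k ψ = D' := mapDiv_eq_of_span hfg hψ hspan fun R hle =>
    (h1' R).not_ge (have := hfg.finite_L (D' - Finsupp.single R 1); Submodule.finrank_mono hle)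
  obtain ⟨P₀⟩ := hfg.exists_place
  obtain ⟨j, hj⟩ := exists_isLead ⟨0, hψ 0⟩ P₀
  obtain ⟨hfib, t, htA, ht⟩ := fibre_and_parameter_of_isNonsingularAt hfg hj (hns P₀)
  have hbir := adjoin_ratios_eq_top (i₀ := (0 : Fin 3)) h (hψ 0) hj hfib htA ht
  have hxy : IntermediateField.adjoin k ({φ 1 / φ 0, φ 2 / φ 0} : Set K) = ⊤ := by
    refine top_unique (hbir.ge.trans ?_)
    rw [IntermediateField.adjoin_le_iff]
    rintro _ ⟨i, rfl⟩
    fin_cases i
    all_goals simp only [hψdef, Matrix.cons_val_zero, Matrix.cons_val, div_one]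
    · exact one_mem _
    · exact IntermediateField.subset_adjoin k _ (Set.mem_insert _ _)
    · exact IntermediateField.subset_adjoin k _ (Set.mem_insert_of_mem _ rfl)
  obtain ⟨f, hf, hfxy⟩ := exists_irreducible_relation hfg (φ 1 / φ 0) (φ 2 / φ 0)
  obtain ⟨c, F, -, hm⟩ := exists_planeModel hfg hxy hf hfxy
  have hdeg : (F.natDegree : ℤ) = D.deg := by
    rw [← hm.deg_poleDiv hfg, ← hm.mapDiv_eq hfg (x := φ 1 / φ 0) (c := c) rfl, ← hψdef, hmap, hD', deg_add,
      hfg.deg_div, add_zero]
  rw [← hdeg]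
  subst hψdef
  exact (hm.two_mul_genus_eq_iff h).2 fun P =>
    isNonsingularAt_of_span_eq (span_change_eq (φ 1 / φ 0) (φ 2 / φ 0) c) (hns P)

/-- A divisor computing the Clifford index, of degree at most `g - 1`. -/
theorem exists_low (h : IsFunctionField k K) {C : Divisor k K} (hC : IsCanonical k K C) {c : ℕ}
    (hex : ∃ D : Divisor k K, 2 ≤ ell D ∧ 2 ≤ ell (C - D) ∧ D.deg = 2 * (ell D : ℤ) - 2 + c) :
    ∃ (D : Divisor k K) (r : ℕ), 1 ≤ r ∧ D.deg = 2 * r + c ∧ ell D = r + 1 ∧ 2 ≤ ell (C - D) ∧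
      D.deg + 1 ≤ genus k K := by
  obtain ⟨-, hdC⟩ := ell_canonical h hC
  obtain ⟨D, h1, h2, hd⟩ := hex
  have hRR := riemann_roch' h hC D
  rcases le_total (ell D) (ell (C - D)) with hle | hle
  · exact ⟨D, ell D - 1, by omega, by omega, by omega, h2, by omega⟩
  · refine ⟨C - D, ell (C - D) - 1, by omega, ?_, by omega, by rwa [sub_sub_cancel], ?_⟩
    · rw [deg_sub, hdC]; omega
    · rw [deg_sub, hdC]; omega

/-- In Clifford index one there is a divisor computing it of dimension at most two. -/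
theorem exists_low_one (h : IsFunctionField k K) {C : Divisor k K} (hC : IsCanonical k K C) (hb : Bound k C 1) :
    ∀ (r : ℕ) (D : Divisor k K), 1 ≤ r → D.deg = 2 * r + 1 → ell D = r + 1 → 2 ≤ ell (C - D) →
      D.deg + 1 ≤ genus k K →
      ∃ (D : Divisor k K) (r : ℕ), 1 ≤ r ∧ r ≤ 2 ∧ D.deg = 2 * r + 1 ∧ ell D = r + 1 ∧ 2 ≤ ell (C - D) := by
  intro r
  induction r using Nat.strong_induction_on with
  | _ r ih =>
  intro D hr1 hd hl hcd hdg
  rcases le_or_gt r 2 with h2 | h3
  · exact ⟨D, r, hr1, h2, hd, hl, hcd⟩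
  obtain ⟨G, r', h1', hlt, hdG, hlG, hcG⟩ :=
    exists_descent h hC le_rfl hb (by simpa using hd) hl (by omega) (by omega)
  push_cast at hdG
  exact ih r' hlt G h1' hdG hlG hcG (by omega)

/-- A plane system of Clifford index `c` has a projection or is a smooth plane model. -/
theorem pencil_or_separated (h : IsFunctionField k K) {C : Divisor k K} {c : ℕ}
    (hb : Bound k C c) {D : Divisor k K} (hd : D.deg = 4 + c) (hl : ell D = 3) (hcd : 2 ≤ ell (C - D)) :
    (∃ E : Divisor k K, E.deg = 2 + c ∧ 2 ≤ ell E) ∨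
      ((∀ R S : Place k K, ell (D - Finsupp.single R 1 - Finsupp.single S 1) + 2 ≤ ell D) ∧
        2 * (genus k K : ℤ) = (D.deg - 1) * (D.deg - 2)) := by
  classical
  have hfg : IsFG k K := h.1
  have hd1 : ∀ R : Place k K, (D - Finsupp.single R 1).deg = D.deg - 1 := fun R => by
    rw [deg_sub, deg_single, hfg.deg_eq_one R]; simp
  have hbpf : ∀ R : Place k K, ell (D - Finsupp.single R 1) = 2 := fun R => by
    have h1 := ell_le_sub_add hfg D _ (Finsupp.single_nonneg.2 zero_le_one : (0 : Divisor k K) ≤ Finsupp.single R 1)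
    rw [deg_single, hfg.deg_eq_one R] at h1
    have hle : D - Finsupp.single R 1 ≤ D := sub_le_self _ (Finsupp.single_nonneg.2 zero_le_one)
    haveI := hfg.finite_L D
    have h2 : ell (D - Finsupp.single R 1) ≤ ell D := Submodule.finrank_mono (L_mono hle)
    by_contra hne
    have h3 : 2 ≤ ell (C - (D - Finsupp.single R 1)) := by
      haveI := hfg.finite_L (C - (D - Finsupp.single R 1))
      exact le_trans hcd (Submodule.finrank_mono (L_mono (sub_le_sub_left hle _)))
    have h4 := hb _ (by omega) h3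
    rw [hd1] at h4
    push_cast at h1 h4
    omega
  by_cases hsep : ∀ R S : Place k K, ell (D - Finsupp.single R 1 - Finsupp.single S 1) + 2 ≤ ell D
  · refine Or.inr ⟨hsep, two_mul_genus_of_separated h hl (fun R => by rw [hbpf R, hl]; omega) fun R S => ?_⟩
    have := hsep R S
    rw [hbpf R]
    omega
  · push Not at hsep
    obtain ⟨R, S, hRS⟩ := hsep
    refine Or.inl ⟨D - Finsupp.single R 1 - Finsupp.single S 1, ?_, by omega⟩
    rw [deg_sub, hd1, deg_single, hfg.deg_eq_one S, hd]
    push_cast; ring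

/-- Genus nine: a small Clifford index is computed by a pencil. -/
theorem exists_pencil_genus_nine [CharZero k] (h : IsFunctionField k K) {C : Divisor k K}
    (hC : IsCanonical k K C) (hg : genus k K = 9) {c : ℕ} (hc : 1 ≤ c) (hc3 : c ≤ 3) (hb : Bound k C c)
    (hex : ∃ D : Divisor k K, 2 ≤ ell D ∧ 2 ≤ ell (C - D) ∧ D.deg = 2 * (ell D : ℤ) - 2 + c) :
    ∃ E : Divisor k K, E.deg = 2 + c ∧ 2 ≤ ell E := by
  classical
  have hfg : IsFG k K := h.1
  have two : ∀ D : Divisor k K, D.deg = 4 + c → ell D = 3 → 2 ≤ ell (C - D) →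
      ∃ E : Divisor k K, E.deg = 2 + c ∧ 2 ≤ ell E := fun D hd hl hcd => by
    rcases pencil_or_separated h hb hd hl hcd with hE | ⟨-, hgen⟩
    · exact hE
    · rw [hd, hg] at hgen
      interval_cases c <;> norm_num at hgen
  obtain ⟨D, r, hr1, hd, hl, hcd, hdg⟩ := exists_low h hC hex
  have hr3 : r ≤ 3 := by omega
  interval_cases r
  · exact ⟨D, by rw [hd]; ring, by omega⟩
  · exact two D (by rw [hd]; ring) hl hcd
  · rcases eq_or_lt_of_le hc with rfl | hc2
    · obtain ⟨G, r', hr1', hr2', hdG, hlG, hcG⟩ := exists_low_one h hC hb 3 D (by norm_num) hd hl hcd hdg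
      interval_cases r'
      · exact ⟨G, by rw [hdG]; norm_num, by omega⟩
      · exact two G (by rw [hdG]; norm_num) hlG hcG
    have hc' : c = 2 := by omega
    subst hc'
    push_cast at hd
    obtain ⟨-, hdC⟩ := ell_canonical h hC
    have h2D : ell (D + D) < 10 := by
      have hRR := riemann_roch' h hC (D + D)
      rw [deg_add, hd, hg] at hRR
      by_contra hge
      have hpos : 0 < ell (C - (D + D)) := by omega
      obtain ⟨z, hz1, -, hz⟩ := hfg.exists_of_ell_pos hpos
      have hz0 : C - (D + D) + div k z = 0 := by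
        by_contra hne
        obtain ⟨P, hP⟩ := exists_single_le hz hne
        have h3 := deg_mono hP
        rw [deg_single, hfg.deg_eq_one P, deg_add, hfg.deg_div, deg_sub, deg_add, hdC, hd, hg] at h3
        push_cast at h3
      have h4 : ell (C - (D + D)) = 1 := by
        rw [show C - (D + D) = 0 + div k z⁻¹ from ?_, hfg.ell_add_div _ (inv_ne_zero hz1), ell_zero h]
        · have : div k z⁻¹ = - div k z := Finsupp.ext fun P => by
            rw [Finsupp.neg_apply, hfg.div_apply, hfg.div_apply, ← zpow_neg_one, ord_zpow]; ring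
          rw [this, zero_add]
          exact eq_neg_of_add_eq_zero_left hz0
      omega
    obtain ⟨A, hA, hB⟩ := exists_pencils_of_quadric hfg hl h2D
    have key : ∀ B : Divisor k K, 2 ≤ ell B → B.deg ≤ 4 → ∃ E : Divisor k K, E.deg = 2 + ((2 : ℕ) : ℤ) ∧ 2 ≤ ell E :=
      fun B h1 h2 => by
        have hB' := riemann_roch' h hC B
        have := hb B h1 (by omega)
        exact ⟨B, by push_cast at this ⊢; omega, h1⟩
    rcases le_or_gt A.deg 4 with hle | hgt
    · exact key A hA hle
    · exact key (D - A) hB (by rw [deg_sub, hd]; omega)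

end GrothLib.FunFld.CliffIdx
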