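import Groth.Agent.Lib.FunFld.SwapInvolution

/-!
# Functions of degree two on function fields of genus one
-/

set_option autoImplicit false
set_option linter.style.haveILetI false

universe u

namespace GrothLib.FunFld.DoubleMatch

open _root_.FunFld (Place Divisor L ell genus div IsFunctionField prinDivs)
open IntermediateField (adjoin)
open WithZero
open GrothLib.FunFld

variable {k K : Type u} [Field k] [Field K] [Algebra k K]

theorem map_adjoin_singleton (s : K ≃ₐ[k] K) (x : K) :
    (adjoin k ({x} : Set K)).map s.toAlgHom = adjoin k ({s x} : Set K) := by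
  rw [IntermediateField.adjoin_map, Set.image_singleton]
  rfl

/-- A function of degree two has a generator with a double pole at one place. -/
theorem exists_double_pole [IsAlgClosed k] (h2 : (2 : k) ≠ 0) (hK : IsFunctionField k K) (hg : 0 < genus k K)
    (hsep : ∀ x : K, Module.finrank (adjoin k ({x} : Set K)) K = 2 →
      Algebra.IsSeparable (adjoin k ({x} : Set K)) K) {x : K}
    (hx : Module.finrank (adjoin k ({x} : Set K)) K = 2) :
    ∃ (A : Place k K) (u : K), adjoin k ({u} : Set K) = adjoin k ({x} : Set K) ∧
      poleDiv (k := k) u = Finsupp.single A 2 := by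
  classical
  have h : IsFG k K := hK.1
  haveI := hsep x hx
  obtain ⟨s, hs1, hinv, hsx⟩ := InvolutionFix.exists_involution hx
  obtain ⟨g₀, hfin, hcard, -, hg₀⟩ := InvolutionFix.exists_fixed_genus h2 hK s hs1 hinv
  have h0 := hg₀ ⟨x, hsx, hx⟩
  obtain ⟨A, hA⟩ : {Q : Place k K | pull s Q = Q}.Nonempty := by
    rw [← Set.ncard_pos hfin]
    rw [h0] at hcard
    push_cast at hcard
    omega
  have hA' : pull s A = A := hA
  have hfin2 : ∀ u : K, adjoin k ({u} : Set K) = adjoin k ({x} : Set K) → s u = u → A.ord u < 0 →
      poleDiv (k := k) u = Finsupp.single A 2 := by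
    intro u hu hsu hneg
    have hut : Transcendental k u := by
      intro ha
      have h1 := val_eq_one_of_isAlgebraic A ha (by rintro rfl; simp [_root_.FunFld.Place.ord] at hneg)
      rw [val_eq A (by rintro rfl; simp [_root_.FunFld.Place.ord] at hneg), ← exp_zero] at h1
      have := exp_injective h1
      omega
    rw [SwapInvolution.poleDiv_eq_of_pole h hs1 hsu
      (by rw [h.deg_poleDiv hut, hu, hx]; norm_num) hneg, hA', ← Finsupp.single_add]
    norm_num
  rcases lt_or_ge (A.ord x) 0 with hneg | hpos
  · exact ⟨A, x, rfl, hfin2 x rfl hsx hneg⟩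
  · have hxt : Transcendental k x := transcendental_of_finrank_eq_two hK hx
    have hx0 : x ≠ 0 := fun e => hxt (e ▸ isAlgebraic_zero)
    obtain ⟨c, hc⟩ := SplitCount.exists_const (Q := A) (h.deg_eq_one A) (y := x) ((val_le_one_iff A hx0).2 hpos)
    have hg0 : x - algebraMap k K c ≠ 0 := fun e => hxt (by rw [sub_eq_zero.1 e]; exact isAlgebraic_algebraMap c)
    have hadj : adjoin k ({(x - algebraMap k K c)⁻¹} : Set K) = adjoin k ({x} : Set K) := by
      refine le_antisymm ?_ ?_ <;> rw [IntermediateField.adjoin_simple_le_iff]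
      · exact inv_mem (sub_mem (IntermediateField.mem_adjoin_simple_self k x) (IntermediateField.algebraMap_mem _ c))
      · have key := add_mem (inv_mem (IntermediateField.mem_adjoin_simple_self k (x - algebraMap k K c)⁻¹))
          (IntermediateField.algebraMap_mem _ c)
        rwa [inv_inv, sub_add_cancel] at key
    refine ⟨A, _, hadj, hfin2 _ hadj (by rw [map_inv₀, map_sub, hsx, AlgEquiv.commutes]) ?_⟩
    have := (val_lt_one_iff A hg0).1 hc
    rw [ord_inv]
    omega

/-- Two functions of degree two define conjugate subfields. -/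
theorem exists_matching [IsAlgClosed k] (h2 : (2 : k) ≠ 0) (hK : IsFunctionField k K) (hg : genus k K = 1)
    (hsep : ∀ x : K, Module.finrank (adjoin k ({x} : Set K)) K = 2 →
      Algebra.IsSeparable (adjoin k ({x} : Set K)) K) {x₁ x₂ : K}
    (hx₁ : Module.finrank (adjoin k ({x₁} : Set K)) K = 2)
    (hx₂ : Module.finrank (adjoin k ({x₂} : Set K)) K = 2) :
    ∃ s : K ≃ₐ[k] K, (∀ z, s (s z) = z) ∧ adjoin k ({s x₂} : Set K) = adjoin k ({x₁} : Set K) := by
  classical
  have h : IsFG k K := hK.1
  obtain ⟨A, u, hu, huA⟩ := exists_double_pole h2 hK (by omega) hsep hx₁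
  obtain ⟨B, v, hv, hvB⟩ := exists_double_pole h2 hK (by omega) hsep hx₂
  obtain ⟨s, -, hinv, hAB, -⟩ := SwapInvolution.exists_swap hK hg hsep A B
  refine ⟨s, hinv, ?_⟩
  have hmem : ∀ (w : K) (C : Place k K), poleDiv (k := k) w = Finsupp.single C 2 →
      w ∈ L (Finsupp.single C (2 : ℤ)) := by
    intro w C hw
    rcases eq_or_ne w 0 with rfl | hw0
    · exact zero_mem _
    refine (mem_L_iff_ord hw0).2 fun R => ?_
    have := congrArg (fun E : Divisor k K => E R) hw
    simp only [h.poleDiv_apply] at this
    rw [← this]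
    omega
  have hBA : pull s B = A := by
    rw [← hAB]
    refine place_eq_of_le_one_iff fun z => ?_
    rw [val_pull, val_pull, hinv]
  have huL := hmem u A huA
  have hsvL : s v ∈ L (Finsupp.single A (2 : ℤ)) := by
    rcases eq_or_ne v 0 with rfl | hv0
    · rw [map_zero]; exact zero_mem _
    refine (mem_L_iff_ord (by simpa using hv0)).2 fun R => ?_
    have h1 := (mem_L_iff_ord hv0).1 (hmem v B hvB) (pull s R)
    rw [ord_pull] at h1
    rcases eq_or_ne A R with rfl | hne
    · rw [hAB, Finsupp.single_eq_same] at h1
      rw [Finsupp.single_eq_same]; omega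
    · rw [Finsupp.single_eq_of_ne' hne]
      rw [Finsupp.single_eq_of_ne' (a := B) fun e => hne (by
        rw [← hBA, e]
        refine place_eq_of_le_one_iff fun z => ?_
        rw [val_pull, val_pull, hinv])] at h1
      omega
  haveI := h.finite_L (Finsupp.single A (2 : ℤ))
  have hell : ell (Finsupp.single A (2 : ℤ)) = 2 := by
    have := ell_eq_of_deg_ge hK (D := Finsupp.single A (2 : ℤ)) (by rw [deg_single, h.deg_eq_one, hg]; norm_num)
    rw [deg_single, h.deg_eq_one, hg] at this
    push_cast at this
    omega
  have hunot : u ∉ Set.range (algebraMap k K) := by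
    rintro ⟨c, hc⟩
    have := congrArg (fun E : Divisor k K => E A) huA
    simp only [h.poleDiv_apply, Finsupp.single_eq_same, ← hc, ord_const] at this
    omega
  have hone : (1 : K) ∈ L (Finsupp.single A (2 : ℤ)) :=
    (mem_L_iff_ord one_ne_zero).2 fun R => by
      rw [← map_one (algebraMap k K), ord_const, Finsupp.single_apply]
      split_ifs <;> norm_num
  have hspan : Submodule.span k (Set.range ![(1 : K), u]) = L (Finsupp.single A (2 : ℤ)) := by
    refine Submodule.eq_of_le_of_finrank_eq (Submodule.span_le.2 ?_) ?_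
    · rintro _ ⟨i, rfl⟩
      fin_cases i
      · exact hone
      · exact huL
    · rw [finrank_span_eq_card (LinearIndependent.pair_iff.2 fun a b hab => ?_), Fintype.card_fin]
      · exact hell.symm
      · rw [Algebra.smul_def, Algebra.smul_def, mul_one] at hab
        by_cases hb : b = 0
        · rw [hb, map_zero, zero_mul, add_zero] at hab
          exact ⟨(map_eq_zero _).1 hab, hb⟩
        · refine absurd ⟨-a / b, ?_⟩ hunot
          rw [map_div₀, map_neg, div_eq_iff (by rwa [_root_.map_ne_zero])]
          linear_combination -hab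
  rw [← hspan] at hsvL
  obtain ⟨c, hc⟩ := (Submodule.mem_span_range_iff_exists_fun k).1 hsvL
  have hle : adjoin k ({s x₂} : Set K) ≤ adjoin k ({x₁} : Set K) := by
    rw [← map_adjoin_singleton, ← hv, map_adjoin_singleton, ← hu, IntermediateField.adjoin_simple_le_iff, ← hc,
      Fin.sum_univ_two]
    exact add_mem (IntermediateField.smul_mem _ (one_mem _))
      (IntermediateField.smul_mem _ (IntermediateField.mem_adjoin_simple_self k u))
  have hsvt : Transcendental k (s x₂) := fun ha => transcendental_of_finrank_eq_two hK hx₂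
    ((isAlgebraic_algHom_iff s.toAlgHom s.injective).1 ha)
  have hf2 : Module.finrank (adjoin k ({s x₂} : Set K)) K = 2 := by
    rw [← hx₂]
    have h1 := h.deg_poleDiv hsvt
    have h2' := h.deg_poleDiv (transcendental_of_finrank_eq_two hK hx₂)
    let e : (adjoin k ({x₂} : Set K)) ≃ₐ[k] (adjoin k ({s x₂} : Set K)) :=
      (IntermediateField.equivMap _ s.toAlgHom).trans (IntermediateField.equivOfEq (map_adjoin_singleton s x₂))
    exact (Algebra.finrank_eq_of_equiv_equiv e.toRingEquiv s.toRingEquiv (RingHom.ext fun _ => rfl)).symm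
  haveI : FiniteDimensional (adjoin k ({s x₂} : Set K)) K := Module.finite_of_finrank_pos (by omega)
  exact IntermediateField.eq_of_le_of_finrank_le' hle (le_of_eq (by rw [hf2, hx₁]))

end GrothLib.FunFld.DoubleMatch
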