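import Mathlib.FieldTheory.RatFunc.AsPolynomial
import Mathlib.FieldTheory.Perfect
import Mathlib.RingTheory.Algebraic.Basic
import Mathlib.FieldTheory.Separable
import Mathlib.Algebra.Squarefree.Basic
import Mathlib.FieldTheory.Minpoly.Field
import Mathlib.Tactic.LinearCombination

/-!
Quadratic extensions of the rational function field.
-/

set_option autoImplicit false
set_option linter.style.haveILetI false

namespace GrothLib.FunFld

open Polynomial

theorem exists_sq_mul_squarefree {k : Type*} [Field k] (g : k[X]) (hg : g ≠ 0) :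
    ∃ a f : k[X], g = a ^ 2 * f ∧ Squarefree f := by
  induction hn : g.natDegree using Nat.strong_induction_on generalizing g with
  | _ n ih =>
    by_cases hsq : Squarefree g
    · exact ⟨1, g, by ring, hsq⟩
    obtain ⟨z, ⟨w, hw⟩, hz⟩ : ∃ z, z * z ∣ g ∧ ¬ IsUnit z := by
      simp only [Squarefree, not_forall] at hsq
      obtain ⟨z, hdz, hz⟩ := hsq
      exact ⟨z, hdz, hz⟩
    have hw0 : w ≠ 0 := fun h => hg (by rw [hw, h, mul_zero])
    have hz0 : z ≠ 0 := fun h => hg (by rw [hw, h, mul_zero, zero_mul])
    have hlt : w.natDegree < n := by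
      have hzpos : 0 < z.natDegree := Nat.pos_of_ne_zero fun h0 =>
        hz (isUnit_iff_degree_eq_zero.mpr (by rw [degree_eq_natDegree hz0, h0]; rfl))
      rw [← hn, hw, natDegree_mul (mul_ne_zero hz0 hz0) hw0, natDegree_mul hz0 hz0]
      omega
    obtain ⟨a, f, hf, hsf⟩ := ih _ hlt w hw0 rfl
    exact ⟨z * a, f, by rw [hw, hf]; ring, hsf⟩

theorem exists_quadratic {L K : Type*} [Field L] [Field K] [Algebra L K]
    (hdeg : Module.finrank L K = 2) :
    ∃ (z : K) (b c : L), z ∉ (⊥ : IntermediateField L K) ∧ minpoly L z = X ^ 2 + C b * X + C c ∧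
      z ^ 2 + algebraMap L K b * z + algebraMap L K c = 0 := by
  haveI : FiniteDimensional L K := Module.finite_of_finrank_pos (by omega)
  obtain ⟨z, hz⟩ : ∃ z, z ∉ (⊥ : IntermediateField L K) := by
    by_contra h
    push_neg at h
    have : (⊥ : IntermediateField L K) = ⊤ := eq_top_iff.mpr fun z _ => h z
    have h1 := IntermediateField.finrank_top' (F := L) (E := K)
    rw [← this, IntermediateField.finrank_bot] at h1
    omega
  have hint : IsIntegral L z := Algebra.IsIntegral.isIntegral z
  have hmdeg : (minpoly L z).natDegree = 2 := by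
    have hle := minpoly.natDegree_le (A := L) z
    have h1 : 2 ≤ (minpoly L z).natDegree := (minpoly.two_le_natDegree_iff hint).mpr fun ⟨a, ha⟩ =>
      hz (IntermediateField.mem_bot.mpr ⟨a, ha⟩)
    omega
  refine ⟨z, (minpoly L z).coeff 1, (minpoly L z).coeff 0, hz, ?_, ?_⟩
  · refine (minpoly.monic hint).as_sum.trans ?_
    rw [hmdeg, Finset.sum_range_succ, Finset.sum_range_one, pow_zero, mul_one, pow_one]
    ring
  · have h := minpoly.aeval L z
    rw [(minpoly.monic hint).as_sum, hmdeg, Finset.sum_range_succ, Finset.sum_range_one] at h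
    simp only [map_add, map_mul, map_pow, aeval_X, aeval_C, pow_zero, pow_one, mul_one] at h
    linear_combination h

theorem adjoin_eq_top_of_not_mem {L K : Type*} [Field L] [Field K] [Algebra L K]
    (hdeg : Module.finrank L K = 2) {y : K} (hy : y ∉ (⊥ : IntermediateField L K)) :
    IntermediateField.adjoin L ({y} : Set K) = ⊤ := by
  haveI : FiniteDimensional L K := Module.finite_of_finrank_pos (by omega)
  refine IntermediateField.eq_of_le_of_finrank_le le_top ?_
  rw [IntermediateField.finrank_top', hdeg, IntermediateField.adjoin.finrank (Algebra.IsIntegral.isIntegral y)]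
  exact (minpoly.two_le_natDegree_iff (Algebra.IsIntegral.isIntegral y)).mpr fun ⟨a, ha⟩ =>
    hy (IntermediateField.mem_bot.mpr ⟨a, ha⟩)

theorem exists_sq_eq_squarefree {k K : Type*} [Field k] [Field K] (h2 : ringChar k ≠ 2)
    [Algebra (RatFunc k) K] (hdeg : Module.finrank (RatFunc k) K = 2) :
    ∃ (y : K) (f : Polynomial k), Squarefree f ∧
      y ^ 2 = algebraMap (RatFunc k) K (algebraMap (Polynomial k) (RatFunc k) f) ∧
      IntermediateField.adjoin (RatFunc k) ({y} : Set K) = ⊤ := by
  obtain ⟨z, b, c, hz, -, hzeq⟩ := exists_quadratic hdeg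
  have h2' : (2 : RatFunc k) ≠ 0 := by
    have h2k : (2 : k) ≠ 0 := Ring.two_ne_zero h2
    intro h
    exact h2k ((algebraMap k (RatFunc k)).injective (by rw [map_ofNat, map_zero]; exact h))
  set A := algebraMap (RatFunc k) K
  set w := z + A (b / 2)
  set r : RatFunc k := (b / 2) ^ 2 - c
  have hw : w ^ 2 = A r := by
    have hb : A b = 2 * A (b / 2) := by
      rw [← map_ofNat A 2, ← map_mul, mul_div_cancel₀ _ h2']
    simp only [w, r, map_sub, map_pow]
    rw [hb] at hzeq
    linear_combination hzeq
  have hwbot : w ∉ (⊥ : IntermediateField (RatFunc k) K) := fun h => hz (by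
    have : z = w - A (b / 2) := by simp [w]
    rw [this]; exact sub_mem h (IntermediateField.algebraMap_mem _ _))
  have hr : r ≠ 0 := fun h => hwbot (by
    rw [h, map_zero, sq_eq_zero_iff] at hw; rw [hw]; exact zero_mem _)
  have hg0 : r.num * r.denom ≠ 0 := mul_ne_zero (RatFunc.num_ne_zero hr) r.denom_ne_zero
  obtain ⟨a, f, haf, hsf⟩ := exists_sq_mul_squarefree _ hg0
  have ha0 : a ≠ 0 := fun h => hg0 (by rw [haf, h]; ring)
  set P := algebraMap k[X] (RatFunc k)
  have hP : ∀ p : k[X], p ≠ 0 → P p ≠ 0 := fun p hp => RatFunc.algebraMap_ne_zero hp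
  refine ⟨w * A (P r.denom / P a), f, hsf, ?_, adjoin_eq_top_of_not_mem hdeg fun h => hwbot ?_⟩
  · rw [mul_pow, hw, ← map_pow, ← map_mul]
    congr 1
    have h1 : P r.num = r * P r.denom := by
      conv_rhs => arg 1; rw [← RatFunc.num_div_denom r]
      rw [div_mul_cancel₀ _ (hP _ r.denom_ne_zero)]
    have h3 : P r.num * P r.denom = P a ^ 2 * P f := by rw [← map_pow, ← map_mul, ← map_mul, haf]
    rw [h1] at h3
    have := hP a ha0
    field_simp
    linear_combination h3
  · have hne : A (P r.denom / P a) ≠ 0 := by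
      rw [_root_.map_ne_zero]; exact div_ne_zero (hP _ r.denom_ne_zero) (hP _ ha0)
    rw [← mul_div_cancel_right₀ w hne]
    exact div_mem h (IntermediateField.algebraMap_mem _ _)

theorem exists_artin_schreier {k K : Type*} [Field k] [Field K]
    [Algebra (RatFunc k) K] (h2 : ringChar k = 2) (hdeg : Module.finrank (RatFunc k) K = 2)
    [Algebra.IsSeparable (RatFunc k) K] :
    ∃ (y : K) (f : RatFunc k), y ^ 2 + y = algebraMap (RatFunc k) K f ∧
      IntermediateField.adjoin (RatFunc k) ({y} : Set K) = ⊤ := by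
  obtain ⟨z, b, c, hz, hmin, hzeq⟩ := exists_quadratic hdeg
  haveI : CharP k 2 := ringChar.of_eq h2
  haveI : CharP (RatFunc k) 2 := charP_of_injective_algebraMap (algebraMap k (RatFunc k)).injective 2
  haveI : CharP K 2 := charP_of_injective_algebraMap (algebraMap (RatFunc k) K).injective 2
  have hb : b ≠ 0 := fun h0 => by
    have hsep : (minpoly (RatFunc k) z).Separable := Algebra.IsSeparable.isSeparable _ z
    have hd := (separable_iff_derivative_ne_zero (minpoly.irreducible
      (Algebra.IsSeparable.isIntegral _ z))).mp hsep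
    refine hd ?_
    rw [hmin, h0]
    simp [CharTwo.add_self_eq_zero]
  set A := algebraMap (RatFunc k) K
  have hAb : A b ≠ 0 := by rw [_root_.map_ne_zero]; exact hb
  refine ⟨z / A b, -(c / b ^ 2), ?_, adjoin_eq_top_of_not_mem hdeg fun h => hz ?_⟩
  · rw [map_neg, map_div₀, map_pow]
    field_simp
    linear_combination hzeq
  · rw [← div_mul_cancel₀ z hAb]
    exact mul_mem h (IntermediateField.algebraMap_mem _ _)

end GrothLib.FunFld
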