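import Groth.Agent.Lib.FunFld.WeierstrassDiv
import Groth.Agent.Lib.FunFld.Gaps

/-!
The orders of the canonical map at a rational place are the gaps minus one.
-/

set_option autoImplicit false

namespace GrothLib.FunFld

open _root_.FunFld

variable {k K : Type*} [Field k] [Field K] [Algebra k K]

theorem ell_single_one (h : IsFunctionField k K) (hg : 1 ≤ genus k K) {P : Place k K} (hP : P.deg = 1) :
    ell (Finsupp.single P 1 : Divisor k K) = 1 := by
  have h0 := ell_single_zero h P
  have hle : L (Finsupp.single P 0 : Divisor k K) ≤ L (Finsupp.single P 1 : Divisor k K) :=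
    L_mono (Finsupp.single_le_single.2 zero_le_one)
  have := IsFG.finite_L h.1 (Finsupp.single P 1 : Divisor k K)
  have h1 := Submodule.finrank_mono hle
  simp only [ell] at *
  by_contra hne
  obtain ⟨x, hx, hx'⟩ := exists_simple_pole_of_ell h (P := P) (by simp only [ell]; omega)
  have := (of_adjoin_eq_top h (adjoin_eq_top_of_simple_pole h.1 hP hx hx')).1
  omega

theorem exists_order_iff_ell_ne (h : IsFG k K) (D : Divisor k K) (P : Place k K) :
    (∃ g : K, g ≠ 0 ∧ g ∈ L D ∧ P.ord g + D P = 0) ↔ ell (D - Finsupp.single P 1) ≠ ell D := by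
  classical
  have hle : L (D - Finsupp.single P 1) ≤ L D := L_mono fun R => by
    rw [Finsupp.sub_apply, Finsupp.single_apply]; split <;> omega
  have := IsFG.finite_L h D
  constructor
  · rintro ⟨g, hg0, hg, hord⟩ heq
    rw [← Submodule.eq_of_le_of_finrank_eq hle heq] at hg
    have h1 := (mem_L_iff_ord hg0).1 hg P
    simp only [Finsupp.sub_apply, Finsupp.single_eq_same] at h1
    omega
  · intro hne
    obtain ⟨g, hg, hg'⟩ := SetLike.not_le_iff_exists.1 fun hge => hne (by rw [ell, le_antisymm hle hge]; rfl)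
    have hg0 : g ≠ 0 := by rintro rfl; exact hg' (zero_mem _)
    refine ⟨g, hg0, hg, ?_⟩
    rw [mem_L_iff_ord hg0] at hg hg'
    push Not at hg'
    obtain ⟨R, hR⟩ := hg'
    have h1 := hg R
    by_cases hRP : R = P
    · subst hRP
      simp only [Finsupp.sub_apply, Finsupp.single_eq_same] at hR
      omega
    · simp only [Finsupp.sub_apply, Finsupp.single_eq_of_ne hRP] at hR
      omega

theorem isGap_iff_ell (h : IsFG k K) (P : Place k K) (m : ℕ) :
    IsGap P m ↔ ell (Finsupp.single P (m : ℤ) : Divisor k K) = ell (Finsupp.single P ((m : ℤ) - 1) : Divisor k K) := by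
  have := IsFG.finite_L h (Finsupp.single P (m : ℤ) : Divisor k K)
  exact ⟨fun hg => by rw [ell, hg]; rfl, fun he =>
    (Submodule.eq_of_le_of_finrank_eq (L_mono (Finsupp.single_le_single.2 (by omega))) he.symm).symm⟩

/-- Orders of the canonical system at a rational place. -/
theorem exists_order_canonical_iff (h : IsFunctionField k K) {C : Divisor k K} (hC : IsCanonical k K C)
    {P : Place k K} (hP : P.deg = 1) (j : ℕ) :
    (∃ g : K, g ≠ 0 ∧ g ∈ L C ∧ P.ord g + C P = j) ↔ IsGap P (j + 1) := by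
  classical
  set D : Divisor k K := C - Finsupp.single P (j : ℤ) with hD
  have hiff : (∃ g : K, g ≠ 0 ∧ g ∈ L C ∧ P.ord g + C P = j) ↔ ∃ g : K, g ≠ 0 ∧ g ∈ L D ∧ P.ord g + D P = 0 := by
    constructor
    · rintro ⟨g, hg0, hg, hord⟩
      refine ⟨g, hg0, (mem_L_iff_ord hg0).2 fun R => ?_, by simp [hD]; omega⟩
      have := (mem_L_iff_ord hg0).1 hg R
      by_cases hR : R = P
      · subst hR; simp [hD]; omega
      · simpa [hD, Finsupp.single_eq_of_ne hR] using this
    · rintro ⟨g, hg0, hg, hord⟩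
      refine ⟨g, hg0, (mem_L_iff_ord hg0).2 fun R => ?_, by simp [hD] at hord; omega⟩
      have := (mem_L_iff_ord hg0).1 hg R
      by_cases hR : R = P
      · subst hR; simp [hD] at this; omega
      · simpa [hD, Finsupp.single_eq_of_ne hR] using this
  rw [hiff, exists_order_iff_ell_ne h.1, isGap_iff_ell h.1]
  have h1 := riemann_roch' h hC (Finsupp.single P (j : ℤ))
  have h2 := riemann_roch' h hC (Finsupp.single P ((j : ℤ) + 1))
  rw [deg_single, hP] at h1 h2
  rw [show C - Finsupp.single P ((j : ℤ) + 1) = D - Finsupp.single P 1 by rw [hD, Finsupp.single_add]; abel] at h2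
  rw [show ((j + 1 : ℕ) : ℤ) = (j : ℤ) + 1 by simp, show ((j : ℤ) + 1 - 1) = j by ring]
  rw [← hD] at h1
  have hle1 : ell (Finsupp.single P (j : ℤ) : Divisor k K) ≤ ell (Finsupp.single P ((j : ℤ) + 1) : Divisor k K) := by
    have := IsFG.finite_L h.1 (Finsupp.single P ((j : ℤ) + 1) : Divisor k K)
    exact Submodule.finrank_mono (L_mono (Finsupp.single_le_single.2 (by omega)))
  have hle2 : ell (D - Finsupp.single P 1) ≤ ell D := by
    have := IsFG.finite_L h.1 D
    exact Submodule.finrank_mono (L_mono fun R => by rw [Finsupp.sub_apply, Finsupp.single_apply]; split <;> omega)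
  constructor <;> intro hh <;> omega

variable {n : ℕ} {φ : Fin (n + 1) → K}

/-- The canonical map has no base points. -/
theorem mapDiv_canonical (h : IsFunctionField k K) [IsAlgClosed k] {C : Divisor k K} (hC : IsCanonical k K C)
    (hφ : LinearIndependent k φ) (hspan : Submodule.span k (Set.range φ) = L C) :
    1 ≤ genus k K ∧ n + 1 = genus k K ∧ mapDiv k φ = C := by
  classical
  have hdim : n + 1 = genus k K := by
    rw [← (ell_canonical h hC).1, ell, ← hspan, finrank_span_eq_card hφ, Fintype.card_fin]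
  refine ⟨by omega, hdim, Finsupp.ext fun P => ?_⟩
  have hP : P.deg = 1 := IsFG.deg_eq_one h.1 P
  have hgap : IsGap P 1 := by
    rw [isGap_iff_ell h.1]
    rw [Nat.cast_one, sub_self, ell_single_zero h, ell_single_one h (by omega) hP]
  obtain ⟨g, hg0, hg, hord⟩ := (exists_order_canonical_iff h hC hP 0).2 hgap
  have hne := fun i => hφ.ne_zero (i := i)
  obtain ⟨j, hj⟩ := exists_isLead ⟨0, hne 0⟩ P
  have h1 := hj.val_eq_mapDiv h.1 hne
  rw [val_eq P (hne j), WithZero.exp_inj] at h1
  have h2 : φ j ∈ L C := hspan ▸ Submodule.subset_span ⟨j, rfl⟩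
  have h3 := (mem_L_iff_ord (hne j)).1 h2 P
  have h4 := (mem_L_iff_ord hg0).1 (span_le_L_mapDiv h.1 hne (hspan ▸ hg)) P
  omega

theorem isJump_canonical_iff (h : IsFunctionField k K) [IsAlgClosed k] {C : Divisor k K}
    (hC : IsCanonical k K C) (hφ : LinearIndependent k φ) (hspan : Submodule.span k (Set.range φ) = L C)
    {P : Place k K} {y : K} (hy : y ≠ 0) (heff : (1 : K) ∈ Submodule.span k (Set.range (y • φ)))
    (hnorm : ∀ i, val P ((y • φ) i) ≤ 1) {t : K} (ht : val P t = WithZero.exp (-1))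
    {Ht : K →ₐ[k] PowerSeries K} (hHt : _root_.LocRes.IsHasseFamily t Ht) {j : ℕ} (hj : 1 ≤ j) :
    IsJump (IsLocalRing.ResidueField P.O) (hcolAt P Ht (y • φ)) (j + 1) ↔ IsGap P (j + 1) := by
  obtain ⟨-, -, hdiv⟩ := mapDiv_canonical h hC hφ hspan
  have hne : ∀ i, (y • φ) i ≠ 0 := fun i => mul_ne_zero hy (hφ.ne_zero i)
  have hyC : P.ord y = C P := by
    have h1 := mapDiv_smul_apply h.1 (fun i => hφ.ne_zero i) hy P
    rw [mapDiv_eq_zero_of_normalised h.1 hne heff hnorm, hdiv] at h1
    omega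
  rw [isJump_hcolAt_iff h ht hHt hnorm, ← exists_order_canonical_iff h hC (IsFG.deg_eq_one h.1 P)]
  have hmap : Submodule.span k (Set.range (y • φ)) = (L C).map (LinearMap.mulLeft k y) := by
    rw [← hspan, Submodule.map_span, ← Set.range_comp]; rfl
  rw [hmap]
  constructor
  · rintro ⟨-, f, ⟨g, hg, rfl⟩, hf⟩
    rw [LinearMap.mulLeft_apply] at hf
    have hg0 : g ≠ 0 := fun h0 => by rw [h0, mul_zero, map_zero] at hf; exact WithZero.exp_ne_zero hf.symm
    refine ⟨g, hg0, hg, ?_⟩
    have := ord_eq_of_val_eq P hf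
    rw [ord_mul P hy hg0] at this
    omega
  · rintro ⟨g, hg0, hg, hord⟩
    refine ⟨hj, y * g, ⟨g, hg, rfl⟩, ?_⟩
    rw [val_eq P (mul_ne_zero hy hg0), ord_mul P hy hg0, WithZero.exp_inj]
    omega

end GrothLib.FunFld
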