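import Groth.Agent.Lib.FunFld.RR
import Groth.Agent.Lib.FunFld.Conseq

/-!
A function field of genus at least two has at most one rational subfield of index two.
-/

set_option autoImplicit false
set_option linter.style.haveILetI false

namespace GrothLib.FunFld

open _root_.FunFld IntermediateField

variable {k K : Type*} [Field k] [Field K] [Algebra k K]

theorem transcendental_of_finrank_eq_two (hK : IsFunctionField k K) {x : K}
    (hx : Module.finrank (adjoin k ({x} : Set K)) K = 2) : Transcendental k x := by
  intro halg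
  haveI : FiniteDimensional k (adjoin k ({x} : Set K)) :=
    adjoin.finiteDimensional halg.isIntegral
  haveI : FiniteDimensional (adjoin k ({x} : Set K)) K := Module.finite_of_finrank_pos (by omega)
  haveI : FiniteDimensional k K := Module.Finite.trans (adjoin k ({x} : Set K)) K
  obtain ⟨y, hy, -⟩ := hK.1
  exact hy (Algebra.IsAlgebraic.isAlgebraic y)

theorem rational_subfield_unique (hK : IsFunctionField k K) (hg : 2 ≤ genus k K) (x x' : K)
    (hx : Module.finrank (adjoin k ({x} : Set K)) K = 2)
    (hx' : Module.finrank (adjoin k ({x'} : Set K)) K = 2) :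
    adjoin k ({x} : Set K) = adjoin k ({x'} : Set K) := by
  classical
  have hfg : IsFG k K := hK.1
  haveI : FiniteDimensional (adjoin k ({x'} : Set K)) K := Module.finite_of_finrank_pos (by omega)
  by_cases hmem : x' ∈ adjoin k ({x} : Set K)
  · exact (IntermediateField.eq_of_le_of_finrank_le' (adjoin_simple_le_iff.mpr hmem) (by omega)).symm
  exfalso
  have ht := transcendental_of_finrank_eq_two hK hx
  have ht' := transcendental_of_finrank_eq_two hK hx'
  obtain ⟨N, hN⟩ := exists_delta_eq_genus_of_deg hK
  set n := N.toNat with hn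
  set D := n • poleDiv (k := k) x + poleDiv (k := k) x' with hD
  have hdeg : D.deg = 2 * (n : ℤ) + 2 := by
    rw [hD, deg_add, deg_nsmul, hfg.deg_poleDiv ht, hfg.deg_poleDiv ht', hx, hx']
    push_cast; ring
  -- independent members of `L D`
  let v : Fin (n + 1) ⊕ Fin (n + 1) → K := Sum.elim (fun i => x ^ (i : ℕ)) fun i => x ^ (i : ℕ) * x'
  have hpow : LinearIndependent k fun i : Fin (n + 1) => x ^ (i : ℕ) :=
    (linearIndependent_pow_of_transcendental ht).comp _ Fin.val_injective
  have hx0 : x' ≠ 0 := fun h => hmem (h ▸ zero_mem _)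
  have hli : LinearIndependent k v := by
    refine LinearIndependent.sum_type hpow
      (hpow.map' (LinearMap.mulRight k x') (LinearMap.ker_eq_bot.mpr fun a b h => mul_right_cancel₀ hx0 h)) ?_
    rw [Submodule.disjoint_def]
    intro z hz hz'
    have h1 : z ∈ adjoin k ({x} : Set K) := by
      refine (Submodule.span_le (p := (adjoin k ({x} : Set K)).toSubalgebra.toSubmodule)).mpr ?_ hz
      rintro _ ⟨i, rfl⟩
      exact pow_mem (mem_adjoin_simple_self k x) _
    have h2 : ∃ a ∈ adjoin k ({x} : Set K), z = a * x' := by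
      clear h1 hz
      induction hz' using Submodule.span_induction with
      | mem w hw =>
        obtain ⟨i, rfl⟩ := hw
        exact ⟨x ^ (i : ℕ), pow_mem (mem_adjoin_simple_self k x) _, rfl⟩
      | zero => exact ⟨0, zero_mem _, (zero_mul _).symm⟩
      | add a b _ _ iha ihb =>
        obtain ⟨a', ha', rfl⟩ := iha
        obtain ⟨b', hb', rfl⟩ := ihb
        exact ⟨a' + b', add_mem ha' hb', (add_mul _ _ _).symm⟩
      | smul c a _ iha =>
        obtain ⟨a', ha', rfl⟩ := iha
        exact ⟨c • a', IntermediateField.smul_mem _ ha', (smul_mul_assoc _ _ _).symm⟩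
    obtain ⟨a, ha, rfl⟩ := h2
    by_contra hne
    refine hmem ?_
    have ha0 : a ≠ 0 := left_ne_zero_of_mul hne
    have h3 := mul_mem (inv_mem ha) h1
    rwa [inv_mul_cancel_left₀ ha0] at h3
  have hL : ∀ j, v j ∈ L D := by
    have hle1 : n • poleDiv (k := k) x ≤ D := by
      rw [hD, le_add_iff_nonneg_right]
      exact fun P => by rw [hfg.poleDiv_apply]; exact le_max_right _ _
    rintro (i | i)
    · exact L_mono hle1 (hfg.pow_mem_L x (Nat.lt_succ_iff.mp i.2))
    · show x ^ (i : ℕ) * x' ∈ L D
      have hxne : x ≠ 0 := fun h => ht (h ▸ isAlgebraic_zero)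
      rw [mem_L_iff_ord (mul_ne_zero (pow_ne_zero _ hxne) hx0)]
      intro P
      rw [hD, Finsupp.add_apply, Finsupp.smul_apply, hfg.poleDiv_apply, hfg.poleDiv_apply,
        ord_mul P (pow_ne_zero _ hxne) hx0, ord_pow, nsmul_eq_mul]
      have hi : ((i : ℕ) : ℤ) ≤ n := by exact_mod_cast Nat.lt_succ_iff.mp i.2
      rcases le_total 0 (P.ord x) with h | h
      · rw [max_eq_right (by omega : -P.ord x ≤ 0)]
        have : 0 ≤ ((i : ℕ) : ℤ) * P.ord x := mul_nonneg (by positivity) h
        have := le_max_left (-P.ord x') 0
        push_cast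
        linarith
      · rw [max_eq_left (by omega : 0 ≤ -P.ord x)]
        have : (n : ℤ) * P.ord x ≤ ((i : ℕ) : ℤ) * P.ord x := mul_le_mul_of_nonpos_right hi h
        have := le_max_left (-P.ord x') 0
        push_cast
        linarith
  haveI := hfg.finite_L D
  have hcard : 2 * (n + 1) ≤ ell D := by
    have h1 : LinearIndependent k fun j => (⟨v j, hL j⟩ : L D) :=
      LinearIndependent.of_comp (L D).subtype hli
    have h2 := h1.fintype_card_le_finrank
    rw [Fintype.card_sum, Fintype.card_fin] at h2
    rw [ell]
    omega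
  have hgen := hN D (by have := Int.self_le_toNat N; omega)
  rw [delta, hdeg] at hgen
  omega

end GrothLib.FunFld
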