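import Groth.Agent.Lib.FunFld.Classical
import Groth.Agent.Lib.FunFld.CanonicalOrders
import Groth.Agent.Lib.FunFld.Linear
import Groth.Agent.Lib.FunFld.QuadSubfield
import Groth.Agent.S11047

/-!
Weierstrass points of the canonical map and their behaviour under automorphisms.
-/

set_option autoImplicit false
set_option linter.style.haveILetI false

namespace GrothLib.FunFld

open _root_.FunFld

variable {k K : Type*} [Field k] [Field K] [Algebra k K]

/-- The pullback of a place along an automorphism. -/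
noncomputable def pull (σ : K ≃ₐ[k] K) (P : Place k K) : Place k K :=
  ⟨(val P).comap (σ : K →+* K), fun c => by
    show val P (σ (algebraMap k K c)) ≤ 1
    rw [AlgEquiv.commutes]; exact P.2.1 c, fun a => by
    obtain ⟨y, hy⟩ := P.2.2 a
    exact ⟨σ.symm y, by show val P (σ (σ.symm y)) = a; rw [AlgEquiv.apply_symm_apply]; exact hy⟩⟩

theorem val_pull (σ : K ≃ₐ[k] K) (P : Place k K) (x : K) : val (pull σ P) x = val P (σ x) := rfl

theorem ord_pull (σ : K ≃ₐ[k] K) (P : Place k K) (x : K) : (pull σ P).ord x = P.ord (σ x) := rfl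

theorem pull_mul (σ τ : K ≃ₐ[k] K) (P : Place k K) : pull (σ * τ) P = pull τ (pull σ P) :=
  Subtype.ext (Valuation.ext fun _ => rfl)

theorem pull_one (P : Place k K) : pull (1 : K ≃ₐ[k] K) P = P := Subtype.ext (Valuation.ext fun _ => rfl)

theorem pull_injective (σ : K ≃ₐ[k] K) : Function.Injective (pull σ : Place k K → Place k K) := fun P Q h => by
  have h1 := congrArg (pull σ⁻¹) h
  rwa [← pull_mul, ← pull_mul, mul_inv_cancel, pull_one, pull_one] at h1

theorem isFixedPt_iff_pull_eq {σ : K ≃ₐ[k] K} {P : Place k K} :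
    IsFixedPt (σ : K →ₐ[k] K) P ↔ pull σ P = P := by
  constructor
  · intro h
    by_contra hne
    obtain ⟨x, hx1, hx2⟩ := exists_le_one_and_one_lt hne
    have hx0 : x ≠ 0 := by rintro rfl; simp at hx2
    have hinv : val P x⁻¹ < 1 := by rw [map_inv₀]; exact inv_lt_one_of_one_lt₀ hx2
    have h3 : val P (σ x⁻¹) < 1 := h _ hinv
    rw [map_inv₀, map_inv₀] at h3
    rw [val_pull] at hx1
    exact absurd ((inv_lt_one₀ (zero_lt_iff.2 ((val P).ne_zero_iff.2 (by simpa using hx0)))).1 h3)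
      (not_lt.2 hx1)
  · intro h z hz
    have h1 : val (pull σ P) z < 1 := by rw [h]; exact hz
    exact h1

theorem mem_L_single_pull (σ : K ≃ₐ[k] K) (P : Place k K) (m : ℤ) (x : K) :
    x ∈ L (Finsupp.single (pull σ P) m : Divisor k K) ↔ σ x ∈ L (Finsupp.single P m : Divisor k K) := by
  classical
  rw [mem_L_iff, mem_L_iff]
  refine ⟨fun h Q => ?_, fun h Q' => ?_⟩
  · have := h (pull σ Q)
    rw [val_pull, Finsupp.single_apply] at this
    rw [Finsupp.single_apply]
    simpa only [(pull_injective σ).eq_iff] using this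
  · obtain ⟨Q, rfl⟩ : ∃ Q, pull σ Q = Q' := ⟨pull σ⁻¹ Q', by rw [← pull_mul, inv_mul_cancel, pull_one]⟩
    rw [val_pull, Finsupp.single_apply]
    have := h Q
    rw [Finsupp.single_apply] at this
    simpa only [(pull_injective σ).eq_iff] using this

theorem isGap_pull (σ : K ≃ₐ[k] K) (P : Place k K) (m : ℕ) : IsGap (pull σ P) m ↔ IsGap P m := by
  simp only [IsGap, SetLike.ext_iff, mem_L_single_pull]
  exact ⟨fun h x => by simpa using h (σ.symm x), fun h x => h (σ x)⟩

/-- A Weierstrass point: the gaps are not `1, …, g`. -/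
def IsWPoint (P : Place k K) : Prop := ∃ m, 2 ≤ m ∧ m ≤ genus k K ∧ ¬ IsGap P m

theorem isWPoint_pull {σ : K ≃ₐ[k] K} {P : Place k K} (h : IsWPoint P) : IsWPoint (pull σ P) :=
  let ⟨m, h1, h2, h3⟩ := h
  ⟨m, h1, h2, mt (isGap_pull σ P m).1 h3⟩

variable [IsAlgClosed k] {n : ℕ} {φ : Fin (n + 1) → K}

/-- In large characteristic the orders are `1, …, n`. -/
theorem isOrders_classical (hK : IsFunctionField k K) (hφ : LinearIndependent k φ)
    (hchar : ringChar k = 0 ∨ (mapDiv k φ).deg < ringChar k) {s : K} {H : K →ₐ[k] PowerSeries K}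
    (hH : _root_.LocRes.IsHasseFamily s H) {J : Fin n → ℕ} (hJ : IsOrders K (hcol (AlgHom.id k K) H φ) J) :
    J = fun l : Fin n => (l : ℕ) + 1 := by
  have hg := isGeometric_of_perfectField hK
  obtain ⟨P⟩ := IsFG.exists_place hK.1
  obtain ⟨t, Ht, ht, hHt⟩ := exists_parameter_hasse hK P
  obtain ⟨y, hy, hli, heff, hnorm⟩ := exists_normalisation hφ P
  obtain ⟨J', hJ'⟩ := exists_isOrders_at hK hli ht hHt heff hnorm
  obtain ⟨hpos, hlt⟩ := orders_at_lt_char hK hφ hy heff hnorm ht hHt hJ' hchar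
  have hI : StrictMono fun l : Fin n => (l : ℕ) + 1 := fun a b h => Nat.add_lt_add_right h 1
  have hfix : IsFixedPt (AlgHom.id k K) P := fun z hz => hz
  have hval := ((val_det_wrMat hK hfix hli heff hnorm ht hHt hJ' fun l : Fin n => (l : ℕ) + 1).2
    (Or.inl fun l => Nat.succ_pos _)).2 (det_binomMat_id_ne_zero hJ'.1 hpos hlt)
  have hne : (wrMat (AlgHom.id k K) Ht (y • φ) fun l : Fin n => (l : ℕ) + 1).det ≠ 0 := fun h0 => by
    rw [h0, map_zero] at hval; exact WithZero.exp_ne_zero hval.symm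
  have hJy : IsOrders K (hcol (AlgHom.id k K) Ht (y • φ)) J :=
    (isOrders_change hH hHt hK.1 hg J).2 ((isOrders_smul hH hy J).2 hJ)
  have hle := fun l => isOrders_le (R := K) _ hJy (hcol_zero_ne_zero hli) hI ((det_wrMat_ne_zero_iff _).1 hne) l
  have hJ1 : ∀ l, 1 ≤ J l := fun l => by
    by_contra h0
    refine (hJ.2 0).1 ⟨l, by omega⟩ (Submodule.subset_span ⟨0, Nat.zero_lt_one, funext fun i => ?_⟩)
    show (AlgHom.id k K) (φ i) = _root_.LocRes.hasseD H 0 (φ i)
    rw [hasseD_zero hH, AlgHom.id_apply]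
  have hge : ∀ (a : ℕ) (h : a < n), a + 1 ≤ J ⟨a, h⟩ := by
    intro a
    induction a with
    | zero => intro h; exact hJ1 _
    | succ a ih =>
      intro h
      have := ih (by omega)
      have : J ⟨a, by omega⟩ < J ⟨a + 1, h⟩ := hJ.1 (Fin.mk_lt_mk.2 (Nat.lt_succ_self _))
      omega
  exact funext fun l => le_antisymm (hle l) (hge l.1 l.2)

variable {s : K} {H : K →ₐ[k] PowerSeries K} {J : Fin n → ℕ} {Φ : Place k K → (K →ₐ[k] LaurentSeries k)}
  {C : Divisor k K}

/-- The weight of the canonical map at a place. -/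
theorem wDiv_canonical_apply (hK : IsFunctionField k K) (hg : 1 < genus k K)
    (hchar : ringChar k = 0 ∨ 2 * genus k K - 2 < ringChar k) (hC : IsCanonical k K C)
    (hφ : LinearIndependent k φ) (hspan : Submodule.span k (Set.range φ) = L C)
    (hH : _root_.LocRes.IsHasseFamily s H) (hJ : IsOrders K (hcol (AlgHom.id k K) H φ) J)
    (hΦ : ∀ P : Place k K, _root_.LocRes.IsExpansionAt P.1 (Φ P)) (P : Place k K) :
    (wDiv (AlgHom.id k K) H Φ s φ J P ≠ 0 ↔ IsWPoint P) ∧
    2 * wDiv (AlgHom.id k K) H Φ s φ J P ≤ (genus k K : ℤ) * (genus k K - 1) ∧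
    (2 * wDiv (AlgHom.id k K) H Φ s φ J P = (genus k K : ℤ) * (genus k K - 1) → ¬ IsGap P 2) := by
  classical
  obtain ⟨-, hdim, hdiv⟩ := mapDiv_canonical hK hC hφ hspan
  have hdeg : (mapDiv k φ).deg = 2 * (genus k K : ℤ) - 2 := by rw [hdiv, (ell_canonical hK hC).2]
  have hchar' : ringChar k = 0 ∨ (mapDiv k φ).deg < ringChar k := hchar.imp id fun h => by omega
  have hJeq := isOrders_classical hK hφ hchar' hH hJ
  obtain ⟨t, Ht, ht, hHt⟩ := exists_parameter_hasse hK P
  obtain ⟨y, hy, hli, heff, hnorm⟩ := exists_normalisation hφ P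
  obtain ⟨J', hJ'⟩ := exists_isOrders_at hK hli ht hHt heff hnorm
  obtain ⟨hpos, hlt⟩ := orders_at_lt_char hK hφ hy heff hnorm ht hHt hJ' hchar'
  obtain ⟨hJy, he⟩ := wDiv_apply_local hK hφ hH hJ hΦ hy ht hHt
  have hfix : IsFixedPt (AlgHom.id k K) P := fun z hz => hz
  have hw := ((sum_sub_le_wDiv hK hli hfix heff hnorm ht hHt hJy hJ' hΦ).2.2 (Or.inl rfl)).2
    (by rw [hJeq]; exact det_binomMat_id_ne_zero hJ'.1 hpos hlt)
  rw [he, hw, hJeq]
  have hP : P.deg = 1 := IsFG.deg_eq_one hK.1 P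
  have hrange : ∀ j, 1 ≤ j → (j ∈ Set.range J' ↔ IsGap P (j + 1)) := fun j hj =>
    (hJ'.2 j).trans (isJump_canonical_iff hK hC hφ hspan hy heff hnorm ht hHt hj)
  have hlow : ∀ (a : ℕ) (h : a < n), a + 1 ≤ J' ⟨a, h⟩ := by
    intro a
    induction a with
    | zero => intro h; exact hpos _
    | succ a ih =>
      intro h
      have := ih (by omega)
      have : J' ⟨a, by omega⟩ < J' ⟨a + 1, h⟩ := hJ'.1 (Fin.mk_lt_mk.2 (Nat.lt_succ_self _))
      omega
  have hup : ∀ l : Fin n, J' l ≤ 2 * ((l : ℕ) + 1) := by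
    intro l
    by_contra hlt'
    push Not at hlt'
    have h1 := le_card_gaps_two_mul_sub_one hK hP (l := (l : ℕ) + 2) (by omega)
    have hsub : (Finset.Icc 1 (2 * ((l : ℕ) + 2) - 1)).filter (IsGap P) ⊆
        insert 1 ((Finset.Iio l).image fun a => J' a + 1) := by
      intro m hm
      obtain ⟨hm1, hm2⟩ := Finset.mem_filter.1 hm
      rw [Finset.mem_Icc] at hm1
      by_cases h : m = 1
      · exact h ▸ Finset.mem_insert_self _ _
      refine Finset.mem_insert_of_mem ?_
      obtain ⟨a, ha⟩ := (hrange (m - 1) (by omega)).2 (by rwa [show m - 1 + 1 = m by omega])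
      exact Finset.mem_image.2 ⟨a, Finset.mem_Iio.2 (hJ'.1.lt_iff_lt.1 (by omega)), by omega⟩
    have h2 := (Finset.card_le_card hsub).trans (Finset.card_insert_le _ _)
    have h3 := Finset.card_image_le (s := Finset.Iio l) (f := fun a => J' a + 1)
    rw [Fin.card_Iio] at h3
    omega
  have hsum : 2 * ∑ l : Fin n, ((l : ℕ) + 1) = (n + 1) * n := by
    rw [Fin.sum_univ_eq_sum_range fun i => i + 1]
    have := Finset.sum_range_id_mul_two (n + 1)
    rw [Finset.sum_range_succ'] at this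
    simp only [add_zero, Nat.add_sub_cancel] at this
    omega
  have hsum' : 2 * ∑ l : Fin n, ((((l : ℕ) + 1 : ℕ)) : ℤ) = (genus k K : ℤ) * (genus k K - 1) := by
    rw [← hdim]
    have : ((2 * ∑ l : Fin n, ((l : ℕ) + 1) : ℕ) : ℤ) = (((n + 1) * n : ℕ) : ℤ) := by rw [hsum]
    push_cast at this ⊢
    linarith
  have hterm : ∀ l : Fin n, 0 ≤ (J' l : ℤ) - ((l : ℕ) + 1 : ℕ) ∧
      (J' l : ℤ) - ((l : ℕ) + 1 : ℕ) ≤ (((l : ℕ) + 1 : ℕ) : ℤ) := fun l => by
    have := hlow l.1 l.2
    have := hup l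
    simp only [Fin.eta] at *
    omega
  refine ⟨⟨fun hne => ?_, ?_⟩, ?_, fun heq => ?_⟩
  · by_contra hnw
    simp only [IsWPoint, not_exists, not_and, not_not] at hnw
    have himg : Finset.Icc 1 n ⊆ Finset.univ.image J' := fun j hj => by
      rw [Finset.mem_Icc] at hj
      obtain ⟨a, ha⟩ := (hrange j hj.1).2 (hnw (j + 1) (by omega) (by omega))
      exact Finset.mem_image.2 ⟨a, Finset.mem_univ _, ha⟩
    have heqs : Finset.Icc 1 n = Finset.univ.image J' := Finset.eq_of_subset_of_card_le himg (by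
      rw [Finset.card_image_of_injective _ hJ'.1.injective]; simp)
    refine hne (Finset.sum_eq_zero fun l _ => ?_)
    have hhigh : ∀ (d : ℕ) (a : Fin n), (a : ℕ) + d + 1 = n → J' a + d ≤ n := by
      intro d
      induction d with
      | zero =>
        intro a _
        have : J' a ∈ Finset.Icc 1 n := heqs ▸ Finset.mem_image_of_mem _ (Finset.mem_univ a)
        rw [Finset.mem_Icc] at this; omega
      | succ d ih =>
        intro a ha
        have := ih ⟨a + 1, by omega⟩ (by simp; omega)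
        have : J' a < J' ⟨a + 1, by omega⟩ := hJ'.1 (Fin.lt_def.2 (by simp))
        omega
    have := hlow l.1 l.2
    have := hhigh (n - 1 - l) l (by omega)
    simp only [Fin.eta] at *
    omega
  · rintro ⟨m, hm2, hmg, hng⟩ h0
    rw [Finset.sum_eq_zero_iff_of_nonneg fun l _ => (hterm l).1] at h0
    refine hng ?_
    have := (hrange (m - 1) (by omega)).1 ⟨⟨m - 2, by omega⟩, by
      have := h0 ⟨m - 2, by omega⟩ (Finset.mem_univ _); simp at this; omega⟩
    rwa [show m - 1 + 1 = m by omega] at this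
  · rw [← hsum', Finset.mul_sum, Finset.mul_sum]
    exact Finset.sum_le_sum fun l _ => by linarith [(hterm l).2]
  · have hall : ∀ l : Fin n, (J' l : ℤ) - ((l : ℕ) + 1 : ℕ) = (((l : ℕ) + 1 : ℕ) : ℤ) := by
      have := (Finset.sum_eq_sum_iff_of_le (s := (Finset.univ : Finset (Fin n))) fun l _ => (hterm l).2).1 (by linarith)
      exact fun l => this l (Finset.mem_univ _)
    intro hgap
    obtain ⟨a, ha⟩ := (hrange 1 le_rfl).2 hgap
    have := hall a
    omega

theorem deg_wDiv_canonical (hK : IsFunctionField k K) (hg : 1 < genus k K)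
    (hchar : ringChar k = 0 ∨ 2 * genus k K - 2 < ringChar k) (hC : IsCanonical k K C)
    (hφ : LinearIndependent k φ) (hspan : Submodule.span k (Set.range φ) = L C)
    (hH : _root_.LocRes.IsHasseFamily s H) (hJ : IsOrders K (hcol (AlgHom.id k K) H φ) J)
    (hΦ : ∀ P : Place k K, _root_.LocRes.IsExpansionAt P.1 (Φ P)) :
    (wDiv (AlgHom.id k K) H Φ s φ J).deg = (genus k K : ℤ) * (genus k K - 1) * (genus k K + 1) := by
  obtain ⟨-, hdim, hdiv⟩ := mapDiv_canonical hK hC hφ hspan
  have hdeg : (mapDiv k φ).deg = 2 * (genus k K : ℤ) - 2 := by rw [hdiv, (ell_canonical hK hC).2]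
  have hchar' : ringChar k = 0 ∨ (mapDiv k φ).deg < ringChar k := hchar.imp id fun h => by omega
  rw [deg_wDiv hK hH hΦ, hdeg, isOrders_classical hK hφ hchar' hH hJ]
  have hone : Module.finrank (AlgHom.id k K).fieldRange K = 1 := by
    rw [show (AlgHom.id k K).fieldRange = ⊤ from top_unique fun x _ => ⟨x, rfl⟩, IntermediateField.finrank_top]
  have hgauss : ∀ m : ℕ, 2 * ∑ i ∈ Finset.range m, (((i + 1 : ℕ)) : ℤ) = (m : ℤ) * ((m : ℤ) + 1) := by
    intro m
    induction m with
    | zero => simp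
    | succ m ih => rw [Finset.sum_range_succ]; push_cast at ih ⊢; linarith
  have hsum : 2 * ∑ l : Fin n, ((((l : ℕ) + 1 : ℕ)) : ℤ) = (n : ℤ) * ((n : ℤ) + 1) := by
    rw [Fin.sum_univ_eq_sum_range fun i => (((i + 1 : ℕ)) : ℤ)]
    exact hgauss n
  rw [hone, ← hdim]
  push_cast at hsum ⊢
  linear_combination (n : ℤ) * hsum

omit [IsAlgClosed k] in
theorem apply_eq_of_mem_adjoin {σ : K ≃ₐ[k] K} {x : K} (hσ : σ x = x) {z : K}
    (hz : z ∈ IntermediateField.adjoin k ({x} : Set K)) : σ z = z := by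
  induction hz using IntermediateField.adjoin_induction with
  | mem a ha => rw [Set.mem_singleton_iff.1 ha, hσ]
  | algebraMap c => exact AlgEquiv.commutes σ c
  | add a b _ _ ha hb => rw [map_add, ha, hb]
  | inv a _ ha => rw [map_inv₀, ha]
  | mul a b _ _ ha hb => rw [map_mul, ha, hb]

/-- The fixed points of an automorphism that fixes a double covering of the line. -/
theorem isFixedPt_of_fixes (hK : IsFunctionField k K) (hg : 1 < genus k K) {σ : K ≃ₐ[k] K} {x : K}
    (hx : Module.finrank (IntermediateField.adjoin k ({x} : Set K)) K = 2) (hσ : σ x = x)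
    {Q : Place k K} (hQ : ¬ IsGap Q 2) : IsFixedPt (σ : K →ₐ[k] K) Q := by
  obtain ⟨z, hz0, hz, hzo⟩ := exists_exact_of_not_gap hK hQ
  rw [mem_L_single_iff hz0 (by simp)] at hz
  obtain ⟨-, hfin⟩ := finrank_adjoin_of_single_pole hK.1 (n := 2) two_pos (IsFG.deg_eq_one hK.1 Q) hzo hz.2
  have hmem : z ∈ IntermediateField.adjoin k ({x} : Set K) :=
    rational_subfield_unique hK hg x z hx hfin ▸ IntermediateField.mem_adjoin_simple_self k z
  have hσz : σ z = z := apply_eq_of_mem_adjoin hσ hmem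
  rw [isFixedPt_iff_pull_eq]
  by_contra hne
  have := hz.2 _ hne
  rw [ord_pull, hσz, hzo] at this
  omega

theorem apply_eq_of_fixes (hK : IsFunctionField k K) {σ : K ≃ₐ[k] K} {x : K} {P0 : Place k K}
    (hord : P0.ord x = -2) (hreg : ∀ Q : Place k K, Q ≠ P0 → 0 ≤ Q.ord x) {S : Finset (Place k K)}
    (hP0 : P0 ∈ S) (hS : 4 ≤ S.card) (hfix : ∀ R ∈ S, IsFixedPt (σ : K →ₐ[k] K) R) : σ x = x := by
  classical
  have hx0 : x ≠ 0 := by rintro rfl; simp at hord
  set D : Divisor k K := Finsupp.single P0 3 - ∑ R ∈ S, Finsupp.single R 1 with hD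
  have hDapp : ∀ R, D R = (if R = P0 then 3 else 0) - (if R ∈ S then 1 else 0) := fun R => by
    simp [hD, Finsupp.single_apply, eq_comm]
  have hu : σ x - x ∈ L D := by
    rw [mem_L_iff]
    intro R
    have hσR : R ≠ P0 → val R (σ x) ≤ 1 := fun hR => by
      rw [← val_pull, val_le_one_iff _ hx0]
      refine hreg _ fun hpe => hR (pull_injective σ ?_)
      rw [hpe, isFixedPt_iff_pull_eq.1 (hfix P0 hP0)]
    rw [hDapp]
    by_cases hR : R = P0
    · subst hR
      rw [if_pos rfl, if_pos hP0]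
      have h1 : val R x ≤ WithZero.exp ((3 : ℤ) - 1) := by
        rw [val_eq R hx0, hord, WithZero.exp_le_exp]; norm_num
      refine ((val R).map_sub _ _).trans (max_le ?_ h1)
      rw [← val_pull, isFixedPt_iff_pull_eq.1 (hfix R hP0)]
      exact h1
    · rw [if_neg hR]
      have hxR : val R x ≤ 1 := (val_le_one_iff R hx0).2 (hreg R hR)
      by_cases hRS : R ∈ S
      · rw [if_pos hRS, zero_sub, ← zero_sub (1 : ℤ), le_exp_sub_one_iff, WithZero.exp_zero]
        obtain ⟨c, hc⟩ := exists_residue hK.1 R hxR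
        have h2 : val R (σ (x - algebraMap k K c)) < 1 := hfix R hRS _ hc
        rw [map_sub, AlgEquiv.commutes] at h2
        rw [show σ x - x = (σ x - algebraMap k K c) - (x - algebraMap k K c) by ring]
        exact ((val R).map_sub _ _).trans_lt (max_lt h2 hc)
      · rw [if_neg hRS, sub_zero, WithZero.exp_zero]
        exact ((val R).map_sub _ _).trans (max_le (hσR hR) hxR)
  have hneg : D.deg < 0 := by
    rw [hD, deg_sub, deg_sum, deg_single, IsFG.deg_eq_one hK.1]
    simp [deg_single, IsFG.deg_eq_one hK.1]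
    omega
  have := IsFG.finite_L hK.1 D
  have h0 := IsFG.ell_eq_zero_of_deg_neg hK.1 hneg
  rw [ell, Submodule.finrank_eq_zero] at h0
  rw [h0, Submodule.mem_bot, sub_eq_zero] at hu
  exact hu

/-- The dichotomy. -/
theorem weierstrass_dichotomy (hK : IsFunctionField k K) (hg : 1 < genus k K)
    (hchar : ringChar k = 0 ∨ 2 * genus k K - 2 < ringChar k) (hC : IsCanonical k K C)
    (hφ : LinearIndependent k φ) (hspan : Submodule.span k (Set.range φ) = L C)
    (hH : _root_.LocRes.IsHasseFamily s H) (hJ : IsOrders K (hcol (AlgHom.id k K) H φ) J)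
    (hΦ : ∀ P : Place k K, _root_.LocRes.IsExpansionAt P.1 (Φ P)) :
    (2 * genus k K + 2 < (wDiv (AlgHom.id k K) H Φ s φ J).support.card ∧
      ∀ σ : K ≃ₐ[k] K, (∀ P : Place k K, wDiv (AlgHom.id k K) H Φ s φ J P ≠ 0 →
        IsFixedPt (σ : K →ₐ[k] K) P) → σ = AlgEquiv.refl) ∨
    ((wDiv (AlgHom.id k K) H Φ s φ J).support.card = 2 * genus k K + 2 ∧
      ∃ x : K, Module.finrank (IntermediateField.adjoin k ({x} : Set K)) K = 2 ∧
        ∀ σ : K ≃ₐ[k] K, (∀ P : Place k K, wDiv (AlgHom.id k K) H Φ s φ J P ≠ 0 →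
          IsFixedPt (σ : K →ₐ[k] K) P) ↔ σ x = x) := by
  classical
  set W := wDiv (AlgHom.id k K) H Φ s φ J with hW
  have hloc := wDiv_canonical_apply hK hg hchar hC hφ hspan hH hJ hΦ
  have hdeg := deg_wDiv_canonical hK hg hchar hC hφ hspan hH hJ hΦ
  rw [← hW] at hdeg
  have hdegsum : W.deg = ∑ P ∈ W.support, W P := by
    rw [deg_eq_degHom, Finsupp.sum]
    exact Finset.sum_congr rfl fun P _ => by rw [IsFG.deg_eq_one hK.1]; simp
  have hle : 2 * W.deg ≤ (W.support.card : ℤ) * ((genus k K : ℤ) * (genus k K - 1)) := by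
    rw [hdegsum, Finset.mul_sum]
    refine (Finset.sum_le_sum fun P _ => (hloc P).2.1).trans (le_of_eq ?_)
    simp
  have hgpos : (0 : ℤ) < (genus k K : ℤ) * (genus k K - 1) := mul_pos (by omega) (by omega)
  rcases lt_trichotomy W.support.card (2 * genus k K + 2) with hlt | heq | hgt
  · exfalso
    have h2 : (W.support.card : ℤ) ≤ 2 * (genus k K : ℤ) + 1 := by omega
    nlinarith
  · right
    have hall : ∀ P ∈ W.support, 2 * W P = (genus k K : ℤ) * (genus k K - 1) := by
      refine (Finset.sum_eq_sum_iff_of_le fun P _ => (hloc P).2.1).1 ?_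
      rw [← Finset.mul_sum, ← hdegsum, hdeg, Finset.sum_const, nsmul_eq_mul, heq]
      push_cast; ring
    have hng : ∀ P ∈ W.support, ¬ IsGap P 2 := fun P hP => (hloc P).2.2 (hall P hP)
    obtain ⟨P0, hP0⟩ := Finset.card_pos.1 (show 0 < W.support.card by omega)
    obtain ⟨x, hx0, hx, hxo⟩ := exists_exact_of_not_gap hK (hng P0 hP0)
    rw [mem_L_single_iff hx0 (by simp)] at hx
    have hfin := (finrank_adjoin_of_single_pole hK.1 (n := 2) two_pos (IsFG.deg_eq_one hK.1 P0) hxo hx.2).2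
    refine ⟨heq, x, hfin, fun σ => ⟨fun h => ?_, fun h P hP => ?_⟩⟩
    · exact apply_eq_of_fixes hK hxo hx.2 hP0 (by omega) fun R hR => h R (Finsupp.mem_support_iff.1 hR)
    · exact isFixedPt_of_fixes hK hg hfin h (hng P (Finsupp.mem_support_iff.2 hP))
  · left
    refine ⟨hgt, fun σ h => ?_⟩
    refine Groth.Agent.S11047.result k K hK σ (lt_of_lt_of_le ?_ (Set.encard_le_encard
      (show (W.support : Set (Place k K)) ⊆ _ from fun P hP => h P (Finsupp.mem_support_iff.1 hP))))
    rw [Set.encard_coe_eq_coe_finsetCard]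
    exact_mod_cast hgt

theorem finite_algEquiv_adjoin {x : K} [FiniteDimensional (IntermediateField.adjoin k ({x} : Set K)) K] :
    {σ : K ≃ₐ[k] K | σ x = x}.Finite := by
  set F := IntermediateField.adjoin k ({x} : Set K)
  refine (Set.finite_range fun ρ : K ≃ₐ[F] K => ρ.restrictScalars k).subset ?_
  intro σ hσ
  refine ⟨AlgEquiv.ofRingEquiv (f := (σ : K ≃+* K)) fun c => ?_, AlgEquiv.ext fun z => rfl⟩
  exact apply_eq_of_mem_adjoin (σ := σ) hσ c.2

theorem finite_algEquiv (hK : IsFunctionField k K) (hg : 1 < genus k K)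
    (hchar : ringChar k = 0 ∨ 2 * genus k K - 2 < ringChar k) : Finite (K ≃ₐ[k] K) := by
  classical
  obtain ⟨C, hC⟩ := exists_isCanonical hK
  have := IsFG.finite_L hK.1 C
  obtain ⟨m, hm⟩ : ∃ m, Module.finrank k (L C) = m + 1 :=
    ⟨genus k K - 1, by have := (ell_canonical hK hC).1; simp only [ell] at this; omega⟩
  let b := Module.finBasisOfFinrankEq k (L C) hm
  set φ : Fin (m + 1) → K := fun i => (b i : K)
  have hφ : LinearIndependent k φ := b.linearIndependent.map' (L C).subtype (Submodule.ker_subtype _)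
  have hspan : Submodule.span k (Set.range φ) = L C := by
    rw [show Set.range φ = (L C).subtype '' Set.range b from Set.range_comp _ _, Submodule.span_image, b.span_eq,
      Submodule.map_top, Submodule.range_subtype]
  obtain ⟨P⟩ := IsFG.exists_place hK.1
  obtain ⟨s, H, -, hH⟩ := exists_parameter_hasse hK P
  obtain ⟨J, hJ, -⟩ := exists_isOrders_det hH hK (isGeometric_of_perfectField hK) hφ (AlgHom.id k K)
  have hexp : ∀ Q : Place k K, ∃ ψ : K →ₐ[k] LaurentSeries k, _root_.LocRes.IsExpansionAt Q.1 ψ := fun Q => by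
    obtain ⟨t, -, ht, -⟩ := exists_parameter_hasse hK Q
    obtain ⟨ψ, hψ, -⟩ := exists_expansion_closed hK.1 ht
    exact ⟨ψ, hψ⟩
  choose Φ hΦ using hexp
  set W := wDiv (AlgHom.id k K) H Φ s φ J with hW
  have hmem : ∀ (σ : K ≃ₐ[k] K) (Q : W.support), pull σ Q.1 ∈ W.support := fun σ Q =>
    Finsupp.mem_support_iff.2 ((wDiv_canonical_apply hK hg hchar hC hφ hspan hH hJ hΦ _).1.2
      (isWPoint_pull ((wDiv_canonical_apply hK hg hchar hC hφ hspan hH hJ hΦ _).1.1
        (Finsupp.mem_support_iff.1 Q.2))))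
  set K0 := {σ : K ≃ₐ[k] K | ∀ Q : Place k K, W Q ≠ 0 → IsFixedPt (σ : K →ₐ[k] K) Q} with hK0
  have hfin : K0.Finite := by
    rcases weierstrass_dichotomy hK hg hchar hC hφ hspan hH hJ hΦ with ⟨-, h⟩ | ⟨-, x, hx, h⟩
    · exact (Set.finite_singleton AlgEquiv.refl).subset fun σ hσ => h σ hσ
    · have : FiniteDimensional (IntermediateField.adjoin k ({x} : Set K)) K :=
        Module.finite_of_finrank_pos (by omega)
      exact finite_algEquiv_adjoin.subset fun σ hσ => (h σ).1 hσ
  let π : (K ≃ₐ[k] K) → (W.support → W.support) := fun σ Q => ⟨pull σ Q.1, hmem σ Q⟩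
  have hu : (Set.univ : Set (K ≃ₐ[k] K)).Finite := by
    rw [show (Set.univ : Set (K ≃ₐ[k] K)) = ⋃ f, π ⁻¹' {f} by ext; simp]
    refine Set.finite_iUnion fun f => ?_
    rcases (π ⁻¹' {f}).eq_empty_or_nonempty with he | ⟨τ, hτ⟩
    · rw [he]; exact Set.finite_empty
    refine (hfin.image fun ρ => ρ * τ).subset fun σ hσ => ⟨σ * τ⁻¹, fun Q hQ => ?_, by simp⟩
    have hστ : pull σ Q = pull τ Q := congrArg Subtype.val
      (congrFun (hσ.trans hτ.symm) ⟨Q, Finsupp.mem_support_iff.2 hQ⟩)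
    rw [isFixedPt_iff_pull_eq, pull_mul, hστ, ← pull_mul, mul_inv_cancel, pull_one]
  exact Set.finite_univ_iff.1 hu

end GrothLib.FunFld
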