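import Groth.Agent.Lib.FunFld.QuadExt
import Groth.Agent.Lib.FunFld.WeierstrassPts
import Groth.Agent.Lib.FunFld.SplitCount
import Groth.Agent.Lib.FunFld.Conseq
import Groth.Agent.Lib.FunFld.Quadratic
import Groth.Agent.S10994

/-!
The fixed places of an involution of a function field.
-/

set_option autoImplicit false
set_option linter.style.haveILetI false
set_option linter.unusedSectionVars false

namespace GrothLib.FunFld.InvolutionFix

open _root_.FunFld GrothLib.FunFld WithZero
open IntermediateField (adjoin)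

section Quad

variable {k L K : Type*} [Field k] [Field L] [Field K] [Algebra k L] [Algebra L K] [Algebra k K]
  [IsScalarTower k L K]
variable {y : K} {a : L} (hq : IsQuad y (0 : L) (-a)) (h2 : (2 : k) ≠ 0)

include hq in
theorem sq_eq : y ^ 2 = algebraMap L K a := by
  have := hq.eq_zero
  rw [map_zero, zero_mul, add_zero, map_neg] at this
  linear_combination this

include hq in
theorem ne_zero : y ≠ 0 ∧ a ≠ 0 := by
  have hy : y ≠ 0 := fun h => hq.not_mem ⟨0, by rw [h, map_zero]⟩
  refine ⟨hy, fun ha => pow_ne_zero 2 hy ?_⟩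
  rw [sq_eq hq, ha, map_zero]

include h2 in
theorem val_four' (P : Place k L) : val P (4 : L) = 1 := by
  rw [show (4 : L) = algebraMap k L 4 by rw [map_ofNat]]
  refine val_const P ?_
  rw [show (4 : k) = 2 * 2 by norm_num]
  exact mul_ne_zero h2 h2

include hq in
theorem two_mul_ord' {P₀ : Place k L} {P : Place k K} {e : ℕ} (he : IsOverWith P P₀ e) :
    2 * P.ord y = (e : ℤ) * P₀.ord a := by
  rw [show (2 : ℤ) * P.ord y = P.ord (y ^ 2) by rw [ord_pow]; push_cast; ring, sq_eq hq]
  show -log (P.1 _) = (e : ℤ) * -log (P₀.1 _)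
  rw [he, log_pow]; simp

include hq h2 in
/-- Integrality splits along `1, y` at every place. -/
theorem bound_local (h : IsFG k L) (P₀ : Place k L) (u v : L) (n : ℤ) :
    (∀ (P : Place k K) (e : ℕ), IsOverWith P P₀ e →
        val P (algebraMap L K u + algebraMap L K v * y) ≤ exp ((e : ℤ) * n)) ↔
      val P₀ u ≤ exp n ∧ val P₀ v ≤ exp (n + P₀.ord a / 2) := by
  rcases Int.even_or_odd (P₀.ord a) with hev | hodd
  · obtain ⟨r, hr⟩ := hev
    have hv : val P₀ a = exp (2 * (-r)) := by
      rw [val_eq P₀ (ne_zero hq).2]; congr 1; omega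
    have := (hq.bound_iff_exp h P₀ (m := -r) (by rw [map_zero]; exact zero_le)
      (by rw [Valuation.map_neg, hv])
      (by rw [zero_pow two_ne_zero, mul_neg, sub_neg_eq_add, zero_add, map_mul, val_four' h2, one_mul, hv])
      u v n).1
    rwa [show n + P₀.ord a / 2 = n - -r by omega]
  · exact (hq.odd_iff h P₀ hodd (fun P e he => two_mul_ord' hq he) u v n).2.2

include hq h2 in
/-- The number of places where `a` has odd order, from Riemann-Roch. -/
theorem ncard_odd [IsAlgClosed k] (hL : IsFunctionField k L) (hK : IsFunctionField k K) :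
    {P : Place k L | Odd (P.ord a)}.Finite ∧
      ({P : Place k L | Odd (P.ord a)}.ncard : ℤ) = 2 * genus k K + 2 - 4 * genus k L := by
  classical
  haveI := hq.finite
  have h : IsFG k L := hL.1
  let A : Divisor k L := div k a
  have hA : ∀ P, A P = P.ord a := fun P => h.div_apply a P
  let E : Divisor k L := A.mapRange (fun n : ℤ => n / 2) rfl
  have hE : ∀ P, E P = P.ord a / 2 := fun P => by simp [E, hA]
  let R : Divisor k L := A.mapRange (fun n : ℤ => n % 2) rfl
  have hR : ∀ P, R P = P.ord a % 2 := fun P => by simp [R, hA]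
  have hset : {P : Place k L | Odd (P.ord a)} = ↑R.support := by
    ext P
    simp only [Set.mem_setOf_eq, Finset.mem_coe, Finsupp.mem_support_iff, hR, Int.odd_iff]
    omega
  refine ⟨hset ▸ R.support.finite_toSet, ?_⟩
  have hdeg1 : ∀ P : Place k L, P.deg = 1 := fun P => h.deg_eq_one P
  have hsplit : A = E + E + R := by
    ext P
    simp only [Finsupp.add_apply, hA, hE, hR]
    omega
  have hRdeg : R.deg = ({P : Place k L | Odd (P.ord a)}.ncard : ℤ) := by
    rw [hset, Set.ncard_coe_finset]
    show R.sum (fun P n => n * (P.deg : ℤ)) = _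
    rw [Finsupp.sum, Finset.card_eq_sum_ones, Nat.cast_sum]
    refine Finset.sum_congr rfl fun P hP => ?_
    rw [Finsupp.mem_support_iff, hR] at hP
    rw [hdeg1, hR]
    push_cast
    omega
  have hEdeg : 2 * E.deg + R.deg = 0 := by
    have h0 : A.deg = 0 := h.deg_div a
    rw [hsplit, deg_add, deg_add] at h0
    linarith
  obtain ⟨P₁⟩ := h.exists_place
  set N : ℤ := 2 * (genus k L : ℤ) + 2 * (genus k K : ℤ) + |E.deg| + 1
  set D : Divisor k L := Finsupp.single P₁ N
  have hDdeg : D.deg = N := by rw [deg_single, hdeg1]; simp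
  have a1 := abs_nonneg E.deg
  have a2 := neg_abs_le E.deg
  have hf2 : Module.finrank L K = 2 := hq.finrank_eq
  have e1 := ell_eq_of_deg_ge hL (D := D) (by rw [hDdeg]; omega)
  have e2 := ell_eq_of_deg_ge hL (D := D + E) (by rw [deg_add, hDdeg]; omega)
  have e3 := ell_eq_of_deg_ge hK (D := conorm K D) (by rw [deg_conorm h, hf2, hDdeg]; push_cast; omega)
  have hmem : ∀ u v : L, algebraMap L K u + algebraMap L K v * y ∈ FunFld.L (conorm K D) ↔
      u ∈ FunFld.L D ∧ v ∈ FunFld.L (D + E) := by
    intro u v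
    refine ⟨fun hz => ?_, fun huv P => ?_⟩
    · have key : ∀ P₀, val P₀ u ≤ exp (D P₀) ∧ val P₀ v ≤ exp (D P₀ + P₀.ord a / 2) := fun P₀ =>
        (bound_local hq h2 h P₀ u v _).mp fun P e he => by
          have := hz P
          rwa [conorm_apply h he] at this
      exact ⟨fun P₀ => (key P₀).1, fun P₀ => by rw [Finsupp.add_apply, hE]; exact (key P₀).2⟩
    · obtain ⟨P₀, e, -, he⟩ := exists_isOverWith (K := L) P
      rw [conorm_apply h he]
      refine (bound_local hq h2 h P₀ u v (D P₀)).mpr ⟨huv.1 P₀, ?_⟩ P e he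
      have := huv.2 P₀
      rwa [Finsupp.add_apply, hE] at this
  haveI := h.finite_L D
  haveI := h.finite_L (D + E)
  let f : (FunFld.L D × FunFld.L (D + E)) →ₗ[k] FunFld.L (conorm K D) :=
    { toFun := fun p => ⟨_, (hmem (p.1 : L) (p.2 : L)).mpr ⟨p.1.2, p.2.2⟩⟩
      map_add' := fun p q => Subtype.ext (by
        show algebraMap L K ((p.1 : L) + q.1) + algebraMap L K ((p.2 : L) + q.2) * y =
          algebraMap L K p.1 + algebraMap L K p.2 * y +
            (algebraMap L K q.1 + algebraMap L K q.2 * y)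
        rw [map_add, map_add]; ring)
      map_smul' := fun c p => Subtype.ext (by
        show algebraMap L K (c • (p.1 : L)) + algebraMap L K (c • (p.2 : L)) * y =
          c • (algebraMap L K p.1 + algebraMap L K p.2 * y)
        simp only [Algebra.smul_def, map_mul, ← IsScalarTower.algebraMap_apply k L K]; ring) }
  have hf : Function.Bijective f := by
    refine ⟨fun p q hpq => ?_, fun z => ?_⟩
    · have := hq.coeff_unique (congrArg Subtype.val hpq)
      exact Prod.ext (Subtype.ext this.1) (Subtype.ext this.2)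
    · obtain ⟨u, v, huv⟩ := hq.exists_coeff (z : K)
      obtain ⟨hu, hv⟩ := (hmem u v).mp (huv ▸ z.2)
      exact ⟨(⟨u, hu⟩, ⟨v, hv⟩), Subtype.ext huv.symm⟩
  have hell : ell (conorm K D) = ell D + ell (D + E) := by
    rw [ell, ell, ell, ← (LinearEquiv.ofBijective f hf).finrank_eq, Module.finrank_prod]
  rw [hell, deg_conorm h, hf2] at e3
  rw [deg_add] at e2
  push_cast at e3
  rw [hDdeg] at e1 e2 e3
  omega

include hq h2 in
/-- Fixed places of the involution `y ↦ -y` correspond to the places where `a` has odd order. -/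
theorem ncard_fixed [IsAlgClosed k] (hL : IsFunctionField k L) (hK : IsFunctionField k K)
    (s : K ≃ₐ[k] K) (hs : ∀ e : L, s (algebraMap L K e) = algebraMap L K e) (hsy : s y = -y) :
    {Q : Place k K | pull s Q = Q}.Finite ∧
      {Q : Place k K | pull s Q = Q}.ncard = {P : Place k L | Odd (P.ord a)}.ncard := by
  classical
  haveI := hq.finite
  have h : IsFG k L := hL.1
  choose res hres using fun Q : Place k K => exists_isOverWith (K := L) (k := k) Q
  choose ram hram using hres
  have hover : ∀ Q, IsOverWith Q (res Q) (ram Q) := fun Q => (hram Q).2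
  have hodd : ∀ P₀ : Place k L, Odd (P₀.ord a) → ∃! Q : Place k K, IsOver Q P₀ := fun P₀ hP =>
    (hq.odd_iff h P₀ hP (fun P e he => two_mul_ord' hq he) 0 0 0).2.1
  have hmaps : ∀ Q : Place k K, pull s Q = Q → Odd ((res Q).ord a) := by
    intro Q hQ
    by_contra hev
    rw [Int.not_odd_iff_even] at hev
    obtain ⟨r, hr⟩ := hev
    obtain ⟨c, hc0, hc⟩ := exists_val_eq (res Q) (-r)
    have hc' : algebraMap L K c ≠ 0 := by rwa [_root_.map_ne_zero]
    set z := y / algebraMap L K c with hz
    have hza : z ^ 2 = algebraMap L K (a / c ^ 2) := by rw [hz, div_pow, sq_eq hq, map_div₀, map_pow]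
    have hz2 : val Q (z ^ 2) = 1 := by
      rw [hza, show val Q (algebraMap L K (a / c ^ 2)) = (res Q).1 (a / c ^ 2) ^ ram Q from hover Q _,
        map_div₀, map_pow, show (res Q).1 c = exp (-r) from hc,
        show (res Q).1 a = exp (-(res Q).ord a) from val_eq (res Q) (ne_zero hq).2, ← exp_nsmul, ← exp_sub,
        show -(res Q).ord a - 2 • -r = 0 by rw [two_nsmul]; omega, exp_zero, one_pow]
    have hz1 : val Q z = 1 := by
      rw [map_pow] at hz2
      exact (pow_left_inj₀ zero_le zero_le two_ne_zero).mp (by rw [hz2, one_pow])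
    obtain ⟨c₀, hc₀⟩ := SplitCount.exists_const Q ((show IsFG k K from hK.1).deg_eq_one Q) hz1.le
    have hsz : s z = -z := by rw [hz, map_div₀, hsy, hs, neg_div]
    have h3 : val Q (-z - algebraMap k K c₀) < 1 := by
      have : val (pull s Q) (z - algebraMap k K c₀) < 1 := by rw [hQ]; exact hc₀
      rwa [val_pull, map_sub, AlgEquiv.commutes, hsz] at this
    have hc0' : c₀ ≠ 0 := by
      rintro rfl
      rw [map_zero, sub_zero, hz1] at hc₀
      exact lt_irrefl _ hc₀
    have h4 := ((val Q).map_add _ _).trans_lt (max_lt hc₀ h3)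
    rw [show z - algebraMap k K c₀ + (-z - algebraMap k K c₀) = algebraMap k K (-(2 * c₀)) by
      rw [map_neg, map_mul, map_ofNat]; ring, val_const Q (neg_ne_zero.mpr (mul_ne_zero h2 hc0'))] at h4
    exact lt_irrefl _ h4
  have hbij : Set.BijOn res {Q : Place k K | pull s Q = Q} {P : Place k L | Odd (P.ord a)} := by
    refine ⟨fun Q hQ => hmaps Q hQ, fun Q hQ Q' hQ' heq => ?_, fun P₀ hP₀ => ?_⟩
    · obtain ⟨Q₁, -, hu⟩ := hodd (res Q) (hmaps Q hQ)
      exact (hu Q ⟨_, hover Q⟩).trans (hu Q' ⟨ram Q', heq.symm ▸ hover Q'⟩).symm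
    · obtain ⟨Q₁, hQ₁, hu⟩ := hodd P₀ hP₀
      obtain ⟨e, he⟩ := hQ₁
      refine ⟨Q₁, hu _ ⟨e, fun x => ?_⟩, ((isOverWith_unique (hover Q₁) he).1)⟩
      show val Q₁ (s (algebraMap L K x)) = _
      rw [hs]; exact he x
  obtain ⟨hfin, -⟩ := ncard_odd hq h2 hL hK
  have hfin' := hbij.finite_iff_finite.mpr hfin
  exact ⟨hfin', hbij.ncard_eq⟩

end Quad

variable {k K : Type*} [Field k] [Field K] [Algebra k K]

/-- An involution of a function field fixes `2g + 2 - 4g₀` places, `g₀` the genus of the fixed field. -/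
theorem exists_fixed_genus [IsAlgClosed k] (h2 : (2 : k) ≠ 0) (hK : IsFunctionField k K)
    (s : K ≃ₐ[k] K) (hne : s ≠ 1) (hinv : ∀ x, s (s x) = x) :
    ∃ g₀ : ℕ, {Q : Place k K | pull s Q = Q}.Finite ∧
      ({Q : Place k K | pull s Q = Q}.ncard : ℤ) = 2 * genus k K + 2 - 4 * g₀ ∧
      (g₀ = 0 → ∃ x : K, s x = x ∧ Module.finrank (adjoin k ({x} : Set K)) K = 2) ∧
      ((∃ x : K, s x = x ∧ Module.finrank (adjoin k ({x} : Set K)) K = 2) → g₀ = 0) := by
  classical
  have h2K : (2 : K) ≠ 0 := by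
    rw [show (2 : K) = algebraMap k K 2 by rw [map_ofNat]]
    exact (_root_.map_ne_zero _).mpr h2
  let L : IntermediateField k K :=
    { AlgHom.equalizer s.toAlgHom (AlgHom.id k K) with
      inv_mem' := fun x (hx : s x = x) => show s x⁻¹ = x⁻¹ by rw [map_inv₀, hx] }
  have hL : ∀ x, x ∈ L ↔ s x = x := fun x => Iff.rfl
  obtain ⟨z, hz⟩ : ∃ z, s z ≠ z := by
    by_contra hn
    push_neg at hn
    exact hne (AlgEquiv.ext hn)
  set y := z - s z with hy
  have hy0 : y ≠ 0 := sub_ne_zero.mpr (Ne.symm hz)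
  have hsy : s y = -y := by rw [hy, map_sub, hinv, neg_sub]
  have hs2 : s (2 : K) = 2 := map_ofNat s 2
  have hynot : y ∉ Set.range (algebraMap L K) := by
    rintro ⟨e, he⟩
    have h1 : s y = y := by rw [← he]; exact e.2
    rw [hsy] at h1
    exact hy0 ((mul_eq_zero.mp (show (2 : K) * y = 0 by linear_combination -h1)).resolve_left h2K)
  let a : L := ⟨y ^ 2, by rw [hL, map_pow, hsy, neg_sq]⟩
  have hcoeff : ∀ w : K, ∃ u v : L, w = algebraMap L K u + algebraMap L K v * y := fun w => by
    refine ⟨⟨(w + s w) / 2, by rw [hL, map_div₀, map_add, hinv, hs2, add_comm]⟩,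
      ⟨(w - s w) / (2 * y), by rw [hL, map_div₀, map_sub, map_mul, hinv, hs2, hsy, mul_neg, div_neg, ← neg_div, neg_sub]⟩, ?_⟩
    show w = (w + s w) / 2 + (w - s w) / (2 * y) * y
    field_simp
    ring
  have hli : LinearIndependent L ![(1 : K), y] := LinearIndependent.pair_iff.mpr fun u v huv => by
    rw [Algebra.smul_def, Algebra.smul_def, mul_one] at huv
    by_cases hv : v = 0
    · rw [hv, map_zero, zero_mul, add_zero] at huv
      exact ⟨(map_eq_zero _).mp huv, hv⟩
    · refine absurd ⟨-u / v, ?_⟩ hynot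
      rw [map_div₀, map_neg, div_eq_iff (by rwa [_root_.map_ne_zero])]
      linear_combination -huv
  have htop : ⊤ ≤ Submodule.span L (Set.range ![(1 : K), y]) := fun w _ => by
    obtain ⟨u, v, rfl⟩ := hcoeff w
    refine (Submodule.mem_span_range_iff_exists_fun L).mpr ⟨![u, v], ?_⟩
    rw [Fin.sum_univ_two]
    simp [Algebra.smul_def]
  have hf2 : Module.finrank L K = 2 := by
    rw [Module.finrank_eq_card_basis (Module.Basis.mk hli htop)]; simp
  have hq : IsQuad y (0 : L) (-a) := ⟨hf2, hynot, by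
    rw [map_zero, zero_mul, add_zero, map_neg]
    exact add_neg_cancel _⟩
  have hLt : ∃ x ∈ L, Transcendental k x := by
    by_contra hn
    push_neg at hn
    obtain ⟨x, hx, -⟩ := hK.1
    have halg : ∀ e : L, IsAlgebraic k (e : K) := fun e => not_not.mp (hn e e.2)
    have hyalg : IsAlgebraic k y := (halg a).of_pow two_pos
    obtain ⟨u, v, huv⟩ := hcoeff x
    exact hx (huv ▸ (halg u).add ((halg v).mul hyalg))
  obtain ⟨hLff, _⟩ := isFunctionField_intermediateField hK L hLt
  obtain ⟨hfin, hcard⟩ := ncard_fixed hq h2 hLff hK s (fun e => e.2) hsy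
  refine ⟨genus k L, hfin, by rw [hcard]; exact (ncard_odd hq h2 hLff hK).2, fun hg => ?_, ?_⟩
  · have hLfg : IsFG k L := hLff.1
    obtain ⟨P⟩ := hLfg.exists_place
    obtain ⟨x, hx⟩ := (Groth.Agent.S10994.result k L hLff).mp ⟨hg, P, hLfg.deg_eq_one P⟩
    refine ⟨(x : K), x.2, ?_⟩
    have hmap : adjoin k ({(x : K)} : Set K) = L := by
      have := congrArg (IntermediateField.map L.val) hx
      rw [IntermediateField.adjoin_map, Set.image_singleton, ← AlgHom.fieldRange_eq_map,
        IntermediateField.fieldRange_val] at this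
      exact this
    rw [hmap]; exact hf2
  · rintro ⟨x, hsx, hxf⟩
    have hle : adjoin k ({x} : Set K) ≤ L := IntermediateField.adjoin_simple_le_iff.mpr hsx
    haveI : FiniteDimensional (adjoin k ({x} : Set K)) K := Module.finite_of_finrank_pos (by omega)
    have heq := IntermediateField.eq_of_le_of_finrank_le' hle (le_of_eq (by rw [hxf, hf2]))
    refine ((Groth.Agent.S10994.result k L hLff).mpr ⟨⟨x, hsx⟩, ?_⟩).1
    apply IntermediateField.map_injective L.val
    rw [IntermediateField.adjoin_map, Set.image_singleton, ← AlgHom.fieldRange_eq_map,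
      IntermediateField.fieldRange_val]
    exact heq

/-- Over a subfield `k(x)` of index two there is at most one endomorphism other than the identity. -/
theorem algHom_unique {x : K} (hx : Module.finrank (adjoin k ({x} : Set K)) K = 2)
    {φ φ' : K →ₐ[k] K} (hφ : φ x = x) (hφ1 : φ ≠ AlgHom.id k K) (hφ' : φ' x = x) (hφ'1 : φ' ≠ AlgHom.id k K) :
    φ = φ' := by
  obtain ⟨z, b, c, hz, -, hrel⟩ := exists_quadratic hx
  have hfix : ∀ ψ : K →ₐ[k] K, ψ x = x → ∀ w ∈ adjoin k ({x} : Set K), ψ w = w := by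
    intro ψ hψ w hw
    let S : IntermediateField k K :=
      { AlgHom.equalizer ψ (AlgHom.id k K) with
        inv_mem' := fun u (hu : ψ u = u) => show ψ u⁻¹ = u⁻¹ by rw [map_inv₀, hu] }
    exact (IntermediateField.adjoin_simple_le_iff.mpr (show x ∈ S from hψ) hw :)
  have hall : ∀ w : K, ∃ u v : adjoin k ({x} : Set K), w = (u : K) + (v : K) * z := fun w => by
    have hq : IsQuad z b c := ⟨hx, fun ⟨a, ha⟩ => hz (IntermediateField.mem_bot.mpr ⟨a, ha⟩), hrel⟩
    exact hq.exists_coeff w
  have hconj : ∀ ψ : K →ₐ[k] K, ψ x = x → ψ ≠ AlgHom.id k K → ψ z = -(b : K) - z := by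
    intro ψ hψ hne
    have h1 : ψ z ^ 2 + (b : K) * ψ z + (c : K) = 0 := by
      have := congrArg ψ hrel
      rw [map_zero, map_add, map_add, map_mul, map_pow, show ψ (algebraMap _ K b) = (b : K) from hfix ψ hψ _ b.2,
        show ψ (algebraMap _ K c) = (c : K) from hfix ψ hψ _ c.2] at this
      exact this
    have hrel' : z ^ 2 + (b : K) * z + (c : K) = 0 := hrel
    have h2 : (ψ z - z) * (ψ z + z + (b : K)) = 0 := by linear_combination h1 - hrel'
    rcases mul_eq_zero.mp h2 with h3 | h3
    · refine absurd (AlgHom.ext fun w => ?_) hne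
      obtain ⟨u, v, rfl⟩ := hall w
      rw [map_add, map_mul, hfix ψ hψ _ u.2, hfix ψ hψ _ v.2, sub_eq_zero.mp h3]
      rfl
    · linear_combination h3
  refine AlgHom.ext fun w => ?_
  obtain ⟨u, v, rfl⟩ := hall w
  rw [map_add, map_mul, map_add, map_mul, hfix φ hφ _ u.2, hfix φ hφ _ v.2, hfix φ' hφ' _ u.2,
    hfix φ' hφ' _ v.2, hconj φ hφ hφ1, hconj φ' hφ' hφ'1]

/-- In characteristic not two a quadratic extension of `k(x)` has an involution fixing `x`. -/
theorem exists_involution {x : K} (hx : Module.finrank (adjoin k ({x} : Set K)) K = 2)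
    [Algebra.IsSeparable (adjoin k ({x} : Set K)) K] :
    ∃ s : K ≃ₐ[k] K, s ≠ 1 ∧ (∀ w, s (s w) = w) ∧ s x = x := by
  haveI : FiniteDimensional (adjoin k ({x} : Set K)) K := Module.finite_of_finrank_pos (by omega)
  haveI : Algebra.IsQuadraticExtension (adjoin k ({x} : Set K)) K := ⟨hx⟩
  have hcard := IsGalois.card_aut_eq_finrank (adjoin k ({x} : Set K)) K
  rw [hx] at hcard
  haveI : Nontrivial (K ≃ₐ[adjoin k ({x} : Set K)] K) :=
    Finite.one_lt_card_iff_nontrivial.mp (by omega)
  obtain ⟨t, ht⟩ := exists_ne (1 : K ≃ₐ[adjoin k ({x} : Set K)] K)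
  refine ⟨t.restrictScalars k, fun h => ht (AlgEquiv.ext fun w => DFunLike.congr_fun h w), fun w => ?_,
    t.commutes (⟨x, IntermediateField.mem_adjoin_simple_self k x⟩ : adjoin k ({x} : Set K))⟩
  have h2 : t * t = 1 := by
    rw [← pow_two, ← hcard]
    exact pow_card_eq_one'
  exact DFunLike.congr_fun h2 w

end GrothLib.FunFld.InvolutionFix
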