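import Groth.Agent.Lib.FunFld.WeierstrassDiv

/-!
Divisors of differentials `u dx`.
-/

set_option autoImplicit false
set_option linter.style.haveILetI false

namespace GrothLib.FunFld

open _root_.FunFld

variable {k K : Type*} [Field k] [IsAlgClosed k] [Field K] [Algebra k K]

theorem D_expansion_ne_zero (hK : IsFunctionField k K) {P : Place k K} {ψ : K →ₐ[k] LaurentSeries k}
    (hψ : _root_.LocRes.IsExpansionAt P.1 ψ) {x : K} (hx : KaehlerDifferential.D k K x ≠ 0) :
    _root_.LocRes.D k (ψ x) ≠ 0 := by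
  obtain ⟨t, -, ht⟩ := exists_val_eq P (-1)
  obtain ⟨c, hc⟩ := GrothLib.LocRes.exists_D_eq hK.1 (isGeometric_of_perfectField hK) hx t
  intro h0
  have := GrothLib.LocRes.D_eq_mul_of_smul ψ hc
  rw [h0, mul_zero] at this
  exact GrothLib.LocRes.D_map_ne_zero_of_val_eq hψ ht this

theorem ordDiff_eq (hK : IsFunctionField k K) {P : Place k K} {ψ : K →ₐ[k] LaurentSeries k}
    (hψ : _root_.LocRes.IsExpansionAt P.1 ψ) {u x : K} (hu : u ≠ 0) (hx : KaehlerDifferential.D k K x ≠ 0) :
    _root_.LocRes.vDiff ψ u x ≠ 0 ∧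
      _root_.LocRes.ordDiff ψ u x = P.ord u + _root_.LocRes.ordDiff ψ 1 x := by
  have h1 : Valued.v (_root_.LocRes.D k (ψ x)) ≠ 0 := (map_ne_zero _).2 (D_expansion_ne_zero hK hψ hx)
  have h2 : Valued.v (ψ u) = WithZero.exp (-P.ord u) := by rw [hψ.1]; exact val_eq P hu
  simp only [_root_.LocRes.ordDiff, _root_.LocRes.vDiff, map_one, one_mul, map_mul, h2]
  refine ⟨mul_ne_zero WithZero.exp_ne_zero h1, ?_⟩
  rw [WithZero.log_mul WithZero.exp_ne_zero h1, WithZero.log_exp]
  ring

/-- The divisor of `u dx`. -/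
theorem divDiff_apply_eq (hK : IsFunctionField k K) {Φ : Place k K → (K →ₐ[k] LaurentSeries k)}
    (hΦ : ∀ P : Place k K, _root_.LocRes.IsExpansionAt P.1 (Φ P)) {u x : K} (hu : u ≠ 0)
    (hx : KaehlerDifferential.D k K x ≠ 0) (P : Place k K) :
    divDiff Φ u x P = P.ord u + _root_.LocRes.ordDiff (Φ P) 1 x := by
  classical
  have hsep := (isSeparable_iff_D_ne_zero hK.1 (isGeometric_of_perfectField hK) x).2 hx
  have htr : Transcendental k x := fun h => by
    obtain ⟨c, hc⟩ := hK.2 x h
    exact hx (by rw [← hc, Derivation.map_algebraMap])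
  haveI := hK.1
  haveI := IsFG.finiteDimensional_adjoin hK.1 htr
  haveI := hsep
  obtain ⟨H, hH⟩ := exists_isHasseFamily htr
  have hspec := (divDiff_spec hK hH hΦ).1
  have heq : ∀ R : Place k K, _root_.LocRes.ordDiff (Φ R) u x = R.ord u + divDiff Φ 1 x R := fun R => by
    rw [(ordDiff_eq hK (hΦ R) hu hx).2, hspec R]
  have hfin : (Function.support fun R : Place k K => _root_.LocRes.ordDiff (Φ R) u x).Finite :=
    ((IsFG.finite_support_ord hK.1 u).union (divDiff Φ 1 x).finite_support).subset fun R hR => by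
      by_contra hcon
      simp only [Set.mem_union, Function.mem_support, not_or, not_not] at hcon
      exact hR ((heq R).trans (by rw [hcon.1, hcon.2, add_zero]))
  show (if h : _ then _ else _ : Divisor k K) P = _
  rw [dif_pos hfin]
  exact (ordDiff_eq hK (hΦ P) hu hx).2

/-- Equal differentials have equal divisors. -/
theorem divDiff_congr {Φ : Place k K → (K →ₐ[k] LaurentSeries k)} {u x u' x' : K}
    (h : u • KaehlerDifferential.D k K x = u' • KaehlerDifferential.D k K x') (hu' : u' ≠ 0) :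
    divDiff Φ u x = divDiff Φ u' x' := by
  have h' : (u / u') • KaehlerDifferential.D k K x = KaehlerDifferential.D k K x' := by
    rw [div_eq_inv_mul, ← smul_smul, h, smul_smul, inv_mul_cancel₀ hu', one_smul]
  have heq : ∀ R : Place k K, _root_.LocRes.ordDiff (Φ R) u x = _root_.LocRes.ordDiff (Φ R) u' x' := fun R => by
    simp only [_root_.LocRes.ordDiff, _root_.LocRes.vDiff]
    rw [GrothLib.LocRes.D_eq_mul_of_smul (Φ R) h', ← mul_assoc, ← map_mul, mul_div_cancel₀ u hu']
  unfold divDiff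
  have hfun : (fun R => _root_.LocRes.ordDiff (Φ R) u x) = fun R => _root_.LocRes.ordDiff (Φ R) u' x' := funext heq
  by_cases hf : (Function.support fun R => _root_.LocRes.ordDiff (Φ R) u x).Finite
  · rw [dif_pos hf, dif_pos (hfun ▸ hf)]
    exact Finsupp.ext heq
  · rw [dif_neg hf, dif_neg fun h2 => hf (hfun ▸ h2)]

end GrothLib.FunFld
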