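import Groth.Prelude.Def_W4bk4goldsch45
import Groth.Agent.Lib.FunFld.Conductor
import Groth.Agent.Lib.FunFld.Ext

/-! Local rings of projective maps, nonsingularity, embeddings. -/

namespace GrothLib.FunFld

open _root_.FunFld WithZero

variable {k K : Type*} [Field k] [Field K] [Algebra k K] {ι : Type*}

/-- The coordinate ring in the chart `j`. -/
abbrev chart (k : Type*) {K : Type*} [Field k] [Field K] [Algebra k K] {ι : Type*}
    (φ : ι → K) (j : ι) : Subalgebra k K :=
  Algebra.adjoin k (Set.range fun i => φ i / φ j)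

/-- `j` is an index of least order at `P`. -/
def IsLead (φ : ι → K) (P : Place k K) (j : ι) : Prop :=
  φ j ≠ 0 ∧ ∀ i, val P (φ i) ≤ val P (φ j)

theorem isLead_iff {φ : ι → K} {P : Place k K} {j : ι} :
    IsLead φ P j ↔ φ j ≠ 0 ∧ ∀ i, val P (φ i / φ j) ≤ 1 := by
  refine and_congr_right fun hj => forall_congr' fun i => ?_
  rw [map_div₀, div_le_one₀ (zero_lt_iff.2 ((val P).ne_zero_iff.2 hj))]

theorem exists_isLead [Fintype ι] [Nonempty ι] {φ : ι → K} (hne : ∃ i, φ i ≠ 0) (P : Place k K) :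
    ∃ j, IsLead φ P j := by
  obtain ⟨j, -, hj⟩ := Finset.exists_max_image Finset.univ (fun i => val P (φ i))
    Finset.univ_nonempty
  refine ⟨j, fun h0 => ?_, fun i => hj i (Finset.mem_univ i)⟩
  obtain ⟨i, hi⟩ := hne
  have := hj i (Finset.mem_univ i)
  rw [h0, map_zero, le_zero_iff] at this
  exact hi ((val P).zero_iff.1 this)

theorem val_le_one_of_mem_chart {φ : ι → K} {P : Place k K} {j : ι} (hj : IsLead φ P j) {a : K}
    (ha : a ∈ chart k φ j) : val P a ≤ 1 :=
  val_le_one_of_mem_adjoin (by rintro _ ⟨i, rfl⟩; exact (isLead_iff.1 hj).2 i) ha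

theorem ratio_mem_chart (φ : ι → K) (i j : ι) : φ i / φ j ∈ chart k φ j :=
  Algebra.subset_adjoin ⟨i, rfl⟩

/-- Changing the chart. -/
theorem exists_pow_mul_mem_chart {φ : ι → K} {j j' : ι} (hj : φ j ≠ 0) (hj' : φ j' ≠ 0) {u : K}
    (hu : u ∈ chart k φ j') : ∃ N : ℕ, (φ j' / φ j) ^ N * u ∈ chart k φ j := by
  induction hu using Algebra.adjoin_induction with
  | mem x hx =>
    obtain ⟨i, rfl⟩ := hx
    refine ⟨1, ?_⟩
    rw [pow_one, show φ j' / φ j * (φ i / φ j') = φ i / φ j by field_simp]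
    exact ratio_mem_chart φ i j
  | algebraMap c => exact ⟨0, by simp⟩
  | add x y _ _ hx hy =>
    obtain ⟨a, ha⟩ := hx
    obtain ⟨b, hb⟩ := hy
    refine ⟨a + b, ?_⟩
    rw [mul_add, pow_add, show (φ j' / φ j) ^ a * (φ j' / φ j) ^ b * x + (φ j' / φ j) ^ a *
      (φ j' / φ j) ^ b * y = (φ j' / φ j) ^ b * ((φ j' / φ j) ^ a * x) +
      (φ j' / φ j) ^ a * ((φ j' / φ j) ^ b * y) by ring]
    exact add_mem (mul_mem (pow_mem (ratio_mem_chart φ j' j) _) ha)
      (mul_mem (pow_mem (ratio_mem_chart φ j' j) _) hb)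
  | mul x y _ _ hx hy =>
    obtain ⟨a, ha⟩ := hx
    obtain ⟨b, hb⟩ := hy
    refine ⟨a + b, ?_⟩
    rw [pow_add, show (φ j' / φ j) ^ a * (φ j' / φ j) ^ b * (x * y) =
      ((φ j' / φ j) ^ a * x) * ((φ j' / φ j) ^ b * y) by ring]
    exact mul_mem ha hb

theorem inLocRing_iff {φ : ι → K} {P : Place k K} {j : ι} (hj : IsLead φ P j) {z : K} :
    InLocRing φ P z ↔
      ∃ u ∈ chart k φ j, ∃ w ∈ chart k φ j, val P w = 1 ∧ z * w = u := by
  constructor
  · rintro ⟨j', hj'0, hj', u, hu, w, hw, hw1, he⟩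
    obtain ⟨a, ha⟩ := exists_pow_mul_mem_chart hj.1 hj'0 hu
    obtain ⟨b, hb⟩ := exists_pow_mul_mem_chart hj.1 hj'0 hw
    set t := φ j' / φ j
    have ht : val P t = 1 := by
      rw [map_div₀, le_antisymm (hj.2 j') (hj' j),
        div_self ((val P).ne_zero_iff.2 hj.1)]
    refine ⟨t ^ b * (t ^ a * u), mul_mem (pow_mem (ratio_mem_chart φ j' j) _) ha,
      t ^ a * (t ^ b * w), mul_mem (pow_mem (ratio_mem_chart φ j' j) _) hb, ?_, ?_⟩
    · rw [map_mul, map_mul, map_pow, map_pow, ht, one_pow, one_pow, one_mul, one_mul]; exact hw1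
    · rw [← he]; ring
  · rintro ⟨u, hu, w, hw, hw1, he⟩
    exact ⟨j, hj.1, hj.2, u, hu, w, hw, hw1, he⟩

/-- `Q` lies over the image point of `P`, read in the chart `j`. -/
def InFibre (φ : ι → K) (j : ι) (P Q : Place k K) : Prop :=
  ∀ i, val Q (φ i / φ j) ≤ 1 ∧
    ∀ c : k, val P (φ i / φ j - algebraMap k K c) < 1 → val Q (φ i / φ j - algebraMap k K c) < 1

theorem residue_unique (P : Place k K) {x : K} {c c' : k}
    (h : val P (x - algebraMap k K c) < 1) (h' : val P (x - algebraMap k K c') < 1) : c = c' := by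
  by_contra hne
  have := ((val P).map_sub _ _).trans_lt (max_lt h' h)
  rw [show (x - algebraMap k K c') - (x - algebraMap k K c) = algebraMap k K (c - c') by
    rw [map_sub]; ring, val_const P (sub_ne_zero.2 hne)] at this
  exact lt_irrefl _ this

theorem inFibre_self {φ : ι → K} {P : Place k K} {j : ι} (hj : IsLead φ P j) :
    InFibre φ j P P := fun i => ⟨(isLead_iff.1 hj).2 i, fun _ hc => hc⟩

variable [IsAlgClosed k]

theorem exists_common_residue (h : IsFG k K) {φ : ι → K} {P Q : Place k K} {j : ι}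
    (hj : IsLead φ P j) (hQ : InFibre φ j P Q) {a : K} (ha : a ∈ chart k φ j) :
    ∃ c : k, val P (a - algebraMap k K c) < 1 ∧ val Q (a - algebraMap k K c) < 1 := by
  induction ha using Algebra.adjoin_induction with
  | mem x hx =>
    obtain ⟨i, rfl⟩ := hx
    obtain ⟨c, hc⟩ := exists_residue h P ((isLead_iff.1 hj).2 i)
    exact ⟨c, hc, (hQ i).2 c hc⟩
  | algebraMap c => exact ⟨c, by simp, by simp⟩
  | add x y _ _ hx hy =>
    obtain ⟨c, hc⟩ := hx
    obtain ⟨d, hd⟩ := hy
    refine ⟨c + d, ?_, ?_⟩ <;>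
      rw [map_add, show x + y - (algebraMap k K c + algebraMap k K d) =
        (x - algebraMap k K c) + (y - algebraMap k K d) by ring]
    · exact ((val P).map_add _ _).trans_lt (max_lt hc.1 hd.1)
    · exact ((val Q).map_add _ _).trans_lt (max_lt hc.2 hd.2)
  | mul x y hx' hy' hx hy =>
    obtain ⟨c, hc⟩ := hx
    obtain ⟨d, hd⟩ := hy
    have key : ∀ R : Place k K, val R y ≤ 1 → val R (x - algebraMap k K c) < 1 →
        val R (y - algebraMap k K d) < 1 → val R (x * y - algebraMap k K (c * d)) < 1 := by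
      intro R hy1 h1 h2
      rw [map_mul, show x * y - algebraMap k K c * algebraMap k K d =
        (x - algebraMap k K c) * y + algebraMap k K c * (y - algebraMap k K d) by ring]
      refine ((val R).map_add _ _).trans_lt (max_lt ?_ ?_)
      · rw [map_mul]; exact (mul_le_of_le_one_right' hy1).trans_lt h1
      · rw [map_mul]; exact (mul_le_of_le_one_left' (R.2.1 c)).trans_lt h2
    exact ⟨c * d, key P (val_le_one_of_mem_chart hj hy') hc.1 hd.1,
      key Q (val_le_one_of_mem_adjoin (by rintro _ ⟨i, rfl⟩; exact (hQ i).1) hy') hc.2 hd.2⟩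

theorem sameImage_iff (h : IsFG k K) {φ : ι → K} {P Q : Place k K} {j : ι} (hj : IsLead φ P j) :
    SameImage φ P Q ↔ InFibre φ j P Q := by
  constructor
  · rintro ⟨j', hj'0, hP', hQ', hc⟩ i
    choose c hcP hcQ using hc
    have hτ : val P (φ j / φ j') = 1 := by
      rw [map_div₀, le_antisymm (hj.2 j') (hP' j)] at *
      exact div_self ((val P).ne_zero_iff.2 hj.1)
    have hcj : c j ≠ 0 := fun h0 => by
      have := hcP j; rw [h0, map_zero, sub_zero, hτ] at this; exact lt_irrefl _ this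
    have hτQ : val Q (φ j / φ j') = 1 := by
      have h1 : val Q (algebraMap k K (c j)) = 1 := val_const Q hcj
      rw [(val Q).map_eq_of_sub_lt (x := algebraMap k K (c j)) (by rw [h1]; exact hcQ j)]
      exact h1
    have key : ∀ R : Place k K, val R (φ j / φ j') = 1 →
        val R (φ j / φ j' - algebraMap k K (c j)) < 1 →
        val R (φ i / φ j' - algebraMap k K (c i)) < 1 →
        val R (φ i / φ j - algebraMap k K (c i / c j)) < 1 := by
      intro R hR h1 h2
      have hcK : algebraMap k K (c j) ≠ 0 := by simpa using hcj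
      have hφj := hj.1
      have he : φ i / φ j - algebraMap k K (c i / c j) =
          ((φ i / φ j' - algebraMap k K (c i)) * algebraMap k K (c j) -
            algebraMap k K (c i) * (φ j / φ j' - algebraMap k K (c j))) /
              (φ j / φ j' * algebraMap k K (c j)) := by
        rw [map_div₀]; field_simp; ring
      rw [he, map_div₀, map_mul (val R) (φ j / φ j'), hR, val_const R hcj, one_mul, div_one]
      refine ((val R).map_sub _ _).trans_lt (max_lt ?_ ?_)
      · rw [map_mul, val_const R hcj, mul_one]; exact h2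
      · rw [map_mul]; exact (mul_le_of_le_one_left' (R.2.1 _)).trans_lt h1
    refine ⟨?_, fun d hd => ?_⟩
    · have hφj := hj.1
      rw [show φ i / φ j = (φ i / φ j') / (φ j / φ j') by field_simp, map_div₀, hτQ, div_one,
        map_div₀, div_le_one₀ (zero_lt_iff.2 ((val Q).ne_zero_iff.2 hj'0))]
      exact hQ' i
    · rw [residue_unique P hd (key P hτ (hcP j) (hcP i))]
      exact key Q hτQ (hcQ j) (hcQ i)
  · intro hQ
    refine ⟨j, hj.1, hj.2, fun i => ?_, fun i => ?_⟩
    · have := (hQ i).1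
      rwa [map_div₀, div_le_one₀ (zero_lt_iff.2 ((val Q).ne_zero_iff.2 hj.1))] at this
    · obtain ⟨c, hc⟩ := exists_residue h P ((isLead_iff.1 hj).2 i)
      exact ⟨c, hc, (hQ i).2 c hc⟩

/-- Separating a place outside the fibre. -/
theorem exists_separator (h : IsFG k K) {φ : ι → K} {P R : Place k K} {j : ι} (hj : IsLead φ P j)
    (hchart : ∀ i, val R (φ i / φ j) ≤ 1) (hR : ¬ InFibre φ j P R) :
    ∃ s ∈ chart k φ j, val P s = 1 ∧ val R s < 1 := by
  simp only [InFibre, not_forall, not_and] at hR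
  obtain ⟨i, hi⟩ := hR
  obtain ⟨c, hcP, hcR⟩ := hi (hchart i)
  obtain ⟨d, hd⟩ := exists_residue h R (hchart i)
  refine ⟨φ i / φ j - algebraMap k K d,
    sub_mem (ratio_mem_chart φ i j) (Subalgebra.algebraMap_mem _ d), ?_, hd⟩
  have hne : c ≠ d := by rintro rfl; exact hcR hd
  rw [show φ i / φ j - algebraMap k K d =
    (φ i / φ j - algebraMap k K c) + algebraMap k K (c - d) by rw [map_sub]; ring]
  rw [(val P).map_add_eq_of_lt_right (by rw [val_const P (sub_ne_zero.2 hne)]; exact hcP)]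
  exact val_const P (sub_ne_zero.2 hne)

variable [Fintype ι]

/-- With a conductor `cd`, `z` is in the local ring as soon as `z / cd` is regular over the point. -/
theorem mem_locRing_of_regular (h : IsFG k K) {φ : ι → K} {P : Place k K} {j : ι}
    (hj : IsLead φ P j) {cd : K} (hcd0 : cd ≠ 0)
    (hcd : ∀ b : K, (∀ R : Place k K, (∀ i, val R (φ i / φ j) ≤ 1) → val R b ≤ 1) →
      cd * b ∈ chart k φ j) {z : K}
    (hz : ∀ R : Place k K, InFibre φ j P R → val R (z / cd) ≤ 1) : InLocRing φ P z := by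
  classical
  rw [inLocRing_iff hj]
  set z' := z / cd with hz'
  let bad := ((h.finite_support_ord z').toFinset).filter fun R =>
    R.ord z' < 0 ∧ ∀ i, val R (φ i / φ j) ≤ 1
  have hs : ∀ R ∈ bad, ∃ s ∈ chart k φ j, val P s = 1 ∧ val R s < 1 := by
    intro R hR
    obtain ⟨-, hneg, hch⟩ := Finset.mem_filter.1 hR
    refine exists_separator h hj hch fun hf => ?_
    have h0 : z' ≠ 0 := fun h0 => by simp [h0] at hneg
    have := (val_le_one_iff R h0).1 (hz R hf)
    omega
  choose! s hsA hsP hsR using hs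
  let w : K := ∏ R ∈ bad, s R ^ (-R.ord z').toNat
  have hwA : w ∈ chart k φ j := prod_mem fun R hR => pow_mem (hsA R hR) _
  have hwP : val P w = 1 := by
    rw [map_prod]
    refine Finset.prod_eq_one fun R hR => ?_
    rw [map_pow, hsP R hR, one_pow]
  refine ⟨cd * (w * z'), hcd _ fun R hR => ?_, w, hwA, hwP, by rw [hz']; field_simp⟩
  by_cases h0 : z' = 0
  · simp [h0]
  by_cases hneg : R.ord z' < 0
  · have hRb : R ∈ bad := by
      refine Finset.mem_filter.2 ⟨?_, hneg, hR⟩
      simp only [Set.Finite.mem_toFinset, Function.mem_support]; omega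
    have hw' : w = (∏ S ∈ bad.erase R, s S ^ (-S.ord z').toNat) * s R ^ (-R.ord z').toNat :=
      (Finset.prod_erase_mul _ _ hRb).symm
    have hall : ∀ S ∈ bad, val R (s S) ≤ 1 := fun S hS =>
      val_le_one_of_mem_adjoin (by rintro _ ⟨i, rfl⟩; exact hR i) (hsA S hS)
    rw [map_mul, hw', map_mul, map_pow, map_prod, mul_assoc]
    refine mul_le_one' (Finset.prod_le_one' fun S hS => ?_) ?_
    · rw [map_pow]; exact pow_le_one₀ zero_le (hall S (Finset.mem_of_mem_erase hS))
    · refine (mul_le_mul' (pow_le_exp_neg (hsR R hRb) (by omega)) (val_eq R h0).le).trans ?_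
      rw [← exp_add, ← exp_zero, exp_le_exp]; omega
  · rw [map_mul]
    exact mul_le_one' (val_le_one_of_mem_adjoin (by rintro _ ⟨i, rfl⟩; exact hR i) hwA)
      ((val_le_one_iff R h0).2 (not_lt.1 hneg))

omit [IsAlgClosed k] [Fintype ι] in
theorem adjoin_ratios_le {φ : ι → K} (i₀ j : ι) :
    IntermediateField.adjoin k (Set.range fun i => φ i / φ j) ≤
      IntermediateField.adjoin k (Set.range fun i => φ i / φ i₀) ∨ φ i₀ = 0 := by
  by_cases h0 : φ i₀ = 0
  · exact Or.inr h0
  left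
  rw [IntermediateField.adjoin_le_iff]
  rintro _ ⟨i, rfl⟩
  show φ i / φ j ∈ IntermediateField.adjoin k (Set.range fun i => φ i / φ i₀)
  rw [show φ i / φ j = (φ i / φ i₀) / (φ j / φ i₀) by field_simp]
  exact div_mem (IntermediateField.subset_adjoin _ _ ⟨i, rfl⟩)
    (IntermediateField.subset_adjoin _ _ ⟨j, rfl⟩)

omit [IsAlgClosed k] [Fintype ι] in
theorem adjoin_ratios_eq {φ : ι → K} {i₀ j : ι} (h0 : φ i₀ ≠ 0) (hj : φ j ≠ 0) :
    IntermediateField.adjoin k (Set.range fun i => φ i / φ j) =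
      IntermediateField.adjoin k (Set.range fun i => φ i / φ i₀) :=
  le_antisymm ((adjoin_ratios_le i₀ j).resolve_right h0) ((adjoin_ratios_le j i₀).resolve_right hj)

/-- The bound `N` of the local ring. -/
theorem exists_bound_inLocRing (h : IsFunctionField k K) {φ : ι → K} {i₀ : ι} (h0 : φ i₀ ≠ 0)
    (hbir : IntermediateField.adjoin k (Set.range fun i => φ i / φ i₀) = ⊤) (P : Place k K) :
    ∃ N : ℕ, ∀ z : K, (∀ Q : Place k K, SameImage φ P Q → val Q z ≤ exp (-(N : ℤ))) →
      InLocRing φ P z := by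
  classical
  have : Nonempty ι := ⟨i₀⟩
  obtain ⟨j, hj⟩ := exists_isLead ⟨i₀, h0⟩ P
  have hfg : IsFG k K := h.1
  obtain ⟨cd, -, hcd0, hcd, -⟩ := exists_conductor h (fun i => φ i / φ j) ⟨j, div_self hj.1⟩
    ((adjoin_ratios_eq h0 hj.1).trans hbir)
  refine ⟨∑ R ∈ (hfg.finite_support_ord cd).toFinset, (R.ord cd).toNat, fun z hz => ?_⟩
  refine mem_locRing_of_regular hfg hj hcd0 hcd fun R hR => ?_
  rw [map_div₀, div_le_one₀ (zero_lt_iff.2 ((val R).ne_zero_iff.2 hcd0))]
  refine (hz R ((sameImage_iff hfg hj).2 hR)).trans ?_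
  rw [val_eq R hcd0, exp_le_exp]
  by_cases hR0 : R.ord cd = 0
  · rw [hR0]; omega
  · have := Finset.single_le_sum (f := fun R : Place k K => (R.ord cd).toNat)
      (fun _ _ => Nat.zero_le _) ((Set.Finite.mem_toFinset (hfg.finite_support_ord cd)).2 hR0)
    omega

/-- A one-point fibre and a parameter in the chart give nonsingularity. -/
theorem isNonsingularAt_of (h : IsFunctionField k K) {φ : ι → K} {i₀ : ι} (h0 : φ i₀ ≠ 0)
    (hbir : IntermediateField.adjoin k (Set.range fun i => φ i / φ i₀) = ⊤) {P : Place k K} {j : ι}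
    (hj : IsLead φ P j) (hfib : ∀ Q, InFibre φ j P Q → Q = P) {t : K} (htA : t ∈ chart k φ j)
    (ht : val P t = exp (-1)) : IsNonsingularAt φ P := by
  have hfg : IsFG k K := h.1
  obtain ⟨N, hN⟩ := exists_bound_inLocRing h h0 hbir P
  intro z hz
  have ht0 : t ≠ 0 := (val P).ne_zero_iff.1 (ht ▸ exp_ne_zero)
  have happ : ∀ n : ℕ, ∃ a ∈ chart k φ j, val P (z - a) ≤ exp (-(n : ℤ)) := by
    intro n
    induction n with
    | zero => exact ⟨0, zero_mem _, by simpa [exp_zero] using hz⟩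
    | succ n ih =>
      obtain ⟨a, ha, han⟩ := ih
      have hq : val P ((z - a) / t ^ n) ≤ 1 := by
        rw [map_div₀, map_pow, ht, ← exp_nsmul,
          div_le_one₀ (zero_lt_iff.2 exp_ne_zero)]
        refine han.trans (exp_le_exp.2 ?_)
        simp
      obtain ⟨c, hc⟩ := exists_residue hfg P hq
      refine ⟨a + algebraMap k K c * t ^ n,
        add_mem ha (mul_mem (Subalgebra.algebraMap_mem _ c) (pow_mem htA n)), ?_⟩
      rw [show z - (a + algebraMap k K c * t ^ n) =
        ((z - a) / t ^ n - algebraMap k K c) * t ^ n by field_simp; ring, map_mul, map_pow, ht,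
        ← exp_nsmul]
      rw [← exp_zero, ← le_exp_sub_one_iff] at hc
      refine (mul_le_mul' hc le_rfl).trans_eq ?_
      rw [← exp_add]; congr 1; simp
  obtain ⟨a, ha, haN⟩ := happ N
  have hres := hN (z - a) fun Q hQ => (hfib Q ((sameImage_iff hfg hj).1 hQ)) ▸ haN
  rw [inLocRing_iff hj] at hres ⊢
  obtain ⟨u, hu, w, hw, hw1, he⟩ := hres
  exact ⟨u + a * w, add_mem hu (mul_mem ha hw), w, hw, hw1, by rw [← he]; ring⟩

/-- Conversely. -/
theorem fibre_and_parameter_of_isNonsingularAt (h : IsFG k K) {φ : ι → K} {P : Place k K} {j : ι}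
    (hj : IsLead φ P j) (hns : IsNonsingularAt φ P) :
    (∀ Q, InFibre φ j P Q → Q = P) ∧ ∃ t ∈ chart k φ j, val P t = exp (-1) := by
  refine ⟨fun Q hQ => ?_, ?_⟩
  · by_contra hne
    obtain ⟨z, hzP, hzQ⟩ := exists_le_one_and_one_lt (Ne.symm hne)
    obtain ⟨u, hu, w, hw, hw1, he⟩ := (inLocRing_iff hj).1 (hns z hzP)
    obtain ⟨c, hcP, hcQ⟩ := exists_common_residue h hj hQ hw
    have hc0 : c ≠ 0 := fun h0 => by
      rw [h0, map_zero, sub_zero, hw1] at hcP; exact lt_irrefl _ hcP
    have hwQ : val Q w = 1 := by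
      rw [(val Q).map_eq_of_sub_lt (x := algebraMap k K c) (by rw [val_const Q hc0]; exact hcQ)]
      exact val_const Q hc0
    have huQ : val Q u ≤ 1 :=
      val_le_one_of_mem_adjoin (by rintro _ ⟨i, rfl⟩; exact (hQ i).1) hu
    rw [← he, map_mul, hwQ, mul_one] at huQ
    exact not_lt.2 huQ hzQ
  · obtain ⟨π, -, hπ⟩ := exists_val_eq P (-1)
    obtain ⟨u, hu, w, hw, hw1, he⟩ := (inLocRing_iff hj).1 (hns π (by
      show val P π ≤ 1
      rw [hπ, ← exp_zero, exp_le_exp]; omega))
    exact ⟨u, hu, by rw [← he, map_mul, hπ, hw1, mul_one]⟩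

omit [Fintype ι] in
/-- A parameter in the chart comes from a single coordinate. -/
theorem exists_coord_parameter (h : IsFG k K) {φ : ι → K} {P : Place k K} {j : ι}
    (hj : IsLead φ P j) {t : K} (ht : t ∈ chart k φ j) (hval : val P t = exp (-1)) :
    ∃ (i : ι) (c : k), val P (φ i / φ j - algebraMap k K c) = exp (-1) := by
  by_contra hcon
  push Not at hcon
  have key : ∀ a ∈ chart k φ j, ∃ c : k, val P (a - algebraMap k K c) ≤ exp (-2) := by
    intro a ha
    induction ha using Algebra.adjoin_induction with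
    | mem x hx =>
      obtain ⟨i, rfl⟩ := hx
      obtain ⟨c, hc⟩ := exists_residue h P ((isLead_iff.1 hj).2 i)
      refine ⟨c, ?_⟩
      rw [← exp_zero, ← le_exp_sub_one_iff] at hc
      rw [show (-2 : ℤ) = -1 - 1 by norm_num, le_exp_sub_one_iff]
      exact lt_of_le_of_ne (by simpa using hc) (hcon i c)
    | algebraMap c => exact ⟨c, by simp⟩
    | add x y _ _ hx hy =>
      obtain ⟨c, hc⟩ := hx
      obtain ⟨d, hd⟩ := hy
      refine ⟨c + d, ?_⟩
      rw [map_add, show x + y - (algebraMap k K c + algebraMap k K d) =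
        (x - algebraMap k K c) + (y - algebraMap k K d) by ring]
      exact ((val P).map_add _ _).trans (max_le hc hd)
    | mul x y _ hy' hx hy =>
      obtain ⟨c, hc⟩ := hx
      obtain ⟨d, hd⟩ := hy
      refine ⟨c * d, ?_⟩
      rw [map_mul, show x * y - algebraMap k K c * algebraMap k K d =
        (x - algebraMap k K c) * y + algebraMap k K c * (y - algebraMap k K d) by ring]
      refine ((val P).map_add _ _).trans (max_le ?_ ?_)
      · rw [map_mul]; exact (mul_le_of_le_one_right' (val_le_one_of_mem_chart hj hy')).trans hc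
      · rw [map_mul]; exact (mul_le_of_le_one_left' (P.2.1 c)).trans hd
  obtain ⟨c, hc⟩ := key t ht
  by_cases hc0 : c = 0
  · rw [hc0, map_zero, sub_zero, hval, exp_le_exp] at hc; omega
  · rw [(val P).map_sub_eq_of_lt_right (by
      rw [hval, val_const P hc0, ← exp_zero, exp_lt_exp]; omega), val_const P hc0,
      ← exp_zero, exp_le_exp] at hc
    omega

/-- Separation and parameters at every place force birationality. -/
theorem adjoin_ratios_eq_top (h : IsFunctionField k K) {φ : ι → K} {i₀ : ι} (h0 : φ i₀ ≠ 0)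
    {P : Place k K} {j : ι} (hj : IsLead φ P j) (hfib : ∀ Q, InFibre φ j P Q → Q = P) {t : K}
    (htA : t ∈ chart k φ j) (ht : val P t = exp (-1)) :
    IntermediateField.adjoin k (Set.range fun i => φ i / φ i₀) = ⊤ := by
  classical
  have hfg : IsFG k K := h.1
  rw [← adjoin_ratios_eq h0 hj.1]
  set K₀ := IntermediateField.adjoin k (Set.range fun i => φ i / φ j) with hK₀
  have htK₀ : t ∈ K₀ := IntermediateField.algebra_adjoin_le_adjoin k _ htA
  have ht0 : t ≠ 0 := (val P).ne_zero_iff.1 (ht ▸ exp_ne_zero)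
  obtain ⟨hK₀f, hfin⟩ := isFunctionField_intermediateField h K₀
    ⟨t, htK₀, transcendental_of_val_ne_one P ht0 (by rw [ht, ← exp_zero, Ne, exp_inj]; omega)⟩
  have hfg₀ : IsFG k K₀ := hK₀f.1
  obtain ⟨p, e, he, hpe⟩ := exists_isOverWith (K := K₀) P
  have he1 : e = 1 := by
    have h1 := ord_of_isOverWith hpe ⟨t, htK₀⟩
    rw [show algebraMap K₀ K ⟨t, htK₀⟩ = t from rfl, ord_eq_of_val_eq P ht] at h1
    have : (e : ℤ) ∣ 1 := Dvd.intro _ (by simpa using h1.symm)
    exact_mod_cast Int.eq_one_of_dvd_one (Int.natCast_nonneg _) this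
  subst he1
  -- functions of `K₀` with a single pole at `p`
  have hp := hfg₀.deg_eq_one p
  obtain ⟨N, hN⟩ := exists_delta_eq_genus_of_deg hK₀f
  have hex : ∀ m : ℕ, N + 1 ≤ m → ∃ x : K₀, x ≠ 0 ∧ p.ord x = -(m : ℤ) ∧
      ∀ q : Place k K₀, q ≠ p → 0 ≤ q.ord x := by
    intro m hm
    have h1 := hN (Finsupp.single p (m : ℤ)) (by rw [deg_single, hp]; push_cast; omega)
    have h2 := hN (Finsupp.single p ((m : ℤ) - 1)) (by rw [deg_single, hp]; push_cast; omega)
    simp only [delta, deg_single, hp] at h1 h2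
    have hlt : ¬ L (Finsupp.single p (m : ℤ)) ≤ L (Finsupp.single p ((m : ℤ) - 1)) := fun hle => by
      have := hfg₀.finite_L (Finsupp.single p ((m : ℤ) - 1))
      have := Submodule.finrank_mono hle
      simp only [ell] at h1 h2
      omega
    obtain ⟨x, hx, hx'⟩ := SetLike.not_le_iff_exists.1 hlt
    have hx0 : x ≠ 0 := by rintro rfl; exact hx' (zero_mem _)
    rw [mem_L_iff_ord hx0] at hx hx'
    have hreg : ∀ q : Place k K₀, q ≠ p → 0 ≤ q.ord x := fun q hq => by
      simpa [Ne.symm hq, hq] using hx q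
    refine ⟨x, hx0, ?_, hreg⟩
    push Not at hx'
    obtain ⟨q, hq⟩ := hx'
    have hxp := hx p
    by_cases hqp : q = p
    · subst hqp; simp at hq hxp; omega
    · have := hreg q hqp; simp [hqp] at hq; omega
  have hup : ∀ x : K₀, x ≠ 0 → (∀ q : Place k K₀, q ≠ p → 0 ≤ q.ord x) →
      P.ord (x : K) = p.ord x ∧ ∀ Q : Place k K, Q ≠ P → 0 ≤ Q.ord (x : K) := by
    intro x hx0 hreg
    refine ⟨by simpa using ord_of_isOverWith hpe x, fun Q hQ => ?_⟩
    obtain ⟨q, f, hf, hqf⟩ := exists_isOverWith (K := K₀) Q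
    rw [show (x : K) = algebraMap K₀ K x from rfl, ord_of_isOverWith hqf x]
    refine mul_nonneg (Int.natCast_nonneg _) (hreg q fun hqp => hQ (hfib Q fun i => ?_))
    subst hqp
    have hψ : φ i / φ j ∈ K₀ := IntermediateField.subset_adjoin _ _ ⟨i, rfl⟩
    refine ⟨(val_le_one_iff_of_isOverWith hqf ⟨_, hψ⟩).2
      ((val_le_one_iff_of_isOverWith hpe ⟨_, hψ⟩).1 ((isLead_iff.1 hj).2 i)), fun c hc => ?_⟩
    have hmem : φ i / φ j - algebraMap k K c ∈ K₀ :=
      sub_mem hψ (IntermediateField.algebraMap_mem _ c)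
    set y : K₀ := ⟨_, hmem⟩
    have h1 : q.1 y ^ 1 < 1 := by rw [← hpe y]; exact hc
    show Q.1 (algebraMap K₀ K y) < 1
    rw [hqf y]
    exact pow_lt_one₀ zero_le (pow_one (q.1 y) ▸ h1) hf.ne'
  obtain ⟨x, hx0, hxo, hxr⟩ := hex (N.toNat + 1) (by omega)
  obtain ⟨y, hy0, hyo, hyr⟩ := hex (N.toNat + 2) (by omega)
  obtain ⟨hxP, hxQ⟩ := hup x hx0 hxr
  obtain ⟨hyP, hyQ⟩ := hup y hy0 hyr
  obtain ⟨hxt, hxn⟩ := finrank_adjoin_of_single_pole hfg (n := N.toNat + 1) (by omega)
    (hfg.deg_eq_one P) (hxP.trans hxo) hxQ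
  obtain ⟨hyt, hyn⟩ := finrank_adjoin_of_single_pole hfg (n := N.toNat + 2) (by omega)
    (hfg.deg_eq_one P) (hyP.trans hyo) hyQ
  refine top_unique ((adjoin_pair_eq_top hfg hxt hyt (by rw [hxn, hyn, show N.toNat + 2 = N.toNat + 1 + 1 from rfl]; exact Nat.coprime_self_add_right.2 (Nat.coprime_one_right _))).ge.trans ?_)
  rw [IntermediateField.adjoin_le_iff]
  rintro _ (rfl | rfl)
  · exact x.2
  · exact y.2

end GrothLib.FunFld
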