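import Groth.Prelude.Def_W4bk4goldsch45p2
import Mathlib.LinearAlgebra.Dimension.Constructions
import Mathlib.LinearAlgebra.Dimension.Finite
import Mathlib.LinearAlgebra.Matrix.ToLin
import Mathlib.Data.Finset.Sort
import Mathlib.LinearAlgebra.LinearIndependent.Lemmas

/-!
Jump indices of a sequence of vectors.
-/

set_option autoImplicit false

namespace GrothLib.FunFld

open _root_.FunFld

variable {R V : Type*} [Field R] [AddCommGroup V] [Module R V] (c : ℕ → V)

/-- The set of jumps. -/
abbrev jumps : Set ℕ := {j | IsJump R c j}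

theorem span_jumps (m : ℕ) :
    Submodule.span R (c '' (jumps (R := R) c ∩ Set.Iio m)) = Submodule.span R (c '' Set.Iio m) := by
  refine le_antisymm (Submodule.span_mono (Set.image_mono Set.inter_subset_right)) ?_
  induction m with
  | zero => simp
  | succ m ih =>
    have hle : Submodule.span R (c '' (jumps (R := R) c ∩ Set.Iio m)) ≤
        Submodule.span R (c '' (jumps (R := R) c ∩ Set.Iio (m + 1))) :=
      Submodule.span_mono (Set.image_mono (Set.inter_subset_inter_right _ fun x hx => by
        simp only [Set.mem_Iio] at hx ⊢; omega))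
    rw [Submodule.span_le]
    rintro _ ⟨i, hi, rfl⟩
    rcases Nat.lt_succ_iff_lt_or_eq.mp hi with hi | rfl
    · exact hle (ih (Submodule.subset_span ⟨i, hi, rfl⟩))
    · by_cases hj : IsJump R c i
      · exact Submodule.subset_span ⟨i, ⟨hj, Nat.lt_succ_self i⟩, rfl⟩
      · exact hle (ih (not_not.mp hj))

theorem linearIndepOn_jumps : LinearIndepOn R c (jumps (R := R) c) := by
  classical
  refine linearIndepOn_iff_linearIndepOn_finset.mpr fun s => ?_
  induction s using Finset.induction_on_max with
  | empty => intro _; rw [Finset.coe_empty]; exact linearIndepOn_empty R c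
  | insert a s hs ih =>
    intro h
    rw [Finset.coe_insert] at h ⊢
    refine (ih ((Set.subset_insert _ _).trans h)).insert fun hmem => ?_
    exact h (Set.mem_insert _ _) (Submodule.span_mono (Set.image_mono fun x hx => hs x hx) hmem)

theorem span_jumps_eq_top (h : Submodule.span R (Set.range c) = ⊤) :
    Submodule.span R (c '' jumps (R := R) c) = ⊤ := by
  refine top_le_iff.mp (h ▸ Submodule.span_le.mpr ?_)
  rintro _ ⟨i, rfl⟩
  have : c i ∈ Submodule.span R (c '' Set.Iio (i + 1)) :=
    Submodule.subset_span ⟨i, Nat.lt_succ_self i, rfl⟩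
  rw [← span_jumps] at this
  exact Submodule.span_mono (Set.image_mono Set.inter_subset_left) this

theorem finite_jumps_and_ncard [FiniteDimensional R V] (h : Submodule.span R (Set.range c) = ⊤) :
    (jumps (R := R) c).Finite ∧ (jumps (R := R) c).ncard = Module.finrank R V := by
  have hfin : (jumps (R := R) c).Finite :=
    Set.finite_coe_iff.mp (linearIndepOn_jumps (R := R) c).linearIndependent.finite
  refine ⟨hfin, ?_⟩
  have := hfin.fintype
  have hb := Module.finrank_eq_card_basis (Module.Basis.mk (linearIndepOn_jumps (R := R) c).linearIndependent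
    (le_of_eq (by rw [← span_jumps_eq_top c h, Set.image_eq_range])))
  rw [hb, Set.ncard_eq_toFinset_card', Set.toFinset_card]

variable {n : ℕ}

/-- The selected columns. -/
def sel (J : Fin n → ℕ) : Fin (n + 1) → ℕ := Fin.cons 0 fun l => J l + 1

theorem strictMono_sel {J : Fin n → ℕ} (hJ : StrictMono J) : StrictMono (sel J) := by
  intro a b hab
  refine Fin.cases ?_ (fun b' => ?_) b hab
  · intro h; exact absurd h (Fin.not_lt_zero a)
  · intro h
    refine Fin.cases ?_ (fun a' => ?_) a h
    · intro _; simp [sel]
    · intro h'; simpa [sel] using hJ (Fin.succ_lt_succ_iff.mp h')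

theorem range_sel {J : Fin n → ℕ} (hJ : IsOrders R c J) (h0 : c 0 ≠ 0) :
    Set.range (sel J) = jumps (R := R) c := by
  ext j
  rcases j with _ | j
  · exact iff_of_true ⟨0, rfl⟩ (by simpa [IsJump] using h0)
  · show _ ↔ IsJump R c (j + 1)
    rw [← hJ.2 j]
    constructor
    · rintro ⟨a, ha⟩
      refine Fin.cases ?_ (fun a' => ?_) a ha
      · simp [sel]
      · intro h; exact ⟨a', by simpa [sel] using h⟩
    · rintro ⟨l, rfl⟩; exact ⟨l.succ, by simp [sel]⟩

theorem exists_isOrders [FiniteDimensional R V] (h0 : c 0 ≠ 0)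
    (h : Submodule.span R (Set.range c) = ⊤) (hn : Module.finrank R V = n + 1) :
    ∃ J : Fin n → ℕ, IsOrders R c J := by
  classical
  obtain ⟨hfin, hcard⟩ := finite_jumps_and_ncard (R := R) c h
  let S : Finset ℕ := (hfin.toFinset.erase 0).image Nat.pred
  have hS : ∀ j, j ∈ S ↔ IsJump R c (j + 1) := fun j => by
    simp only [S, Finset.mem_image, Finset.mem_erase, Set.Finite.mem_toFinset, Set.mem_ofPred_eq]
    constructor
    · rintro ⟨i, ⟨hi0, hi⟩, rfl⟩
      rwa [← Nat.succ_pred_eq_of_ne_zero hi0] at hi
    · intro hj; exact ⟨j + 1, ⟨Nat.succ_ne_zero j, hj⟩, rfl⟩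
  have hSn : S.card = n := by
    rw [Finset.card_image_of_injOn fun a ha b hb hab => ?_, Finset.card_erase_of_mem
      (hfin.mem_toFinset.mpr (show IsJump R c 0 by simpa [IsJump] using h0)),
      ← Set.ncard_eq_toFinset_card _ hfin, hcard, hn, Nat.add_sub_cancel]
    have ha' := (Finset.mem_erase.mp ha).1
    have hb' := (Finset.mem_erase.mp hb).1
    simp only [Nat.pred_eq_sub_one] at hab
    omega
  refine ⟨S.orderEmbOfFin hSn, (S.orderEmbOfFin hSn).strictMono, fun j => ?_⟩
  rw [Finset.range_orderEmbOfFin, Finset.mem_coe, hS]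

theorem linearIndependent_sel {J : Fin n → ℕ} (hJ : IsOrders R c J) (h0 : c 0 ≠ 0) :
    LinearIndependent R fun a => c (sel J a) :=
  ((linearIndepOn_jumps c).mono (range_sel c hJ h0).le).linearIndependent.comp
    (fun a => (⟨sel J a, Set.mem_range_self a⟩ : Set.range (sel J)))
    fun a b h => (strictMono_sel hJ.1).injective (congrArg Subtype.val h)

theorem isOrders_le {J : Fin n → ℕ} (hJ : IsOrders R c J) (h0 : c 0 ≠ 0) {J' : Fin n → ℕ}
    (hJ' : StrictMono J') (hli : LinearIndependent R fun a => c (sel J' a)) (l : Fin n) :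
    J l ≤ J' l := by
  classical
  by_contra hlt
  push_neg at hlt
  let m := J' l + 1
  let A : Finset ℕ := insert 0 ((Finset.Iio l).image fun i => J i + 1)
  have hsub : Submodule.span R (c '' Set.Iio (m + 1)) ≤ Submodule.span R (c '' (A : Set ℕ)) := by
    rw [← span_jumps, ← range_sel c hJ h0]
    refine Submodule.span_mono (Set.image_mono ?_)
    rintro _ ⟨⟨a, rfl⟩, ha⟩
    simp only [Set.mem_Iio, m] at ha
    refine Fin.cases ?_ (fun a' => ?_) a ha
    · intro _; simp [sel, A]
    · intro ha'
      simp only [sel, Fin.cons_succ] at ha' ⊢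
      have hlt' : J a' < J l := by omega
      simp only [A, Finset.coe_insert, Finset.coe_image, Set.mem_insert_iff, Nat.succ_ne_zero,
        false_or, Set.mem_image]
      exact ⟨a', by simpa using hJ.1.lt_iff_lt.mp hlt', rfl⟩
  have hli' : LinearIndependent R fun a : Fin (l.1 + 2) => c (sel J' (a.castLE (by omega))) :=
    hli.comp _ (Fin.castLE_injective _)
  have hr : Submodule.span R (Set.range fun a : Fin (l.1 + 2) => c (sel J' (a.castLE (by omega)))) ≤
      Submodule.span R (c '' (A : Set ℕ)) := by
    refine le_trans (Submodule.span_mono ?_) hsub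
    rintro _ ⟨a, rfl⟩
    refine ⟨_, ?_, rfl⟩
    have : a.castLE (by omega : l.1 + 2 ≤ n + 1) ≤ l.succ := by
      rw [Fin.le_def]; simp; omega
    have h2 := (strictMono_sel hJ').monotone this
    simp only [sel, Fin.cons_succ] at h2
    simp only [Set.mem_Iio, m, sel]
    omega
  have hAc : A.card ≤ l.1 + 1 := (Finset.card_insert_le _ _).trans
    (Nat.add_le_add_right (Finset.card_image_le.trans (by simp)) 1)
  haveI : FiniteDimensional R (Submodule.span R (c '' (A : Set ℕ))) :=
    FiniteDimensional.span_of_finite R (A.finite_toSet.image c)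
  have h1 := Submodule.finrank_mono hr
  rw [finrank_span_eq_card hli', Fintype.card_fin] at h1
  have h2 : Module.finrank R (Submodule.span R (c '' (A : Set ℕ))) ≤ A.card := by
    rw [← Finset.coe_image]
    exact (finrank_span_finset_le_card (A.image c)).trans Finset.card_image_le
  omega

end GrothLib.FunFld
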