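import Groth.Agent.Lib.FunFld.Separating
import Groth.Agent.Lib.FunFld.Jumps
import Mathlib.RingTheory.PowerSeries.Trunc
import Mathlib.RingTheory.PowerSeries.Substitution

/-!
Total Hasse derivatives of a function field: uniqueness, iteration, constants, independence.
-/

set_option autoImplicit false
set_option linter.style.haveILetI false

namespace GrothLib.FunFld

open _root_.FunFld
open IntermediateField (adjoin mem_adjoin_simple_self)
open scoped Polynomial

universe u v

variable {k : Type u} {K : Type v} [Field k] [Field K] [Algebra k K]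

/-- Two ring maps agreeing on `L` and after composing with `c` agree on separable elements. -/
theorem eq_of_agree_separable (L : IntermediateField k K) [Algebra.IsSeparable L K]
    {R K' : Type*} [CommRing R] [IsDomain R] [Field K'] (c : R →+* K') (f g : K →+* R)
    (hc : ∀ y, c (f y) = c (g y)) (hL : ∀ z ∈ L, f z = g z) : f = g := by
  refine RingHom.ext fun y => ?_
  have hm := Algebra.IsSeparable.isSeparable L y
  set m := (minpoly L y).map (algebraMap L K) with hmdef
  have hmy : m.eval y = 0 := by rw [hmdef, Polynomial.eval_map, ← Polynomial.aeval_def, minpoly.aeval]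
  have hmap : m.map f = m.map g := Polynomial.ext fun i => by
    simp only [hmdef, Polynomial.coeff_map]
    exact hL _ ((minpoly L y).coeff i).2
  have hfy : (m.map f).eval (f y) = 0 := by rw [Polynomial.eval_map_apply, hmy, map_zero]
  have hgy : (m.map f).eval (g y) = 0 := by rw [hmap, Polynomial.eval_map_apply, hmy, map_zero]
  obtain ⟨q, hq⟩ := Polynomial.binomExpansion (m.map f) (f y) (g y - f y)
  rw [add_sub_cancel, hfy, hgy, zero_add] at hq
  by_contra hne
  have hd : g y - f y ≠ 0 := sub_ne_zero.mpr (Ne.symm hne)
  have h1 : ((m.map f).derivative.eval (f y) + q * (g y - f y)) * (g y - f y) = 0 := by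
    calc _ = (m.map f).derivative.eval (f y) * (g y - f y) + q * (g y - f y) ^ 2 := by ring
      _ = 0 := hq.symm
  have h2 := congrArg c ((mul_eq_zero.mp h1).resolve_right hd)
  rw [map_add, map_mul, map_sub, hc y, sub_self, mul_zero, add_zero, map_zero,
    Polynomial.derivative_map, Polynomial.eval_map_apply, ← RingHom.comp_apply, map_eq_zero] at h2
  refine hm.aeval_derivative_ne_zero (minpoly.aeval L y) ?_
  rw [Polynomial.aeval_def, ← Polynomial.eval_map, ← Polynomial.derivative_map]
  exact h2

theorem eq_of_agree_adjoin {s : K} [Algebra.IsSeparable (adjoin k ({s} : Set K)) K]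
    {R K' : Type*} [CommRing R] [IsDomain R] [Field K'] (c : R →+* K') (f g : K →+* R)
    (hc : ∀ y, c (f y) = c (g y)) (hk : ∀ a : k, f (algebraMap k K a) = g (algebraMap k K a))
    (hs : f s = g s) : f = g := by
  refine eq_of_agree_separable (adjoin k ({s} : Set K)) c f g hc fun z hz => ?_
  induction hz using IntermediateField.adjoin_induction with
  | mem w hw => rw [Set.mem_singleton_iff.mp hw]; exact hs
  | algebraMap a => exact hk a
  | add a b _ _ ha hb => rw [map_add, map_add, ha, hb]
  | inv a _ ha =>
    rcases eq_or_ne a 0 with rfl | ha0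
    · simp
    have h1 : f a * f a⁻¹ = 1 := by rw [← map_mul, mul_inv_cancel₀ ha0, map_one]
    have h2 : g a * g a⁻¹ = 1 := by rw [← map_mul, mul_inv_cancel₀ ha0, map_one]
    rw [ha] at h1
    exact left_inv_eq_right_inv (by rw [mul_comm]; exact h1) h2
  | mul a b _ _ ha hb => rw [map_mul, map_mul, ha, hb]

section Basic

variable {s : K} {H : K →ₐ[k] PowerSeries K} (hH : LocRes.IsHasseFamily s H)
include hH

theorem hasseD_zero (y : K) : LocRes.hasseD H 0 y = y := by
  rw [LocRes.hasseD_apply, PowerSeries.coeff_zero_eq_constantCoeff_apply]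
  exact hH.2 y

theorem algebraMap_H (a : k) : H (algebraMap k K a) = PowerSeries.C (algebraMap k K a) := by
  rw [AlgHom.commutes, PowerSeries.algebraMap_apply]

theorem hasseD_one_self : LocRes.hasseD H 1 s = 1 := by
  simp [hH.1, PowerSeries.coeff_C]

theorem D_self_ne_zero : KaehlerDifferential.D k K s ≠ 0 := by
  intro h
  let d : Derivation k K K := Derivation.mk'
    { toFun := fun y => PowerSeries.coeff 1 (H y)
      map_add' := fun a b => by rw [map_add, map_add]
      map_smul' := fun a b => by rw [map_smul, PowerSeries.coeff_smul, RingHom.id_apply] }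
    (fun a b => by
      show PowerSeries.coeff 1 (H (a * b)) = a * PowerSeries.coeff 1 (H b) + b * PowerSeries.coeff 1 (H a)
      rw [map_mul, PowerSeries.coeff_mul]
      simp [Finset.Nat.antidiagonal_succ, hH.2]
      ring)
  have h1 : d s = 1 := hasseD_one_self hH
  rw [← d.liftKaehlerDifferential_comp_D s, h, map_zero] at h1
  exact zero_ne_one h1

theorem isSeparable_adjoin_self (hK : IsFG k K) (hg : IsGeometric k K) :
    Algebra.IsSeparable (adjoin k ({s} : Set K)) K :=
  (isSeparable_iff_D_ne_zero hK hg s).mpr (D_self_ne_zero hH)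

theorem mem_range_of_H_eq_C (hK : IsFunctionField k K) {y : K} (hy : H y = PowerSeries.C y) :
    y ∈ Set.range (algebraMap k K) := by
  by_contra hyk
  have hyt := transcendental_of_not_mem hK hyk
  haveI := IsFG.finiteDimensional_adjoin hK.1 hyt
  set L := adjoin k ({y} : Set K)
  have hL : ∀ z ∈ L, H z = PowerSeries.C z := by
    intro z hz
    induction hz using IntermediateField.adjoin_induction with
    | mem w hw => rw [Set.mem_singleton_iff.mp hw]; exact hy
    | algebraMap a => exact algebraMap_H hH a
    | add a b _ _ ha hb => rw [map_add, map_add, ha, hb]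
    | inv a _ ha =>
      rcases eq_or_ne a 0 with rfl | ha0
      · simp
      refine left_inv_eq_right_inv (a := H a) ?_ ?_
      · rw [← map_mul, inv_mul_cancel₀ ha0, map_one]
      · rw [ha, ← map_mul, mul_inv_cancel₀ ha0, map_one]
    | mul a b _ _ ha hb => rw [map_mul, map_mul, ha, hb]
  set m := (minpoly L s).map (algebraMap L K) with hmdef
  have hmap : m.map H.toRingHom = m.map PowerSeries.C := Polynomial.ext fun i => by
    simp only [hmdef, Polynomial.coeff_map]
    exact hL _ ((minpoly L s).coeff i).2
  have h0 : (m.map H.toRingHom).eval (H s) = 0 := by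
    rw [show H s = H.toRingHom s from rfl, Polynomial.eval_map_apply, hmdef, Polynomial.eval_map,
      ← Polynomial.aeval_def, minpoly.aeval, map_zero]
  rw [hmap, hH.1] at h0
  have hcoe : (m.map PowerSeries.C).eval (PowerSeries.C s + PowerSeries.X) =
      ((m.comp (Polynomial.C s + Polynomial.X) : K[X]) : PowerSeries K) := by
    rw [Polynomial.comp, ← Polynomial.coeToPowerSeries.ringHom_apply, Polynomial.hom_eval₂,
      Polynomial.eval_map]
    congr 1
    · exact RingHom.ext fun a => (Polynomial.coe_C a).symm
    · simp
  rw [hcoe, Polynomial.coe_eq_zero_iff] at h0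
  have hne : m ≠ 0 := Polynomial.map_ne_zero (minpoly.ne_zero (Algebra.IsIntegral.isIntegral s))
  refine hne ?_
  have := congrArg (fun p : K[X] => p.comp (Polynomial.X - Polynomial.C s)) h0
  simpa [Polynomial.comp_assoc] using this

end Basic

/-- Taylor expansion of a power series around a shifted point. -/
noncomputable def shift (f : PowerSeries K) : PowerSeries (PowerSeries K) :=
  PowerSeries.mk fun j => PowerSeries.mk fun w => ((w + j).choose j : K) * PowerSeries.coeff (w + j) f

theorem coeff_shift (f : PowerSeries K) (j w : ℕ) :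
    PowerSeries.coeff w (PowerSeries.coeff j (shift f)) = ((w + j).choose j : K) * PowerSeries.coeff (w + j) f := by
  simp [shift]

theorem shift_coe (p : K[X]) :
    shift (p : PowerSeries K) = p.eval₂ ((PowerSeries.C).comp PowerSeries.C)
      (PowerSeries.C PowerSeries.X + PowerSeries.X) := by
  induction p using Polynomial.induction_on' with
  | add p q hp hq =>
    rw [Polynomial.eval₂_add, ← hp, ← hq, Polynomial.coe_add]
    ext j w
    simp only [coeff_shift, map_add, mul_add]
  | monomial n a =>
    rw [Polynomial.eval₂_monomial, Commute.add_pow (Commute.all _ _)]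
    ext j w
    simp only [coeff_shift, Polynomial.coeff_coe, Polynomial.coeff_monomial, RingHom.comp_apply,
      Finset.mul_sum, map_sum, ← map_pow, PowerSeries.coeff_X_pow, mul_ite, mul_one, mul_zero,
      PowerSeries.coeff_C_mul]
    by_cases h : n = w + j
    · subst h
      rw [if_pos rfl, Finset.sum_eq_single w]
      · rw [Nat.add_sub_cancel_left, ← map_natCast (PowerSeries.C : PowerSeries K →+* _),
          PowerSeries.coeff_mul_C, PowerSeries.coeff_C_mul, PowerSeries.coeff_X_pow_self, mul_one,
          ← map_natCast (PowerSeries.C : K →+* _), PowerSeries.coeff_mul_C,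
          PowerSeries.coeff_X_pow_self, Nat.choose_symm_add]
        ring
      · intro b hb hbw
        rw [← map_natCast (PowerSeries.C : PowerSeries K →+* _), PowerSeries.coeff_mul_C,
          PowerSeries.coeff_C_mul, PowerSeries.coeff_X_pow]
        have hb' := Finset.mem_range.mp hb
        rw [if_neg (by omega)]
        simp
      · intro h; simp at h
    · rw [if_neg h]
      refine (Finset.sum_eq_zero fun b hb => ?_).symm
      rw [← map_natCast (PowerSeries.C : PowerSeries K →+* _), PowerSeries.coeff_mul_C,
        PowerSeries.coeff_C_mul, PowerSeries.coeff_X_pow]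
      have hb' := Finset.mem_range.mp hb
      by_cases hj : j = n - b
      · rw [if_pos hj, mul_one, ← map_natCast (PowerSeries.C : K →+* _), PowerSeries.coeff_mul_C,
          PowerSeries.coeff_X_pow, if_neg (by omega)]
        simp
      · rw [if_neg hj]
        simp

theorem coeff_coeff_mul_congr {f f' g g' : PowerSeries (PowerSeries K)} {j w : ℕ}
    (hf : ∀ a b, a + b ≤ w + j → PowerSeries.coeff b (PowerSeries.coeff a f) = PowerSeries.coeff b (PowerSeries.coeff a f'))
    (hg : ∀ a b, a + b ≤ w + j → PowerSeries.coeff b (PowerSeries.coeff a g) = PowerSeries.coeff b (PowerSeries.coeff a g')) :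
    PowerSeries.coeff w (PowerSeries.coeff j (f * g)) = PowerSeries.coeff w (PowerSeries.coeff j (f' * g')) := by
  rw [PowerSeries.coeff_mul, PowerSeries.coeff_mul, map_sum, map_sum]
  refine Finset.sum_congr rfl fun x hx => ?_
  rw [PowerSeries.coeff_mul, PowerSeries.coeff_mul]
  refine Finset.sum_congr rfl fun y hy => ?_
  rw [Finset.HasAntidiagonal.mem_antidiagonal] at hx hy
  rw [hf _ _ (by omega), hg _ _ (by omega)]

/-- Taylor expansion as a ring map. -/
noncomputable def shiftHom : PowerSeries K →+* PowerSeries (PowerSeries K) where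
  toFun := shift
  map_one' := by
    rw [← Polynomial.coe_one, shift_coe, Polynomial.eval₂_one]
  map_zero' := by ext j w; simp [coeff_shift]
  map_add' f g := by ext j w; simp [coeff_shift, mul_add]
  map_mul' f g := by
    ext j w
    have ht : ∀ (q : PowerSeries K) (a b : ℕ), a + b ≤ w + j →
        PowerSeries.coeff b (PowerSeries.coeff a (shift (PowerSeries.trunc (w + j + 1) q : PowerSeries K))) =
          PowerSeries.coeff b (PowerSeries.coeff a (shift q)) := fun q a b h => by
      rw [coeff_shift, coeff_shift, Polynomial.coeff_coe, PowerSeries.coeff_trunc, if_pos (by omega)]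
    rw [coeff_coeff_mul_congr (fun a b h => (ht f a b h).symm) (fun a b h => (ht g a b h).symm),
      shift_coe, shift_coe, ← Polynomial.eval₂_mul, ← shift_coe, coeff_shift, coeff_shift,
      Polynomial.coe_mul, PowerSeries.coeff_mul_eq_coeff_trunc_mul_trunc f g (Nat.lt_succ_self _)]

variable {s : K} {H : K →ₐ[k] PowerSeries K}

theorem hasseD_comp (hH : LocRes.IsHasseFamily s H) (hK : IsFG k K) (hg : IsGeometric k K)
    (a b : ℕ) (y : K) :
    LocRes.hasseD H a (LocRes.hasseD H b y) = ((a + b).choose b : K) * LocRes.hasseD H (a + b) y := by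
  haveI := isSeparable_adjoin_self hH hK hg
  have h : (PowerSeries.map H.toRingHom).comp H.toRingHom = (shiftHom).comp H.toRingHom := by
    refine eq_of_agree_adjoin (k := k) (s := s)
      ((PowerSeries.constantCoeff).comp PowerSeries.constantCoeff) _ _ (fun z => ?_) (fun c => ?_) ?_
    · simp only [RingHom.comp_apply, ← PowerSeries.coeff_zero_eq_constantCoeff_apply]
      show PowerSeries.coeff 0 (PowerSeries.coeff 0 (PowerSeries.map H.toRingHom (H z))) = PowerSeries.coeff 0 (PowerSeries.coeff 0 (shift (H z)))
      rw [coeff_shift, PowerSeries.coeff_map]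
      show LocRes.hasseD H 0 (LocRes.hasseD H 0 z) = _
      rw [hasseD_zero hH, hasseD_zero hH]
      simp [hH.2]
    · show PowerSeries.map H.toRingHom (H (algebraMap k K c)) = shift (H (algebraMap k K c))
      rw [algebraMap_H hH, PowerSeries.map_C]
      conv_rhs => rw [← Polynomial.coe_C, shift_coe, Polynomial.eval₂_C]
      exact congrArg PowerSeries.C (algebraMap_H hH c)
    · show PowerSeries.map H.toRingHom (H s) = shift (H s)
      rw [hH.1, map_add, PowerSeries.map_C, PowerSeries.map_X]
      conv_rhs => rw [← Polynomial.coe_C, ← Polynomial.coe_X,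
        ← Polynomial.coe_add, shift_coe, Polynomial.eval₂_add, Polynomial.eval₂_C, Polynomial.eval₂_X]
      show PowerSeries.C (H s) + _ = _
      rw [hH.1, map_add]
      simp [add_assoc]
  have h2 := congrArg (fun Φ => PowerSeries.coeff a (PowerSeries.coeff b (Φ y))) h
  simp only [RingHom.comp_apply, PowerSeries.coeff_map] at h2
  exact h2.trans (coeff_shift _ _ _)

theorem hasseD_mul (a : ℕ) (y z : K) :
    LocRes.hasseD H a (y * z) =
      ∑ x ∈ Finset.HasAntidiagonal.antidiagonal a, LocRes.hasseD H x.1 y * LocRes.hasseD H x.2 z := by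
  simp only [LocRes.hasseD_apply, map_mul, PowerSeries.coeff_mul]

theorem sum_hasseD_eq_zero (hH : LocRes.IsHasseFamily s H) (hK : IsFG k K) (hg : IsGeometric k K)
    {ι : Type*} [Fintype ι] (φ l : ι → K) (h : ∀ j, ∑ i, l i * LocRes.hasseD H j (φ i) = 0) (a : ℕ) :
    ∀ j, ∑ i, LocRes.hasseD H a (l i) * LocRes.hasseD H j (φ i) = 0 := by
  induction a using Nat.strong_induction_on with
  | _ a ih =>
    intro j
    have h1 := congrArg (PowerSeries.coeff a) (congrArg H (h j))
    rw [map_zero, map_zero, map_sum, map_sum] at h1
    have h2 : ∑ i, ∑ x ∈ Finset.HasAntidiagonal.antidiagonal a,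
        LocRes.hasseD H x.1 (l i) * LocRes.hasseD H x.2 (LocRes.hasseD H j (φ i)) = 0 := by
      rw [← h1]
      exact Finset.sum_congr rfl fun i _ => (hasseD_mul a _ _).symm
    rw [Finset.sum_comm, Finset.sum_eq_single (a, 0)] at h2
    · rw [← h2]
      exact Finset.sum_congr rfl fun i _ => by
        congr 1
        exact (hasseD_zero hH _).symm
    · rintro ⟨x, z⟩ hx hne
      rw [Finset.HasAntidiagonal.mem_antidiagonal] at hx
      have hxa : x < a := by
        rcases eq_or_ne z 0 with rfl | hz
        · exact absurd (by rw [show x = a by simpa using hx]) hne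
        · omega
      have e : ∀ i ∈ (Finset.univ : Finset ι),
          LocRes.hasseD H x (l i) * LocRes.hasseD H z (LocRes.hasseD H j (φ i)) =
            ((z + j).choose j : K) * (LocRes.hasseD H x (l i) * LocRes.hasseD H (z + j) (φ i)) :=
        fun i _ => by rw [hasseD_comp hH hK hg z j]; ring
      show ∑ i, LocRes.hasseD H x (l i) * LocRes.hasseD H z (LocRes.hasseD H j (φ i)) = 0
      rw [Finset.sum_congr rfl e, ← Finset.mul_sum, ih x hxa (z + j), mul_zero]
    · intro hh; exact absurd (Finset.HasAntidiagonal.mem_antidiagonal.mpr (by simp)) hh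

theorem eq_zero_of_sum_hasseD (hH : LocRes.IsHasseFamily s H) (hK : IsFunctionField k K)
    (hg : IsGeometric k K) {ι : Type*} [Fintype ι] {φ : ι → K} (hφ : LinearIndependent k φ)
    (l : ι → K) (h : ∀ j, ∑ i, l i * LocRes.hasseD H j (φ i) = 0) : l = 0 := by
  classical
  induction hn : (Finset.univ.filter fun i => l i ≠ 0).card using Nat.strong_induction_on
    generalizing l with
  | _ n ih =>
    subst hn
    by_contra hl
    obtain ⟨i₀, hi₀⟩ := Function.ne_iff.mp hl
    let l' : ι → K := fun i => (l i₀)⁻¹ * l i
    have h' : ∀ j, ∑ i, l' i * LocRes.hasseD H j (φ i) = 0 := fun j => by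
      simp only [l', mul_assoc, ← Finset.mul_sum, h, mul_zero]
    have hconst : ∀ i, l' i ∈ Set.range (algebraMap k K) := fun i => by
      refine mem_range_of_H_eq_C hH hK (PowerSeries.ext fun a => ?_)
      rcases a with _ | a
      · simp [hH.2]
      · rw [PowerSeries.coeff_C, if_neg (Nat.succ_ne_zero a)]
        have h2 := sum_hasseD_eq_zero hH hK.1 hg φ l' h' (a + 1)
        have hlt : (Finset.univ.filter fun i => LocRes.hasseD H (a + 1) (l' i) ≠ 0).card <
            (Finset.univ.filter fun i => l i ≠ 0).card := by
          refine Finset.card_lt_card (Finset.ssubset_iff_of_subset ?_ |>.mpr ⟨i₀, ?_, ?_⟩)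
          · intro x
            simp only [Finset.mem_filter, Finset.mem_univ, true_and]
            intro hx hx0
            refine hx ?_
            simp [l', hx0]
          · simpa using hi₀
          · simp only [Finset.mem_filter, Finset.mem_univ, true_and, not_not, l']
            rw [inv_mul_cancel₀ hi₀]
            simp [PowerSeries.coeff_one]
        exact congrFun (ih _ hlt _ h2 rfl) i
    choose cst hcst using hconst
    have h0 : ∑ i, cst i • φ i = 0 := by
      simp only [Algebra.smul_def, hcst]
      have := h' 0
      simpa [hasseD_zero hH, hH.2] using this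
    have h1 := hcst i₀
    rw [Fintype.linearIndependent_iff.mp hφ cst h0 i₀, map_zero] at h1
    simp only [l', inv_mul_cancel₀ hi₀] at h1
    exact zero_ne_one h1

theorem span_hcol_eq_top (hH : LocRes.IsHasseFamily s H) (hK : IsFunctionField k K)
    (hg : IsGeometric k K) {ι : Type*} [Fintype ι] {φ : ι → K} (hφ : LinearIndependent k φ)
    (τ : K →ₐ[k] K) : Submodule.span K (Set.range (hcol τ H φ)) = ⊤ := by
  classical
  by_contra hne
  obtain ⟨f, hf0, hf⟩ := Submodule.exists_dual_map_eq_bot_of_lt_top (lt_top_iff_ne_top.mpr hne)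
    inferInstance
  refine hf0 ?_
  set l : ι → K := fun i => f (fun i' => if i = i' then 1 else 0) with hldef
  have hsum : ∀ x : ι → K, f x = ∑ i, x i * l i := fun x => by
    simpa [hldef, smul_eq_mul] using LinearMap.pi_apply_eq_sum_univ f x
  have hl : l = 0 := eq_zero_of_sum_hasseD hH hK hg hφ l fun j => by
    have hfj : f (hcol τ H φ (j + 1)) = 0 := (Submodule.map_le_iff_le_comap.mp (le_of_eq hf))
      (Submodule.subset_span ⟨j + 1, rfl⟩)
    rw [hsum] at hfj
    rw [← hfj]
    exact Finset.sum_congr rfl fun i _ => mul_comm _ _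
  refine LinearMap.ext fun x => ?_
  rw [hsum, hl]
  simp

end GrothLib.FunFld
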