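import Groth.Agent.Lib.FunFld.Orders
import Groth.Agent.Lib.FunFld.Conseq
import Groth.Agent.Lib.LocRes.HasseExp
import Groth.Agent.Lib.FunFld.LocRing
import Mathlib.LinearAlgebra.Dual.Lemmas

/-!
Orders of a tuple at a place, read through the expansion in a local parameter.
-/

set_option autoImplicit false
set_option linter.style.haveILetI false

namespace GrothLib.FunFld

open _root_.FunFld

variable {k K : Type*} [Field k] [Field K] [Algebra k K]

theorem algebraMap_laurent (c : k) : algebraMap k (LaurentSeries k) c = HahnSeries.C c := by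
  simp [HahnSeries.algebraMap_apply', PowerSeries.algebraMap_eq]

theorem coeff_smul_map (ψ : K →ₐ[k] LaurentSeries k) (c : k) (x : K) (a : ℤ) :
    (ψ (c • x)).coeff a = c * (ψ x).coeff a := by
  rw [Algebra.smul_def, map_mul, AlgHom.commutes, algebraMap_laurent, HahnSeries.C_mul_eq_smul,
    HahnSeries.coeff_smul, smul_eq_mul]

theorem val_le_iff_coeff {ψ : K →ₐ[k] LaurentSeries k} {P : Place k K}
    (hψ : _root_.LocRes.IsExpansionAt P.1 ψ) (x : K) (m : ℤ) :
    val P x ≤ WithZero.exp (-m) ↔ ∀ a < m, (ψ x).coeff a = 0 := by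
  rw [show val P x = Valued.v (ψ x) from (hψ.1 x).symm]
  exact LaurentSeries.valuation_le_iff_coeff_lt_eq_zero k

theorem val_sub_coeff_lt {ψ : K →ₐ[k] LaurentSeries k} {P : Place k K}
    (hψ : _root_.LocRes.IsExpansionAt P.1 ψ) {x : K} (hx : val P x ≤ 1) :
    val P (x - algebraMap k K ((ψ x).coeff 0)) < 1 := by
  rw [← WithZero.exp_zero, ← le_exp_sub_one_iff, show (0 : ℤ) - 1 = -(1 : ℤ) by ring, val_le_iff_coeff hψ]
  intro a ha
  rw [map_sub, AlgHom.commutes, HahnSeries.coeff_sub, algebraMap_laurent, HahnSeries.C_apply]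
  rcases lt_or_eq_of_le (show a ≤ 0 by omega) with h | rfl
  · rw [(val_le_iff_coeff hψ x 0).1 (by rwa [neg_zero, WithZero.exp_zero]) a h,
      HahnSeries.coeff_single_of_ne h.ne, sub_zero]
  · rw [HahnSeries.coeff_single_same, sub_self]

theorem evalP_eq_coeff {ψ : K →ₐ[k] LaurentSeries k} {P : Place k K}
    (hψ : _root_.LocRes.IsExpansionAt P.1 ψ) {x : K} (hx : val P x ≤ 1) :
    evalP P x = algebraMap k (IsLocalRing.ResidueField P.O) ((ψ x).coeff 0) := by
  rw [evalP, dif_pos hx]
  have h1 : res P ((⟨x, hx⟩ : P.O) - algebraMap k P.O ((ψ x).coeff 0)) = 0 :=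
    (res_eq_zero_iff P _).2 (val_sub_coeff_lt hψ hx)
  rw [map_sub, AlgHom.commutes, sub_eq_zero] at h1
  exact h1

variable [IsAlgClosed k]

theorem exists_expansion_closed (hK : IsFG k K) {P : Place k K} {t : K} (ht : val P t = WithZero.exp (-1)) :
    ∃ ψ : K →ₐ[k] LaurentSeries k, _root_.LocRes.IsExpansionAt P.1 ψ ∧ ψ t = HahnSeries.single 1 1 := by
  have hrat : IsRational P := by
    have := IsFG.finite_residueField hK P
    haveI : Algebra.IsIntegral k (IsLocalRing.ResidueField P.O) := ⟨fun r =>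
      @IsIntegral.of_finite k (IsLocalRing.ResidueField P.O) _ _ _ this r⟩
    exact IsAlgClosed.algebraMap_bijective_of_isIntegral
  exact exists_expansion ht hrat

variable {n : ℕ} {φ : Fin (n + 1) → K} {P : Place k K} {t : K} {Ht : K →ₐ[k] PowerSeries K}
  {ψ : K →ₐ[k] LaurentSeries k}

theorem coeff_hasseD (hK : IsFunctionField k K) (hψ : _root_.LocRes.IsExpansionAt P.1 ψ)
    (hψt : ψ t = HahnSeries.single 1 1) (hHt : _root_.LocRes.IsHasseFamily t Ht) {x : K} (hx : val P x ≤ 1)
    (i : ℕ) (a : ℤ) :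
    (ψ (_root_.LocRes.hasseD Ht i x)).coeff a = Ring.choose (a + i) i • (ψ x).coeff (a + i) := by
  rw [expansion_hasseD hK.1 (isGeometric_of_perfectField hK) hψ hψt hHt hx i, LaurentSeries.hasseDeriv_coeff]

theorem hcolAt_succ_eq (hK : IsFunctionField k K) (hψ : _root_.LocRes.IsExpansionAt P.1 ψ)
    (hψt : ψ t = HahnSeries.single 1 1) (hHt : _root_.LocRes.IsHasseFamily t Ht)
    (hnorm : ∀ i, val P (φ i) ≤ 1) (j : ℕ) (i : Fin (n + 1)) :
    hcolAt P Ht φ (j + 1) i = algebraMap k (IsLocalRing.ResidueField P.O) ((ψ (φ i)).coeff j) := by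
  show evalP P (_root_.LocRes.hasseD Ht j (φ i)) = _
  rw [evalP_eq_coeff hψ (val_hasseD_le_one hK.1 (isGeometric_of_perfectField hK) hψ hψt hHt (hnorm i) j),
    coeff_hasseD hK hψ hψt hHt (hnorm i), zero_add, Ring.choose_natCast, Nat.choose_self, Nat.cast_one, one_smul]

theorem residue_surj (hK : IsFG k K) (P : Place k K) (z : IsLocalRing.ResidueField P.O) :
    ∃ c : k, algebraMap k (IsLocalRing.ResidueField P.O) c = z := by
  obtain ⟨y, rfl⟩ := IsLocalRing.residue_surjective z
  obtain ⟨c, hc⟩ := exists_residue hK P y.2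
  refine ⟨c, ?_⟩
  have h1 : res P (y - algebraMap k P.O c) = 0 := (res_eq_zero_iff P _).2 hc
  rw [map_sub, AlgHom.commutes, sub_eq_zero] at h1
  exact h1.symm

/-- The orders at a place are the positive orders attained in the span. -/
theorem isJump_hcolAt_iff (hK : IsFunctionField k K) (ht : val P t = WithZero.exp (-1))
    (hHt : _root_.LocRes.IsHasseFamily t Ht) (hnorm : ∀ i, val P (φ i) ≤ 1) (j : ℕ) :
    IsJump (IsLocalRing.ResidueField P.O) (hcolAt P Ht φ) (j + 1) ↔
      1 ≤ j ∧ ∃ f ∈ Submodule.span k (Set.range φ), val P f = WithZero.exp (-(j : ℤ)) := by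
  classical
  obtain ⟨ψ, hψ, hψt⟩ := exists_expansion_closed hK.1 ht
  have hcol : hcolAt P Ht φ 1 = hcolAt P Ht φ 0 := funext fun i => by
    show evalP P (_root_.LocRes.hasseD Ht 0 (φ i)) = evalP P (φ i)
    rw [hasseD_zero hHt]
  let κ := IsLocalRing.ResidueField P.O
  have hLc : ∀ (c : Fin (n + 1) → k) (m : ℕ),
      Fintype.linearCombination κ (fun i => algebraMap k κ (c i)) (hcolAt P Ht φ (m + 1)) =
        algebraMap k κ ((ψ (∑ i, c i • φ i)).coeff m) := fun c m => by
    rw [Fintype.linearCombination_apply, map_sum, HahnSeries.coeff_sum, map_sum]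
    refine Finset.sum_congr rfl fun i _ => ?_
    rw [hcolAt_succ_eq hK hψ hψt hHt hnorm, smul_eq_mul, coeff_smul_map, map_mul, mul_comm]
  have hint : ∀ c : Fin (n + 1) → k, val P (∑ i, c i • φ i) ≤ 1 := fun c =>
    (val P).map_sum_le fun i _ => by
      rw [Algebra.smul_def, map_mul]; exact mul_le_one' (P.2.1 _) (hnorm i)
  constructor
  · intro hj
    have hj1 : 1 ≤ j := by
      by_contra h0
      obtain rfl : j = 0 := by omega
      exact hj (Submodule.subset_span ⟨0, Nat.zero_lt_one, hcol.symm⟩)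
    obtain ⟨L, hL, hker⟩ := Submodule.exists_dual_map_eq_bot_of_notMem hj inferInstance
    choose c hc using fun i => residue_surj hK.1 P (L (Pi.single i 1))
    have hLe : L = Fintype.linearCombination κ (fun i => algebraMap k κ (c i)) :=
      LinearMap.pi_ext' fun i => LinearMap.ext_ring (by
        show L (Pi.single i 1) = _
        rw [← hc i]
        simp [Fintype.linearCombination_apply_single]
        rfl)
    refine ⟨hj1, _, (Submodule.mem_span_range_iff_exists_fun k).2 ⟨c, rfl⟩, ?_⟩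
    have hlow : ∀ a < (j : ℤ), (ψ (∑ i, c i • φ i)).coeff a = 0 := by
      intro a ha
      rcases lt_or_ge a 0 with h | h
      · exact (val_le_iff_coeff hψ _ 0).1 (by rw [neg_zero, WithZero.exp_zero]; exact hint c) a h
      obtain ⟨m, rfl⟩ := Int.eq_ofNat_of_zero_le h
      have h2 : L (hcolAt P Ht φ (m + 1)) = 0 := by
        rw [← LinearMap.le_ker_iff_map] at hker
        exact hker (Submodule.subset_span ⟨m + 1, by simp only [Set.mem_Iio]; omega, rfl⟩)
      rw [hLe, hLc] at h2
      exact (map_eq_zero_iff _ (algebraMap k κ).injective).1 h2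
    refine le_antisymm ((val_le_iff_coeff hψ _ _).2 hlow) (not_lt.1 fun hlt => hL ?_)
    rw [hLe, hLc]
    rw [← le_exp_sub_one_iff, show (-(j : ℤ)) - 1 = -((j : ℤ) + 1) by ring, val_le_iff_coeff hψ] at hlt
    rw [hlt _ (by omega), map_zero]
  · rintro ⟨hj1, f, hf, hfv⟩ hj
    obtain ⟨c, rfl⟩ := (Submodule.mem_span_range_iff_exists_fun k).1 hf
    have hlow := (val_le_iff_coeff hψ _ (j : ℤ)).1 hfv.le
    have hne : (ψ (∑ i, c i • φ i)).coeff j ≠ 0 := fun h0 => by
      have : val P (∑ i, c i • φ i) ≤ WithZero.exp (-((j : ℤ) + 1)) := by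
        rw [val_le_iff_coeff hψ]
        intro a ha
        rcases lt_or_eq_of_le (show a ≤ (j : ℤ) by omega) with h | rfl
        · exact hlow a h
        · exact h0
      rw [hfv, WithZero.exp_le_exp] at this
      omega
    let L := Fintype.linearCombination κ (fun i => algebraMap k κ (c i))
    have hle : Submodule.span κ (hcolAt P Ht φ '' Set.Iio (j + 1)) ≤ L.ker := by
      rw [Submodule.span_le]
      rintro _ ⟨m, hm, rfl⟩
      have hm' : m < j + 1 := hm
      show L _ = 0
      rcases m with _ | m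
      · rw [← hcol, hLc, hlow _ (by omega), map_zero]
      · rw [hLc, hlow _ (by omega), map_zero]
    have h3 : L (hcolAt P Ht φ (j + 1)) = 0 := hle hj
    rw [hLc] at h3
    exact hne ((map_eq_zero_iff _ (algebraMap k κ).injective).1 h3)

/-- An adapted basis: leading coefficient one at the orders. -/
theorem exists_adapted_basis (hK : IsFunctionField k K) (hφ : LinearIndependent k φ)
    (heff : (1 : K) ∈ Submodule.span k (Set.range φ)) (hnorm : ∀ i, val P (φ i) ≤ 1)
    (hψ : _root_.LocRes.IsExpansionAt P.1 ψ) (hψt : ψ t = HahnSeries.single 1 1)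
    (ht : val P t = WithZero.exp (-1)) (hHt : _root_.LocRes.IsHasseFamily t Ht) {J : Fin n → ℕ}
    (hJ : IsOrders (IsLocalRing.ResidueField P.O) (hcolAt P Ht φ) J) :
    (∀ l, 1 ≤ J l) ∧ ∃ (φ' : Fin (n + 1) → K) (A : Matrix (Fin (n + 1)) (Fin (n + 1)) k),
      φ' 0 = 1 ∧ (∀ i, φ' i = ∑ j, A i j • φ j) ∧ A.det ≠ 0 ∧ LinearIndependent k φ' ∧
      Submodule.span k (Set.range φ') = Submodule.span k (Set.range φ) ∧
      ∀ l, val P (φ' l.succ) = WithZero.exp (-(J l : ℤ)) ∧ (ψ (φ' l.succ)).coeff (J l) = 1 := by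
  classical
  have hj : ∀ l, 1 ≤ J l ∧ ∃ f ∈ Submodule.span k (Set.range φ), val P f = WithZero.exp (-(J l : ℤ)) :=
    fun l => (isJump_hcolAt_iff hK ht hHt hnorm (J l)).1 ((hJ.2 (J l)).1 ⟨l, rfl⟩)
  refine ⟨fun l => (hj l).1, ?_⟩
  choose _ f hf hfv using hj
  have hne : ∀ l, (ψ (f l)).coeff (J l) ≠ 0 := fun l h0 => by
    have : val P (f l) ≤ WithZero.exp (-((J l : ℤ) + 1)) := by
      rw [val_le_iff_coeff hψ]
      intro a ha
      rcases lt_or_eq_of_le (show a ≤ (J l : ℤ) by omega) with h | rfl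
      · exact (val_le_iff_coeff hψ _ _).1 (hfv l).le a h
      · exact h0
    rw [hfv l, WithZero.exp_le_exp] at this
    omega
  let φ' : Fin (n + 1) → K := Fin.cons 1 fun l => ((ψ (f l)).coeff (J l))⁻¹ • f l
  have hmem : ∀ i, φ' i ∈ Submodule.span k (Set.range φ) := fun i =>
    Fin.cases (by simpa [φ'] using heff) (fun l => by simpa [φ'] using Submodule.smul_mem _ _ (hf l)) i
  choose A hA using fun i => (Submodule.mem_span_range_iff_exists_fun k).1 (hmem i)
  have hv : ∀ l, val P (φ' l.succ) = WithZero.exp (-(J l : ℤ)) := fun l => by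
    simp only [φ', Fin.cons_succ, Algebra.smul_def, map_mul]
    rw [val_const P (inv_ne_zero (hne l)), one_mul, hfv l]
  have hcoef : ∀ l, (ψ (φ' l.succ)).coeff (J l) = 1 := fun l => by
    simp only [φ', Fin.cons_succ, coeff_smul_map]
    exact inv_mul_cancel₀ (hne l)
  let e : Fin (n + 1) → ℕ := Fin.cons 0 J
  have hve : ∀ i, val P (φ' i) = WithZero.exp (-(e i : ℤ)) := fun i =>
    Fin.cases (by simp [φ', e]) (fun l => by simpa [e] using hv l) i
  have heinj : Function.Injective e := by
    intro a b hab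
    refine Fin.cases (fun h => ?_) (fun l h => ?_) a hab
    · refine Fin.cases (fun _ => rfl) (fun m h => ?_) b h
      have := (isJump_hcolAt_iff hK ht hHt hnorm (J m)).1 ((hJ.2 (J m)).1 ⟨m, rfl⟩)
      simp [e] at h; omega
    · refine Fin.cases (fun h => ?_) (fun m h => ?_) b h
      · have := (isJump_hcolAt_iff hK ht hHt hnorm (J l)).1 ((hJ.2 (J l)).1 ⟨l, rfl⟩)
        simp [e] at h; omega
      · simp only [e, Fin.cons_succ] at h
        rw [hJ.1.injective h]
  have hli : LinearIndependent k φ' := by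
    rw [Fintype.linearIndependent_iff]
    intro c hc
    by_contra hne'
    push Not at hne'
    obtain ⟨i, hi⟩ := hne'
    obtain ⟨i₀, hi₀, hmin⟩ := Finset.exists_min_image (Finset.univ.filter fun i => c i ≠ 0) e
      ⟨i, Finset.mem_filter.2 ⟨Finset.mem_univ _, hi⟩⟩
    have hi₀' := (Finset.mem_filter.1 hi₀).2
    have h1 : val P (∑ i, c i • φ' i) = val P (c i₀ • φ' i₀) := by
      refine (val P).map_sum_eq_of_lt (Finset.mem_univ i₀) fun m hm => ?_
      rw [Finset.mem_sdiff, Finset.mem_singleton] at hm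
      by_cases hcm : c m = 0
      · rw [hcm, zero_smul, map_zero, Algebra.smul_def, map_mul, val_const P hi₀', one_mul, hve]
        exact WithZero.exp_pos
      · rw [Algebra.smul_def, Algebra.smul_def, map_mul, map_mul, val_const P hcm, val_const P hi₀',
          one_mul, one_mul, hve, hve, WithZero.exp_lt_exp]
        have := hmin m (Finset.mem_filter.2 ⟨Finset.mem_univ _, hcm⟩)
        have : e i₀ ≠ e m := fun h => hm.2 (heinj h).symm
        omega
    rw [hc, map_zero, Algebra.smul_def, map_mul, val_const P hi₀', one_mul, hve] at h1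
    exact WithZero.exp_ne_zero h1.symm
  have hspan : Submodule.span k (Set.range φ') = Submodule.span k (Set.range φ) := by
    haveI := FiniteDimensional.span_of_finite k (Set.finite_range φ)
    refine Submodule.eq_of_le_of_finrank_eq (Submodule.span_le.2 (Set.range_subset_iff.2 hmem)) ?_
    rw [finrank_span_eq_card hli, finrank_span_eq_card hφ]
  refine ⟨φ', Matrix.of A, rfl, fun i => (hA i).symm, ?_, hli, hspan, fun l => ⟨hv l, hcoef l⟩⟩
  intro hdet
  obtain ⟨v, hv0, hvA⟩ := Matrix.exists_vecMul_eq_zero_iff.2 hdet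
  refine hv0 (funext fun i => Fintype.linearIndependent_iff.1 hli v ?_ i)
  simp_rw [← hA, Finset.smul_sum, smul_smul]
  rw [Finset.sum_comm]
  refine Finset.sum_eq_zero fun j _ => ?_
  rw [← Finset.sum_smul]
  have := congrFun hvA j
  simp only [Matrix.vecMul, dotProduct, Matrix.of_apply, Pi.zero_apply] at this
  rw [this, zero_smul]

end GrothLib.FunFld
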