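import Groth.Agent.Lib.FunFld.Separating
import Groth.Agent.Lib.FunFld.Ext
import Mathlib.FieldTheory.PurelyInseparable.PerfectClosure

/-!
Separable places, separable and constant field extensions of geometric function fields.
-/

set_option autoImplicit false
set_option linter.style.haveILetI false

namespace GrothLib.FunFld

open _root_.FunFld WithZero
open scoped TensorProduct
open IntermediateField (adjoin mem_adjoin_simple_self)

universe u v

section Uniformizer

variable {k : Type u} {K : Type v} [Field k] [Field K] [Algebra k K]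

theorem deg_le_deg_of_pow_mem (h : IsFG k K) {E : IntermediateField k K} [FiniteDimensional E K]
    (hE : IsFG k E)
    (p : ℕ) [Fact p.Prime] [CharP K p]
    (hpow : ∀ y : K, y ^ p ∈ E) {Q : Place k K} {P : Place k E} {e : ℕ} (he : IsOverWith Q P e)
    [Algebra.IsSeparable k (IsLocalRing.ResidueField Q.O)] : Q.deg ≤ P.deg := by
  classical
  set F := IsLocalRing.ResidueField Q.O
  haveI := h.finite_residueField Q
  haveI := hE.finite_residueField P
  have hmem : ∀ z : P.O, ((z : E) : K) ∈ Q.O := fun z => (val_le_one_iff_of_isOverWith he (z : E)).mpr z.2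
  let inc : P.O →ₐ[k] Q.O :=
    { toFun := fun z => ⟨((z : E) : K), hmem z⟩
      map_one' := Subtype.ext rfl
      map_mul' := fun a b => Subtype.ext rfl
      map_zero' := Subtype.ext rfl
      map_add' := fun a b => Subtype.ext rfl
      commutes' := fun c => Subtype.ext rfl }
  let f : P.O →ₐ[k] F := (res Q).comp inc
  have hker : ∀ z : P.O, z ∈ IsLocalRing.maximalIdeal P.O → f z = 0 := by
    intro z hz
    have hz' : P.1 (z : E) < 1 := (res_eq_zero_iff P z).mp ((IsLocalRing.residue_eq_zero_iff z).mpr hz)
    refine (res_eq_zero_iff Q _).mpr ?_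
    show Q.1 (algebraMap E K (z : E)) < 1
    rw [he]
    exact pow_lt_one₀ zero_le' hz' (pos_of_isOverWith he).ne'
  have hsurj : Function.Surjective f := by
    haveI : CharP k p := (Algebra.charP_iff k K p).mpr inferInstance
    haveI : ExpChar k p := ExpChar.prime Fact.out
    have hrange : Algebra.adjoin k ((fun y : F => y ^ p) '' Set.univ) ≤ f.range := by
      refine Algebra.adjoin_le ?_
      rintro _ ⟨y, -, rfl⟩
      obtain ⟨z, rfl⟩ := res_surjective Q y
      let w : E := ⟨(z : K) ^ p, hpow z⟩
      have hw : P.1 w ≤ 1 := (val_le_one_iff_of_isOverWith he w).mp (by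
        show Q.1 ((z : K) ^ p) ≤ 1
        rw [map_pow]; exact pow_le_one₀ zero_le' z.2)
      exact ⟨⟨w, hw⟩, (congrArg (res Q) (Subtype.ext rfl : inc ⟨w, hw⟩ = z ^ p)).trans (map_pow _ _ _)⟩
    have htop : Algebra.adjoin k ((fun y : F => y ^ p) '' Set.univ) = ⊤ := by
      rw [← IntermediateField.adjoin_toSubalgebra_of_isAlgebraic fun y _ => Algebra.IsAlgebraic.isAlgebraic y,
        ← IntermediateField.adjoin_eq_adjoin_pow_expChar_of_isSeparable' k F Set.univ p,
        IntermediateField.adjoin_univ, IntermediateField.top_toSubalgebra]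
    intro y
    exact hrange (htop ▸ Algebra.mem_top)
  let g₀ : IsLocalRing.ResidueField P.O →+* F :=
    Ideal.Quotient.lift (IsLocalRing.maximalIdeal P.O) f.toRingHom hker
  let g : IsLocalRing.ResidueField P.O →ₗ[k] F :=
    { toFun := g₀
      map_add' := map_add _
      map_smul' := fun c y => by
        obtain ⟨z, rfl⟩ := IsLocalRing.residue_surjective y
        rw [RingHom.id_apply]
        erw [Algebra.smul_def, Algebra.smul_def, map_mul]
        rfl }
  have hg : Function.Surjective g := fun y => by
    obtain ⟨z, rfl⟩ := hsurj y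
    exact ⟨IsLocalRing.residue P.O z, rfl⟩
  show Module.finrank k F ≤ _
  rw [← finrank_top k F, ← LinearMap.range_eq_top.mpr hg]
  exact LinearMap.finrank_range_le g

theorem D_uniformizer_ne_zero (hK : IsFunctionField k K) (hg : IsGeometric k K) (P : Place k K)
    [Algebra.IsSeparable k (IsLocalRing.ResidueField P.O)] {t : K} (ht : P.1 t = exp (-1)) :
    KaehlerDifferential.D k K t ≠ 0 := by
  classical
  have ht0 : t ≠ 0 := fun h => by rw [h, map_zero] at ht; exact exp_ne_zero ht.symm
  have htt : Transcendental k t := transcendental_of_val_ne_one P ht0 (by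
    show P.1 t ≠ 1
    rw [ht, ← exp_zero, Ne, exp_inj]; omega)
  obtain ⟨p, hp⟩ := CharP.exists k
  rcases CharP.char_is_prime_or_zero k p with hpp | rfl
  · haveI : Fact p.Prime := ⟨hpp⟩
    haveI : CharP K p := charP_of_injective_algebraMap (algebraMap k K).injective p
    intro hd
    set E := powField k K p
    have htE : t ∈ E := (mem_powField_iff p hK.1 hg t).mpr hd
    obtain ⟨hEff, hfin⟩ := isFunctionField_intermediateField hK E ⟨t, htE, htt⟩
    obtain ⟨P₀, e, -, he⟩ := exists_isOverWith (K := E) P
    have hordP : P.ord t = 1 := by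
      have := ord_eq_of_val_eq P (x := t) (n := -1) ht
      omega
    have he1 : e = 1 := by
      have h1 := ord_of_isOverWith he ⟨t, htE⟩
      change P.ord t = _ at h1
      rw [hordP] at h1
      exact_mod_cast Int.eq_one_of_mul_eq_one_right (Int.natCast_nonneg e) h1.symm
    subst he1
    have hpow : ∀ y : K, y ^ p ∈ E := fun y => IntermediateField.subset_adjoin _ _ ⟨y, rfl⟩
    have huniq : ∀ Q : Place k K, IsOver Q P₀ → Q = P := by
      rintro Q ⟨e', he'⟩
      have hord : ∀ z : K, Q.ord z = e' * P.ord z := fun z => by
        have h1 := ord_of_isOverWith he ⟨z ^ p, hpow z⟩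
        have h2 := ord_of_isOverWith he' ⟨z ^ p, hpow z⟩
        change P.ord (z ^ p) = _ at h1
        change Q.ord (z ^ p) = _ at h2
        rw [ord_pow] at h1 h2
        rw [Nat.cast_one, one_mul] at h1
        rw [← h1] at h2
        have : (p : ℤ) ≠ 0 := by exact_mod_cast hpp.ne_zero
        exact mul_left_cancel₀ this (h2.trans (by ring))
      refine Subtype.ext (Valuation.ext fun z => ?_)
      rcases eq_or_ne z 0 with rfl | hz
      · rw [map_zero, map_zero]
      obtain ⟨π, hπ0, hπ⟩ := exists_val_eq Q (-1)
      have h1 := hord π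
      rw [ord_eq_of_val_eq Q hπ, neg_neg] at h1
      have he'1 : (e' : ℤ) = 1 := Int.eq_one_of_mul_eq_one_right (Int.natCast_nonneg e') h1.symm
      have h2 := hord z
      rw [he'1, one_mul] at h2
      show val Q z = val P z
      rw [val_eq Q hz, val_eq P hz, h2]
    have hsum := (sum_ramIdx (K' := K) (IsFG.of_isFunctionField hEff) P₀).2 {P} fun Q => by
      rw [Finset.mem_singleton]
      exact ⟨fun h => h ▸ ⟨1, he⟩, huniq Q⟩
    rw [Finset.sum_singleton, ramIdx_eq he, one_mul, finrank_powField p hK.1 hg] at hsum
    have hle := deg_le_deg_of_pow_mem hK.1 (IsFG.of_isFunctionField hEff) p hpow he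
    rw [hsum] at hle
    have := IsFG.deg_pos (IsFG.of_isFunctionField hEff) P₀
    nlinarith [hpp.two_le]
  · haveI : CharZero k := CharP.charP_to_charZero k
    haveI := IsFG.finiteDimensional_adjoin hK.1 htt
    haveI : CharZero (adjoin k ({t} : Set K)) :=
      charZero_of_injective_algebraMap (algebraMap k (adjoin k ({t} : Set K))).injective
    exact D_ne_zero_of_isSeparable hK.1 Algebra.IsAlgebraic.isSeparable_of_perfectField

end Uniformizer

section Ext

variable {k k' : Type u} {K K' : Type v} [Field k] [Field k'] [Field K] [Field K']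
    [Algebra k k'] [Algebra k K] [Algebra K K'] [Algebra k' K'] [Algebra k K']
    [IsScalarTower k k' K'] [IsScalarTower k K K']

theorem isGeometric_of_isSeparable [FiniteDimensional K K'] [Algebra.IsSeparable K K']
    (hK : IsFunctionField k K) (hg : IsGeometric k K) (hK' : IsFunctionField k' K') :
    IsGeometric k' K' := by
  obtain ⟨x, hxt, hsep⟩ := exists_separatingElement hK.1 hg
  set L := adjoin k ({x} : Set K)
  let y : K' := algebraMap K K' x
  let L' := adjoin k' ({y} : Set K')
  have hL : ∀ z ∈ L, algebraMap K K' z ∈ L' := by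
    intro z hz
    induction hz using IntermediateField.adjoin_induction with
    | mem w hw => rw [Set.mem_singleton_iff.mp hw]; exact mem_adjoin_simple_self _ _
    | algebraMap c =>
      rw [← IsScalarTower.algebraMap_apply, IsScalarTower.algebraMap_apply k k' K']
      exact IntermediateField.algebraMap_mem _ _
    | add a b _ _ ha hb => rw [map_add]; exact add_mem ha hb
    | inv a _ ha => rw [map_inv₀]; exact inv_mem ha
    | mul a b _ _ ha hb => rw [map_mul]; exact mul_mem ha hb
  haveI : Algebra.IsSeparable L K' := Algebra.IsSeparable.trans L K K'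
  letI : Algebra L L' :=
    (((algebraMap K K').comp (algebraMap L K)).codRestrict L'.toSubalgebra.toSubring fun z => hL z z.2).toAlgebra
  haveI : IsScalarTower L L' K' := IsScalarTower.of_algebraMap_eq fun _ => rfl
  haveI : Algebra.IsSeparable L' K' := Algebra.isSeparable_tower_top_of_isSeparable L L' K'
  have hyt : Transcendental k' y := by
    intro halg
    obtain ⟨x', hx't, hfin'⟩ := hK'.1
    haveI := IsFG.finiteDimensional_adjoin hK.1 hxt
    haveI : FiniteDimensional L K' := FiniteDimensional.trans L K K'
    haveI : FiniteDimensional L' K' := Module.Finite.right L L' K'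
    haveI : Algebra.IsAlgebraic k' L' := (IntermediateField.isAlgebraic_adjoin_iff_isAlgebraic k' K').mpr
      fun z hz => by rw [Set.mem_singleton_iff.mp hz]; exact halg
    exact hx't (IsAlgebraic.restrictScalars k' (Algebra.IsAlgebraic.isAlgebraic (R := L') x'))
  haveI := IsFG.finiteDimensional_adjoin hK'.1 hyt
  exact isGeometric_of_separating hK'.2 hyt ‹_›

theorem baseChange [FiniteDimensional k k']
    (h : Function.Bijective (Algebra.TensorProduct.productMap
      (IsScalarTower.toAlgHom k k' K') (IsScalarTower.toAlgHom k K K')))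
    (hK : IsFunctionField k K) (hg : IsGeometric k K) :
    IsFunctionField k' K' ∧ IsGeometric k' K' := by
  let e : k' ⊗[k] K ≃ₐ[k'] K' :=
    AlgEquiv.ofBijective
      (Algebra.TensorProduct.lift (Algebra.ofId k' K') (IsScalarTower.toAlgHom k K K') fun _ _ => mul_comm _ _)
      (by
        convert h using 1
        funext z
        induction z using TensorProduct.induction_on with
        | zero => simp
        | tmul a b => simp [Algebra.ofId_apply]
        | add a b ha hb => rw [map_add, map_add, ha, hb])
  have hgeo : IsGeometric k' K' := by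
    intro L _ _ _
    let _ : Algebra k L := ((algebraMap k' L).comp (algebraMap k k')).toAlgebra
    haveI : IsScalarTower k k' L := IsScalarTower.of_algebraMap_eq fun _ => rfl
    haveI : FiniteDimensional k L := FiniteDimensional.trans k k' L
    have hT := hg L ‹_›
    exact (((Algebra.TensorProduct.congr (AlgEquiv.refl : L ≃ₐ[k'] L) e.symm).toRingEquiv.trans
      (Algebra.TensorProduct.cancelBaseChange k k' k' L K).toRingEquiv)).toMulEquiv.isField hT
  refine ⟨⟨?_, ?_⟩, hgeo⟩
  · obtain ⟨x, hx, hfin⟩ := hK.1
    haveI : FiniteDimensional K K' := by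
      have : Module.Finite K (K ⊗[k] k') := inferInstance
      let e' : K ⊗[k] k' ≃ₐ[k] K' :=
        (Algebra.TensorProduct.comm k K k').trans (e.restrictScalars k)
      refine Module.Finite.of_surjective
        ({ toFun := e', map_add' := map_add e', map_smul' := fun c z => ?_ } : K ⊗[k] k' →ₗ[K] K') e'.surjective
      rw [RingHom.id_apply, Algebra.smul_def, Algebra.smul_def, map_mul]
      congr 1
      show e (Algebra.TensorProduct.comm k K k' (algebraMap K (K ⊗[k] k') c)) = _
      simp [e, Algebra.TensorProduct.algebraMap_apply]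
    have hy : Transcendental k' (algebraMap K K' x) := fun halg =>
      transcendental_algebraMap (K' := K') hx (IsAlgebraic.restrictScalars k halg)
    refine ⟨algebraMap K K' x, hy, ?_⟩
    set L := adjoin k ({x} : Set K)
    set L' := adjoin k' ({algebraMap K K' x} : Set K')
    haveI : FiniteDimensional L K' := FiniteDimensional.trans L K K'
    have hL : ∀ z ∈ L, algebraMap K K' z ∈ L' := by
      intro z hz
      induction hz using IntermediateField.adjoin_induction with
      | mem w hw => rw [Set.mem_singleton_iff.mp hw]; exact mem_adjoin_simple_self _ _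
      | algebraMap c =>
        rw [← IsScalarTower.algebraMap_apply, IsScalarTower.algebraMap_apply k k' K']
        exact IntermediateField.algebraMap_mem _ _
      | add a b _ _ ha hb => rw [map_add]; exact add_mem ha hb
      | inv a _ ha => rw [map_inv₀]; exact inv_mem ha
      | mul a b _ _ ha hb => rw [map_mul]; exact mul_mem ha hb
    letI : Algebra L L' :=
      (((algebraMap K K').comp (algebraMap L K)).codRestrict L'.toSubalgebra.toSubring fun z => hL z z.2).toAlgebra
    haveI : IsScalarTower L L' K' := IsScalarTower.of_algebraMap_eq fun _ => rfl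
    exact Module.Finite.right L L' K'
  · intro y hy
    let g := minpoly k' y
    have hint : IsIntegral k' y := hy.isIntegral
    haveI := Fact.mk (minpoly.irreducible hint)
    haveI : FiniteDimensional k' (AdjoinRoot g) := (minpoly.monic hint).finite_adjoinRoot
    have hT := hgeo (AdjoinRoot g) ‹_›
    let φ : K' ⊗[k'] AdjoinRoot g →ₐ[K'] K' := Algebra.TensorProduct.lift (AlgHom.id K' K')
      (AdjoinRoot.liftAlgHom g (Algebra.ofId k' K') y (minpoly.aeval k' y)) fun _ _ => mul_comm _ _
    have hT' : IsField (K' ⊗[k'] AdjoinRoot g) :=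
      (Algebra.TensorProduct.comm k' K' (AdjoinRoot g)).toMulEquiv.isField hT
    have hinj : Function.Injective φ := (injective_iff_map_eq_zero φ).mpr fun z hz => by_contra fun h0 => by
      obtain ⟨w, hw⟩ := hT'.mul_inv_cancel h0
      have := congrArg φ hw
      rw [map_mul, hz, zero_mul, map_one] at this
      exact zero_ne_one this
    have hle := LinearMap.finrank_le_finrank_of_injective (f := φ.toLinearMap) hinj
    rw [Module.finrank_baseChange, Module.finrank_self, (AdjoinRoot.powerBasis (minpoly.ne_zero hint)).finrank,
      AdjoinRoot.powerBasis_dim] at hle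
    exact (minpoly.natDegree_eq_one_iff.mp (le_antisymm hle (minpoly.natDegree_pos hint)))

end Ext

end GrothLib.FunFld
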