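import Groth.Agent.Lib.CurveMult.VeryAmpleLine
import Groth.Agent.Lib.FunFld.CliffordEq
import Groth.Agent.Lib.FunFld.Ext

/-!
# Double covers of conics
-/

set_option linter.style.haveILetI false

open WithZero IntermediateField

namespace GrothLib.FunFld.ConicCover

open _root_.FunFld

variable {k K₀ K : Type*} [Field k] [Field K₀] [Algebra k K₀] [Field K] [Algebra k K] [Algebra K₀ K]
  [IsScalarTower k K₀ K]

/-- A canonical system of dimension three does not generate a double cover of a field of genus zero. -/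
theorem not_generates (h₀ : IsFunctionField k K₀) (hg₀ : genus k K₀ = 0) (h : IsFunctionField k K)
    (hg : genus k K = 3) (h2 : Module.finrank K₀ K = 2) {D : Divisor k K} (hD : D.deg = 4) (hl : ell D = 3)
    (htop : adjoin k {q : K | ∃ a ∈ L D, ∃ b ∈ L D, q = a / b} = ⊤) : False := by
  have hfg₀ : IsFG k K₀ := h₀.1
  have hfg : IsFG k K := h.1
  haveI : FiniteDimensional K₀ K := FiniteDimensional.of_finrank_pos (by omega)
  let φ : K₀ →ₐ[k] K := IsScalarTower.toAlgHom k K₀ K
  obtain ⟨C, hC⟩ := exists_isCanonical h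
  obtain ⟨hlC, hdC⟩ := ell_canonical h hC
  have hDC : D - C ∈ prinDivs k K := sub_mem_prinDivs_of_canonical h hC (by omega) (by omega)
  -- an effective divisor of degree two below
  obtain ⟨C₀, hC₀⟩ := exists_isCanonical h₀
  obtain ⟨hlC₀, hdC₀⟩ := ell_canonical h₀ hC₀
  have hneg : (-C₀).deg = 2 := by
    have h1 : ((0 : Divisor k K₀) - C₀).deg = 2 := by rw [deg_sub, deg_zero, hdC₀, hg₀]; norm_num
    rwa [zero_sub] at h1
  have hR := riemann_roch' h₀ hC₀ (-C₀)
  obtain ⟨y, hy0, -, hy⟩ := hfg₀.exists_of_ell_pos (D := -C₀) (by omega)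
  obtain ⟨E₀, hE₀⟩ : ∃ E, E = -C₀ + div k y := ⟨_, rfl⟩
  rw [← hE₀] at hy
  have hd₀ : E₀.deg = 2 := by rw [hE₀, deg_add, hfg₀.deg_div, hneg, add_zero]
  have hl₀ : 3 ≤ ell E₀ := by rw [hE₀, hfg₀.ell_add_div _ hy0]; omega
  haveI := hfg₀.finite_L E₀
  -- a non-constant function
  obtain ⟨u, hu, hut⟩ : ∃ u ∈ L E₀, Transcendental k u := by
    by_contra hno
    push Not at hno
    have hle : L E₀ ≤ Submodule.span k {(1 : K₀)} := fun u hu => by
      obtain ⟨c, rfl⟩ := h₀.2 u (by simpa [Transcendental] using hno u hu)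
      exact Submodule.mem_span_singleton.2 ⟨c, (Algebra.algebraMap_eq_smul_one c).symm⟩
    have := Submodule.finrank_mono hle
    rw [finrank_span_singleton one_ne_zero] at this
    have e : Module.finrank k (L E₀) = ell E₀ := rfl
    omega
  have hu0 : u ≠ 0 := fun h' => hut (h' ▸ isAlgebraic_zero)
  have hut' : Transcendental k (φ u) := FunFld.transcendental_algebraMap (K' := K) hut
  have hfr : Module.finrank (adjoin k ({φ u} : Set K)) K = 2 * Module.finrank (adjoin k ({u} : Set K₀)) K₀ :=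
    (FunFld.finrank_adjoin_algebraMap (K' := K) u).trans (by rw [h2])
  have hle : poleDiv (k := k) u ≤ E₀ := fun P => by
    rw [hfg₀.poleDiv_apply]
    have h1 := hu P
    rw [val_eq P hu0, exp_le_exp] at h1
    have h3 : (0 : ℤ) ≤ E₀ P := hy P
    omega
  have hdeg : (poleDiv (k := k) u).deg ≤ 2 := by
    have := deg_nonneg (sub_nonneg.2 hle)
    rw [deg_sub, hd₀] at this
    omega
  rw [hfg₀.deg_poleDiv hut] at hdeg
  haveI := hfg₀.finiteDimensional_adjoin hut
  have hpos : 0 < Module.finrank (adjoin k ({u} : Set K₀)) K₀ := Module.finrank_pos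
  have hne : ∀ F : IntermediateField k K, F ≤ φ.fieldRange → F ≠ ⊤ := fun F hF hF' => by
    have hs : Function.Surjective φ := fun z => hF (hF' ▸ IntermediateField.mem_top)
    let ε : K₀ ≃ₗ[K₀] K := LinearEquiv.ofBijective (Algebra.linearMap K₀ K) ⟨φ.injective, hs⟩
    rw [← ε.finrank_eq, Module.finrank_self] at h2
    omega
  have hCD : 0 < ell (C - D) := by
    obtain ⟨f, hf0, hf⟩ := (mem_prinDivs_iff hfg _).1 hDC
    have : C - D = -div k f := by rw [hf]; abel
    rw [this, ← zero_add (-div k f), ← hfg.div_inv, hfg.ell_add_div 0 (inv_ne_zero hf0)]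
    haveI := hfg.finite_L (0 : Divisor k K)
    refine Nat.pos_of_ne_zero fun h0 => ?_
    have h1 : (1 : K) ∈ L (0 : Divisor k K) := fun P => by simp
    rw [(Submodule.finrank_eq_zero.1 h0 : L (0 : Divisor k K) = ⊥), Submodule.mem_bot] at h1
    exact one_ne_zero h1
  by_cases hone : Module.finrank (adjoin k ({u} : Set K₀)) K₀ = 1
  · -- a rational conic
    obtain ⟨f, hf⟩ := DoubleLine.ratio_mem h hC hut'
      (by rw [hfg.deg_poleDiv hut', hfr, hone]; rfl) (ell D) D rfl hCD
    refine hne _ ?_ htop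
    refine adjoin_le_iff.2 ?_
    rintro q ⟨a, ha, b, hb, rfl⟩
    obtain ⟨a', ha', rfl⟩ := hf a ha
    obtain ⟨b', hb', rfl⟩ := hf b hb
    rcases eq_or_ne f 0 with rfl | hf0
    · simp only [mul_zero, div_zero]; exact zero_mem _
    · rw [mul_div_mul_right _ _ hf0]
      have hle' : adjoin k ({φ u} : Set K) ≤ φ.fieldRange := adjoin_simple_le_iff.2 ⟨u, rfl⟩
      exact div_mem (hle' ha') (hle' hb')
  have hE₀eq : E₀ = poleDiv (k := k) u := by
    by_contra hne'
    obtain ⟨P, hP⟩ := exists_single_le (sub_nonneg.2 hle) (sub_ne_zero.2 hne')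
    have h1 := deg_nonneg (sub_nonneg.2 hP)
    rw [deg_sub, deg_sub, hfg₀.deg_poleDiv hut, hd₀, deg_single] at h1
    have h3 : 1 ≤ P.deg := hfg₀.deg_pos P
    push_cast at h1
    omega
  obtain ⟨E, hE⟩ : ∃ E, E = poleDiv (k := k) (φ u) := ⟨_, rfl⟩
  have hdE : E.deg = 4 := by
    rw [hE, hfg.deg_poleDiv hut', hfr]
    have : Module.finrank (adjoin k ({u} : Set K₀)) K₀ = 2 := by omega
    rw [this]; rfl
  have hEP : ∀ Q : Place k K, exp (E Q) = max 1 (Q.1 (φ u)) := fun Q => by
    rw [hE, hfg.poleDiv_apply, val_eq Q ((map_ne_zero φ).2 hu0), ← exp_zero]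
    rcases le_total 0 (Q.ord (φ u)) with h' | h'
    · rw [show max (exp (0 : ℤ)) (exp (-Q.ord (φ u))) = exp 0 from max_eq_left (exp_le_exp.2 (by omega))]
      congr 1; omega
    · rw [show max (exp (0 : ℤ)) (exp (-Q.ord (φ u))) = exp (-Q.ord (φ u)) from max_eq_right (exp_le_exp.2 (by omega))]
      congr 1; omega
  have hmap : (L E₀).map φ.toLinearMap ≤ L E := by
    rintro _ ⟨v, hv, rfl⟩ Q
    show Q.1 (φ v) ≤ exp (E Q)
    rw [hEP]
    obtain ⟨P, e, -, hP⟩ := exists_isOverWith (K := K₀) Q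
    have hval : ∀ z : K₀, P.1 z ≤ 1 → Q.1 (φ z) ≤ 1 := fun z hz => (val_le_one_iff_of_isOverWith hP z).2 hz
    have hvP := hv P
    rw [hE₀eq, hfg₀.poleDiv_apply] at hvP
    rcases le_total 0 (P.ord u) with h' | h'
    · refine le_max_of_le_left (hval v (hvP.trans ?_))
      rw [← exp_zero, exp_le_exp]; omega
    · refine le_max_of_le_right ?_
      have h1 : P.1 (v / u) ≤ 1 := by
        rw [map_div₀, div_le_one₀ (zero_lt_iff.2 ((P.1.ne_zero_iff).2 hu0)), val_eq P hu0]
        refine hvP.trans ?_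
        rw [exp_le_exp]; omega
      have h3 := hval _ h1
      rw [map_div₀, map_div₀, div_le_one₀ (zero_lt_iff.2 ((Q.1.ne_zero_iff).2 ((map_ne_zero φ).2 hu0)))] at h3
      exact h3
  haveI := hfg.finite_L E
  have h3E : 3 ≤ ell E := by
    refine le_trans ?_ (Submodule.finrank_mono hmap)
    rw [← LinearEquiv.finrank_eq (Submodule.equivMapOfInjective φ.toLinearMap φ.injective (L E₀))]
    exact hl₀
  have hEC : E - C ∈ prinDivs k K := sub_mem_prinDivs_of_canonical h hC (by omega) (by omega)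
  have hED : E - D ∈ prinDivs k K := by
    have := sub_mem hEC hDC
    rwa [sub_sub_sub_cancel_right] at this
  obtain ⟨f, hf0, hf⟩ := (mem_prinDivs_iff hfg _).1 hED
  have hlE : ell E = 3 := by
    rw [← hl, show E = D + div k f by rw [hf]; abel, hfg.ell_add_div D hf0]
  have hLE : (L E₀).map φ.toLinearMap = L E := Submodule.eq_of_le_of_finrank_le hmap (by
    rw [← LinearEquiv.finrank_eq (Submodule.equivMapOfInjective φ.toLinearMap φ.injective (L E₀))]
    show ell E ≤ ell E₀
    omega)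
  refine hne _ ?_ htop
  refine adjoin_le_iff.2 ?_
  rintro q ⟨a, ha, b, hb, rfl⟩
  have key : ∀ z ∈ L D, z * f⁻¹ ∈ L E := fun z hz Q => by
    have hEQ : E Q = D Q + Q.ord f := by
      have := congrArg (fun A : Divisor k K => A Q) hf
      simp only [Finsupp.sub_apply] at this
      rw [hfg.div_apply] at this
      omega
    rw [map_mul, map_inv₀, val_eq Q hf0, ← exp_neg, neg_neg, hEQ, exp_add]
    exact mul_le_mul' (hz Q) le_rfl
  obtain ⟨a', -, ha'⟩ := (hLE ▸ key a ha : a * f⁻¹ ∈ (L E₀).map φ.toLinearMap)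
  obtain ⟨b', -, hb'⟩ := (hLE ▸ key b hb : b * f⁻¹ ∈ (L E₀).map φ.toLinearMap)
  have : a / b = φ (a' / b') := by
    rw [map_div₀, show φ a' = _ from ha', show φ b' = _ from hb', mul_div_mul_right _ _ (inv_ne_zero hf0)]
  exact ⟨a' / b', this.symm⟩

end GrothLib.FunFld.ConicCover
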