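import Groth.Agent.Lib.FunFld.InvolutionFix
import Groth.Agent.Lib.FunFld.WeierstrassPts
import Groth.Agent.Lib.FunFld.RR
import Groth.Agent.Lib.FunFld.SplitCount
import Groth.Agent.Lib.FunFld.Linear
import Groth.Agent.S10994
import Groth.Prelude.Def_W4bk4goldsch45

/-!
# The involution exchanging two places of a function field of genus one
-/

set_option autoImplicit false
set_option linter.style.haveILetI false

universe u

namespace GrothLib.FunFld.SwapInvolution

open _root_.FunFld (Place Divisor L ell genus div IsFunctionField prinDivs)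
open IntermediateField (adjoin)
open WithZero
open GrothLib.FunFld

variable {k K : Type u} [Field k] [Field K] [Algebra k K]

theorem eq_self_of_fixed_uniformizer [IsAlgClosed k] (h : IsFG k K) {s : K ≃ₐ[k] K} {P : Place k K}
    (hP : pull s P = P) {w : K} (hw : P.ord w = 1) (hs : s w = w) (z : K) : s z = z := by
  have hw0 : w ≠ 0 := by
    rintro rfl
    simp [_root_.FunFld.Place.ord] at hw
  have hvs : ∀ y, val P (s y) = val P y := fun y => by rw [← val_pull, hP]
  have hvw : val P w = exp (-1 : ℤ) := by rw [val_eq P hw0, hw]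
  have key : ∀ (n : ℕ) (y : K), val P y ≤ 1 → val P (s y - y) ≤ exp (-(n : ℤ)) := by
    intro n
    induction n with
    | zero =>
      intro y hy
      rw [Nat.cast_zero, neg_zero, exp_zero]
      exact ((val P).map_sub _ _).trans (max_le ((hvs y).trans_le hy) hy)
    | succ n ih =>
      intro y hy
      obtain ⟨c, hc⟩ := SplitCount.exists_const (Q := P) (h.deg_eq_one P) hy
      let y' := (y - algebraMap k K c) / w
      have hy' : val P y' ≤ 1 := by
        rw [map_div₀, hvw]
        refine div_le_one_of_le₀ ?_ zero_le
        rw [show (-1 : ℤ) = 0 - 1 by norm_num, le_exp_sub_one_iff, exp_zero]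
        exact hc
      have e : s y - y = w * (s y' - y') := by
        have : y = algebraMap k K c + w * y' := by rw [mul_div_cancel₀ _ hw0]; ring
        conv_lhs => rw [this, map_add, map_mul, AlgEquiv.commutes, hs]
        ring
      rw [e, map_mul, hvw, Nat.cast_succ, neg_add, add_comm, exp_add]
      exact mul_le_mul_of_nonneg_left (ih y' hy') zero_le
  have hint : ∀ y, val P y ≤ 1 → s y = y := fun y hy => by
    by_contra hne
    have h0 : s y - y ≠ 0 := sub_ne_zero.2 hne
    have := key (Int.toNat (P.ord (s y - y)) + 1) y hy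
    rw [val_eq P h0, exp_le_exp] at this
    push_cast at this
    omega
  by_cases hz : val P z ≤ 1
  · exact hint z hz
  · have : val P z⁻¹ ≤ 1 := by
      rw [map_inv₀]
      exact (inv_lt_one₀ (lt_trans zero_lt_one (not_le.1 hz))).2 (not_le.1 hz) |>.le
    have := hint _ this
    rwa [map_inv₀, inv_inj] at this

/-- The poles of an invariant function of degree two are exchanged by the involution. -/
theorem poleDiv_eq_of_pole [IsAlgClosed k] (h : IsFG k K) {s : K ≃ₐ[k] K} (hne : s ≠ 1)
    {w : K} (hs : s w = w) (hd : (poleDiv (k := k) w).deg ≤ 2) {R : Place k K} (hR : R.ord w < 0) :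
    poleDiv (k := k) w = Finsupp.single R 1 + Finsupp.single (pull s R) 1 := by
  classical
  have hord : (pull s R).ord w = R.ord w := by rw [ord_pull, hs]
  refine (h.eq_of_le_of_deg_le ?_ ?_).symm
  · rw [Finsupp.le_def]
    intro Q
    rw [h.poleDiv_apply, Finsupp.add_apply]
    rcases eq_or_ne (pull s R) R with hRR | hRR
    · rw [hRR]
      rcases eq_or_ne R Q with rfl | hQ
      · have h2 : R.ord w ≠ -1 := fun h1 => hne (AlgEquiv.ext fun z =>
          eq_self_of_fixed_uniformizer h hRR (w := w⁻¹) (by rw [ord_inv, h1]; norm_num)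
            (by rw [map_inv₀, hs]) z)
        rw [Finsupp.single_eq_same]
        omega
      · rw [Finsupp.single_eq_of_ne' hQ]
        simp
    · rcases eq_or_ne R Q with rfl | hQ
      · rw [Finsupp.single_eq_same, Finsupp.single_eq_of_ne' hRR]
        omega
      · rw [Finsupp.single_eq_of_ne' hQ]
        rcases eq_or_ne (pull s R) Q with rfl | hQ'
        · rw [Finsupp.single_eq_same, hord]
          omega
        · rw [Finsupp.single_eq_of_ne' hQ']
          simp
  · rw [deg_add, deg_single, deg_single, h.deg_eq_one, h.deg_eq_one]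
    push_cast
    linarith

theorem exists_swap [IsAlgClosed k] (hK : IsFunctionField k K) (hg : genus k K = 1)
    (hsep : ∀ x : K, Module.finrank (adjoin k ({x} : Set K)) K = 2 →
      Algebra.IsSeparable (adjoin k ({x} : Set K)) K) (P Q : Place k K) :
    ∃ s : K ≃ₐ[k] K, s ≠ 1 ∧ (∀ z, s (s z) = z) ∧ pull s P = Q ∧
      ∀ R : Place k K, (Finsupp.single R 1 + Finsupp.single (pull s R) 1) -
        (Finsupp.single P 1 + Finsupp.single Q 1) ∈ prinDivs k K := by
  classical
  have h : IsFG k K := hK.1
  set D : Divisor k K := Finsupp.single P 1 + Finsupp.single Q 1 with hD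
  have hdD : D.deg = 2 := by simp [hD, h.deg_eq_one]
  have hell : ell D = 2 := by
    have := ell_eq_of_deg_ge hK (D := D) (by rw [hdD, hg]; norm_num)
    rw [hdD, hg] at this
    push_cast at this
    omega
  obtain ⟨f, hfD, hfc⟩ : ∃ f ∈ L D, f ∉ Set.range (algebraMap k K) := by
    by_contra hc
    push Not at hc
    have hle : L D ≤ L (0 : Divisor k K) := fun x hx => by
      rw [L_zero_eq_one hK, Submodule.mem_one]
      obtain ⟨c, hc'⟩ := hc x hx
      exact ⟨c, hc'⟩
    haveI := h.finite_L (0 : Divisor k K)
    have := Submodule.finrank_mono hle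
    have h0 := ell_zero hK
    simp only [ell] at h0 hell
    omega
  have hft : Transcendental k f := transcendental_of_not_mem hK hfc
  have hf0 : f ≠ 0 := fun h0 => hfc ⟨0, by rw [h0, map_zero]⟩
  have hfD' := (mem_L_iff_ord hf0).1 hfD
  have hle : poleDiv (k := k) f ≤ D := by
    rw [Finsupp.le_def]
    intro R
    rw [h.poleDiv_apply]
    have h1 := hfD' R
    have h2 : 0 ≤ D R := by
      rw [hD, Finsupp.add_apply, Finsupp.single_apply, Finsupp.single_apply]
      split_ifs <;> norm_num
    omega
  haveI := h.finiteDimensional_adjoin hft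
  have hdeg := h.deg_poleDiv hft
  have hn2 : Module.finrank (adjoin k ({f} : Set K)) K = 2 := by
    have h1 := deg_mono hle
    rw [hdeg, hdD] at h1
    have h2 : 0 < Module.finrank (adjoin k ({f} : Set K)) K := Module.finrank_pos
    by_contra hne
    have h3 : Module.finrank (adjoin k ({f} : Set K)) K = 1 := by omega
    have htop : adjoin k ({f} : Set K) = ⊤ :=
      adjoin_eq_top_of_deg_poleDiv h hft (by rw [hdeg, h3]; norm_num)
    have := ((Groth.Agent.S10994.result k K hK).2 ⟨f, htop⟩).1
    omega
  have hpole : poleDiv (k := k) f = D := h.eq_of_le_of_deg_le hle (by rw [hdeg, hdD, hn2]; norm_num)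
  haveI := hsep f hn2
  obtain ⟨s, hs1, hinv, hsf⟩ := InvolutionFix.exists_involution hn2
  have hPneg : P.ord f < 0 := by
    have h1 := congrArg (fun E : Divisor k K => E P) hpole
    simp only [h.poleDiv_apply, hD, Finsupp.add_apply, Finsupp.single_eq_same] at h1
    rw [Finsupp.single_apply] at h1
    split_ifs at h1 <;> omega
  have hPQ := poleDiv_eq_of_pole h hs1 hsf (by rw [hdeg, hn2]; norm_num) hPneg
  rw [hpole, hD] at hPQ
  have hQ : pull s P = Q := (Finsupp.single_left_injective (one_ne_zero (α := ℤ)) (add_left_cancel hPQ)).symm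
  refine ⟨s, hs1, hinv, hQ, fun R => ?_⟩
  rcases lt_or_ge (R.ord f) 0 with hR | hR
  · have := poleDiv_eq_of_pole h hs1 hsf (by rw [hdeg, hn2]; norm_num) hR
    rw [hpole] at this
    rw [← this, sub_self]
    exact zero_mem _
  · obtain ⟨c, hc⟩ := SplitCount.exists_const (Q := R) (h.deg_eq_one R) (y := f) ((val_le_one_iff R hf0).2 hR)
    set g := f - algebraMap k K c with hgdef
    have hg0 : g ≠ 0 := fun h0 => hfc ⟨c, (sub_eq_zero.1 h0).symm⟩
    have hgs : s g = g := by rw [hgdef, map_sub, hsf, AlgEquiv.commutes]
    have hgpole : poleDiv (k := k) g = D := by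
      rw [← hpole]
      ext S
      rw [h.poleDiv_apply, h.poleDiv_apply]
      rcases lt_or_ge (S.ord f) 0 with hS | hS
      · have hv : val S g = val S f := by
          refine (val S).map_sub_eq_of_lt_left ?_
          refine (val_le_one_of_const S c).trans_lt ?_
          rw [val_eq S hf0, ← exp_zero, exp_lt_exp]
          omega
        rw [val_eq S hg0, val_eq S hf0] at hv
        have := exp_injective hv
        omega
      · have hv : val S g ≤ 1 := ((val S).map_sub _ _).trans
          (max_le ((val_le_one_iff S hf0).2 hS) (val_le_one_of_const S c))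
        have := (val_le_one_iff S hg0).1 hv
        omega
    have hediv : div k g = poleDiv (k := k) g⁻¹ - poleDiv (k := k) g := by
      ext S
      rw [Finsupp.sub_apply, h.poleDiv_apply, h.poleDiv_apply, h.div_apply, ord_inv]
      omega
    have hz : (poleDiv (k := k) g⁻¹).deg ≤ 2 := by
      have := congrArg Divisor.deg hediv
      rw [h.deg_div, deg_sub, hgpole, hdD] at this
      omega
    have hzero := poleDiv_eq_of_pole h hs1 (w := g⁻¹) (R := R) (by rw [map_inv₀, hgs]) hz
      (by rw [ord_inv]; have := (val_lt_one_iff R hg0).1 hc; omega)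
    refine AddSubgroup.subset_closure ⟨g, ?_⟩
    rw [hediv, hgpole, hzero]

end GrothLib.FunFld.SwapInvolution
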