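import Groth.Agent.Lib.FunFld.Ext
import Mathlib.RingTheory.Localization.Module
import Mathlib.LinearAlgebra.FreeModule.PID
import Mathlib.LinearAlgebra.Dimension.OrzechProperty

/-! The integral closure of the local ring of a place in a finite extension is finite. -/

namespace GrothLib.FunFld

open _root_.FunFld WithZero

section Approx

variable {k K : Type*} [Field k] [Field K] [Algebra k K]

theorem mem_finsetInf_ball (S : Finset (Place k K)) (n : Place k K → ℤ) (x : K) :
    x ∈ S.inf (fun Q => ball Q (n Q)) ↔ ∀ Q ∈ S, val Q x ≤ exp (n Q) := by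
  simp only [Submodule.mem_finsetInf, mem_ball]

/-- Approximation, as a codimension count. -/
theorem hasCodim_finsetInf_ball (h : IsFG k K) (S : Finset (Place k K)) (a : Place k K → ℤ)
    (e : Place k K → ℕ) :
    HasCodim (S.inf fun Q => ball Q (a Q)) (S.inf fun Q => ball Q (a Q + e Q))
      (∑ Q ∈ S, e Q * Q.deg) := by
  classical
  induction S using Finset.induction with
  | empty => simpa using HasCodim.refl (⊤ : Submodule k K)
  | insert R S hR ih =>
    rw [Finset.inf_insert, Finset.inf_insert, Finset.sum_insert hR]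
    have hyR : ∀ (m : ℤ) (x z : K), ∃ y, val R (y - x) ≤ exp m ∧
        ∀ Q ∈ S, val Q (y - z) ≤ exp (a Q) := fun m x z => by
      obtain ⟨y, hy⟩ := exists_approx (insert R S) (fun Q => if Q = R then x else z)
        (fun Q => if Q = R then m else a Q)
      refine ⟨y, by simpa using hy R (Finset.mem_insert_self R S), fun Q hQ => ?_⟩
      have hne : Q ≠ R := fun e => hR (e ▸ hQ)
      simpa [hne] using hy Q (Finset.mem_insert_of_mem hQ)
    set s₀ := S.inf fun Q => ball Q (a Q) with hs₀
    set s₁ := S.inf fun Q => ball Q (a Q + e Q) with hs₁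
    have := h.finite_residueField R
    obtain ⟨m₁, m₂, c1, c2, hm⟩ := (hasCodim_ball R (a R) (e R)).modular s₀
    have hsup : ball R (a R) ⊔ s₀ = ball R (a R + e R) ⊔ s₀ := by
      refine le_antisymm (sup_le_sup_right (ball_mono R (by omega)) _) (sup_le ?_ le_sup_right)
      intro x _
      obtain ⟨y, hy1, hy2⟩ := hyR (a R) x 0
      rw [← sub_add_cancel x y]
      refine add_mem (Submodule.mem_sup_left ?_) (Submodule.mem_sup_right ?_)
      · rw [mem_ball, (val R).map_sub_swap]; exact hy1
      · rw [hs₀, mem_finsetInf_ball]; exact fun Q hQ => by simpa using hy2 Q hQ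
    have hm2 : m₂ = 0 := by
      rw [hsup] at c2
      exact c2.unique (HasCodim.refl _)
    obtain ⟨n₁, n₂, d1, d2, hn⟩ := ih.modular (ball R (a R + e R))
    have hsup' : s₀ ⊔ ball R (a R + e R) = s₁ ⊔ ball R (a R + e R) := by
      refine le_antisymm (sup_le_sup_right ih.le _) (sup_le ?_ le_sup_right)
      intro x hx
      obtain ⟨y, hy1, hy2⟩ := hyR (a R + e R) 0 x
      rw [← sub_add_cancel x y]
      refine add_mem (Submodule.mem_sup_left ?_) (Submodule.mem_sup_right ?_)
      · rw [hs₀, mem_finsetInf_ball]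
        exact fun Q hQ => by rw [(val Q).map_sub_swap]; exact hy2 Q hQ
      · rw [mem_ball]; simpa using hy1
    have hn2 : n₂ = 0 := by
      rw [hsup'] at d2
      exact d2.unique (HasCodim.refl _)
    subst hm2 hn2
    rw [inf_comm s₀, inf_comm s₁] at d1
    have := c1.trans d1
    rwa [show m₁ + n₁ = e R * R.deg + ∑ Q ∈ S, e Q * Q.deg by omega] at this

/-- The local ring of a place is principal. -/
theorem isPrincipalIdealRing_O (P : Place k K) : IsPrincipalIdealRing P.O := by
  refine ⟨fun I => ?_⟩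
  by_cases hI : I = ⊥
  · exact hI ▸ ⟨⟨0, by simp⟩⟩
  obtain ⟨x, hxI, hx⟩ := Submodule.exists_mem_ne_zero_of_ne_bot hI
  classical
  have hex : ∃ n : ℕ, ∃ y ∈ I, (y : K) ≠ 0 ∧ (P.ord (y : K)).toNat = n :=
    ⟨_, x, hxI, by simpa using hx, rfl⟩
  obtain ⟨y, hyI, hy0, hy⟩ := Nat.find_spec hex
  refine ⟨⟨y, le_antisymm (fun z hz => ?_) ((Ideal.span_singleton_le_iff_mem I).2 hyI)⟩⟩
  rw [Submodule.mem_span_singleton]
  by_cases hz0 : (z : K) = 0
  · exact ⟨0, Subtype.ext (by simp [hz0])⟩
  have hmin : Nat.find hex ≤ (P.ord (z : K)).toNat := Nat.find_min' hex ⟨z, hz, hz0, rfl⟩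
  have h1 : 0 ≤ P.ord (y : K) := (val_le_one_iff P hy0).1 y.2
  have h2 : 0 ≤ P.ord (z : K) := (val_le_one_iff P hz0).1 z.2
  refine ⟨⟨(z : K) / (y : K), ?_⟩, Subtype.ext (div_mul_cancel₀ _ hy0)⟩
  rw [mem_O_iff, map_div₀, val_eq P hz0, val_eq P hy0,
    div_le_one₀ (zero_lt_iff.2 exp_ne_zero), exp_le_exp]
  omega

end Approx

variable {k K K' : Type*} [Field k] [Field K] [Field K'] [Algebra k K] [Algebra K K'] [Algebra k K']
  [IsScalarTower k K K'] [FiniteDimensional K K']

theorem val_smul_O {P : Place k K} [Algebra P.O K'] [IsScalarTower P.O K K'] (c : P.O) (x : K') :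
    c • x = algebraMap K K' (c : K) * x := by
  rw [Algebra.smul_def, IsScalarTower.algebraMap_apply P.O K K']
  rfl

/-- An integral element is integral at every place above. -/
theorem val_le_one_of_isIntegral {P : Place k K} [Algebra P.O K'] [IsScalarTower P.O K K']
    {Q : Place k K'} (hQ : IsOver Q P) {x : K'} (hx : IsIntegral P.O x) : val Q x ≤ 1 := by
  by_contra hlt
  rw [not_le] at hlt
  obtain ⟨e, he⟩ := hQ
  obtain ⟨p, hp, hev⟩ := hx
  have hcoef : ∀ i, val Q (algebraMap P.O K' (p.coeff i)) ≤ 1 := fun i => by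
    rw [IsScalarTower.algebraMap_apply P.O K K']
    exact (val_le_one_iff_of_isOverWith he _).2 (p.coeff i).2
  rw [Polynomial.eval₂_eq_sum_range, Finset.sum_range_succ] at hev
  have hne : val Q x ^ p.natDegree ≠ 0 := pow_ne_zero _ (ne_zero_of_lt hlt)
  have hlast : val Q (algebraMap P.O K' (p.coeff p.natDegree) * x ^ p.natDegree) =
      val Q x ^ p.natDegree := by
    rw [hp.coeff_natDegree, map_one, one_mul, map_pow]
  have hsum : val Q (∑ i ∈ Finset.range p.natDegree, algebraMap P.O K' (p.coeff i) * x ^ i) <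
      val Q x ^ p.natDegree := (val Q).map_sum_lt hne fun i hi => by
    rw [map_mul, map_pow]
    exact (mul_le_of_le_one_left' (hcoef i)).trans_lt
      (pow_lt_pow_right₀ hlt (Finset.mem_range.1 hi))
  have := (val Q).map_add_eq_of_lt_right (lt_of_lt_of_eq hsum hlast.symm)
  rw [hev, map_zero, hlast] at this
  exact hne this.symm

/-- The integral closure is the intersection of the valuation rings above, and is finite. -/
theorem exists_lattice (h : IsFG k K) (P : Place k K) [Algebra P.O K'] [IsScalarTower P.O K K'] :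
    ∃ M : Submodule P.O K', M.FG ∧
      ∀ x : K', x ∈ M ↔ ∀ Q : Place k K', IsOver Q P → val Q x ≤ 1 := by
  classical
  obtain ⟨hfin, hsum⟩ := sum_ramIdx (K' := K') h P
  have hmem : ∀ Q, Q ∈ hfin.toFinset ↔ IsOver Q P := fun Q => hfin.mem_toFinset
  set S := hfin.toFinset
  have hS : (∑ Q ∈ S, ramIdx Q P * Q.deg) = Module.finrank K K' * P.deg := hsum S hmem
  have h' : IsFG k K' := isFG_extension (K := K) h
  have hle : ∀ (Q : Place k K') (_ : IsOver Q P) (c : P.O), val Q (algebraMap K K' (c : K)) ≤ 1 :=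
    fun Q hQ c => (val_le_one_iff_of_isOverWith hQ.choose_spec _).2 c.2
  let A : Submodule P.O K' :=
    { carrier := {x | ∀ Q : Place k K', IsOver Q P → val Q x ≤ 1}
      add_mem' := fun {x y} hx hy Q hQ => ((val Q).map_add x y).trans (max_le (hx Q hQ) (hy Q hQ))
      zero_mem' := fun Q _ => by simp
      smul_mem' := fun c x hx Q hQ => by
        rw [val_smul_O, map_mul]
        exact mul_le_one' (hle Q hQ c) (hx Q hQ) }
  have hA : ∀ x, x ∈ A ↔ ∀ Q ∈ S, val Q x ≤ 1 := fun x =>
    ⟨fun hx Q hQ => hx Q ((hmem Q).1 hQ), fun hx Q hQ => hx Q ((hmem Q).2 hQ)⟩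
  obtain ⟨π, hπ0, hπ⟩ := exists_val_eq P (-1)
  have hπO : π ∈ P.O := by rw [mem_O_iff, hπ, ← exp_zero, exp_le_exp]; omega
  set ϖ : P.O := ⟨π, hπO⟩ with hϖ
  set t := algebraMap K K' π with ht
  have ht0 : t ≠ 0 := by simpa [ht] using hπ0
  have hvt : ∀ Q ∈ S, val Q t = exp (-(ramIdx Q P : ℤ)) := fun Q hQ => by
    rw [val_eq Q ht0, ht, ord_of_isOverWith (ramIdx_spec ((hmem Q).1 hQ)),
      ord_eq_of_val_eq P hπ]
    congr 1; ring
  -- the count modulo `π`
  set I₁ := S.inf fun Q => ball Q (-(ramIdx Q P : ℤ) + ramIdx Q P) with hI₁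
  set I₀ := S.inf fun Q => ball Q (-(ramIdx Q P : ℤ)) with hI₀
  have hc : HasCodim I₀ I₁ (Module.finrank K K' * P.deg) :=
    hS ▸ hasCodim_finsetInf_ball h' S (fun Q => -(ramIdx Q P : ℤ)) (fun Q => ramIdx Q P)
  have hI1 : ∀ x, x ∈ I₁ ↔ x ∈ A := fun x => by
    rw [hI₁, mem_finsetInf_ball, hA]; simp
  have hI0 : ∀ x, x ∈ I₀ ↔ ∃ y ∈ A, ϖ • y = x := fun x => by
    rw [hI₀, mem_finsetInf_ball]
    constructor
    · intro hx
      refine ⟨x / t, (hA _).2 fun Q hQ => ?_, ?_⟩
      · rw [map_div₀, div_le_one₀ (zero_lt_iff.2 ((val Q).ne_zero_iff.2 ht0)), hvt Q hQ]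
        exact hx Q hQ
      · rw [val_smul_O]; exact mul_div_cancel₀ x ht0
    · rintro ⟨y, hy, rfl⟩ Q hQ
      rw [val_smul_O, map_mul, show algebraMap K K' (ϖ : K) = t from rfl, hvt Q hQ]
      exact mul_le_of_le_one_right' ((hA y).1 hy Q hQ)
  have := hc.finite
  let qb := Module.finBasisOfFinrankEq k _ hc.finrank_eq
  choose bI hbI using fun i => Submodule.Quotient.mk_surjective _ (qb i)
  set M := Submodule.span P.O (Set.range fun i => (bI i : K')) with hM
  have hMA : M ≤ A := by
    rw [hM, Submodule.span_le]; rintro _ ⟨i, rfl⟩; exact (hI1 _).1 (bI i).2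
  have : Module.Finite P.O M := Module.Finite.span_of_finite P.O (Set.finite_range _)
  have : IsPrincipalIdealRing P.O := isPrincipalIdealRing_O P
  have htf : Module.IsTorsionFree P.O K' := by
    constructor
    intro r hr x y hxy
    simp only [val_smul_O] at hxy
    refine mul_left_cancel₀ ?_ hxy
    have : (r : K) ≠ 0 := fun e => hr.ne_zero (Subtype.ext e)
    simpa using this
  have : Module.Free P.O M := Module.free_of_finite_type_torsion_free'
  let β := Module.finBasis P.O M
  set r := Module.finrank P.O M with hr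
  have hli : LinearIndependent P.O fun i => (β i : K') :=
    β.linearIndependent.map' M.subtype (Submodule.ker_subtype M)
  have hrn : r ≤ Module.finrank K K' := by
    simpa using ((LinearIndependent.iff_fractionRing P.O K).1 hli).fintype_card_le_finrank
  -- residues
  have := h.finite_residueField P
  let rb := Module.finBasisOfFinrankEq k (IsLocalRing.ResidueField P.O) (show _ = P.deg from rfl)
  choose s hs using fun a => res_surjective P (rb a)
  have hdec : ∀ c : P.O, ∃ (l : Fin P.deg → k) (c' : P.O),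
      c = (∑ a, algebraMap k P.O (l a) * s a) + ϖ * c' := fun c => by
    refine ⟨fun a => rb.repr (res P c) a, ?_⟩
    set d := c - ∑ a, algebraMap k P.O (rb.repr (res P c) a) * s a with hd
    have hd0 : res P d = 0 := by
      rw [hd, map_sub, map_sum, sub_eq_zero]
      conv_lhs => rw [← rb.sum_repr (res P c)]
      exact Finset.sum_congr rfl fun a _ => (Algebra.smul_def (R := k) _ (rb a)).trans
        (by rw [map_mul, AlgHom.commutes, hs])
    rw [res_eq_zero_iff] at hd0
    rw [← exp_zero, ← le_exp_sub_one_iff] at hd0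
    refine ⟨⟨(d : K) / π, ?_⟩, ?_⟩
    · rw [mem_O_iff, map_div₀, hπ, div_le_one₀ (zero_lt_iff.2 exp_ne_zero)]
      simpa using hd0
    · rw [show ϖ * ⟨(d : K) / π, _⟩ = d from Subtype.ext (mul_div_cancel₀ _ hπ0), hd]
      ring
  have hcomm : ∀ (l : k) (x : K'), l • x = algebraMap K K' (algebraMap k K l) * x := fun l x => by
    rw [Algebra.smul_def, ← IsScalarTower.algebraMap_apply k K K']
  let g : Fin r × Fin P.deg → I₁ := fun p => ⟨s p.2 • (β p.1 : K'),
    (hI1 _).2 (A.smul_mem _ (hMA (β p.1).2))⟩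
  let gq : Fin r × Fin P.deg → _ := fun p =>
    (Submodule.Quotient.mk (g p) : I₁ ⧸ I₀.comap I₁.subtype)
  -- every element of `M` is a combination of `g` modulo `π A`
  have hexp : ∀ (c : Fin r → P.O), ∃ (l : Fin r → Fin P.deg → k) (y : K'), y ∈ A ∧
      (∀ i, ∃ c', c i = (∑ a, algebraMap k P.O (l i a) * s a) + ϖ * c') ∧
      ∑ i, c i • (β i : K') = (∑ i, ∑ a, l i a • (s a • (β i : K'))) + ϖ • y := fun c => by
    choose l c' hc' using fun i => hdec (c i)
    refine ⟨l, ∑ i, c' i • (β i : K'), sum_mem fun i _ => A.smul_mem _ (hMA (β i).2),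
      fun i => ⟨c' i, hc' i⟩, ?_⟩
    rw [Finset.smul_sum, ← Finset.sum_add_distrib]
    refine Finset.sum_congr rfl fun i _ => ?_
    simp only [hcomm, val_smul_O]
    conv_lhs => rw [hc' i]
    push_cast
    simp only [algebraMap_O_coe, Finset.sum_mul, add_mul]
    congr 1
    · exact Finset.sum_congr rfl fun a _ => by ring
    · ring
  have hspan : ⊤ ≤ Submodule.span k (Set.range gq) := by
    rw [← qb.span_eq, Submodule.span_le]
    rintro _ ⟨i, rfl⟩
    rw [← hbI i, SetLike.mem_coe]
    have hmM : (bI i : K') ∈ M := Submodule.subset_span ⟨i, rfl⟩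
    obtain ⟨l, y, hy, -, he⟩ := hexp fun j => β.repr ⟨_, hmM⟩ j
    have he' : (bI i : K') = (∑ i, ∑ a, l i a • (s a • (β i : K'))) + ϖ • y := by
      rw [← he]
      have := congrArg Subtype.val (β.sum_repr ⟨_, hmM⟩)
      rw [Submodule.coe_sum] at this
      exact this.symm
    have : (Submodule.Quotient.mk (bI i) : I₁ ⧸ I₀.comap I₁.subtype) =
        Submodule.Quotient.mk (∑ j, ∑ a, l j a • g (j, a)) := by
      rw [Submodule.Quotient.eq, Submodule.mem_comap, hI0]
      refine ⟨y, hy, ?_⟩
      simp only [map_sub, Submodule.subtype_apply, Submodule.coe_sum, SetLike.val_smul, g]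
      rw [he']; abel
    rw [this]
    simp only [← Submodule.mkQ_apply, map_sum, map_smul]
    exact sum_mem fun j _ => sum_mem fun a _ =>
      Submodule.smul_mem _ _ (Submodule.subset_span ⟨(j, a), rfl⟩)
  have hnd : Module.finrank K K' * P.deg ≤ r * P.deg := by
    have h1 : Module.finrank k ↥(Submodule.span k (Set.range gq)) ≤ _ := finrank_range_le_card gq
    rw [eq_top_iff.2 hspan, finrank_top, hc.finrank_eq] at h1
    simpa using h1
  have hrn' : r = Module.finrank K K' :=
    le_antisymm hrn (Nat.le_of_mul_le_mul_right hnd (h.deg_pos P))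
  have hgli : LinearIndependent k gq :=
    linearIndependent_of_top_le_span_of_card_eq_finrank hspan
      (by rw [Fintype.card_prod, Fintype.card_fin, Fintype.card_fin, hrn', hc.finrank_eq])
  have hsat : ∀ c : Fin r → P.O, (∃ y ∈ A, ϖ • y = ∑ i, c i • (β i : K')) →
      ∀ i, ∃ c', c i = ϖ * c' := by
    rintro c ⟨y₀, hy₀, he₀⟩ i
    obtain ⟨l, y, hy, hl, he⟩ := hexp c
    have hzero : ∑ p : Fin r × Fin P.deg, l p.1 p.2 • gq p = 0 := by
      simp only [gq, ← Submodule.mkQ_apply, ← map_smul, ← map_sum]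
      rw [Submodule.mkQ_apply, Submodule.Quotient.mk_eq_zero, Submodule.mem_comap, hI0]
      refine ⟨y₀ - y, sub_mem hy₀ hy, ?_⟩
      rw [smul_sub, he₀, he]
      simp only [Submodule.subtype_apply, Submodule.coe_sum, SetLike.val_smul, g,
        Fintype.sum_prod_type]
      abel
    have hl0 := Fintype.linearIndependent_iff.1 hgli _ hzero
    obtain ⟨c', hc'⟩ := hl i
    refine ⟨c', ?_⟩
    rw [hc', Finset.sum_eq_zero fun a _ => by rw [hl0 (i, a), map_zero, zero_mul], zero_add]
  -- `K'` is spanned by `β`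
  have hKspan := ((LinearIndependent.iff_fractionRing P.O K).1 hli).span_eq_top_of_card_eq_finrank'
    (by simpa using hrn')
  refine ⟨M, Submodule.fg_span (Set.finite_range _), fun x => ⟨fun hx => hMA hx, fun hx => ?_⟩⟩
  obtain ⟨m, hm⟩ : ∃ m : ℕ, ϖ ^ m • x ∈ M := by
    have hxs : x ∈ Submodule.span K (Set.range fun i => (β i : K')) := hKspan ▸ Submodule.mem_top
    clear hx
    induction hxs using Submodule.span_induction with
    | mem z hz => obtain ⟨i, rfl⟩ := hz; exact ⟨0, by rw [pow_zero, one_smul]; exact (β i).2⟩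
    | zero => exact ⟨0, by rw [smul_zero]; exact zero_mem _⟩
    | add z w _ _ hz hw =>
      obtain ⟨a, ha⟩ := hz
      obtain ⟨b, hb⟩ := hw
      refine ⟨a + b, ?_⟩
      rw [smul_add]
      refine add_mem ?_ ?_
      · rw [add_comm, pow_add, mul_smul]; exact M.smul_mem _ ha
      · rw [pow_add, mul_smul]; exact M.smul_mem _ hb
    | smul c z _ hz =>
      obtain ⟨a, ha⟩ := hz
      by_cases hc0 : c = 0
      · exact ⟨0, by rw [hc0, zero_smul, smul_zero]; exact zero_mem _⟩
      refine ⟨(-P.ord c).toNat + a, ?_⟩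
      have hcO : π ^ (-P.ord c).toNat * c ∈ P.O := by
        rw [mem_O_iff, map_mul, map_pow, hπ, val_eq P hc0, ← exp_nsmul, ← exp_add, ← exp_zero,
          exp_le_exp]
        simp only [nsmul_eq_mul]
        omega
      rw [show ϖ ^ ((-P.ord c).toNat + a) • c • z = (⟨_, hcO⟩ : P.O) • (ϖ ^ a • z) by
        simp only [val_smul_O, Algebra.smul_def (R := K), SubmonoidClass.coe_pow, map_pow, map_mul,
          MulMemClass.coe_mul, hϖ, pow_add]
        ring]
      exact M.smul_mem _ ha
  induction m with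
  | zero => simpa using hm
  | succ m ih =>
    refine ih ?_
    let c : Fin r → P.O := fun i => β.repr ⟨_, hm⟩ i
    have he : ∑ i, c i • (β i : K') = ϖ ^ (m + 1) • x := by
      have := congrArg Subtype.val (β.sum_repr ⟨_, hm⟩)
      rw [Submodule.coe_sum] at this
      exact this
    choose c' hc' using hsat c ⟨ϖ ^ m • x, A.smul_mem _ hx, by rw [he, pow_succ', mul_smul]⟩
    have h2 : ϖ ^ m • x = ∑ i, c' i • (β i : K') := by
      refine mul_left_cancel₀ ht0 ?_
      have h3 : ϖ • (ϖ ^ m • x) = ϖ • ∑ i, c' i • (β i : K') := by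
        rw [← mul_smul, ← pow_succ', ← he, Finset.smul_sum]
        exact Finset.sum_congr rfl fun i _ => by rw [hc' i, mul_smul]
      rwa [val_smul_O, val_smul_O ϖ (∑ i, _)] at h3
    rw [h2]
    exact sum_mem fun i _ => M.smul_mem _ (β i).2

theorem integralClosure_finite (h : IsFG k K) (P : Place k K) [Algebra P.O K']
    [IsScalarTower P.O K K'] : Module.Finite P.O (integralClosure P.O K') := by
  obtain ⟨M, hfg, hM⟩ := exists_lattice (K' := K') h P
  have heq : Subalgebra.toSubmodule (integralClosure P.O K') = M := by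
    refine le_antisymm (fun x hx => (hM x).2 fun Q hQ => val_le_one_of_isIntegral hQ hx) ?_
    intro x hx
    let S : Subalgebra P.O K' := M.toSubalgebra ((hM 1).2 fun Q _ => (map_one _).le)
      fun a b ha hb => (hM _).2 fun Q hQ => by
        rw [map_mul]; exact mul_le_one' ((hM a).1 ha Q hQ) ((hM b).1 hb Q hQ)
    exact IsIntegral.of_mem_of_fg S (by rwa [Submodule.toSubalgebra_toSubmodule]) x hx
  have := Module.Finite.iff_fg.2 hfg
  exact Module.Finite.equiv (LinearEquiv.ofEq M _ heq.symm)

end GrothLib.FunFld
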