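import Groth.Agent.Lib.FunFld.RR
import Mathlib.RingTheory.KrullDimension.Polynomial
import Mathlib.RingTheory.KrullDimension.Field
import Mathlib.RingTheory.Jacobson.Ring
import Mathlib.RingTheory.MvPolynomial.Homogeneous
import Mathlib.RingTheory.Polynomial.UniqueFactorization
import Mathlib.Order.KrullDimension
import Mathlib.Algebra.MvPolynomial.NoZeroDivisors

/-!
The ideal of homogeneous relations of a plane curve is principal.
-/

set_option autoImplicit false
set_option linter.style.haveILetI false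

namespace GrothLib.FunFld

open MvPolynomial

variable {k K : Type*} [Field k] [Field K] [Algebra k K]

/-- There is no chain of five primes in `k[X₀, X₁, X₂]`. -/
theorem no_chain_of_length_four {p₀ p₁ p₂ p₃ p₄ : Ideal (MvPolynomial (Fin 3) k)} (h₀ : p₀.IsPrime)
    (h₁ : p₁.IsPrime) (h₂ : p₂.IsPrime) (h₃ : p₃.IsPrime) (h₄ : p₄.IsPrime) (l₀ : p₀ < p₁) (l₁ : p₁ < p₂)
    (l₂ : p₂ < p₃) (l₃ : p₃ < p₄) : False := by
  let q : LTSeries (PrimeSpectrum (MvPolynomial (Fin 3) k)) :=
    ((((RelSeries.singleton _ ⟨p₀, h₀⟩).snoc ⟨p₁, h₁⟩ l₀).snoc ⟨p₂, h₂⟩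
      (by simpa using (show (⟨p₁, h₁⟩ : PrimeSpectrum (MvPolynomial (Fin 3) k)) < ⟨p₂, h₂⟩ from l₁))).snoc ⟨p₃, h₃⟩
      (by simpa using (show (⟨p₂, h₂⟩ : PrimeSpectrum (MvPolynomial (Fin 3) k)) < ⟨p₃, h₃⟩ from l₂))).snoc ⟨p₄, h₄⟩
      (by simpa using (show (⟨p₃, h₃⟩ : PrimeSpectrum (MvPolynomial (Fin 3) k)) < ⟨p₄, h₄⟩ from l₃))
  have h := Order.LTSeries.length_le_krullDim q
  have hd : ringKrullDim (MvPolynomial (Fin 3) k) = 3 := by
    rw [MvPolynomial.ringKrullDim_of_isNoetherianRing, ringKrullDim_eq_zero_of_field]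
    simp
  rw [ringKrullDim] at hd
  rw [hd] at h
  simp [q] at h
  norm_cast at h

/-- The ideal of homogeneous relations among `1, x, y` is principal. -/
theorem ker_plane_relations (hK : _root_.FunFld.IsFunctionField k K) (x y : K)
    (hxy : IntermediateField.adjoin k ({x, y} : Set K) = ⊤) :
    ∃ f : MvPolynomial (Fin 3) k, Irreducible f ∧ f.IsHomogeneous f.totalDegree ∧
      RingHom.ker (MvPolynomial.aeval fun i => Polynomial.C (![(1 : K), x, y] i) * Polynomial.X) =
        Ideal.span {f} := by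
  classical
  set Θ : MvPolynomial (Fin 3) k →ₐ[k] Polynomial K :=
    MvPolynomial.aeval fun i => Polynomial.C (![(1 : K), x, y] i) * Polynomial.X with hΘ
  set θ : MvPolynomial (Fin 3) k →ₐ[k] K := MvPolynomial.aeval ![(1 : K), x, y] with hθ
  have hcomp : ∀ g, θ g = (Θ g).eval 1 := fun g => by
    have h : ((Polynomial.aeval (1 : K)).restrictScalars k).comp Θ = θ := by
      refine MvPolynomial.algHom_ext fun i => ?_
      simp [hΘ, hθ]
    rw [← h, AlgHom.comp_apply, AlgHom.restrictScalars_apply, Polynomial.coe_aeval_eq_eval]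
  have hlt : RingHom.ker Θ < RingHom.ker θ := by
    refine lt_of_le_of_ne (fun g hg => ?_) fun h => ?_
    · rw [RingHom.mem_ker] at hg ⊢
      rw [hcomp, hg, Polynomial.eval_zero]
    · have h1 : (X 0 - 1 : MvPolynomial (Fin 3) k) ∈ RingHom.ker θ := by simp [hθ, RingHom.mem_ker]
      rw [← h, RingHom.mem_ker] at h1
      have h2 := congrArg (fun p : Polynomial K => p.coeff 1) h1
      simp [hΘ, Polynomial.coeff_one] at h2
  haveI hp1 : (RingHom.ker Θ).IsPrime := RingHom.ker_isPrime _
  haveI hp2 : (RingHom.ker θ).IsPrime := RingHom.ker_isPrime _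
  -- the affine relations do not form a maximal ideal
  have hnmax : ¬ (RingHom.ker θ).IsMaximal := by
    intro hmax
    letI := Ideal.Quotient.field (RingHom.ker θ)
    haveI : Module.Finite k (MvPolynomial (Fin 3) k ⧸ RingHom.ker θ) :=
      finite_of_finite_type_of_isJacobsonRing k _
    have halg : ∀ i, IsAlgebraic k (![(1 : K), x, y] i) := fun i => by
      have h1 : IsAlgebraic k (Ideal.Quotient.mk (RingHom.ker θ) (X i)) := Algebra.IsAlgebraic.isAlgebraic _
      have h2 := h1.algHom (Ideal.kerLiftAlg θ)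
      have h3 : Ideal.kerLiftAlg θ (Ideal.Quotient.mk (RingHom.ker θ) (X i)) = ![(1 : K), x, y] i := by
        rw [Ideal.kerLiftAlg_mk, hθ, aeval_X]
      rwa [h3] at h2
    have hKalg : Algebra.IsAlgebraic k (IntermediateField.adjoin k ({x, y} : Set K)) :=
      IntermediateField.isAlgebraic_adjoin (by
        rintro z (rfl | rfl)
        · exact (halg 1).isIntegral
        · exact (halg 2).isIntegral)
    rw [hxy] at hKalg
    obtain ⟨t, ht, -⟩ := hK.1
    exact ht ((IntermediateField.isAlgebraic_iff (S := ⊤)).mp (hKalg.isAlgebraic ⟨t, trivial⟩))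
  obtain ⟨M, hM, hle⟩ := Ideal.exists_le_maximal _ hp2.ne_top
  have hltM : RingHom.ker θ < M := lt_of_le_of_ne hle fun h => hnmax (h ▸ hM)
  -- the relations are not all trivial
  have hne : RingHom.ker Θ ≠ ⊥ := by
    intro h0
    obtain ⟨w, hwx⟩ : ∃ g : MvPolynomial (Fin 2) k, g ≠ 0 ∧ MvPolynomial.aeval ![x, y] g = 0 := by
      by_contra hall
      push Not at hall
      have hind : AlgebraicIndependent k ![x, y] := by
        rw [algebraicIndependent_iff]
        exact fun g hg => by_contra fun hg0 => hall g hg0 hg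
      have hxt : Transcendental k x := hind.transcendental 0
      haveI := IsFG.finiteDimensional_adjoin hK.1 hxt
      have hy : IsAlgebraic (Algebra.adjoin k ({x} : Set K)) y :=
        IntermediateField.isAlgebraic_adjoin_iff.mp (Algebra.IsAlgebraic.isAlgebraic y)
      have h1 := hind.transcendental_adjoin (s := ({0} : Set (Fin 2))) (i := 1) (by simp)
      rw [Set.image_singleton] at h1
      exact h1 hy
    obtain ⟨hw0, hw⟩ := hwx
    -- homogenize with `X 0`
    set d := w.totalDegree
    set G : MvPolynomial (Fin 3) k := ∑ m ∈ w.support,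
      C (w.coeff m) * X 0 ^ (d - (m 0 + m 1)) * X 1 ^ m 0 * X 2 ^ m 1 with hG
    have hdle : ∀ m ∈ w.support, m 0 + m 1 ≤ d := fun m hm => by
      refine le_trans (le_of_eq ?_) (MvPolynomial.le_totalDegree hm)
      rw [Finsupp.sum_fintype _ _ fun _ => rfl, Fin.sum_univ_two]
    have hGΘ : Θ G = Polynomial.C (MvPolynomial.aeval ![x, y] w) * Polynomial.X ^ d := by
      conv_rhs => rw [w.as_sum]
      rw [hG, map_sum, map_sum, map_sum, Finset.sum_mul]
      refine Finset.sum_congr rfl fun m hm => ?_
      rw [hΘ, aeval_monomial, Finsupp.prod_fintype _ _ (fun _ => pow_zero _)]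
      simp only [map_mul, map_pow, aeval_C, aeval_X, Matrix.cons_val_zero, Matrix.cons_val_one,
        Matrix.cons_val, map_one, one_mul, Fin.prod_univ_two, mul_pow]
      rw [IsScalarTower.algebraMap_apply k K (Polynomial K), Polynomial.algebraMap_eq]
      have : (Polynomial.X : Polynomial K) ^ d = Polynomial.X ^ (d - (m 0 + m 1)) * Polynomial.X ^ (m 0) * Polynomial.X ^ (m 1) := by
        rw [← pow_add, ← pow_add]; congr 1; have := hdle m hm; omega
      rw [this]
      ring
    rw [hw, map_zero, zero_mul, ← RingHom.mem_ker, h0, Ideal.mem_bot] at hGΘ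
    -- dehomogenize
    have h2 := congrArg (MvPolynomial.aeval (![1, X 0, X 1] : Fin 3 → MvPolynomial (Fin 2) k)) hGΘ
    rw [map_zero, hG, map_sum] at h2
    refine hw0 ((w.as_sum).trans ((Finset.sum_congr rfl fun m _ => ?_).trans h2))
    simp only [map_mul, map_pow, aeval_C, aeval_X, Matrix.cons_val_zero, Matrix.cons_val_one,
      Matrix.cons_val, one_pow, mul_one, algebraMap_eq]
    rw [monomial_eq, Finsupp.prod_fintype _ _ (fun _ => pow_zero _), Fin.prod_univ_two]
    ring
  obtain ⟨g, hg, hg0⟩ := Submodule.exists_mem_ne_zero_of_ne_bot hne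
  obtain ⟨f, hfmem, hfirr⟩ : ∃ f ∈ RingHom.ker Θ, Irreducible f := by
    induction g using WfDvdMonoid.induction_on_irreducible with
    | zero => exact absurd rfl hg0
    | unit u hu => exact absurd (Ideal.eq_top_of_isUnit_mem _ hg hu) hp1.ne_top
    | mul a i ha hi ih =>
      rcases hp1.mem_or_mem hg with h | h
      · exact ⟨i, h, hi⟩
      · exact ih h ha
  have hfp : (Ideal.span {f}).IsPrime :=
    (Ideal.span_singleton_prime hfirr.ne_zero).mpr hfirr.prime
  have heq : RingHom.ker Θ = Ideal.span {f} := by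
    by_contra hne'
    refine no_chain_of_length_four (p₀ := ⊥) Ideal.isPrime_bot hfp hp1 hp2 hM.isPrime ?_
      (lt_of_le_of_ne ((Ideal.span_singleton_le_iff_mem _).mpr hfmem) (Ne.symm hne')) hlt hltM
    rw [bot_lt_iff_ne_bot, Ne, Ideal.span_singleton_eq_bot]
    exact hfirr.ne_zero
  refine ⟨f, hfirr, ?_, heq⟩
  -- the top homogeneous component is again a relation
  have hcoef : ∀ (n : ℕ) (q : MvPolynomial (Fin 3) k), q.IsHomogeneous n →
      Θ q = Polynomial.C (θ q) * Polynomial.X ^ n := by
    intro n q hq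
    rw [q.as_sum, map_sum, map_sum, map_sum, Finset.sum_mul]
    refine Finset.sum_congr rfl fun m hm => ?_
    have hdeg : m 0 + m 1 + m 2 = n := by
      have := hq (MvPolynomial.mem_support_iff.mp hm)
      rw [Finsupp.weight_apply, Finsupp.sum_fintype _ _ (fun _ => by simp), Fin.sum_univ_three] at this
      simpa using this
    rw [hΘ, hθ, aeval_monomial, aeval_monomial, Finsupp.prod_fintype _ _ (fun _ => pow_zero _),
      Finsupp.prod_fintype _ _ (fun _ => pow_zero _), Fin.prod_univ_three, Fin.prod_univ_three,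
      IsScalarTower.algebraMap_apply k K (Polynomial K), Polynomial.algebraMap_eq, ← hdeg]
    simp only [mul_pow, map_mul, map_pow, pow_add]
    ring
  set fd := homogeneousComponent f.totalDegree f with hfd
  have hfdmem : fd ∈ RingHom.ker Θ := by
    rw [RingHom.mem_ker, hcoef _ _ (homogeneousComponent_isHomogeneous _ _)]
    have h1 : Θ f = ∑ i ∈ Finset.range (f.totalDegree + 1),
        Polynomial.C (θ (homogeneousComponent i f)) * Polynomial.X ^ i := by
      conv_lhs => rw [← sum_homogeneousComponent f, map_sum]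
      exact Finset.sum_congr rfl fun i _ => hcoef i _ (homogeneousComponent_isHomogeneous _ _)
    have h2 := congrArg (fun p : Polynomial K => p.coeff f.totalDegree) h1
    rw [RingHom.mem_ker.mp hfmem] at h2
    simp only [Polynomial.coeff_zero, Polynomial.finsetSum_coeff, Polynomial.coeff_C_mul_X_pow,
      Finset.sum_ite_eq, Finset.mem_range, Nat.lt_succ_self, if_true] at h2
    rw [← h2, map_zero, zero_mul]
  have hfd0 : fd ≠ 0 := by
    intro h
    obtain ⟨m, hm, hmax⟩ := Finset.exists_mem_eq_sup f.support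
      (MvPolynomial.support_nonempty.mpr hfirr.ne_zero) fun s : Fin 3 →₀ ℕ => s.sum fun _ e => e
    have h3 := congrArg (fun q : MvPolynomial (Fin 3) k => q.coeff m) h
    rw [hfd, coeff_homogeneousComponent, if_pos ?_, coeff_zero] at h3
    · exact MvPolynomial.mem_support_iff.mp hm h3
    · rw [Finsupp.degree_eq_sum, ← Finsupp.sum_fintype m (fun _ e => e) fun _ => rfl]
      exact hmax.symm
  rw [heq, Ideal.mem_span_singleton] at hfdmem
  obtain ⟨h, hh⟩ := hfdmem
  have hh0 : h ≠ 0 := fun h' => hfd0 (by rw [hh, h', mul_zero])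
  have hdeg : h.totalDegree = 0 := by
    have h1 := (homogeneousComponent_isHomogeneous f.totalDegree f).totalDegree hfd0
    rw [← hfd, hh, totalDegree_mul_of_isDomain hfirr.ne_zero hh0] at h1
    omega
  rw [totalDegree_eq_zero_iff_eq_C] at hdeg
  set c := h.coeff 0
  have hc : c ≠ 0 := fun hc0 => hh0 (by rw [hdeg, hc0, C_0])
  have hf : f = C c⁻¹ * fd := by
    rw [hh, hdeg, mul_left_comm, ← C_mul, inv_mul_cancel₀ hc, C_1, mul_one]
  conv => congr; rw [hf]
  exact (homogeneousComponent_isHomogeneous _ _).C_mul _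

end GrothLib.FunFld
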