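import Groth.Agent.Lib.FunFld.LocRing
import Groth.Agent.Lib.FunFld.Conductor
import Groth.Agent.Lib.FunFld.IntClosure
import Groth.Agent.Lib.FunFld.PlaneRelations
import Mathlib.RingTheory.Localization.AtPrime.Basic

/-!
Intersection multiplicity of a curve and a plane model: the order sum over the fibre of a point is the
colength in the local ring of the plane.
-/

set_option autoImplicit false
set_option linter.style.haveILetI false

namespace GrothLib.FunFld.IntMult

open _root_.FunFld WithZero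
open MvPolynomial (X C)

universe u v

variable {k : Type u} {K : Type v} [Field k] [Field K] [Algebra k K]

/-- An injective linear map preserves codimensions. -/
theorem hasCodim_map {V W : Type*} [AddCommGroup V] [Module k V] [AddCommGroup W] [Module k W]
    {A B : Submodule k V} {n : ℕ} (h : HasCodim A B n) (e : V →ₗ[k] W) (he : Function.Injective e) :
    HasCodim (A.map e) (B.map e) n := by
  have := h.finite
  let f : B.map e →ₗ[k] (B ⧸ A.comap B.subtype) :=
    (Submodule.mkQ _).comp (Submodule.equivMapOfInjective e he B).symm.toLinearMap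
  have hf : Function.Surjective f := (Submodule.mkQ_surjective _).comp (Submodule.equivMapOfInjective e he B).symm.surjective
  have := HasCodim.of_linearMap (Submodule.map_mono h.le) f hf fun b => by
    obtain ⟨b, rfl⟩ := (Submodule.equivMapOfInjective e he B).surjective b
    show Submodule.Quotient.mk ((Submodule.equivMapOfInjective e he B).symm _) = (0 : B ⧸ A.comap B.subtype) ↔ _
    rw [LinearEquiv.symm_apply_apply, Submodule.Quotient.mk_eq_zero, Submodule.mem_comap,
      Submodule.coe_equivMapOfInjective_apply]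
    exact ⟨fun hb => ⟨_, hb, rfl⟩, fun ⟨a, ha, hab⟩ => by obtain rfl := he hab; exact ha⟩
  rwa [h.finrank_eq] at this

/-- The relations of a plane model. -/
theorem ker_eq_span [IsAlgClosed k] (hK : IsFunctionField k K) {x y : K}
    (hxy : IntermediateField.adjoin k ({x, y} : Set K) = ⊤) {f : MvPolynomial (Fin 2) k} (hf : Irreducible f)
    (hfxy : MvPolynomial.aeval ![x, y] f = 0) :
    RingHom.ker (MvPolynomial.aeval ![x, y] : MvPolynomial (Fin 2) k →ₐ[k] K) = Ideal.span {f} := by
  set θ : MvPolynomial (Fin 2) k →ₐ[k] K := MvPolynomial.aeval ![x, y] with hθ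
  haveI hp2 : (RingHom.ker θ).IsPrime := RingHom.ker_isPrime _
  have hp1 : (Ideal.span {f}).IsPrime :=
    (Ideal.span_singleton_prime hf.ne_zero).2 (UniqueFactorizationMonoid.irreducible_iff_prime.1 hf)
  have hle : Ideal.span {f} ≤ RingHom.ker θ := (Ideal.span_singleton_le_iff_mem _).2 hfxy
  by_contra hne
  have hlt : Ideal.span {f} < RingHom.ker θ := lt_of_le_of_ne hle (Ne.symm hne)
  have hnmax : ¬ (RingHom.ker θ).IsMaximal := by
    intro hmax
    letI := Ideal.Quotient.field (RingHom.ker θ)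
    haveI : Module.Finite k (MvPolynomial (Fin 2) k ⧸ RingHom.ker θ) :=
      finite_of_finite_type_of_isJacobsonRing k _
    have halg : ∀ i, IsAlgebraic k (![x, y] i) := fun i => by
      have h1 : IsAlgebraic k (Ideal.Quotient.mk (RingHom.ker θ) (X i)) := Algebra.IsAlgebraic.isAlgebraic _
      have h2 := h1.algHom (Ideal.kerLiftAlg θ)
      have h3 : Ideal.kerLiftAlg θ (Ideal.Quotient.mk (RingHom.ker θ) (X i)) = ![x, y] i := by
        rw [Ideal.kerLiftAlg_mk, hθ, MvPolynomial.aeval_X]
      rwa [h3] at h2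
    obtain ⟨⟨t, ht, -⟩, -⟩ := hK
    have hint : Algebra.IsAlgebraic k (IntermediateField.adjoin k ({x, y} : Set K)) :=
      IntermediateField.isAlgebraic_adjoin fun z hz => by
        rcases hz with rfl | rfl
        exacts [(halg 0).isIntegral, (halg 1).isIntegral]
    rw [hxy] at hint
    exact ht ((hint.isAlgebraic (⟨t, IntermediateField.mem_top⟩ : (⊤ : IntermediateField k K))).algHom
      (IntermediateField.val _))
  obtain ⟨M, hM, hle'⟩ := Ideal.exists_le_maximal _ hp2.ne_top
  have l3 : RingHom.ker θ < M := lt_of_le_of_ne hle' fun e => hnmax (e ▸ hM)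
  have l1 : (⊥ : Ideal (MvPolynomial (Fin 2) k)) < Ideal.span {f} := bot_lt_iff_ne_bot.2 fun e =>
    hf.ne_zero (by simpa [Ideal.span_singleton_eq_bot] using e)
  have hd : ringKrullDim (MvPolynomial (Fin 2) k) = 2 := by
    rw [MvPolynomial.ringKrullDim_of_isNoetherianRing, ringKrullDim_eq_zero_of_field]
    simp
  let q : LTSeries (PrimeSpectrum (MvPolynomial (Fin 2) k)) :=
    (((RelSeries.singleton _ ⟨⊥, Ideal.isPrime_bot⟩).snoc ⟨_, hp1⟩ l1).snoc ⟨_, hp2⟩
      (by simpa using (show (⟨_, hp1⟩ : PrimeSpectrum (MvPolynomial (Fin 2) k)) < ⟨_, hp2⟩ from hlt))).snoc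
      ⟨M, hM.isPrime⟩
      (by simpa using (show (⟨_, hp2⟩ : PrimeSpectrum (MvPolynomial (Fin 2) k)) < ⟨M, hM.isPrime⟩ from l3))
  have h := Order.LTSeries.length_le_krullDim q
  rw [ringKrullDim] at hd
  rw [hd] at h
  simp [q] at h
  norm_cast at h

theorem intersection_mult [IsAlgClosed k] (hK : IsFunctionField k K) (x y : K)
    (hxy : IntermediateField.adjoin k ({x, y} : Set K) = ⊤) (f g : MvPolynomial (Fin 2) k)
    (hf : Irreducible f) (hfxy : MvPolynomial.aeval ![x, y] f = 0)
    (hgxy : MvPolynomial.aeval ![x, y] g ≠ 0) (P : Place k K) (c : Fin 2 → k)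
    (hc : ∀ i, P.1 (![x, y] i - algebraMap k K (c i)) < 1)
    (M : Ideal (MvPolynomial (Fin 2) k)) [M.IsMaximal]
    (hM : M = Ideal.span {X 0 - C (c 0), X 1 - C (c 1)}) :
    ∑ᶠ Q ∈ {Q : Place k K | SameImage ![(1 : K), x, y] P Q}, Q.ord (MvPolynomial.aeval ![x, y] g) =
      (Module.finrank k (Localization.AtPrime M ⧸
        Ideal.map (algebraMap (MvPolynomial (Fin 2) k) (Localization.AtPrime M))
          (Ideal.span {f, g})) : ℤ) := by
  classical
  have hfg : IsFG k K := hK.1
  set θ : MvPolynomial (Fin 2) k →ₐ[k] K := MvPolynomial.aeval ![x, y] with hθ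
  set φ : Fin 3 → K := ![(1 : K), x, y] with hφ
  have hφv : ∀ i : Fin 2, val P (![x, y] i) ≤ 1 := fun i => by
    rw [← sub_add_cancel (![x, y] i) (algebraMap k K (c i))]
    exact ((val P).map_add _ _).trans (max_le (hc i).le (P.2.1 _))
  have hj : IsLead φ P 0 := ⟨by simp [hφ], fun i => by
    fin_cases i
    · simp
    · simpa [hφ] using hφv 0
    · simpa [hφ] using hφv 1⟩
  have hrat : ∀ i, φ i / φ 0 = φ i := fun i => by simp [hφ]
  have hchart : ∀ z : K, z ∈ chart k φ 0 ↔ ∃ p, θ p = z := fun z => by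
    have : chart k φ 0 = θ.range := by
      refine le_antisymm (Algebra.adjoin_le ?_) ?_
      · rintro _ ⟨i, rfl⟩
        show φ i / φ 0 ∈ θ.range
        rw [hrat, AlgHom.mem_range]
        fin_cases i
        · exact ⟨1, by simp [hφ]⟩
        · exact ⟨X 0, by simp [hθ, hφ]⟩
        · exact ⟨X 1, by simp [hθ, hφ]⟩
      · rintro _ ⟨p, rfl⟩
        induction p using MvPolynomial.induction_on with
        | C a => simp [hθ]
        | add p q hp hq => simp only [map_add]; exact add_mem hp hq
        | mul_X p i hp =>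
          simp only [map_mul]
          refine mul_mem hp ?_
          have := ratio_mem_chart (k := k) φ i.succ 0
          rw [hrat] at this
          fin_cases i <;> simpa [hθ, hφ] using this
    rw [this, AlgHom.mem_range]
  have hfib : ∀ Q, SameImage φ P Q ↔ InFibre φ 0 P Q := fun Q => sameImage_iff hfg hj
  have hθP : ∀ p, val P (θ p) ≤ 1 := fun p => val_le_one_of_mem_chart hj ((hchart _).2 ⟨p, rfl⟩)
  -- the fibre is finite
  have hfin : {Q : Place k K | SameImage φ P Q}.Finite := by
    have hne : ∃ i, ![x, y] i - algebraMap k K (c i) ≠ 0 := by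
      by_contra hall
      push Not at hall
      obtain ⟨t, ht, -⟩ := hfg
      have hle : IntermediateField.adjoin k ({x, y} : Set K) ≤ ⊥ := by
        rw [IntermediateField.adjoin_le_iff]
        rintro z (rfl | rfl)
        · exact IntermediateField.mem_bot.2 ⟨c 0, (sub_eq_zero.1 (hall 0)).symm⟩
        · exact IntermediateField.mem_bot.2 ⟨c 1, (sub_eq_zero.1 (hall 1)).symm⟩
      rw [hxy] at hle
      obtain ⟨a, ha⟩ := IntermediateField.mem_bot.1 (hle (IntermediateField.mem_top (x := t)))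
      exact ht (ha ▸ isAlgebraic_algebraMap a)
    obtain ⟨i, hi⟩ := hne
    refine (hfg.finite_support_ord (![x, y] i - algebraMap k K (c i))).subset fun Q hQ => ?_
    have h1 := ((hfib Q).1 hQ i.succ).2 (c i)
    rw [hrat] at h1
    have h2 : φ i.succ = ![x, y] i := by fin_cases i <;> simp [hφ]
    rw [h2] at h1
    have h3 := h1 (hc i)
    simp only [Function.mem_support]
    intro h0
    rw [val_eq Q hi, h0, neg_zero, exp_zero] at h3
    exact lt_irrefl _ h3
  set F := hfin.toFinset
  have hF : ∀ Q, Q ∈ F ↔ InFibre φ 0 P Q := fun Q => by rw [hfin.mem_toFinset]; exact hfib Q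
  -- the two rings
  let O : Submodule k K :=
    { carrier := {z | ∃ u w, val P (θ w) = 1 ∧ z * θ w = θ u}
      add_mem' := fun {a b} ⟨u, w, h1, h2⟩ ⟨u', w', h1', h2'⟩ =>
        ⟨u * w' + u' * w, w * w', by rw [map_mul θ, map_mul, h1, h1', one_mul], by
          simp only [map_add, map_mul]; linear_combination θ w' * h2 + θ w * h2'⟩
      zero_mem' := ⟨0, 1, by simp, by simp⟩
      smul_mem' := fun a z ⟨u, w, h1, h2⟩ => ⟨C a * u, w, h1, by
        rw [Algebra.smul_def, map_mul θ, show θ (C a) = algebraMap k K a from MvPolynomial.aeval_C _ _,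
          mul_assoc, h2]⟩ }
  set Ot : Submodule k K := F.inf fun Q => ball Q 0 with hOt
  have hOle : O ≤ Ot := by
    rintro z ⟨u, w, hw, hz⟩
    rw [hOt, mem_finsetInf_ball]
    intro Q hQ
    have hQ' := (hF Q).1 hQ
    obtain ⟨a, haP, haQ⟩ := exists_common_residue hfg hj hQ' ((hchart _).2 ⟨w, rfl⟩)
    have ha : a ≠ 0 := by
      rintro rfl
      rw [map_zero, sub_zero, hw] at haP
      exact lt_irrefl _ haP
    have hwQ : val Q (θ w) = 1 := by
      rw [(val Q).map_eq_of_sub_lt (x := algebraMap k K a) (by rw [val_const Q ha]; exact haQ), val_const Q ha]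
    have huQ : val Q (θ u) ≤ 1 :=
      val_le_one_of_mem_adjoin (by rintro _ ⟨i, rfl⟩; exact (hQ' i).1) ((hchart _).2 ⟨u, rfl⟩)
    rw [exp_zero]
    calc val Q z = val Q (z * θ w) := by rw [map_mul, hwQ, mul_one]
      _ ≤ 1 := by rw [hz]; exact huQ
  -- shifting
  have hshift : ∀ z : K, z ≠ 0 → (∀ Q ∈ F, val Q z ≤ 1) →
      ∃ N : ℕ, (N : ℤ) = ∑ Q ∈ F, Q.ord z ∧ HasCodim (Ot.map (LinearMap.mulLeft k z)) Ot N := by
    intro z hz0 hz
    have hord : ∀ Q ∈ F, 0 ≤ Q.ord z := fun Q hQ => (val_le_one_iff Q hz0).1 (hz Q hQ)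
    refine ⟨∑ Q ∈ F, (Q.ord z).toNat * Q.deg, ?_, ?_⟩
    · push_cast
      exact Finset.sum_congr rfl fun Q hQ => by
        rw [hfg.deg_eq_one Q, Int.toNat_of_nonneg (hord Q hQ)]; simp
    have h1 := hasCodim_finsetInf_ball hfg F (fun Q => -Q.ord z) (fun Q => (Q.ord z).toNat)
    have e1 : (F.inf fun Q => ball Q (-Q.ord z)) = Ot.map (LinearMap.mulLeft k z) := by
      ext w
      rw [mem_finsetInf_ball, Submodule.mem_map]
      simp only [hOt, mem_finsetInf_ball, LinearMap.mulLeft_apply]
      constructor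
      · intro hw
        refine ⟨w / z, fun Q hQ => ?_, mul_div_cancel₀ w hz0⟩
        rw [map_div₀, exp_zero, div_le_one₀ (zero_lt_iff.2 ((val Q).ne_zero_iff.2 hz0)), val_eq Q hz0]
        exact hw Q hQ
      · rintro ⟨v, hv, rfl⟩ Q hQ
        rw [map_mul, val_eq Q hz0]
        exact mul_le_of_le_one_right' (exp_zero (M := ℤ) ▸ hv Q hQ)
    have e2 : (F.inf fun Q => ball Q (-Q.ord z + (Q.ord z).toNat)) = Ot := Finset.inf_congr rfl fun Q hQ => by
      rw [Int.toNat_of_nonneg (hord Q hQ), neg_add_cancel]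
    rwa [e1, e2] at h1
  -- finiteness of the normalisation
  obtain ⟨δ, hδ⟩ : ∃ δ, HasCodim O Ot δ := by
    obtain ⟨cd, hcdA, hcd0, hcd, -⟩ := exists_conductor hK (fun i => φ i / φ 0) ⟨0, by simp [hφ]⟩ (by
      refine top_unique (hxy.ge.trans (IntermediateField.adjoin.mono k _ _ ?_))
      rintro z (rfl | rfl)
      · exact ⟨1, by simp [hφ]⟩
      · exact ⟨2, by simp [hφ]⟩)
    have hcdv : ∀ Q ∈ F, val Q cd ≤ 1 := fun Q hQ =>
      val_le_one_of_mem_adjoin (by rintro _ ⟨i, rfl⟩; exact ((hF Q).1 hQ i).1) hcdA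
    obtain ⟨N, -, hN⟩ := hshift cd hcd0 hcdv
    have hle : Ot.map (LinearMap.mulLeft k cd) ≤ O := by
      rintro _ ⟨v, hv, rfl⟩
      rw [hOt] at hv
      have hreg := mem_locRing_of_regular hfg hj hcd0 hcd (z := cd * v) fun R hR => by
        rw [mul_div_cancel_left₀ v hcd0, ← exp_zero]
        exact (mem_finsetInf_ball F _ v).1 hv R ((hF R).2 hR)
      obtain ⟨u, hu, w, hw, hw1, he⟩ := (inLocRing_iff hj).1 hreg
      obtain ⟨pu, rfl⟩ := (hchart u).1 hu
      obtain ⟨pw, rfl⟩ := (hchart w).1 hw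
      exact ⟨pu, pw, hw1, he⟩
    obtain ⟨m₁, m₂, -, h2, -⟩ := hN.split hle hOle
    exact ⟨m₂, h2⟩
  -- the index argument
  set z := θ g with hz
  have hzv : ∀ Q ∈ F, val Q z ≤ 1 := fun Q hQ =>
    val_le_one_of_mem_adjoin (by rintro _ ⟨i, rfl⟩; exact ((hF Q).1 hQ i).1) ((hchart _).2 ⟨g, rfl⟩)
  obtain ⟨N, hNsum, hN⟩ := hshift z hgxy hzv
  have hzO : O.map (LinearMap.mulLeft k z) ≤ O := by
    rintro _ ⟨v, ⟨u, w, hw, he⟩, rfl⟩
    exact ⟨g * u, w, hw, by
      rw [LinearMap.mulLeft_apply, map_mul θ, ← hz, mul_assoc, he]⟩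
  have htot := (hasCodim_map hδ (LinearMap.mulLeft k z) (mul_right_injective₀ hgxy)).trans hN
  obtain ⟨m, m₂, hm, hm₂, hsum⟩ := htot.split hzO hOle
  have hmN : m = N := by
    have := hm₂.unique hδ
    omega
  subst hmN
  rw [finsum_mem_eq_finite_toFinset_sum _ hfin, ← hNsum]
  congr 1
  rw [← hm.finrank_eq]
  -- the localisation of the plane
  have hMval : ∀ p : (MvPolynomial (Fin 2) k), p ∉ M → val P (θ p) = 1 := by
    intro p hp
    have hMle : ∀ q ∈ M, val P (θ q) < 1 := by
      intro q hq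
      rw [hM, Ideal.mem_span_pair] at hq
      obtain ⟨a, b, rfl⟩ := hq
      simp only [map_add, map_mul, map_sub]
      refine ((val P).map_add _ _).trans_lt (max_lt ?_ ?_) <;> rw [map_mul] <;>
        refine (mul_le_of_le_one_left' (hθP _)).trans_lt ?_
      · simpa [hθ] using hc 0
      · simpa [hθ] using hc 1
    obtain ⟨a, q, hq, hpq⟩ := (Ideal.IsMaximal.exists_inv (I := M) inferInstance hp)
    have h1 : val P (θ a) * val P (θ p) = 1 := by
      rw [← map_mul, ← map_mul θ, eq_sub_of_add_eq hpq, map_sub, map_one]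
      exact (val P).map_one_sub_of_lt (hMle _ hq)
    exact le_antisymm (hθP p) (by
      calc (1 : WithZero (Multiplicative ℤ)) = val P (θ a) * val P (θ p) := h1.symm
        _ ≤ val P (θ p) := mul_le_of_le_one_left' (hθP a))
  have hMval' : ∀ p : (MvPolynomial (Fin 2) k), val P (θ p) = 1 → p ∉ M := fun p hp hmem => by
    rw [hM, Ideal.mem_span_pair] at hmem
    obtain ⟨a, b, rfl⟩ := hmem
    refine (lt_irrefl (1 : WithZero (Multiplicative ℤ))) ?_
    conv_lhs => rw [← hp]
    simp only [map_add, map_mul, map_sub]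
    refine ((val P).map_add _ _).trans_lt (max_lt ?_ ?_) <;> rw [map_mul] <;>
      refine (mul_le_of_le_one_left' (hθP _)).trans_lt ?_
    · simpa [hθ] using hc 0
    · simpa [hθ] using hc 1
  have hunit : ∀ s : M.primeCompl, IsUnit (θ (s : (MvPolynomial (Fin 2) k))) := fun s =>
    IsUnit.mk0 _ fun h0 => by have := hMval _ s.2; rw [h0, map_zero] at this; exact zero_ne_one this
  let T : Localization.AtPrime M →ₐ[k] K := IsLocalization.liftAlgHom (M := M.primeCompl) (f := θ) hunit
  have hT : ∀ p : (MvPolynomial (Fin 2) k), T (algebraMap (MvPolynomial (Fin 2) k) _ p) = θ p := fun p => IsLocalization.lift_eq _ _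
  have hTmk : ∀ (p : (MvPolynomial (Fin 2) k)) (s : M.primeCompl), T (IsLocalization.mk' _ p s) * θ (s : (MvPolynomial (Fin 2) k)) = θ p := fun p s => by
    rw [← hT, ← map_mul, IsLocalization.mk'_spec, hT]
  have hTO : ∀ l, T.toLinearMap l ∈ O := fun l => by
    obtain ⟨⟨p, s⟩, rfl⟩ := IsLocalization.mk'_surjective M.primeCompl l
    exact ⟨p, s, hMval _ s.2, hTmk p s⟩
  let π : Localization.AtPrime M →ₗ[k] O ⧸ (O.map (LinearMap.mulLeft k z)).comap O.subtype :=
    (Submodule.mkQ _).comp (T.toLinearMap.codRestrict O hTO)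
  have hπs : Function.Surjective π := by
    intro q
    obtain ⟨⟨v, u, w, hw, he⟩, rfl⟩ := Submodule.Quotient.mk_surjective _ q
    refine ⟨IsLocalization.mk' _ u (⟨w, hMval' w hw⟩ : M.primeCompl), ?_⟩
    show Submodule.Quotient.mk _ = Submodule.Quotient.mk _
    congr 1
    refine Subtype.ext (mul_right_cancel₀ (hunit ⟨w, hMval' w hw⟩).ne_zero ?_)
    show T _ * θ w = v * θ w
    rw [hTmk u ⟨w, hMval' w hw⟩, he]
  have hker : LinearMap.ker π = (Ideal.map (algebraMap (MvPolynomial (Fin 2) k) (Localization.AtPrime M)) (Ideal.span {f, g})).restrictScalars k := by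
    ext l
    simp only [π, LinearMap.mem_ker, LinearMap.comp_apply, Submodule.mkQ_apply, Submodule.Quotient.mk_eq_zero,
      Submodule.mem_comap, Submodule.restrictScalars_mem, Submodule.coe_subtype, LinearMap.codRestrict_apply,
      AlgHom.toLinearMap_apply, Submodule.mem_map, LinearMap.mulLeft_apply]
    constructor
    · rintro ⟨v, ⟨u, w, hw, he⟩, hl⟩
      obtain ⟨⟨p, s⟩, rfl⟩ := IsLocalization.mk'_surjective M.primeCompl l
      have h1 := hTmk p s
      rw [← hl] at h1
      have h2 : p * w - g * u * (s : (MvPolynomial (Fin 2) k)) ∈ RingHom.ker θ := by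
        rw [RingHom.mem_ker, map_sub, map_mul, map_mul, map_mul, ← hz, ← h1, ← he]; ring
      rw [ker_eq_span hK hxy hf hfxy, Ideal.mem_span_singleton'] at h2
      obtain ⟨r, hr⟩ := h2
      rw [IsLocalization.mk'_mem_map_algebraMap_iff]
      exact ⟨w, hMval' w hw, by
        rw [show w * p = r * f + g * (u * (s : (MvPolynomial (Fin 2) k))) by rw [hr]; ring]
        exact add_mem (Ideal.mul_mem_left _ r (Ideal.subset_span (by simp)))
          (Ideal.mul_mem_right _ _ (Ideal.subset_span (by simp)))⟩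
    · intro hl
      obtain ⟨⟨p, s⟩, rfl⟩ := IsLocalization.mk'_surjective M.primeCompl l
      rw [IsLocalization.mk'_mem_map_algebraMap_iff] at hl
      obtain ⟨w, hw, hwp⟩ := hl
      rw [Ideal.mem_span_pair] at hwp
      obtain ⟨a, b, hab⟩ := hwp
      have hw1 := hMval w hw
      have hwne : θ w ≠ 0 := (hunit ⟨w, hw⟩).ne_zero
      have hsne : θ (s : (MvPolynomial (Fin 2) k)) ≠ 0 := (hunit s).ne_zero
      refine ⟨θ b / (θ w * θ (s : (MvPolynomial (Fin 2) k))), ⟨b, w * s, by rw [map_mul θ, map_mul, hw1, hMval _ s.2, one_mul], by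
        rw [map_mul θ, div_mul_cancel₀ _ (mul_ne_zero hwne hsne)]⟩, ?_⟩
      refine mul_right_cancel₀ hsne ?_
      rw [hTmk]
      have h3 := congrArg θ hab
      rw [map_add, map_mul, map_mul, map_mul, show θ f = 0 from hfxy, mul_zero, zero_add, ← hz] at h3
      field_simp
      linear_combination h3
  exact ((π.quotKerEquivOfSurjective hπs).symm.trans (Submodule.quotEquivOfEq _ _ hker)).finrank_eq.trans rfl

end GrothLib.FunFld.IntMult
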