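import Groth.Agent.Lib.FunFld.RR
import Groth.Agent.Lib.FunFld.Conorm
import Groth.Agent.Lib.FunFld.IntClosure
import Mathlib.RingTheory.Trace.Basic

/-!
The cotrace of a Weil differential in a finite extension of function fields.
-/

set_option autoImplicit false
set_option linter.style.haveILetI false
set_option linter.unusedSectionVars false

namespace GrothLib.FunFld

open _root_.FunFld WithZero

universe u v w

variable {k : Type u} {K : Type v} [Field k] [Field K] [Algebra k K]

open scoped Classical in
theorem single_mem_adele (P : Place k K) (y : K) :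
    (Pi.single P y : Place k K → K) ∈ adele k K := by
  show ∀ᶠ Q : Place k K in Filter.cofinite, val Q ((Pi.single P y : Place k K → K) Q) ≤ 1
  rw [Filter.eventually_cofinite]
  refine (Set.finite_singleton P).subset fun Q hQ => ?_
  by_contra hne
  exact hQ (by simp [Pi.single_eq_of_ne (show Q ≠ P from hne)])

open scoped Classical in
/-- The repartition with a single component. -/
noncomputable def sgl (P : Place k K) : K →ₗ[k] adele k K where
  toFun y := ⟨Pi.single P y, single_mem_adele P y⟩
  map_add' y z := Subtype.ext (Pi.single_add (f := fun _ : Place k K => K) P y z)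
  map_smul' c y := Subtype.ext (Pi.single_smul (f := fun _ : Place k K => K) P c y)

theorem sgl_apply_self (P : Place k K) (y : K) : (sgl P y : Place k K → K) P = y := by
  classical
  exact Pi.single_eq_same (M := fun _ : Place k K => K) P y

theorem sgl_apply_of_ne {P Q : Place k K} (h : Q ≠ P) (y : K) :
    (sgl P y : Place k K → K) Q = 0 := by
  classical
  exact Pi.single_eq_of_ne (M := fun _ : Place k K => K) h y

theorem sgl_mem_AD {D : Divisor k K} {P : Place k K} {y : K} (hy : val P y ≤ exp (D P)) :
    (sgl P y : Place k K → K) ∈ AD D := by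
  intro Q
  rcases eq_or_ne Q P with rfl | h
  · rw [sgl_apply_self]; exact hy
  · rw [sgl_apply_of_ne h]; simp

theorem WD_sgl_eq_zero {D : Divisor k K} {ω : Module.Dual k (adele k K)} (hω : ω ∈ WD D)
    {P : Place k K} {y : K} (hy : val P y ≤ exp (D P)) : ω (sgl P y) = 0 :=
  mem_WD_iff.1 hω _ (Submodule.mem_sup_left (sgl_mem_AD hy))

theorem WD_apply_eq_zero {D : Divisor k K} {ω : Module.Dual k (adele k K)} (hω : ω ∈ WD D)
    (a : adele k K) (ha : ∀ P : Place k K, val P ((a : Place k K → K) P) ≤ exp (D P)) : ω a = 0 :=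
  mem_WD_iff.1 hω a (Submodule.mem_sup_left ha)

section Ext

variable {L : Type w} [Field L] [Algebra k L] [Algebra L K] [IsScalarTower k L K]
  [FiniteDimensional L K]

/-- The trace respects the bounds given by a conorm. -/
theorem trace_val_le (h : IsFG k L) (P : Place k L) (y : K) (d : ℤ)
    (hy : ∀ (Q : Place k K) (e : ℕ), IsOverWith Q P e → val Q y ≤ exp ((e : ℤ) * d)) :
    val P (Algebra.trace L K y) ≤ exp d := by
  obtain ⟨π, hπ0, hπ⟩ := exists_val_eq P d
  have hy' : ∀ Q : Place k K, IsOver Q P → val Q ((algebraMap L K π)⁻¹ * y) ≤ 1 := by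
    rintro Q ⟨e, he⟩
    rw [map_mul, map_inv₀, show val Q (algebraMap L K π) = exp ((e : ℤ) * d) by
      rw [show val Q (algebraMap L K π) = val P π ^ e from he π, hπ, ← exp_nsmul, nsmul_eq_mul]]
    refine (mul_le_mul_right (hy Q e he) _).trans_eq ?_
    exact inv_mul_cancel₀ exp_ne_zero
  have hint : IsIntegral P.O ((algebraMap L K π)⁻¹ * y) := by
    obtain ⟨M, hfg, hM⟩ := exists_lattice (K' := K) h P
    let S : Subalgebra P.O K := M.toSubalgebra ((hM 1).2 fun Q _ => (map_one _).le)
      fun a b ha hb => (hM _).2 fun Q hQ => by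
        rw [map_mul]; exact mul_le_one' ((hM a).1 ha Q hQ) ((hM b).1 hb Q hQ)
    exact IsIntegral.of_mem_of_fg S (by rwa [Submodule.toSubalgebra_toSubmodule]) _ ((hM _).2 hy')
  have ht : IsIntegral P.O (Algebra.trace L K ((algebraMap L K π)⁻¹ * y)) :=
    Algebra.isIntegral_trace hint
  obtain ⟨c, hc⟩ := IsIntegrallyClosed.isIntegral_iff.1 ht
  have h1 : val P (Algebra.trace L K ((algebraMap L K π)⁻¹ * y)) ≤ 1 := by
    rw [← hc]; exact c.2
  have h2 : y = π • ((algebraMap L K π)⁻¹ * y) := by
    rw [Algebra.smul_def, mul_inv_cancel_left₀ (by simpa using hπ0)]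
  rw [h2, map_smul, smul_eq_mul, map_mul, hπ]
  exact mul_le_of_le_one_right' h1

/-- A family of elements, one over each place of `L`, approximating a repartition of `K`. -/
def IsFamily (D : Divisor k L) (α : Place k K → K) (b : Place k L → K) : Prop :=
  (∀ (Q : Place k K) (P : Place k L) (e : ℕ), IsOverWith Q P e →
      val Q (α Q - b P) ≤ exp ((e : ℤ) * D P)) ∧
    (fun P => Algebra.trace L K (b P)) ∈ adele k L

theorem exists_isFamily (h : IsFG k L) (D : Divisor k L) {α : Place k K → K}
    (hα : α ∈ adele k K) : ∃ b, IsFamily D α b := by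
  classical
  choose r er her hr using fun Q : Place k K => exists_isOverWith (K := L) Q
  have hbad : {Q : Place k K | ¬ val Q (α Q) ≤ 1}.Finite := Filter.eventually_cofinite.1 hα
  let S : Finset (Place k L) := D.support ∪ hbad.toFinset.image r
  let n : Place k K → ℤ := fun Q => er Q * D (r Q)
  choose y hy using fun P : Place k L =>
    exists_approx ((sum_ramIdx (K' := K) h P).1).toFinset α n
  refine ⟨fun P => if P ∈ S then y P else 0, fun Q P e he => ?_, ?_⟩
  · obtain ⟨hPe, hee⟩ := isOverWith_unique (hr Q) he
    simp only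
    split_ifs with hP
    · rw [(val Q).map_sub_swap]
      have := hy P Q ((Set.Finite.mem_toFinset _).2 ⟨e, he⟩)
      simpa [n, hPe, hee] using this
    · simp only [S, Finset.mem_union, not_or] at hP
      have h0 : D P = 0 := Finsupp.notMem_support_iff.1 hP.1
      rw [sub_zero, h0, mul_zero, exp_zero]
      by_contra hlt
      exact hP.2 (Finset.mem_image.2 ⟨Q, hbad.mem_toFinset.2 hlt, hPe⟩)
  · show ∀ᶠ P : Place k L in Filter.cofinite, val P _ ≤ 1
    rw [Filter.eventually_cofinite]
    refine S.finite_toSet.subset fun P hP => ?_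
    by_contra hPS
    apply hP
    simp only
    rw [if_neg (by simpa using hPS), map_zero, map_zero]
    exact zero_le_one

theorem isFamily_sub_mem_AD (h : IsFG k L) {D : Divisor k L} {α : Place k K → K}
    {b b' : Place k L → K} (hb : IsFamily D α b) (hb' : IsFamily D α b') :
    (fun P => Algebra.trace L K (b P)) - (fun P => Algebra.trace L K (b' P)) ∈ AD D := by
  intro P
  rw [Pi.sub_apply, ← map_sub]
  refine trace_val_le h P _ _ fun Q e he => ?_
  rw [show b P - b' P = (α Q - b' P) - (α Q - b P) by ring]
  exact ((val Q).map_sub _ _).trans (max_le (hb'.1 Q P e he) (hb.1 Q P e he))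

/-- The cotrace of a Weil differential. -/
theorem exists_cotrace (h : IsFG k L) {D : Divisor k L} {η : Module.Dual k (adele k L)}
    (hη : η ∈ WD D) :
    ∃ ω ∈ WD (conorm K D), ∀ (Q : Place k K) (P : Place k L) (e : ℕ), IsOverWith Q P e →
      ∀ z b : K, val Q (z - b) ≤ exp ((e : ℤ) * D P) →
        (∀ (Q' : Place k K) (e' : ℕ), Q' ≠ Q → IsOverWith Q' P e' →
          val Q' b ≤ exp ((e' : ℤ) * D P)) →
        ω (sgl Q z) = η (sgl P (Algebra.trace L K b)) := by
  classical
  have h' : IsFG k K := isFG_extension (K := L) h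
  choose B hB using fun α : adele k K => exists_isFamily (L := L) h D α.2
  let T : adele k K → adele k L := fun α => ⟨fun P => Algebra.trace L K (B α P), (hB α).2⟩
  have hT : ∀ (α : adele k K) (b : Place k L → K) (hb : IsFamily D (α : Place k K → K) b),
      η (T α) = η ⟨_, hb.2⟩ := fun α b hb => by
    rw [← sub_eq_zero, ← map_sub]
    exact WD_apply_eq_zero hη _ (isFamily_sub_mem_AD h (hB α) hb)
  have hadd : ∀ α β : adele k K, η (T (α + β)) = η (T α) + η (T β) := fun α β => by
    have hb : IsFamily D ((α + β : adele k K) : Place k K → K) (B α + B β) := by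
      refine ⟨fun Q P e he => ?_, ?_⟩
      · rw [Submodule.coe_add, Pi.add_apply, Pi.add_apply,
          show (α : Place k K → K) Q + (β : Place k K → K) Q - (B α P + B β P) =
            ((α : Place k K → K) Q - B α P) + ((β : Place k K → K) Q - B β P) by ring]
        exact ((val Q).map_add _ _).trans (max_le ((hB α).1 Q P e he) ((hB β).1 Q P e he))
      · simp only [Pi.add_apply, map_add]
        exact add_mem (hB α).2 (hB β).2
    rw [hT _ _ hb, ← map_add]
    refine congrArg η (Subtype.ext (funext fun P => ?_))
    exact map_add (Algebra.trace L K) _ _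
  have hsmul : ∀ (c : k) (α : adele k K), η (T (c • α)) = c * η (T α) := fun c α => by
    have hb : IsFamily D ((c • α : adele k K) : Place k K → K) (c • B α) := by
      refine ⟨fun Q P e he => ?_, ?_⟩
      · rw [SetLike.val_smul, Pi.smul_apply, Pi.smul_apply, ← smul_sub, Algebra.smul_def, map_mul]
        exact (mul_le_mul' (Q.2.1 c) ((hB α).1 Q P e he)).trans_eq (one_mul _)
      · simp only [Pi.smul_apply, LinearMap.map_smul_of_tower]
        exact Submodule.smul_mem _ c (hB α).2
    rw [hT _ _ hb, ← smul_eq_mul, ← map_smul]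
    refine congrArg η (Subtype.ext (funext fun P => ?_))
    exact LinearMap.map_smul_of_tower (Algebra.trace L K) c _
  let ω : Module.Dual k (adele k K) :=
    { toFun := fun α => η (T α), map_add' := hadd, map_smul' := hsmul }
  refine ⟨ω, mem_WD_iff.2 fun α hα => ?_, fun Q P e he z b hz hb => ?_⟩
  · obtain ⟨u, hu, _, ⟨z, rfl⟩, huv⟩ := Submodule.mem_sup.1 hα
    have hb : IsFamily D (α : Place k K → K) fun _ => z := by
      refine ⟨fun Q P e he => ?_, h.Kc_le_adele ⟨Algebra.trace L K z, rfl⟩⟩
      rw [← huv, Pi.add_apply, diag_apply, add_sub_cancel_right, ← conorm_apply h he]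
      exact hu Q
    show η (T α) = 0
    rw [hT _ _ hb]
    exact mem_WD_iff.1 hη _ (Submodule.mem_sup_right ⟨Algebra.trace L K z, rfl⟩)
  · have hf : IsFamily D (sgl Q z : Place k K → K) (Pi.single P b) := by
      refine ⟨fun Q' P' e' he' => ?_, ?_⟩
      · rcases eq_or_ne P' P with rfl | hP
        · rw [Pi.single_eq_same]
          rcases eq_or_ne Q' Q with rfl | hQ
          · rw [sgl_apply_self, (isOverWith_unique he' he).2]
            exact hz
          · rw [sgl_apply_of_ne hQ, zero_sub, Valuation.map_neg]
            exact hb Q' e' hQ he'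
        · rw [Pi.single_eq_of_ne hP, sub_zero, sgl_apply_of_ne fun hQ => hP
            (isOverWith_unique he' (hQ ▸ he)).1]
          simp
      · show ∀ᶠ P' : Place k L in Filter.cofinite, val P' _ ≤ 1
        rw [Filter.eventually_cofinite]
        refine (Set.finite_singleton P).subset fun P' hP' => ?_
        by_contra hne
        exact hP' (by simp [Pi.single_eq_of_ne (show P' ≠ P from hne)])
    show η (T (sgl Q z)) = _
    rw [hT _ _ hf]
    refine congrArg η (Subtype.ext (funext fun P' => ?_))
    rcases eq_or_ne P' P with rfl | hP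
    · rw [sgl_apply_self]; simp
    · rw [sgl_apply_of_ne hP]; simp [Pi.single_eq_of_ne hP]

end Ext

end GrothLib.FunFld
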