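import Groth.Agent.Lib.FunFld.Riemann
import Groth.Agent.Lib.FunFld.Conseq
import Groth.Agent.Lib.FunFld.Ext
import Groth.Agent.Lib.DiffLattice.Global
import Groth.Agent.Lib.CurveMult.InsepTwist
import Mathlib.FieldTheory.SeparableClosure
import Mathlib.FieldTheory.PurelyInseparable.Basic

/-!
# The genus grows in finite extensions of function fields over an algebraically closed field
-/

set_option autoImplicit false
set_option linter.style.haveILetI false
set_option linter.unusedSectionVars false

open _root_.FunFld WithZero

namespace GrothLib.FunFld.SemiTransfer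

universe u v w

section Transfer

variable {k : Type u} {K : Type v} {L : Type w} [Field k] [Field K] [Field L] [Algebra k K] [Algebra k L]
  (σ : k ≃+* k) (e : K ≃+* L) (he : ∀ c, e (algebraMap k K c) = algebraMap k L (σ c))

/-- The places of two fields matched by a semilinear isomorphism. -/
noncomputable def placeMap : Place k L ≃ Place k K where
  toFun P := ⟨P.1.comap e.toRingHom,
    fun c => by show P.1 (e (algebraMap k K c)) ≤ 1; rw [he]; exact P.2.1 _,
    fun z => by obtain ⟨y, hy⟩ := P.2.2 z; exact ⟨e.symm y, by show P.1 (e (e.symm y)) = z; rw [e.apply_symm_apply, hy]⟩⟩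
  invFun P := ⟨P.1.comap e.symm.toRingHom,
    fun c => by
      show P.1 (e.symm (algebraMap k L c)) ≤ 1
      rw [show e.symm (algebraMap k L c) = algebraMap k K (σ.symm c) from e.injective (by
        rw [e.apply_symm_apply, he, σ.apply_symm_apply])]
      exact P.2.1 _,
    fun z => by obtain ⟨y, hy⟩ := P.2.2 z; exact ⟨e y, by show P.1 (e.symm (e y)) = z; rw [e.symm_apply_apply, hy]⟩⟩
  left_inv P := Subtype.ext (Valuation.ext fun x => by show P.1 (e (e.symm x)) = P.1 x; rw [e.apply_symm_apply])
  right_inv P := Subtype.ext (Valuation.ext fun x => by show P.1 (e.symm (e x)) = P.1 x; rw [e.symm_apply_apply])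

include he in
theorem ell_mapDomain (D : Divisor k L) : ell (Finsupp.equivMapDomain (placeMap σ e he) D) = ell D := by
  let D' : Divisor k K := Finsupp.equivMapDomain (placeMap σ e he) D
  have hmem : ∀ x : K, x ∈ _root_.FunFld.L D' ↔ e x ∈ _root_.FunFld.L D := by
    intro x
    constructor
    · intro hx P
      have h := hx (placeMap σ e he P)
      rw [show D' (placeMap σ e he P) = D P by simp [D']] at h
      exact h
    · intro hx P
      obtain ⟨Q, rfl⟩ := (placeMap σ e he).surjective P
      rw [show D' (placeMap σ e he Q) = D Q by simp [D']]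
      exact hx Q
  let j : _root_.FunFld.L D' ≃+ _root_.FunFld.L D :=
    { toFun := fun x => ⟨e x.1, (hmem x.1).1 x.2⟩
      invFun := fun y => ⟨e.symm y.1, (hmem _).2 (by rw [e.apply_symm_apply]; exact y.2)⟩
      left_inv := fun x => Subtype.ext (e.symm_apply_apply _)
      right_inv := fun y => Subtype.ext (e.apply_symm_apply _)
      map_add' := fun a b => Subtype.ext (map_add e _ _) }
  have h := lift_rank_eq_of_equiv_equiv σ j σ.bijective (fun r m => Subtype.ext (by
    show e (r • m.1) = σ r • e m.1
    rw [Algebra.smul_def, Algebra.smul_def, map_mul, he]))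
  have h' := congrArg Cardinal.toNat h
  rw [Cardinal.toNat_lift, Cardinal.toNat_lift] at h'
  exact h'

include σ e he in
/-- A semilinear isomorphism preserves the genus over an algebraically closed field. -/
theorem genus_eq_of_semilinear [IsAlgClosed k] (hK : IsFG k K) (hL : IsFG k L) : genus k K = genus k L := by
  have hd : ∀ D : Divisor k L, Divisor.deg (Finsupp.equivMapDomain (placeMap σ e he) D) = D.deg := fun D => by
    rw [Divisor.deg, Divisor.deg, Finsupp.sum_equivMapDomain]
    exact Finsupp.sum_congr fun P _ => by rw [hK.deg_eq_one, hL.deg_eq_one]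
  refine congrArg sSup (Set.ext fun n => ?_)
  constructor
  · rintro ⟨D, rfl⟩
    obtain ⟨D₁, rfl⟩ := (Finsupp.equivCongrLeft (placeMap σ e he)).surjective D
    refine ⟨D₁, ?_⟩
    show _ = (Divisor.deg (Finsupp.equivMapDomain (placeMap σ e he) D₁) + 1 -
      (ell (Finsupp.equivMapDomain (placeMap σ e he) D₁) : ℤ)).toNat
    rw [hd, ell_mapDomain σ e he]
  · rintro ⟨D, rfl⟩
    exact ⟨Finsupp.equivMapDomain (placeMap σ e he) D, by simp only; rw [hd, ell_mapDomain σ e he]⟩

end Transfer

section Extension

variable {k : Type u} [Field k] [IsAlgClosed k]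

theorem exists_ge_ell_eq {K : Type v} [Field K] [Algebra k K] (h : IsFunctionField k K) :
    ∃ D₀ : Divisor k K, ∀ D, D₀ ≤ D → (ell D : ℤ) = D.deg + (1 - genus k K) := by
  obtain ⟨N, hN⟩ := exists_delta_eq_genus_of_deg h
  obtain ⟨x, hx, -⟩ := h.1
  obtain ⟨P⟩ : Nonempty (Place k K) := (IsFG.exists_place h.1)
  refine ⟨Finsupp.single P N, fun D hD => ?_⟩
  have h1 : N ≤ D.deg := by
    have h2 : (0 : ℤ) ≤ (D - Finsupp.single P N).deg := by
      rw [Divisor.deg]
      exact Finset.sum_nonneg fun Q _ => mul_nonneg (by have := hD Q; rw [Finsupp.sub_apply]; omega) (Int.natCast_nonneg _)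
    rw [FunFld.deg_sub, FunFld.deg_single, IsFG.deg_eq_one h.1] at h2
    push_cast at h2
    omega
  have := hN D h1
  simp only [FunFld.delta] at this
  omega

/-- The genus does not decrease in a finite separable extension. -/
theorem genus_le_of_separable {K : Type v} {L : Type w} [Field K] [Field L] [Algebra k K] [Algebra k L]
    [Algebra K L] [IsScalarTower k K L] [FiniteDimensional K L] [Algebra.IsSeparable K L]
    (hK : IsFunctionField k K) (hL : IsFunctionField k L) : genus k K ≤ genus k L := by
  obtain ⟨d, -, -, hd⟩ := DiffLattice.hurwitz hK.1 _ _ (exists_ge_ell_eq hK) (exists_ge_ell_eq hL)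
  have hsum : (0 : ℤ) ≤ ∑ᶠ Q : Place k L, (d Q : ℤ) * Q.deg :=
    finsum_nonneg fun Q => by positivity
  rcases Nat.eq_zero_or_pos (genus k K) with h0 | h0
  · omega
  have hn : (0 : ℤ) < Module.finrank K L := by exact_mod_cast Module.finrank_pos
  have h2 : 2 * (Module.finrank K L : ℤ) * (1 - genus k K) ≤ 2 * (1 - genus k K) := by
    have : (1 - (genus k K : ℤ)) ≤ 0 := by omega
    nlinarith
  omega

/-- The genus does not decrease in a finite extension. -/
theorem genus_le {K : Type v} {L : Type w} [Field K] [Field L] [Algebra k K] [Algebra k L]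
    [Algebra K L] [IsScalarTower k K L] [FiniteDimensional K L]
    (hK : IsFunctionField k K) (hL : IsFunctionField k L) : genus k K ≤ genus k L := by
  obtain ⟨p, hp⟩ := ExpChar.exists k
  cases hp with
  | zero =>
    haveI : CharZero K := charZero_of_injective_algebraMap (algebraMap k K).injective
    exact genus_le_of_separable hK hL
  | prime hprime =>
    haveI : Fact p.Prime := ⟨hprime⟩
    let M : IntermediateField K L := separableClosure K L
    obtain ⟨x, hx, -⟩ := hK.1
    obtain ⟨hM, -⟩ := isFunctionField_intermediateField hL (M.restrictScalars k)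
      ⟨algebraMap K L x, M.algebraMap_mem x,
        (transcendental_algebraMap_iff (algebraMap K L).injective).2 hx⟩
    have hM' : IsFunctionField k M := hM
    refine (genus_le_of_separable hK hM').trans ?_
    let ψ : M →ₐ[k] L := (M.val).restrictScalars k
    obtain ⟨r, χ, hχ⟩ := CurveMult.InsepTwist.exists_semilinear_equiv p hL ψ
      (inferInstanceAs (FiniteDimensional M L)) (inferInstanceAs (IsPurelyInseparable M L))
    haveI : PerfectRing k p := PerfectField.toPerfectRing p
    haveI : CharP L p := charP_of_injective_algebraMap (algebraMap k L).injective p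
    haveI : ExpChar L p := ExpChar.prime hprime
    refine (genus_eq_of_semilinear (iterateFrobeniusEquiv k p r).symm χ (fun c => iterateFrobenius_inj L p r ?_)
      hM'.1 hL.1).le
    show χ _ ^ p ^ r = algebraMap k L _ ^ p ^ r
    rw [hχ, ← map_pow, ← iterateFrobeniusEquiv_def, RingEquiv.apply_symm_apply]
    exact ψ.commutes c

end Extension

end GrothLib.FunFld.SemiTransfer
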