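import Groth.Agent.Lib.LocRes.RegularASPartial
import Groth.Agent.Lib.FunFld.Cotrace

/-!
Artin–Schreier covers of the line over a closed field, point by point.
-/

set_option autoImplicit false
set_option linter.style.haveILetI false
set_option linter.unusedSectionVars false

namespace GrothLib.FunFld

open _root_.FunFld WithZero

universe u v

variable {k : Type u} [Field k] [IsAlgClosed k]

/-- Vanishing of small truncated Taylor polynomials. -/
theorem coeff_eq_zero_of_small {L : Type v} [Field L] [Algebra k L] (P : Place k L) {t : L}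
    (ht : val P t = exp (-1)) :
    ∀ (N : ℕ) (c : ℕ → k), val P (∑ i ∈ Finset.range N, algebraMap k L (c i) * t ^ i) ≤
      exp (-(N : ℤ)) → ∀ i < N, c i = 0 := by
  intro N
  induction N with
  | zero => intro c _ i hi; omega
  | succ N ih =>
    intro c hc
    have ht0 : t ≠ 0 := fun h => by rw [h, map_zero] at ht; exact exp_ne_zero ht.symm
    set s := ∑ i ∈ Finset.range N, algebraMap k L (c (i + 1)) * t ^ i with hs
    have hsum : ∑ i ∈ Finset.range (N + 1), algebraMap k L (c i) * t ^ i =
        algebraMap k L (c 0) + t * s := by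
      rw [Finset.sum_range_succ', pow_zero, mul_one, add_comm, hs, Finset.mul_sum]
      congr 1
      exact Finset.sum_congr rfl fun i _ => by ring
    have hs1 : val P s ≤ 1 := (val P).map_sum_le fun i _ => by
      rw [map_mul, map_pow, ht]
      exact mul_le_one' (P.2.1 _) (pow_le_one₀ zero_le (by rw [← exp_zero, exp_le_exp]; norm_num))
    have hts : val P (t * s) ≤ exp (-1) := by
      rw [map_mul, ht]; exact mul_le_of_le_one_right' hs1
    have hc0 : c 0 = 0 := by
      by_contra h0
      have h1 := val_const P h0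
      rw [hsum, (val P).map_add_eq_of_lt_left, h1, ← exp_zero, exp_le_exp] at hc
      · omega
      · rw [h1]; exact hts.trans_lt (by rw [← exp_zero, exp_lt_exp]; norm_num)
    rw [hsum, hc0, map_zero, zero_add, map_mul, ht] at hc
    have hs2 : val P s ≤ exp (-(N : ℤ)) := by
      calc val P s = exp 1 * (exp (-1) * val P s) := by rw [← mul_assoc, ← exp_add]; simp
        _ ≤ exp 1 * exp (-((N + 1 : ℕ) : ℤ)) := mul_le_mul_right hc _
        _ = _ := by rw [← exp_add]; congr 1; push_cast; ring
    intro i hi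
    rcases i with _ | i
    · exact hc0
    · exact ih (fun i => c (i + 1)) hs2 i (by omega)

/-- Functions on the line with prescribed principal part at one place. -/
theorem exists_integral_outside (P : Place k (RatFunc k)) (g : RatFunc k) :
    ∃ h : RatFunc k, val P (g - h) ≤ 1 ∧ ∀ Q : Place k (RatFunc k), Q ≠ P → val Q h ≤ 1 := by
  suffices ∀ (m : ℕ) (g : RatFunc k), val P g ≤ exp (m : ℤ) →
      ∃ h : RatFunc k, val P (g - h) ≤ 1 ∧ ∀ Q : Place k (RatFunc k), Q ≠ P → val Q h ≤ 1 by
    rcases eq_or_ne g 0 with rfl | hg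
    · exact ⟨0, by simp, fun Q _ => by simp⟩
    · exact this (-P.ord g).toNat g (by rw [val_eq P hg, exp_le_exp]; omega)
  intro m
  induction m with
  | zero => intro g hg; exact ⟨0, by simpa using hg, fun Q _ => by simp⟩
  | succ m ih =>
    intro g hg
    obtain ⟨h₁, h1, -, h3⟩ := exists_principal_part P (m := m + 1) (by omega) g (by exact_mod_cast hg)
    obtain ⟨h₂, h4, h5⟩ := ih (g - h₁) (h1.trans_eq (by congr 1; push_cast; ring))
    exact ⟨h₁ + h₂, by rwa [← sub_sub], fun Q hQ => ((val Q).map_add _ _).trans (max_le (h3 Q hQ) (h5 Q hQ))⟩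

variable {K : Type v} [Field K] [Algebra k K] [Algebra (RatFunc k) K] [IsScalarTower k (RatFunc k) K]

/-- The data of the statements. -/
structure ASData (y : K) (f : RatFunc k) (B : Finset k) (d : k → ℕ) : Prop where
  deg : Module.finrank (RatFunc k) K = 2
  char2 : ringChar k = 2
  not_mem : y ∉ Set.range (algebraMap (RatFunc k) K)
  eq : y ^ 2 + y = algebraMap (RatFunc k) K f
  odd : ∀ β ∈ B, Odd (d β)
  pole : ∀ (p : Place k (RatFunc k)) (β : k), β ∈ B →
    p.1 ((RatFunc.X : RatFunc k) - RatFunc.C β) < 1 → p.ord f = -(d β : ℤ)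
  int : ∀ p : Place k (RatFunc k),
    (∀ β ∈ B, 1 ≤ p.1 ((RatFunc.X : RatFunc k) - RatFunc.C β)) → p.1 f ≤ 1

variable {y : K} {f : RatFunc k} {B : Finset k} {d : k → ℕ} (H : ASData y f B d)

theorem map_sub_C (α : k) :
    algebraMap (RatFunc k) K ((RatFunc.X : RatFunc k) - RatFunc.C α) =
      algebraMap (RatFunc k) K RatFunc.X - algebraMap k K α := by
  rw [map_sub]
  congr 1
  exact (IsScalarTower.algebraMap_apply k (RatFunc k) K α).symm

include H

theorem ASData.y_ne_zero : y ≠ 0 := fun h => H.not_mem ⟨0, by rw [map_zero, h]⟩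

theorem ASData.ord_nonneg (p : Place k (RatFunc k))
    (h : ∀ β ∈ B, 1 ≤ p.1 ((RatFunc.X : RatFunc k) - RatFunc.C β)) : 0 ≤ p.ord f := by
  rcases eq_or_ne f 0 with rfl | hf
  · rw [ord_zero]
  · exact (val_le_one_iff p hf).mp (H.int p h)

theorem ASData.pole_at {p : Place k (RatFunc k)} {α : k} (hα : α ∈ B)
    (hp : val p ((RatFunc.X : RatFunc k) - RatFunc.C α) < 1) :
    p.ord f = -(d α : ℤ) ∧ p.ord f < 0 ∧ Odd (p.ord f) := by
  have h1 := H.pole p α hα hp
  obtain ⟨r, hr⟩ := H.odd α hα
  exact ⟨h1, by omega, by rw [h1, odd_neg]; exact_mod_cast H.odd α hα⟩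

/-- At a pole: `e = 2`, `ord y = -d`, the parameter has order two, and the place is unique. -/
theorem ASData.at_pole {P : Place k K} {α : k} (hα : α ∈ B)
    (hP : val P (algebraMap (RatFunc k) K RatFunc.X - algebraMap k K α) < 1) :
    ∃ p : Place k (RatFunc k), IsOverWith P p 2 ∧
      val p ((RatFunc.X : RatFunc k) - RatFunc.C α) = exp (-1) ∧
      (∀ β, β ≠ α → val p ((RatFunc.X : RatFunc k) - RatFunc.C β) = 1) ∧
      P.ord y = -(d α : ℤ) ∧ (∀ Q : Place k K, IsOver Q p → Q = P) := by
  have hq := isQuad_as H.deg H.not_mem H.eq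
  haveI := hq.finite
  obtain ⟨p, e, he0, he⟩ := exists_isOverWith (K := RatFunc k) P
  have hlt : val p ((RatFunc.X : RatFunc k) - RatFunc.C α) < 1 := by
    by_contra hge
    rw [not_lt] at hge
    rw [← map_sub_C, show val P (algebraMap (RatFunc k) K _) = val p _ ^ e from he _] at hP
    exact not_le.mpr hP (one_le_pow₀ hge)
  have hX : 0 ≤ p.ord (RatFunc.X : RatFunc k) := by
    by_contra hneg
    rw [not_le] at hneg
    rw [← RatFunc.algebraMap_X, ← RatFunc.algebraMap_C, ← map_sub,
      val_eq p (RatFunc.algebraMap_ne_zero (Polynomial.X_sub_C_ne_zero α)),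
      ord_poly_inf hneg (Polynomial.X_sub_C_ne_zero α), Polynomial.natDegree_X_sub_C, ← exp_zero,
      exp_lt_exp] at hlt
    norm_num at hlt
  obtain ⟨a, ha, hother⟩ := exists_point hX
  obtain rfl : α = a := by
    by_contra hne
    rw [hother α hne] at hlt
    exact lt_irrefl _ hlt
  obtain ⟨hf, hneg, hodd⟩ := H.pole_at hα hlt
  obtain ⟨hall, hu, -⟩ := as_ramified H.char2 H.deg H.not_mem H.eq p hneg hodd
  obtain rfl : e = 2 := (isOverWith_unique he (hall P ⟨e, he⟩).1).2
  refine ⟨p, he, ha, hother, ?_, fun Q hQ => hu.unique hQ ⟨2, he⟩⟩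
  have hF : P.ord (algebraMap (RatFunc k) K f) = 2 * -(d α : ℤ) := by
    rw [ord_of_isOverWith he f, hf]; rfl
  have hf0 : f ≠ 0 := fun h => by rw [h, ord_zero] at hneg; exact lt_irrefl _ hneg
  have hfne : algebraMap (RatFunc k) K f ≠ 0 := by rwa [_root_.map_ne_zero]
  have hy0 := H.y_ne_zero
  have hbig : 1 < val P y := by
    by_contra hle
    rw [not_lt] at hle
    have : val P (algebraMap (RatFunc k) K f) ≤ 1 := by
      rw [← H.eq]
      exact ((val P).map_add _ _).trans (max_le (by rw [map_pow]; exact pow_le_one₀ zero_le hle) hle)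
    rw [val_le_one_iff P hfne, hF] at this
    omega
  have hv : val P (algebraMap (RatFunc k) K f) = val P y ^ 2 := by
    rw [← H.eq, (val P).map_add_eq_of_lt_left, map_pow]
    rw [map_pow, sq]; exact lt_mul_of_one_lt_left (zero_lt_one.trans hbig) hbig
  rw [val_eq P hy0, val_eq P hfne, ← exp_nsmul, exp_inj, hF, nsmul_eq_mul] at hv
  push_cast at hv
  omega

/-- Away from the poles `y` is integral and the cover is unramified. -/
theorem ASData.away {P : Place k K} {p : Place k (RatFunc k)} (hP : IsOver P p)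
    (h : ∀ β ∈ B, 1 ≤ p.1 ((RatFunc.X : RatFunc k) - RatFunc.C β)) :
    IsOverWith P p 1 ∧ val P y ≤ 1 := by
  haveI := (isQuad_as H.deg H.not_mem H.eq).finite
  have hint := H.ord_nonneg p h
  obtain ⟨hiff, he⟩ := as_unramified H.char2 H.deg H.not_mem H.eq p hint 0 1 0
  refine ⟨he P hP, ?_⟩
  have := hiff.mpr ⟨by simp, by simp⟩ P 1 (he P hP)
  simpa using this

theorem ASData.inf_away {p : Place k (RatFunc k)} (hp : p.ord (RatFunc.X : RatFunc k) < 0) :
    ∀ β ∈ B, 1 ≤ p.1 ((RatFunc.X : RatFunc k) - RatFunc.C β) := fun β _ => by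
  show 1 ≤ val p _
  rw [← RatFunc.algebraMap_X, ← RatFunc.algebraMap_C, ← map_sub,
    val_eq p (RatFunc.algebraMap_ne_zero (Polynomial.X_sub_C_ne_zero β)),
    ord_poly_inf hp (Polynomial.X_sub_C_ne_zero β), Polynomial.natDegree_X_sub_C, ← exp_zero, exp_le_exp]
  norm_num

theorem ASData.exists_unit_at_infinity {p : Place k (RatFunc k)}
    (hp : p.ord (RatFunc.X : RatFunc k) < 0) : ∃ P : Place k K, IsOver P p ∧ P.ord y = 0 := by
  haveI := (isQuad_as H.deg H.not_mem H.eq).finite
  have h := H.inf_away hp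
  have hint := H.ord_nonneg p h
  by_contra hno
  push Not at hno
  have hall : ∀ (P : Place k K) (e : ℕ), IsOverWith P p e →
      val P (algebraMap (RatFunc k) K 0 + algebraMap (RatFunc k) K 1 * y) ≤ exp ((e : ℤ) * (-1)) := by
    intro P e he
    obtain ⟨h1, h2⟩ := H.away ⟨e, he⟩ h
    obtain rfl : e = 1 := (isOverWith_unique he h1).2
    have h3 := (val_le_one_iff P H.y_ne_zero).mp h2
    have h4 := hno P ⟨1, he⟩
    rw [map_zero, map_one, zero_add, one_mul, val_eq P H.y_ne_zero, exp_le_exp]
    push_cast; omega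
  have := ((as_unramified H.char2 H.deg H.not_mem H.eq p hint 0 1 (-1)).1.mp hall).2
  rw [map_one, ← exp_zero, exp_le_exp] at this
  omega

/-- A single component of a function from the line at a pole is congruent to zero. -/
theorem ASData.single_mem {P : Place k K} {α : k} (hα : α ∈ B)
    (hP : val P (algebraMap (RatFunc k) K RatFunc.X - algebraMap k K α) < 1) (g : RatFunc k) :
    (sgl P (algebraMap (RatFunc k) K g) : Place k K → K) ∈
      AD (0 : Divisor k K) ⊔ LinearMap.range (diag k K) := by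
  haveI := (isQuad_as H.deg H.not_mem H.eq).finite
  obtain ⟨p, he, -, -, -, huniq⟩ := H.at_pole hα hP
  obtain ⟨h, h1, h2⟩ := exists_integral_outside p g
  set D := diag k K (algebraMap (RatFunc k) K h) with hD
  rw [show (sgl P (algebraMap (RatFunc k) K g) : Place k K → K) =
    ((sgl P (algebraMap (RatFunc k) K g) : Place k K → K) - D) + D by abel]
  refine add_mem (Submodule.mem_sup_left fun Q => ?_) (Submodule.mem_sup_right ⟨_, rfl⟩)
  show val Q _ ≤ exp ((0 : Divisor k K) Q)
  rw [Finsupp.coe_zero, Pi.zero_apply, exp_zero, Pi.sub_apply, hD, diag_apply]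
  obtain ⟨q, e, he0, hq⟩ := exists_isOverWith (K := RatFunc k) Q
  rcases eq_or_ne Q P with rfl | hne
  · rw [sgl_apply_self, ← map_sub, show val Q (algebraMap (RatFunc k) K (g - h)) = val p (g - h) ^ 2 from he _]
    exact pow_le_one₀ zero_le h1
  · rw [sgl_apply_of_ne hne, zero_sub, Valuation.map_neg,
      show val Q (algebraMap (RatFunc k) K h) = val q h ^ e from hq _]
    exact pow_le_one₀ zero_le (h2 q fun hqp => hne (huniq Q (hqp ▸ ⟨e, hq⟩)))

end GrothLib.FunFld
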