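import Groth.Agent.Lib.FunFld.PlacePoint
import Groth.Agent.Lib.FunFld.Conseq
import Mathlib.Algebra.Polynomial.Bivariate
import Mathlib.FieldTheory.Minpoly.Field
import Mathlib.FieldTheory.RatFunc.AsPolynomial
import Mathlib.RingTheory.Polynomial.GaussLemma

/-!
Monic plane models: two generators `a, b` of a function field with a monic relation in `b`.
-/

set_option autoImplicit false
set_option linter.style.haveILetI false

namespace GrothLib.FunFld

open Polynomial
open scoped Polynomial.Bivariate

variable {k K : Type*} [Field k] [Field K] [Algebra k K]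

/-- `a, b` generate `K`, and `F(a, Y)` is the minimal polynomial of `b` over `k(a)`, monic in `Y`. -/
structure IsPlanePair (a b : K) (F : k[X][Y]) : Prop where
  tr : Transcendental k a
  root : aevalAeval a b F = 0
  monic : F.Monic
  deg : F.natDegree = Module.finrank (IntermediateField.adjoin k ({a} : Set K)) K
  gen : IntermediateField.adjoin k ({a, b} : Set K) = ⊤

variable {a b : K} {F : k[X][Y]}

/-- `k[X] → k(a)`. -/
noncomputable def toAdjoin (a : K) : k[X] →ₐ[k] IntermediateField.adjoin k ({a} : Set K) :=
  aeval (⟨a, IntermediateField.mem_adjoin_simple_self k a⟩ : IntermediateField.adjoin k ({a} : Set K))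

theorem coe_toAdjoin (a : K) (p : k[X]) : ((toAdjoin (k := k) a p : IntermediateField.adjoin k ({a} : Set K)) : K) = aeval a p := by
  rw [toAdjoin]
  exact (aeval_algHom_apply (IntermediateField.adjoin k ({a} : Set K)).val _ p).symm

theorem toAdjoin_injective (ha : Transcendental k a) : Function.Injective (toAdjoin (k := k) a) := by
  intro p q h
  have h' := congrArg (fun z : IntermediateField.adjoin k ({a} : Set K) => (z : K)) h
  simp only [coe_toAdjoin] at h'
  exact transcendental_iff_injective.1 ha h'

theorem aeval_map_toAdjoin (a b : K) (G : k[X][Y]) :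
    aeval b (G.map (toAdjoin a).toRingHom) = aevalAeval a b G := by
  induction G using Polynomial.induction_on' with
  | add p q hp hq => rw [Polynomial.map_add, map_add, map_add, hp, hq]
  | monomial n c =>
    rw [map_monomial, aeval_monomial, IntermediateField.algebraMap_apply]
    show ((toAdjoin a c : IntermediateField.adjoin k ({a} : Set K)) : K) * b ^ n = _
    rw [coe_toAdjoin, ← C_mul_X_pow_eq_monomial, map_mul, map_pow]
    simp

theorem adjoin_simple_over_eq_top (gen : IntermediateField.adjoin k ({a, b} : Set K) = ⊤) :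
    IntermediateField.adjoin (IntermediateField.adjoin k ({a} : Set K)) ({b} : Set K) = ⊤ := by
  refine IntermediateField.restrictScalars_injective k ?_
  rw [IntermediateField.adjoin_adjoin_left, IntermediateField.restrictScalars_top, ← gen]
  congr 1

theorem IsPlanePair.minpoly_eq (h : IsPlanePair a b F) :
    minpoly (IntermediateField.adjoin k ({a} : Set K)) b = F.map (toAdjoin a).toRingHom := by
  set F0 := IntermediateField.adjoin k ({a} : Set K)
  have hroot : aeval b (F.map (toAdjoin a).toRingHom) = 0 := by rw [aeval_map_toAdjoin, h.root]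
  have hint : IsIntegral F0 b := ⟨_, h.monic.map _, hroot⟩
  have hdeg : (minpoly F0 b).natDegree = F.natDegree := by
    rw [← IntermediateField.adjoin.finrank hint, adjoin_simple_over_eq_top h.gen, h.deg,
      IntermediateField.finrank_top']
  refine (Polynomial.eq_of_monic_of_dvd_of_natDegree_le (minpoly.monic hint) (h.monic.map _)
    (minpoly.dvd _ _ hroot) ?_).symm
  rw [h.monic.natDegree_map, hdeg]

theorem IsPlanePair.eq_zero_of_natDegree_lt (h : IsPlanePair a b F) {G : k[X][Y]}
    (hG : aevalAeval a b G = 0) (hdeg : G.natDegree < F.natDegree) : G = 0 := by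
  by_contra h0
  have hd : G.map (toAdjoin a).toRingHom ≠ 0 :=
    (Polynomial.map_ne_zero_iff (toAdjoin_injective h.tr)).2 h0
  have h1 := minpoly.degree_le_of_ne_zero (IntermediateField.adjoin k ({a} : Set K)) b hd
    (by rw [aeval_map_toAdjoin, hG])
  have h2 := natDegree_le_natDegree h1
  rw [h.minpoly_eq, h.monic.natDegree_map] at h2
  exact absurd (h2.trans natDegree_map_le) (not_le.2 hdeg)

theorem IsPlanePair.natDegree_pos (h : IsPlanePair a b F) : 0 < F.natDegree := by
  rw [h.deg]
  refine Nat.pos_of_ne_zero fun h0 => ?_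
  have h1 := h.eq_zero_of_natDegree_lt (G := F) h.root
  rcases Nat.eq_zero_or_pos F.natDegree with hz | hz
  · rw [h.monic.natDegree_eq_zero] at hz
    have h2 := h.root
    rw [hz, map_one] at h2
    exact one_ne_zero h2
  · rw [h.deg] at hz; omega

/-- The relations are the multiples of `F`. -/
theorem IsPlanePair.dvd_of_root (h : IsPlanePair a b F) {G : k[X][Y]} (hG : aevalAeval a b G = 0) :
    F ∣ G := by
  rw [← Polynomial.modByMonic_eq_zero_iff_dvd h.monic]
  refine h.eq_zero_of_natDegree_lt ?_ (natDegree_modByMonic_lt G h.monic fun h1 => ?_)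
  · rw [eq_sub_of_add_eq (modByMonic_add_div G F), map_sub, map_mul, h.root, zero_mul, sub_zero, hG]
  · have := h.natDegree_pos
    rw [h1, natDegree_one] at this
    omega

/-- Every point of the model lies under a place. -/
theorem IsPlanePair.exists_place (h : IsPlanePair a b F) (hK : IsFG k K) {α β : k}
    (hαβ : F.evalEval α β = 0) :
    ∃ P : _root_.FunFld.Place k K, ∀ G : k[X][Y], val P (aevalAeval a b G) ≤ 1 ∧
      val P (aevalAeval a b G - algebraMap k K (G.evalEval α β)) < 1 := by
  let π := aevalAeval (R := k) a b
  let B : Subalgebra k K := π.range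
  let q : k[X][Y] →ₐ[k] k := aevalAeval α β
  have hq : ∀ G : k[X][Y], q G = G.evalEval α β := fun G => congrFun (coe_aevalAeval_eq_evalEval α β) G
  let I : Ideal B := (RingHom.ker q).map π.rangeRestrict
  have hI : I ≠ ⊤ := by
    intro htop
    have h1 : (1 : B) ∈ I := htop ▸ Submodule.mem_top
    obtain ⟨G, hG, hG1⟩ := (Ideal.mem_map_iff_of_surjective π.rangeRestrict π.rangeRestrict_surjective).1 h1
    have h2 : π (G - 1) = 0 := by
      rw [map_sub, map_one, sub_eq_zero]
      exact congrArg Subtype.val hG1
    obtain ⟨Q, hQ⟩ := h.dvd_of_root h2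
    have h3 := congrArg q hQ
    rw [map_sub, map_one, RingHom.mem_ker.1 hG, map_mul, hq F, hαβ, zero_mul] at h3
    simp at h3
  have hx : Transcendental k (a - algebraMap k K α) := by
    intro halg
    exact h.tr (by simpa using halg.add (isAlgebraic_algebraMap α))
  haveI := hK.finiteDimensional_adjoin hx
  have hxB : a - algebraMap k K α ∈ B := ⟨C X - C (C α), by simp [π]⟩
  have hxI : (⟨_, hxB⟩ : B) ∈ I := by
    have : (C X - C (C α) : k[X][Y]) ∈ RingHom.ker q := by simp [RingHom.mem_ker, q]
    convert Ideal.mem_map_of_mem π.rangeRestrict this using 1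
    refine Subtype.ext ?_
    simp [π]
  obtain ⟨P, hB, hIP⟩ := exists_place_centred hx B I hI hxB hxI
  refine ⟨P, fun G => ⟨hB _ ⟨G, rfl⟩, ?_⟩⟩
  have hker : G - C (C (G.evalEval α β)) ∈ RingHom.ker q := by
    rw [RingHom.mem_ker, map_sub, hq, hq]
    simp
  have h4 := hIP _ (Ideal.mem_map_of_mem π.rangeRestrict hker)
  have h5 : π (G - C (C (G.evalEval α β))) = aevalAeval a b G - algebraMap k K (G.evalEval α β) := by
    rw [map_sub]
    congr 1
    simp [π]
  rw [← h5]
  exact h4

/-- An irreducible monic relation gives a plane pair. -/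
theorem isPlanePair_of_irreducible (ha : Transcendental k a)
    (gen : IntermediateField.adjoin k ({a, b} : Set K) = ⊤) (hF : F.Monic) (hirr : Irreducible F)
    (hroot : aevalAeval a b F = 0) : IsPlanePair a b F := by
  refine ⟨ha, hroot, hF, ?_, gen⟩
  let e := RatFunc.algEquivOfTranscendental a ha
  have hχ : (toAdjoin (k := k) a).toRingHom = e.toRingEquiv.toRingHom.comp (algebraMap k[X] (RatFunc k)) := by
    refine RingHom.ext fun p => Subtype.ext ?_
    show ((toAdjoin a p : IntermediateField.adjoin k ({a} : Set K)) : K) = _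
    rw [coe_toAdjoin]
    simp [e]
  have hirr' : Irreducible (F.map (toAdjoin (k := k) a).toRingHom) := by
    rw [hχ, ← Polynomial.map_map]
    exact (MulEquiv.irreducible_iff (Polynomial.mapEquiv e.toRingEquiv)).2
      ((hF.irreducible_iff_irreducible_map_fraction_map).1 hirr)
  have hmp := minpoly.eq_of_irreducible_of_monic hirr'
    (by rw [aeval_map_toAdjoin, hroot]) (hF.map _)
  have hint : IsIntegral (IntermediateField.adjoin k ({a} : Set K)) b :=
    ⟨_, hF.map _, by rw [← aeval_def, aeval_map_toAdjoin, hroot]⟩
  have h1 := IntermediateField.adjoin.finrank hint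
  rw [adjoin_simple_over_eq_top gen, IntermediateField.finrank_top', ← hmp, hF.natDegree_map] at h1
  exact h1.symm

end GrothLib.FunFld
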