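import Groth.Agent.Lib.FunFld.NonsingFinite
import Groth.Agent.Lib.FunFld.PlanePair
import Mathlib.RingTheory.TensorProduct.MvPolynomial
import Mathlib.RingTheory.Polynomial.UniqueFactorization

/-!
Geometric function fields and absolutely irreducible plane models.
-/

set_option autoImplicit false
set_option linter.style.haveILetI false
set_option linter.unusedSectionVars false

namespace GrothLib.FunFld.AbsIrred

open _root_.FunFld GrothLib.FunFld Polynomial Polynomial.Bivariate
open scoped TensorProduct

universe u v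

variable {k : Type u} {K : Type v} [Field k] [Field K] [Algebra k K]

theorem aeval_eq_aevalAeval (x y : K) (p : MvPolynomial (Fin 2) k) :
    MvPolynomial.aeval ![x, y] p = aevalAeval x y ((equivMvPolynomial (R := k)).symm p) := by
  have : (MvPolynomial.aeval ![x, y] : MvPolynomial (Fin 2) k →ₐ[k] K) =
      (aevalAeval x y).comp (equivMvPolynomial (R := k)).symm.toAlgHom := by
    refine MvPolynomial.algHom_ext fun i => ?_
    fin_cases i <;> simp [equivMvPolynomial]
  exact DFunLike.congr_fun this p

/-- The base change of the relation ideal. -/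
theorem ker_baseChange {k' : Type u} [Field k'] [Algebra k k'] (x y : K) {f : MvPolynomial (Fin 2) k}
    (hker : RingHom.ker (MvPolynomial.aeval ![x, y] : MvPolynomial (Fin 2) k →ₐ[k] K) = Ideal.span {f}) :
    RingHom.ker (MvPolynomial.aeval ![(1 : k') ⊗ₜ[k] x, (1 : k') ⊗ₜ[k] y] :
        MvPolynomial (Fin 2) k' →ₐ[k'] k' ⊗[k] K) =
      Ideal.span {MvPolynomial.map (algebraMap k k') f} := by
  set φ : MvPolynomial (Fin 2) k →ₐ[k] K := MvPolynomial.aeval ![x, y] with hφ
  set φ' : MvPolynomial (Fin 2) k' →ₐ[k'] k' ⊗[k] K :=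
    MvPolynomial.aeval ![(1 : k') ⊗ₜ[k] x, (1 : k') ⊗ₜ[k] y]
  have hcomp : φ' = (Algebra.TensorProduct.map (AlgHom.id k' k') φ).comp
      (MvPolynomial.algebraTensorAlgEquiv (σ := Fin 2) k k').symm.toAlgHom := by
    refine MvPolynomial.algHom_ext fun i => ?_
    fin_cases i <;> simp [φ', hφ]
  have hex : Function.Exact (LinearMap.mulLeft k f) φ.toLinearMap := fun p => by
    show φ p = 0 ↔ _
    rw [← RingHom.mem_ker, hker, Ideal.mem_span_singleton']
    exact ⟨fun ⟨a, ha⟩ => ⟨a, by rw [← ha]; exact mul_comm f a⟩, fun ⟨a, ha⟩ => ⟨a, by rw [← ha]; exact mul_comm a f⟩⟩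
  refine le_antisymm (fun p hp => ?_) ?_
  · have h1 : (LinearMap.lTensor k' φ.toLinearMap)
        ((MvPolynomial.algebraTensorAlgEquiv (σ := Fin 2) k k').symm p) = 0 := by
      rw [RingHom.mem_ker, hcomp] at hp
      exact hp
    obtain ⟨w, hw⟩ := (Module.Flat.lTensor_exact k' hex _).1 h1
    rw [Ideal.mem_span_singleton]
    refine ⟨MvPolynomial.algebraTensorAlgEquiv k k' w, ?_⟩
    have h2 : (LinearMap.lTensor k' (LinearMap.mulLeft k f)) w = (1 : k') ⊗ₜ[k] f * w := by
      clear hw
      induction w using TensorProduct.induction_on with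
      | zero => simp
      | tmul a b => simp
      | add a b ha hb => rw [map_add, ha, hb, mul_add]
    rw [h2] at hw
    have h3 := congrArg (MvPolynomial.algebraTensorAlgEquiv (σ := Fin 2) k k') hw
    rw [map_mul, AlgEquiv.apply_symm_apply, MvPolynomial.algebraTensorAlgEquiv_tmul, one_smul] at h3
    exact h3.symm
  · rw [Ideal.span_le, Set.singleton_subset_iff, SetLike.mem_coe, RingHom.mem_ker, hcomp]
    show Algebra.TensorProduct.map (AlgHom.id k' k') φ _ = 0
    erw [MvPolynomial.algebraTensorAlgEquiv_symm_map]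
    rw [Algebra.TensorProduct.map_tmul, show φ f = 0 from RingHom.mem_ker.1 (hker ▸ Ideal.mem_span_singleton_self f),
      TensorProduct.tmul_zero]

theorem exists_model (hK : IsFunctionField k K) (hg : IsGeometric k K) :
    ∃ (x y : K) (f : MvPolynomial (Fin 2) k),
      IntermediateField.adjoin k ({x, y} : Set K) = ⊤ ∧
      (∀ (k' : Type u) [Field k'] [Algebra k k'], FiniteDimensional k k' →
        Irreducible (MvPolynomial.map (algebraMap k k') f)) ∧
      RingHom.ker (MvPolynomial.aeval ![x, y] : MvPolynomial (Fin 2) k →ₐ[k] K) = Ideal.span {f} := by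
  classical
  obtain ⟨x, y, hd⟩ := NonsingFinite.exists_data hK hg
  have hgen : IntermediateField.adjoin k ({x, y} : Set K) = ⊤ := by
    refine eq_top_iff.2 fun z h => ?_
    clear h
    have hz : z ∈ Algebra.adjoin (IntermediateField.adjoin k ({x} : Set K)) ({y} : Set K) := hd.gen ▸ Algebra.mem_top
    induction hz using Algebra.adjoin_induction with
    | mem w hw => rw [Set.mem_singleton_iff.1 hw]; exact IntermediateField.subset_adjoin _ _ (by simp)
    | algebraMap c =>
      exact IntermediateField.adjoin.mono k _ _ (by simp) c.2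
    | add a b _ _ ha hb => exact add_mem ha hb
    | mul a b _ _ ha hb => exact mul_mem ha hb
  letI : Algebra k[X] K := (aeval (R := k) x).toRingHom.toAlgebra
  have hinj : Function.Injective (algebraMap k[X] K) := transcendental_iff_injective.1 hd.tr
  haveI : Module.IsTorsionFree k[X] K :=
    Module.isTorsionFree_iff_faithfulSMul.2 ((faithfulSMul_iff_algebraMap_injective k[X] K).2 hinj)
  have hint : IsIntegral k[X] y := by
    obtain ⟨p, hp, hev⟩ := hd.int
    have hrange : ∀ c : Algebra.adjoin k ({x} : Set K), ∃ q : k[X], aeval x q = (c : K) := fun c => by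
      obtain ⟨c, hc⟩ := c
      rw [Algebra.adjoin_singleton_eq_range_aeval, AlgHom.mem_range] at hc
      exact hc
    let π : k[X] →+* Algebra.adjoin k ({x} : Set K) :=
      ((aeval (R := k) x).codRestrict _ fun q => aeval_mem_adjoin_singleton k x).toRingHom
    have hπ : Function.Surjective π := fun c => by
      obtain ⟨q, hq⟩ := hrange c
      exact ⟨q, Subtype.ext hq⟩
    obtain ⟨q, hq, -, hqm⟩ := Polynomial.lifts_and_natDegree_eq_and_monic
      (Polynomial.map_surjective π hπ p : p ∈ Polynomial.lifts π) hp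
    refine ⟨q, hqm, ?_⟩
    rw [show algebraMap k[X] K = (algebraMap (Algebra.adjoin k ({x} : Set K)) K).comp π from rfl,
      ← Polynomial.eval₂_map, hq]
    exact hev
  set F := minpoly k[X] y
  have hFev : ∀ G : k[X][Y], aeval y G = aevalAeval x y G := fun G => by
    induction G using Polynomial.induction_on' with
    | add p q hp hq => rw [map_add, map_add, hp, hq]
    | monomial n c =>
      rw [aeval_monomial, ← C_mul_X_pow_eq_monomial, map_mul, map_pow]
      simp [RingHom.algebraMap_toAlgebra]
  let f := equivMvPolynomial (R := k) F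
  have hker : RingHom.ker (MvPolynomial.aeval ![x, y] : MvPolynomial (Fin 2) k →ₐ[k] K) = Ideal.span {f} := by
    ext p
    rw [RingHom.mem_ker, aeval_eq_aevalAeval, ← hFev, minpoly.isIntegrallyClosed_dvd_iff hint,
      Ideal.mem_span_singleton, ← map_dvd_iff (equivMvPolynomial (R := k)), AlgEquiv.apply_symm_apply]
  refine ⟨x, y, f, hgen, fun k' _ _ hfin => ?_, hker⟩
  have hf0 : MvPolynomial.map (algebraMap k k') f ≠ 0 := by
    rw [Ne, map_eq_zero_iff _ (MvPolynomial.map_injective _ (algebraMap k k').injective)]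
    exact fun h0 => minpoly.ne_zero hint ((map_eq_zero_iff _ (equivMvPolynomial (R := k)).injective).1 h0)
  letI : Field (k' ⊗[k] K) := (hg k' hfin).toField
  have hprime : (Ideal.span {MvPolynomial.map (algebraMap k k') f}).IsPrime := by
    rw [← ker_baseChange (k' := k') x y hker]
    exact RingHom.ker_isPrime _
  exact ((Ideal.span_singleton_prime hf0).1 hprime).irreducible

theorem transcendental_or (x y : K) {f : MvPolynomial (Fin 2) k} (hirr : Irreducible f)
    (hker : RingHom.ker (MvPolynomial.aeval ![x, y] : MvPolynomial (Fin 2) k →ₐ[k] K) = Ideal.span {f}) :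
    Transcendental k x ∨ Transcendental k y := by
  by_contra hcon
  push Not at hcon
  obtain ⟨hx, hy⟩ := hcon
  simp only [Transcendental, not_not] at hx hy
  set F := (equivMvPolynomial (R := k)).symm f
  have hFirr : Irreducible F := hirr.map _
  have hdvd : ∀ G : k[X][Y], aevalAeval x y G = 0 → F ∣ G := fun G hG => by
    have : equivMvPolynomial (R := k) G ∈
        RingHom.ker (MvPolynomial.aeval ![x, y] : MvPolynomial (Fin 2) k →ₐ[k] K) := by
      rw [RingHom.mem_ker, aeval_eq_aevalAeval, AlgEquiv.symm_apply_apply, hG]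
    rw [hker, Ideal.mem_span_singleton] at this
    simpa [F] using map_dvd (equivMvPolynomial (R := k)).symm this
  obtain ⟨p, hp, hpx⟩ := hx
  obtain ⟨q, hq, hqy⟩ := hy.isIntegral
  have h1 : F ∣ C p := hdvd _ (by rw [aevalAeval_C, hpx])
  have hqy' : aevalAeval x y (q.map (C : k →+* k[X])) = 0 := by
    rw [← hqy, ← aeval_def]
    clear hqy hq
    induction q using Polynomial.induction_on' with
    | add a b ha hb => rw [Polynomial.map_add, map_add, map_add, ha, hb]
    | monomial n c =>
      rw [map_monomial, ← C_mul_X_pow_eq_monomial, map_mul, map_pow, aevalAeval_C, aeval_C, aeval_monomial]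
      simp
  have h2 : F ∣ q.map C := hdvd _ hqy'
  have hdeg : F.natDegree = 0 := by
    have := natDegree_le_of_dvd h1 (C_ne_zero.2 hp)
    rw [natDegree_C] at this
    omega
  obtain ⟨c, hc⟩ : ∃ c, F = C c := ⟨F.coeff 0, eq_C_of_natDegree_eq_zero hdeg⟩
  rw [hc, C_dvd_iff_dvd_coeff] at h2
  have h3 := h2 q.natDegree
  rw [coeff_map, hq.coeff_natDegree, map_one] at h3
  exact hFirr.not_isUnit (hc ▸ isUnit_C.2 (isUnit_of_dvd_one h3))

theorem finite_of_relation {x y : K} (hx : Transcendental k x)
    (hgen : IntermediateField.adjoin k ({x, y} : Set K) = ⊤) {F : k[X][Y]} (hF : F ≠ 0)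
    (hFxy : aevalAeval x y F = 0) :
    FiniteDimensional (IntermediateField.adjoin k ({x} : Set K)) K := by
  have halg : IsAlgebraic (IntermediateField.adjoin k ({x} : Set K)) y :=
    ⟨F.map (toAdjoin x).toRingHom, (Polynomial.map_ne_zero_iff (toAdjoin_injective hx)).2 hF,
      by rw [aeval_map_toAdjoin, hFxy]⟩
  haveI := IntermediateField.adjoin.finiteDimensional halg.isIntegral
  rw [adjoin_simple_over_eq_top hgen] at this
  exact Module.Finite.equiv (IntermediateField.topEquiv
    (F := IntermediateField.adjoin k ({x} : Set K)) (E := K)).toLinearEquiv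

theorem isGeometric_of_model (x y : K) {f : MvPolynomial (Fin 2) k}
    (hgen : IntermediateField.adjoin k ({x, y} : Set K) = ⊤)
    (hirr : ∀ (k' : Type u) [Field k'] [Algebra k k'], FiniteDimensional k k' →
      Irreducible (MvPolynomial.map (algebraMap k k') f))
    (hker : RingHom.ker (MvPolynomial.aeval ![x, y] : MvPolynomial (Fin 2) k →ₐ[k] K) = Ideal.span {f}) :
    IsGeometric k K := by
  intro k' _ _ hfin
  set φ' : MvPolynomial (Fin 2) k' →ₐ[k'] k' ⊗[k] K :=
    MvPolynomial.aeval ![(1 : k') ⊗ₜ[k] x, (1 : k') ⊗ₜ[k] y]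
  have hprime : Prime (MvPolynomial.map (algebraMap k k') f) := (hirr k' hfin).prime
  have hmap : ∀ p : MvPolynomial (Fin 2) k, φ' (MvPolynomial.map (algebraMap k k') p) =
      (1 : k') ⊗ₜ[k] MvPolynomial.aeval ![x, y] p := fun p => by
    induction p using MvPolynomial.induction_on with
    | C a =>
      rw [MvPolynomial.map_C]
      simp only [φ', MvPolynomial.aeval_C]
      rw [← IsScalarTower.algebraMap_apply k k' (k' ⊗[k] K)]
      exact ((Algebra.TensorProduct.includeRight : K →ₐ[k] k' ⊗[k] K).commutes a).symm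
    | add a b ha hb => rw [map_add, map_add, map_add, TensorProduct.tmul_add, ha, hb]
    | mul_X a i ha =>
      rw [map_mul, map_mul, map_mul, MvPolynomial.map_X, ha]
      fin_cases i <;> simp [φ']
  have hden : ∀ z : k' ⊗[k] K, ∃ s : MvPolynomial (Fin 2) k, MvPolynomial.aeval ![x, y] s ≠ 0 ∧
      ∃ r, φ' r = (1 : k') ⊗ₜ[k] MvPolynomial.aeval ![x, y] s * z := by
    intro z
    induction z using TensorProduct.induction_on with
    | zero => exact ⟨1, by simp, 0, by simp⟩
    | tmul c a =>
      have ha : a ∈ IntermediateField.adjoin k ({x, y} : Set K) := hgen ▸ IntermediateField.mem_top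
      obtain ⟨r, hr, s, hs, hrs⟩ := IntermediateField.mem_adjoin_iff_div.1 ha
      have hrange : Algebra.adjoin k ({x, y} : Set K) =
          (MvPolynomial.aeval ![x, y] : MvPolynomial (Fin 2) k →ₐ[k] K).range := by
        rw [← Algebra.adjoin_range_eq_range_aeval, Matrix.range_cons, Matrix.range_cons, Matrix.range_empty]
        congr 1
        rw [Set.union_empty, Set.singleton_union]
      rw [hrange] at hr hs
      obtain ⟨r', rfl⟩ := hr
      obtain ⟨s', rfl⟩ := hs
      by_cases hs0 : MvPolynomial.aeval ![x, y] s' = 0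
      · obtain rfl : a = 0 := by
          rw [hrs]
          exact (congrArg (fun t => _ / t) hs0).trans (div_zero _)
        exact ⟨1, by simp, 0, by simp⟩
      refine ⟨s', hs0, MvPolynomial.C c * MvPolynomial.map (algebraMap k k') r', ?_⟩
      rw [map_mul, hmap, hrs]
      simp [φ', mul_div_cancel₀ _ hs0, Algebra.TensorProduct.algebraMap_apply]
    | add a b ha hb =>
      obtain ⟨s, hs, r, hr⟩ := ha
      obtain ⟨s', hs', r', hr'⟩ := hb
      refine ⟨s * s', by rw [map_mul]; exact mul_ne_zero hs hs',
        r * MvPolynomial.map (algebraMap k k') s' + r' * MvPolynomial.map (algebraMap k k') s, ?_⟩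
      simp only [map_add, map_mul, hr, hr', hmap]
      rw [show (1 : k') ⊗ₜ[k] (MvPolynomial.aeval ![x, y] s * MvPolynomial.aeval ![x, y] s') =
        (1 : k') ⊗ₜ[k] MvPolynomial.aeval ![x, y] s * (1 : k') ⊗ₜ[k] MvPolynomial.aeval ![x, y] s' by
          rw [Algebra.TensorProduct.tmul_mul_tmul, one_mul]]
      ring
  haveI : Nontrivial (k' ⊗[k] K) :=
    (Algebra.TensorProduct.includeRight_injective (R := k) (A := k') (B := K)
      (algebraMap k k').injective).nontrivial
  have hu : ∀ s : MvPolynomial (Fin 2) k, MvPolynomial.aeval ![x, y] s ≠ 0 →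
      IsUnit ((1 : k') ⊗ₜ[k] MvPolynomial.aeval ![x, y] s) := fun s hs =>
    (Ne.isUnit hs).map (Algebra.TensorProduct.includeRight : K →ₐ[k] k' ⊗[k] K)
  haveI : NoZeroDivisors (k' ⊗[k] K) := ⟨fun {a b} hab => by
    obtain ⟨s, hs, r, hr⟩ := hden a
    obtain ⟨s', hs', r', hr'⟩ := hden b
    have h0 : r * r' ∈ RingHom.ker φ' := by
      rw [RingHom.mem_ker, map_mul, hr, hr', mul_mul_mul_comm, hab, mul_zero]
    rw [ker_baseChange x y hker, Ideal.mem_span_singleton] at h0
    rcases hprime.dvd_or_dvd h0 with h | h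
    · left
      have : φ' r = 0 := by
        rw [← RingHom.mem_ker, ker_baseChange x y hker, Ideal.mem_span_singleton]; exact h
      rw [hr] at this
      exact (hu s hs).mul_right_eq_zero.1 this
    · right
      have : φ' r' = 0 := by
        rw [← RingHom.mem_ker, ker_baseChange x y hker, Ideal.mem_span_singleton]; exact h
      rw [hr'] at this
      exact (hu s' hs').mul_right_eq_zero.1 this⟩
  haveI : IsDomain (k' ⊗[k] K) := NoZeroDivisors.to_isDomain _
  letI : Algebra K (k' ⊗[k] K) := Algebra.TensorProduct.rightAlgebra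
  haveI : IsScalarTower k K (k' ⊗[k] K) := IsScalarTower.of_algebraMap_eq fun c =>
    ((Algebra.TensorProduct.includeRight : K →ₐ[k] k' ⊗[k] K).commutes c).symm
  haveI : Algebra.IsIntegral K (k' ⊗[k] K) := ⟨fun z => by
    induction z using TensorProduct.induction_on with
    | zero => exact isIntegral_zero
    | tmul c a =>
      have h1 : IsIntegral k (c ⊗ₜ[k] (1 : K)) :=
        (Algebra.IsIntegral.isIntegral (R := k) c).map
          (Algebra.TensorProduct.includeLeft : k' →ₐ[k] k' ⊗[k] K)
      have : c ⊗ₜ[k] a = (c ⊗ₜ[k] (1 : K)) * algebraMap K (k' ⊗[k] K) a := by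
        show _ = _ * ((1 : k') ⊗ₜ[k] a)
        rw [Algebra.TensorProduct.tmul_mul_tmul, mul_one, one_mul]
      rw [this]
      exact h1.tower_top.mul isIntegral_algebraMap
    | add a b ha hb => exact ha.add hb⟩
  exact isField_of_isIntegral_of_isField' (Field.toIsField K)

theorem isFunctionField_of_model (x y : K) {f : MvPolynomial (Fin 2) k}
    (hgen : IntermediateField.adjoin k ({x, y} : Set K) = ⊤)
    (hirr : Irreducible f) (hg : IsGeometric k K)
    (hker : RingHom.ker (MvPolynomial.aeval ![x, y] : MvPolynomial (Fin 2) k →ₐ[k] K) = Ideal.span {f}) :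
    IsFunctionField k K := by
  set F := (equivMvPolynomial (R := k)).symm f
  have hF : F ≠ 0 := (hirr.map (equivMvPolynomial (R := k)).symm).ne_zero
  have hFxy : aevalAeval x y F = 0 := by
    rw [← aeval_eq_aevalAeval, ← RingHom.mem_ker, hker]
    exact Ideal.mem_span_singleton_self f
  refine ⟨?_, fun c hc => ?_⟩
  · rcases transcendental_or x y hirr hker with hx | hy
    · exact ⟨x, hx, finite_of_relation hx hgen hF hFxy⟩
    · refine ⟨y, hy, finite_of_relation (F := Bivariate.swap F) hy (by rwa [Set.pair_comm]) ?_ ?_⟩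
      · simpa using hF
      · rw [Bivariate.aevalAeval_swap, hFxy]
  · have hint : IsIntegral k c := hc.isIntegral
    haveI := Fact.mk (minpoly.irreducible hint)
    haveI : FiniteDimensional k (AdjoinRoot (minpoly k c)) := (minpoly.monic hint).finite_adjoinRoot
    set E := AdjoinRoot (minpoly k c)
    let ι : E →ₐ[k] K := AdjoinRoot.liftAlgHom (minpoly k c) (Algebra.ofId k K) c (minpoly.aeval k c)
    letI : Field (E ⊗[k] K) := (hg E inferInstance).toField
    have hinj : Function.Injective (Algebra.TensorProduct.map (AlgHom.id k E) ι) :=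
      Module.Flat.lTensor_preserves_injective_linearMap (M := E) ι.toLinearMap ι.toRingHom.injective
    haveI : IsDomain (E ⊗[k] E) := hinj.isDomain (Algebra.TensorProduct.map (AlgHom.id k E) ι)
    letI : Field (E ⊗[k] E) :=
      (isField_of_isIntegral_of_isField' (R := k) (S := E ⊗[k] E) (Field.toIsField k)).toField
    have hmul : Function.Injective (Algebra.TensorProduct.lmul' k (S := E)) :=
      (Algebra.TensorProduct.lmul' k (S := E)).toRingHom.injective
    have hle := LinearMap.finrank_le_finrank_of_injective (f := (Algebra.TensorProduct.lmul' k (S := E)).toLinearMap) hmul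
    rw [Module.finrank_tensorProduct] at hle
    have hd : Module.finrank k E = (minpoly k c).natDegree := by
      rw [(AdjoinRoot.powerBasis (minpoly.ne_zero hint)).finrank, AdjoinRoot.powerBasis_dim]
    have hpos := minpoly.natDegree_pos hint
    rw [hd] at hle
    have h1 : (minpoly k c).natDegree = 1 := by nlinarith
    exact minpoly.natDegree_eq_one_iff.1 h1

end GrothLib.FunFld.AbsIrred
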