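import Groth.Agent.Lib.FunFld.Unramified
import Mathlib.FieldTheory.IsSepClosed

/-!
There are infinitely many separable places.
-/

set_option autoImplicit false
set_option linter.style.haveILetI false
set_option linter.unusedSectionVars false

namespace GrothLib.FunFld

open _root_.FunFld WithZero Polynomial
open IntermediateField (adjoin mem_adjoin_simple_self)

universe u v

variable {k : Type u} {K : Type v} [Field k] [Field K] [Algebra k K]

theorem infinite_separable_irreducible :
    {p : k[X] | p.Monic ∧ Irreducible p ∧ p.Separable}.Infinite := by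
  intro hfin
  haveI := hfin.to_subtype
  haveI : Infinite (SeparableClosure k) := by
    by_contra hf
    haveI : Finite k := by
      haveI := not_infinite_iff_finite.mp hf
      exact Finite.of_injective _ (algebraMap k (SeparableClosure k)).injective
    haveI : IsAlgClosed (SeparableClosure k) := by
      haveI : PerfectField k := PerfectField.ofFinite
      haveI : PerfectField (SeparableClosure k) := Algebra.IsAlgebraic.perfectField k
      exact IsSepClosed.isAlgClosed_of_perfectField _
    exact hf IsAlgClosed.instInfinite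
  let F : SeparableClosure k → k[X] := minpoly k
  have hrange : Set.range F ⊆ {p : k[X] | p.Monic ∧ Irreducible p ∧ p.Separable} := by
    rintro _ ⟨a, rfl⟩
    have ha := Algebra.IsSeparable.isSeparable k a
    exact ⟨minpoly.monic ha.isIntegral, minpoly.irreducible ha.isIntegral, ha⟩
  have : (Set.univ : Set (SeparableClosure k)).Finite := by
    refine Set.Finite.subset ((hfin.subset hrange).biUnion fun p hp => p.rootSet_finite _) fun a _ => ?_
    refine Set.mem_biUnion (x := F a) ⟨a, rfl⟩ ?_
    exact (Polynomial.mem_rootSet).mpr ⟨minpoly.ne_zero (Algebra.IsIntegral.isIntegral a), minpoly.aeval k a⟩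
  exact Set.infinite_univ this

theorem val_aeval_lt_one_pole (P : Place k K) {x : K} (hx : 1 < val P x) (p : k[X]) (hp : p.Monic) :
    1 ≤ val P (aeval x p) := by
  rw [aeval_eq_sum_range, Finset.sum_range_succ, hp.coeff_natDegree, one_smul]
  rw [(val P).map_add_eq_of_lt_right, map_pow]
  · exact one_le_pow₀ hx.le
  · rw [map_pow]
    refine (val P).map_sum_lt (pow_ne_zero _ (ne_zero_of_lt hx)) fun i hi => ?_
    rw [Algebra.smul_def, map_mul, map_pow]
    exact (mul_le_of_le_one_left' (P.2.1 _)).trans_lt (pow_lt_pow_right₀ hx (Finset.mem_range.1 hi))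

theorem infinite_separable_places (hK : IsFunctionField k K) (hg : IsGeometric k K) :
    {P : Place k K | Algebra.IsSeparable k (IsLocalRing.ResidueField P.O)}.Infinite := by
  classical
  have h := IsFG.of_isFunctionField hK
  obtain ⟨x, hx, hsep⟩ := exists_separatingElement h hg
  set L := adjoin k ({x} : Set K)
  haveI : FiniteDimensional L K := h.finiteDimensional_adjoin hx
  have hL : IsFG k L := by
    refine ⟨⟨x, mem_adjoin_simple_self k x⟩, fun ha => hx (ha.algHom L.val), ?_⟩
    have : adjoin k ({(⟨x, mem_adjoin_simple_self k x⟩ : L)} : Set L) = ⊤ := by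
      apply IntermediateField.map_injective L.val
      rw [IntermediateField.adjoin_map, Set.image_singleton, ← AlgHom.fieldRange_eq_map,
        IntermediateField.fieldRange_val]
      rfl
    rw [this]
    exact Module.Finite.of_surjective (Algebra.linearMap (⊤ : IntermediateField k L) L)
      fun z => ⟨⟨z, trivial⟩, rfl⟩
  obtain ⟨y, B, hB, hgood⟩ := exists_finite_good (k := k) K hL
  set S := {P : Place k K | ∃ p : k[X], p.Monic ∧ Irreducible p ∧ p.Separable ∧ 0 < P.ord (aeval x p)}
  have hSinf : S.Infinite := by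
    have hex : ∀ p : {p : k[X] | p.Monic ∧ Irreducible p ∧ p.Separable},
        ∃ P : Place k K, 0 < P.ord (aeval x p.1) := fun p => h.exists_zero (by
          obtain ⟨hm, hirr, -⟩ := p.2
          exact hx.aeval p.1 hirr.natDegree_pos.ne' (by rw [hm.leadingCoeff]; exact one_mem _))
    choose F hF using hex
    haveI := (infinite_separable_irreducible (k := k)).to_subtype
    have hinj : Function.Injective F := fun p q hpq => by
      by_contra hne
      have h1 := hF p
      have h2 := hF q
      rw [← hpq] at h2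
      have hcop : IsCoprime p.1 q.1 := p.2.2.1.coprime_iff_not_dvd.mpr fun hdvd =>
        hne (Subtype.ext (eq_of_monic_of_associated p.2.1 q.2.1 (p.2.2.1.associated_of_dvd q.2.2.1 hdvd)))
      obtain ⟨a, b, hab⟩ := hcop
      have hxv : val (F p) x ≤ 1 := by
        by_contra hc
        have := val_aeval_lt_one_pole (F p) (not_le.mp hc) p.1 p.2.1
        have h0 : aeval x p.1 ≠ 0 := fun h0 => by rw [h0, map_zero] at this; exact not_lt.mpr this zero_lt_one
        exact not_lt.mpr this ((val_lt_one_iff _ h0).mpr h1)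
      have hlt : ∀ r : k[X], 0 < (F p).ord (aeval x r) → ∀ c : k[X], val (F p) (aeval x (c * r)) < 1 := by
        intro r hr c
        have h0 : aeval x r ≠ 0 := fun h0 => by rw [h0, ord_zero] at hr; exact lt_irrefl _ hr
        rw [map_mul, map_mul]
        refine lt_of_le_of_lt (mul_le_of_le_one_left' ?_) ((val_lt_one_iff _ h0).mpr hr)
        rw [aeval_eq_sum_range]
        refine (val (F p)).map_sum_le fun i _ => ?_
        rw [Algebra.smul_def, map_mul, map_pow]
        exact mul_le_one' ((F p).2.1 _) (pow_le_one₀ zero_le hxv)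
      have : val (F p) (1 : K) < 1 := by
        rw [← map_one (aeval (R := k) x), ← hab, map_add]
        exact lt_of_le_of_lt ((val (F p)).map_add _ _) (max_lt (hlt _ h1 a) (hlt _ h2 b))
      rw [map_one] at this
      exact lt_irrefl _ this
    exact (Set.infinite_range_of_injective hinj).mono (by
      rintro _ ⟨p, rfl⟩
      exact ⟨p.1, p.2.1, p.2.2.1, p.2.2.2, hF p⟩)
  refine (hSinf.sdiff (hB.biUnion fun P _ => (sum_ramIdx (K' := K) hL P).1)).mono ?_
  rintro Q ⟨⟨p, hm, hirr, hsepp, hord⟩, hQB⟩
  obtain ⟨P, e, -, he⟩ := exists_isOverWith (K := L) Q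
  have hPB : P ∉ B := fun hPB => hQB (Set.mem_biUnion hPB ⟨e, he⟩)
  obtain ⟨-, hy, f, hf0, hf', hgen⟩ := hgood P hPB Q e he
  have h0 : aeval x p ≠ 0 := fun h0 => by rw [h0, ord_zero] at hord; exact lt_irrefl _ hord
  have hplt : val Q (aeval x p) < 1 := (val_lt_one_iff Q h0).mpr hord
  have hxQ : x ∈ Q.O := not_lt.mp fun hc =>
    not_le.mpr hplt (val_aeval_lt_one_pole Q hc p hm)
  set xb := res Q ⟨x, hxQ⟩ with hxb
  have hxbp : aeval xb p = 0 := by
    rw [hxb, aeval_algHom_apply]
    refine (res_eq_zero_iff Q _).mpr ?_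
    have : ((aeval (⟨x, hxQ⟩ : Q.O) p : Q.O) : K) = aeval x p :=
      (aeval_algHom_apply (incO Q) (⟨x, hxQ⟩ : Q.O) p).symm
    rw [this]; exact hplt
  have hxsep : IsSeparable k xb := hsepp.of_dvd (minpoly.dvd k xb hxbp)
  set yb := res Q ⟨y, hy⟩
  have hint : ∀ z : IsLocalRing.ResidueField Q.O, IsIntegral k z := fun z => by
    have hfin : @Module.Finite k (IsLocalRing.ResidueField Q.O) _ _ Algebra.toModule := h.finite_residueField Q
    exact @IsIntegral.of_finite k (IsLocalRing.ResidueField Q.O) _ _ _ hfin z
  haveI : Algebra.IsAlgebraic k (IsLocalRing.ResidueField Q.O) := ⟨fun z => (hint z).isAlgebraic⟩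
  set T := adjoin k ({xb} : Set (IsLocalRing.ResidueField Q.O))
  have hbase : ∀ a, resBelow he a ∈ T := by
    intro a
    obtain ⟨c, rfl⟩ := IsLocalRing.residue_surjective a
    obtain ⟨num, den, hcd⟩ := IntermediateField.mem_adjoin_simple_iff k ((c : L) : K) |>.mp (c : L).2
    have hcQ : ((c : L) : K) ∈ Q.O := (inclBelow he c).2
    rw [resBelow_residue]
    show res Q ⟨((c : L) : K), hcQ⟩ ∈ T
    rcases eq_or_ne (aeval x den) 0 with hd0 | hd0
    · rw [show (⟨((c : L) : K), hcQ⟩ : Q.O) = 0 from Subtype.ext (by rw [hcd, hd0, div_zero]; rfl), map_zero]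
      exact zero_mem _
    have hden : den ≠ 0 := fun h0 => hd0 (by rw [h0, map_zero])
    obtain ⟨g, num', den', hg, rfl, rfl⟩ : ∃ g num' den', IsCoprime num' den' ∧
        num = g * num' ∧ den = g * den' := by
      obtain ⟨n', d', hn, hd, hcop⟩ := extract_gcd num den
      exact ⟨gcd num den, n', d', (gcd_isUnit_iff _ _).mp hcop, hn, hd⟩
    rw [map_mul] at hd0
    rw [map_mul, map_mul, mul_div_mul_left _ _ (left_ne_zero_of_mul hd0)] at hcd
    have hd' := right_ne_zero_of_mul hd0
    have hmem : ∀ r : k[X], aeval x r ∈ Q.O ∧ ∀ hr : aeval x r ∈ Q.O, res Q ⟨aeval x r, hr⟩ = aeval xb r := by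
      intro r
      have h1 : aeval x r = ((aeval (⟨x, hxQ⟩ : Q.O) r : Q.O) : K) :=
        aeval_algHom_apply (incO Q) (⟨x, hxQ⟩ : Q.O) r
      refine ⟨h1 ▸ (aeval (⟨x, hxQ⟩ : Q.O) r).2, fun hr => ?_⟩
      rw [hxb, aeval_algHom_apply]
      exact congrArg (res Q) (Subtype.ext h1)
    have heq : aeval xb num' = res Q ⟨((c : L) : K), hcQ⟩ * aeval xb den' := by
      rw [← (hmem num').2 (hmem num').1, ← (hmem den').2 (hmem den').1, ← map_mul]
      congr 1
      refine Subtype.ext ?_
      show aeval x num' = ((c : L) : K) * aeval x den'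
      rw [hcd, div_mul_cancel₀ _ hd']
    have hdxb : aeval xb den' ≠ 0 := by
      intro hz
      rw [hz, mul_zero] at heq
      obtain ⟨a, b, hab⟩ := hg
      have := congrArg (aeval xb) hab
      rw [map_add, map_mul, map_mul, heq, hz, mul_zero, mul_zero, add_zero, map_one] at this
      exact zero_ne_one this
    rw [eq_div_of_mul_eq hdxb heq.symm]
    have ha : ∀ r : k[X], aeval xb r ∈ T := fun r =>
      IntermediateField.algebra_adjoin_le_adjoin k _ (aeval_mem_adjoin_singleton k xb)
    exact div_mem (ha _) (ha _)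
  let φ : IsLocalRing.ResidueField P.O →+* T := (resBelow he).codRestrict T.toSubfield hbase
  haveI : Algebra.IsSeparable k T :=
    (IntermediateField.isSeparable_adjoin_simple_iff_isSeparable k _).mpr hxsep
  have hysepT : IsSeparable T yb := by
    have hcomp : (algebraMap T (IsLocalRing.ResidueField Q.O)).comp φ = resBelow he := rfl
    have h1 : aeval yb (f.map φ) = 0 := by
      rw [aeval_def, eval₂_map, hcomp]; exact hf0
    have h2 : aeval yb (f.map φ).derivative ≠ 0 := by
      rw [derivative_map, aeval_def, eval₂_map, hcomp]; exact hf'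
    have hi : IsIntegral T yb := (hint yb).tower_top
    refine (separable_iff_derivative_ne_zero (minpoly.irreducible hi)).mpr fun h0 => h2 ?_
    obtain ⟨g, hg⟩ := minpoly.dvd T yb h1
    rw [hg, derivative_mul, map_add, map_mul, map_mul, minpoly.aeval, h0, map_zero, zero_mul, zero_mul,
      add_zero]
  have hysep : IsSeparable k yb := IsSeparable.of_algebra_isSeparable_of_isSeparable k hysepT
  refine ⟨fun a => ?_⟩
  have hle : a ∈ separableClosure k (IsLocalRing.ResidueField Q.O) := by
    obtain ⟨q, rfl⟩ := hgen a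
    rw [eval₂_eq_sum_range]
    refine sum_mem fun i _ => mul_mem ?_ (pow_mem (mem_separableClosure_iff.mpr hysep) _)
    exact IntermediateField.adjoin_le_iff.mpr (Set.singleton_subset_iff.mpr
      (mem_separableClosure_iff.mpr hxsep)) (hbase _)
  exact mem_separableClosure_iff.mp hle

end GrothLib.FunFld
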