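import Groth.Agent.Lib.FunFld.ConstExt
import Groth.Agent.Lib.FunFld.SeparablePlaces
import Mathlib.FieldTheory.Minpoly.IsIntegrallyClosed

/-!
The affine ring of a plane curve monic in `y`, as an intersection over the finite places of `k(x)`.
-/

set_option autoImplicit false
set_option linter.style.haveILetI false

namespace GrothLib.FunFld

open _root_.FunFld Polynomial WithZero

variable {k K : Type*} [Field k] [Field K] [Algebra k K]

/-- An element of `k(x)` integral at all finite places is a polynomial in `x`. -/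
theorem mem_adjoin_of_forall_le_one {L : Type*} [Field L] [Algebra k L] (hL : IsFG k L) {x : L}
    (hx : Transcendental k x) (hgen : IntermediateField.adjoin k ({x} : Set L) = ⊤) {z : L}
    (hz : ∀ P : Place k L, val P x ≤ 1 → val P z ≤ 1) : z ∈ Algebra.adjoin k ({x} : Set L) := by
  classical
  have hz' : z ∈ IntermediateField.adjoin k ({x} : Set L) := hgen ▸ IntermediateField.mem_top
  obtain ⟨p, q, hpq⟩ := IntermediateField.mem_adjoin_simple_iff _ _ |>.mp hz'
  have hne : ∀ r : k[X], r ≠ 0 → aeval x r ≠ 0 := fun r hr h0 => hr (transcendental_iff.mp hx r h0)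
  by_cases hq : q = 0
  · rw [hq, map_zero, div_zero] at hpq
    rw [hpq]; exact zero_mem _
  obtain ⟨p', hp'⟩ := EuclideanDomain.gcd_dvd_left p q
  obtain ⟨q', hq'⟩ := EuclideanDomain.gcd_dvd_right p q
  set g := EuclideanDomain.gcd p q with hg
  have hg0 : g ≠ 0 := left_ne_zero_of_mul (hq' ▸ hq)
  have hq0 : q' ≠ 0 := right_ne_zero_of_mul (hq' ▸ hq)
  have hco : ∃ a b, a * p' + b * q' = 1 := by
    refine ⟨EuclideanDomain.gcdA p q, EuclideanDomain.gcdB p q, mul_left_cancel₀ hg0 ?_⟩
    have h := EuclideanDomain.gcd_eq_gcd_ab p q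
    rw [← hg] at h
    rw [mul_one]
    linear_combination -h - EuclideanDomain.gcdA p q * hp' - EuclideanDomain.gcdB p q * hq'
  have hzq : z * aeval x q' = aeval x p' := by
    rw [hpq, hp', hq', map_mul, map_mul, mul_div_mul_left _ _ (hne g hg0), div_mul_cancel₀ _ (hne q' hq0)]
  have hu : IsUnit q' := by
    by_contra hu
    obtain ⟨r, hr, hrq⟩ := WfDvdMonoid.exists_irreducible_factor hu hq0
    obtain ⟨P, hP⟩ := hL.exists_zero (hx.aeval r hr.natDegree_pos.ne' (by
      simpa using mem_nonZeroDivisors_of_ne_zero (leadingCoeff_ne_zero.mpr hr.ne_zero)))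
    have hr1 : val P (aeval x r) < 1 := by
      rw [val_eq P (hne r hr.ne_zero), ← exp_zero, exp_lt_exp]; omega
    have hx1 : val P x ≤ 1 := by
      by_contra hlt
      rw [not_le] at hlt
      have hlc : r.leadingCoeff ≠ 0 := leadingCoeff_ne_zero.mpr hr.ne_zero
      have h1 := val_aeval_lt_one_pole P hlt (r * C r.leadingCoeff⁻¹) (monic_mul_leadingCoeff_inv hr.ne_zero)
      rw [map_mul, aeval_C, map_mul, val_const P (inv_ne_zero hlc), mul_one] at h1
      exact absurd h1 (not_le.mpr hr1)
    have hle : ∀ s : k[X], val P (aeval x s) ≤ 1 := fun s => by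
      rw [aeval_eq_sum_range]
      refine (val P).map_sum_le fun i _ => ?_
      rw [Algebra.smul_def, map_mul, map_pow]
      exact mul_le_one' (P.2.1 _) (pow_le_one₀ zero_le hx1)
    obtain ⟨r', hr'⟩ := hrq
    have hq1 : val P (aeval x q') < 1 := by
      rw [hr', map_mul, map_mul]
      exact (mul_le_of_le_one_right' (hle r')).trans_lt hr1
    have hp1 : val P (aeval x p') < 1 := by
      rw [← hzq, map_mul]
      exact (mul_le_of_le_one_left' (hz P hx1)).trans_lt hq1
    obtain ⟨a, b, hab⟩ := hco
    have h1 := congrArg (fun s => val P (aeval x s)) hab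
    simp only [map_add, map_mul, map_one] at h1
    refine h1.not_lt (lt_of_le_of_lt ((val P).map_add _ _) (max_lt ?_ ?_))
    · rw [map_mul]; exact (mul_le_of_le_one_left' (hle a)).trans_lt hp1
    · rw [map_mul]; exact (mul_le_of_le_one_left' (hle b)).trans_lt hq1
  obtain ⟨c, hc, rfl⟩ := Polynomial.isUnit_iff.mp hu
  have hc0 : c ≠ 0 := hc.ne_zero
  have : z = aeval x (C c⁻¹ * p') := by
    rw [map_mul, aeval_C, ← hzq, aeval_C, mul_comm z, ← mul_assoc, ← map_mul, inv_mul_cancel₀ hc0, map_one,
      one_mul]
  rw [this]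
  exact Polynomial.aeval_mem_adjoin_singleton k x

/-- The coordinate ring is the intersection of its localizations at the finite places of `k(x)`. -/
theorem adjoin_pair_eq_iInter (hK : IsFunctionField k K) (x y : K) (hx : Transcendental k x)
    (hxy : IntermediateField.adjoin k ({x, y} : Set K) = ⊤)
    (hy : IsIntegral (Algebra.adjoin k ({x} : Set K)) y) :
    (Algebra.adjoin k ({x, y} : Set K) : Set K) =
      ⋂ (P : Place k (IntermediateField.adjoin k ({x} : Set K)))
        (_ : P.1 ⟨x, IntermediateField.mem_adjoin_simple_self k x⟩ ≤ 1),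
        (Subring.closure
          ((algebraMap (IntermediateField.adjoin k ({x} : Set K)) K '' (P.O : Set _)) ∪ {y}) :
          Set K) := by
  classical
  set L := IntermediateField.adjoin k ({x} : Set K) with hLdef
  haveI : FiniteDimensional L K := IsFG.finiteDimensional_adjoin hK.1 hx
  obtain ⟨hL, -⟩ := isFunctionField_intermediateField hK L
    ⟨x, IntermediateField.mem_adjoin_simple_self k x, hx⟩
  set xL : L := ⟨x, IntermediateField.mem_adjoin_simple_self k x⟩ with hxL
  have hxt : Transcendental k xL := fun h0 => hx (h0.algHom L.val)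
  have hgen : IntermediateField.adjoin k ({xL} : Set L) = ⊤ := by
    refine IntermediateField.map_injective L.val ?_
    rw [IntermediateField.adjoin_map, ← AlgHom.fieldRange_eq_map, IntermediateField.fieldRange_val,
      Set.image_singleton]
    rfl
  have hyint : IsIntegral L y := Algebra.IsIntegral.isIntegral y
  set g := minpoly L y with hg
  have hxle : ∀ P : Place k L, val P xL ≤ 1 → ∀ a ∈ Algebra.adjoin k ({x} : Set K),
      ∃ b : L, val P b ≤ 1 ∧ algebraMap L K b = a := by
    intro P hP a ha
    induction ha using Algebra.adjoin_induction with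
    | mem a ha => rw [Set.mem_singleton_iff] at ha; exact ⟨xL, hP, ha.symm⟩
    | algebraMap c => exact ⟨algebraMap k L c, P.2.1 c, (IsScalarTower.algebraMap_apply k L K c).symm⟩
    | add a b _ _ iha ihb =>
      obtain ⟨a', ha', rfl⟩ := iha
      obtain ⟨b', hb', rfl⟩ := ihb
      exact ⟨a' + b', ((val P).map_add _ _).trans (max_le ha' hb'), map_add _ _ _⟩
    | mul a b _ _ iha ihb =>
      obtain ⟨a', ha', rfl⟩ := iha
      obtain ⟨b', hb', rfl⟩ := ihb
      exact ⟨a' * b', by rw [map_mul]; exact mul_le_one' ha' hb', map_mul _ _ _⟩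
  -- the minimal polynomial is integral at the finite places
  have hgO : ∀ P : Place k L, val P xL ≤ 1 → ∀ i, g.coeff i ∈ P.O := by
    intro P hP i
    letI : Algebra P.O K := ((algebraMap L K).comp P.O.subtype).toAlgebra
    haveI : IsScalarTower P.O L K := IsScalarTower.of_algebraMap_eq fun _ => rfl
    have hint : IsIntegral P.O y := by
      refine (isIntegral_iff_forall hL.1 y).mpr fun Q hQ => ?_
      obtain ⟨f, hf, hfy⟩ := hy
      obtain ⟨e, he⟩ := hQ
      by_contra hlt
      rw [not_le] at hlt
      have hcoef : ∀ i, val Q ((f.coeff i : Algebra.adjoin k ({x} : Set K)) : K) ≤ 1 := fun i => by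
        obtain ⟨b, hb, hb'⟩ := hxle P hP _ (f.coeff i).2
        rw [← hb', show val Q (algebraMap L K b) = _ from he b]
        exact pow_le_one₀ zero_le hb
      rw [eval₂_eq_sum_range, Finset.sum_range_succ, hf.coeff_natDegree, map_one, one_mul] at hfy
      have hlt' : val Q (∑ i ∈ Finset.range f.natDegree,
          algebraMap (Algebra.adjoin k ({x} : Set K)) K (f.coeff i) * y ^ i) < val Q (y ^ f.natDegree) := by
        refine (val Q).map_sum_lt (by rw [map_pow]; exact pow_ne_zero _ (ne_zero_of_lt hlt)) fun i hi => ?_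
        rw [map_mul, map_pow, map_pow]
        exact (mul_le_of_le_one_left' (hcoef i)).trans_lt (pow_lt_pow_right₀ hlt (Finset.mem_range.1 hi))
      have h := (val Q).map_add_eq_of_lt_right hlt'
      rw [hfy, map_zero, map_pow] at h
      exact pow_ne_zero _ (ne_zero_of_lt hlt) h.symm
    rw [hg, minpoly.isIntegrallyClosed_eq_field_fractions' L hint, coeff_map]
    exact ((minpoly P.O y).coeff i).2
  -- elements of the localizations
  have hrep : ∀ (P : Place k L), val P xL ≤ 1 → ∀ z ∈ Subring.closure
      ((algebraMap L K '' (P.O : Set L)) ∪ {y}), ∃ p : L[X], (∀ i, p.coeff i ∈ P.O) ∧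
        p.degree < g.degree ∧ aeval y p = z := by
    intro P hP z hz
    have h1 : ∀ z ∈ Subring.closure ((algebraMap L K '' (P.O : Set L)) ∪ {y}),
        ∃ p : P.O[X], aeval y (p.map P.O.subtype) = z := by
      intro z hz
      have hle : Subring.closure ((algebraMap L K '' (P.O : Set L)) ∪ {y}) ≤
          ((aeval y).toRingHom.comp (mapRingHom P.O.subtype)).range := by
        rw [Subring.closure_le]
        rintro _ (⟨a, ha, rfl⟩ | rfl)
        · exact ⟨C ⟨a, ha⟩, by simp⟩
        · exact ⟨X, by simp⟩
      exact hle hz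
    obtain ⟨p, hp⟩ := h1 z hz
    obtain ⟨g₀, hg₀, -, hg₀m⟩ := lifts_and_degree_eq_and_monic
      ((lifts_iff_coeff_lifts g).mpr fun i => ⟨⟨_, hgO P hP i⟩, rfl⟩ : g ∈ lifts P.O.subtype)
      (minpoly.monic hyint)
    refine ⟨(p %ₘ g₀).map P.O.subtype, fun i => by rw [coeff_map]; exact ((p %ₘ g₀).coeff i).2, ?_, ?_⟩
    · rw [map_modByMonic _ hg₀m, hg₀]
      exact degree_modByMonic_lt _ (minpoly.monic hyint)
    · rw [map_modByMonic _ hg₀m, hg₀, ← hp, aeval_modByMonic_eq_self_of_root (minpoly.aeval L y)]
  ext z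
  simp only [Set.mem_iInter, SetLike.mem_coe]
  constructor
  · intro hz P hP
    induction hz using Algebra.adjoin_induction with
    | mem a ha =>
      rcases ha with rfl | rfl
      · exact Subring.subset_closure (Or.inl ⟨_, hP, rfl⟩)
      · exact Subring.subset_closure (Or.inr rfl)
    | algebraMap c =>
      exact Subring.subset_closure (Or.inl ⟨algebraMap k L c, P.2.1 c, (IsScalarTower.algebraMap_apply k L K c).symm⟩)
    | add a b _ _ iha ihb => exact add_mem iha ihb
    | mul a b _ _ iha ihb => exact mul_mem iha ihb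
  · intro hz
    obtain ⟨P₀, hP₀⟩ := IsFG.exists_zero hL.1 hxt
    have hP₀' : val P₀ xL ≤ 1 := by
      rw [val_eq P₀ (fun h : xL = 0 => hxt (h ▸ isAlgebraic_zero)), ← exp_zero, exp_le_exp]; omega
    obtain ⟨p, -, hpdeg, hpz⟩ := hrep P₀ hP₀' z (hz P₀ hP₀')
    have hcoef : ∀ i, p.coeff i ∈ Algebra.adjoin k ({xL} : Set L) := fun i => by
      refine mem_adjoin_of_forall_le_one hL.1 hxt hgen fun P hP => ?_
      obtain ⟨p', hp', hp'deg, hp'z⟩ := hrep P hP z (hz P hP)
      have h0 : p = p' := by
        by_contra hne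
        have hle := minpoly.degree_le_of_ne_zero L y (sub_ne_zero.mpr hne)
          (by rw [map_sub, hpz, hp'z, sub_self])
        exact absurd ((degree_sub_le p p').trans_lt (max_lt hpdeg hp'deg)) (not_lt.mpr hle)
      rw [h0]
      exact hp' i
    rw [← hpz, aeval_eq_sum_range]
    refine sum_mem fun i _ => ?_
    rw [Algebra.smul_def]
    refine mul_mem ?_ (pow_mem (Algebra.subset_adjoin (show y ∈ ({x, y} : Set K) from Or.inr rfl)) i)
    have : ∀ a ∈ Algebra.adjoin k ({xL} : Set L), algebraMap L K a ∈ Algebra.adjoin k ({x, y} : Set K) := by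
      intro a ha
      induction ha using Algebra.adjoin_induction with
      | mem a ha => rw [Set.mem_singleton_iff] at ha; subst ha; exact Algebra.subset_adjoin (Or.inl rfl)
      | algebraMap c => rw [← IsScalarTower.algebraMap_apply]; exact Subalgebra.algebraMap_mem _ _
      | add a b _ _ iha ihb => rw [map_add]; exact add_mem iha ihb
      | mul a b _ _ iha ihb => rw [map_mul]; exact mul_mem iha ihb
    exact this _ (hcoef i)

end GrothLib.FunFld
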