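import Groth.Agent.Lib.FunFld.Basic

/-! Independence of finitely many places: weak approximation. -/

namespace GrothLib.FunFld

open _root_.FunFld WithZero

variable {k K : Type*} [Field k] [Field K] [Algebra k K]

local notation "Γ" => WithZero (Multiplicative ℤ)

theorem exp_natCast_le_pow {a : Γ} (ha : 1 < a) (N : ℕ) : exp (N : ℤ) ≤ a ^ N := by
  have ha0 : a ≠ 0 := by rintro rfl; simp at ha
  rw [← exp_log ha0] at ha ⊢
  rw [← exp_zero, exp_lt_exp] at ha
  rw [← exp_nsmul, exp_le_exp, nsmul_eq_mul]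
  nlinarith

theorem pow_le_exp_neg {a : Γ} (ha : a < 1) {N : ℕ} (hN : 1 ≤ N) : a ^ N ≤ exp (-(N : ℤ)) := by
  by_cases ha0 : a = 0
  · simp [ha0, zero_pow (by omega : N ≠ 0)]
  · have h1 : 1 < a⁻¹ := (one_lt_inv₀ (zero_lt_iff.2 ha0)).2 ha
    have := exp_natCast_le_pow h1 N
    rw [inv_pow] at this
    rw [exp_neg]
    exact (le_inv_comm₀ (by simp [zero_lt_iff]) (zero_lt_iff.2 (pow_ne_zero _ ha0))).1 this

/-- A place's valuation ring determines the place. -/
theorem place_eq_of_le_one_iff {P Q : Place k K} (h : ∀ x, val P x ≤ 1 ↔ val Q x ≤ 1) :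
    P = Q := by
  have heq : ∀ x, val P x = 1 → val Q x = 1 := by
    intro x hx
    refine le_antisymm ((h x).1 hx.le) ?_
    have h' := (h x⁻¹).1 (by rw [map_inv₀, hx, inv_one])
    rw [map_inv₀] at h'
    have hx0 : x ≠ 0 := (val P).ne_zero_iff.1 (by rw [hx]; exact one_ne_zero)
    exact (inv_le_one₀ (zero_lt_iff.2 ((val Q).ne_zero_iff.2 hx0))).1 h'
  obtain ⟨π, hπ0, hπ⟩ := exists_val_eq P (-1)
  set a := Q.ord π with ha
  have hmain : ∀ x : K, x ≠ 0 → Q.ord x = P.ord x * a := by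
    intro x hx
    have hu : val P (x * π ^ (-P.ord x)) = 1 := by
      rw [map_mul, map_zpow₀, hπ, val_eq P hx, ← exp_zsmul, ← exp_add]
      simp
    have hz : π ^ (-P.ord x) ≠ 0 := zpow_ne_zero _ hπ0
    have := ord_eq_of_val_eq Q (n := 0) (by rw [exp_zero]; exact heq _ hu)
    rw [ord_mul Q hx hz, ord_zpow, ← ha] at this
    linarith
  obtain ⟨y, hy0, hy⟩ := exists_val_eq Q (-1)
  have h1 := ord_eq_of_val_eq Q hy
  rw [hmain y hy0] at h1
  have ha0 : 0 ≤ a := by
    rw [ha, ← val_le_one_iff Q hπ0]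
    exact (h π).1 (by rw [hπ, ← exp_zero, exp_le_exp]; omega)
  have ha1 : a = 1 := by
    rcases Int.eq_one_or_neg_one_of_mul_eq_one' (by simpa using h1) with ⟨-, h2⟩ | ⟨-, h2⟩ <;>
      omega
  refine Subtype.ext (Valuation.ext fun x => ?_)
  show val P x = val Q x
  by_cases hx : x = 0
  · simp [hx]
  · rw [val_eq P hx, val_eq Q hx, hmain x hx, ha1, mul_one]

/-- Distinct valuation rings of places are not comparable. -/
theorem exists_le_one_and_one_lt {P Q : Place k K} (hne : P ≠ Q) :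
    ∃ x, val P x ≤ 1 ∧ 1 < val Q x := by
  by_contra hcon
  push Not at hcon
  apply hne
  refine place_eq_of_le_one_iff fun x => ⟨hcon x, fun hx => ?_⟩
  by_contra hz
  rw [not_le] at hz
  -- every element then lies in the valuation ring of `Q`
  obtain ⟨y, -, hy⟩ := exists_val_eq Q 1
  obtain ⟨N, hN⟩ : ∃ N : ℕ, val P y ≤ val P x ^ N := by
    obtain ⟨y', hy'⟩ : ∃ m : ℤ, val P y ≤ exp m := by
      by_cases hy0 : y = 0
      · exact ⟨0, by simp [hy0]⟩
      · exact ⟨_, (val_eq P hy0).le⟩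
    exact ⟨y'.toNat, hy'.trans ((exp_le_exp.2 (Int.self_le_toNat _)).trans
      (exp_natCast_le_pow hz _))⟩
  have hx0 : x ≠ 0 := by rintro rfl; simp at hz
  have h1 : val Q (y / x ^ N) ≤ 1 := hcon _ (by
    rw [map_div₀, map_pow]; exact div_le_one_of_le₀ hN zero_le)
  have h2 : val Q y ≤ 1 := by
    have : y = y / x ^ N * x ^ N := by field_simp
    rw [this, map_mul, map_pow]
    exact mul_le_one' h1 (pow_le_one₀ zero_le hx)
  rw [hy, ← exp_zero, exp_le_exp] at h2
  omega

theorem exists_one_lt_and_lt_one {P Q : Place k K} (hne : P ≠ Q) :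
    ∃ z, 1 < val P z ∧ val Q z < 1 := by
  obtain ⟨a, haP, haQ⟩ := exists_le_one_and_one_lt hne
  obtain ⟨b, hbQ, hbP⟩ := exists_le_one_and_one_lt hne.symm
  have ha0 : a ≠ 0 := by rintro rfl; simp at haQ
  refine ⟨b / a, ?_, ?_⟩
  · rw [map_div₀, one_lt_div₀ (zero_lt_iff.2 ((val P).ne_zero_iff.2 ha0))]
    exact haP.trans_lt hbP
  · rw [map_div₀, div_lt_one₀ (zero_lt_iff.2 ((val Q).ne_zero_iff.2 ha0))]
    exact hbQ.trans_lt haQ

/-- `z ^ N / (1 + z ^ N)` is `1` up to `N` at places with `1 < v z` and `0` where `v z < 1`. -/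
theorem val_bump (P : Place k K) {z : K} {N : ℕ} (hN : 1 ≤ N) :
    (1 < val P z → val P (z ^ N / (1 + z ^ N) - 1) ≤ exp (-(N : ℤ)) ∧
      val P (z ^ N / (1 + z ^ N)) = 1) ∧
    (val P z < 1 → val P (z ^ N / (1 + z ^ N)) ≤ exp (-(N : ℤ))) := by
  constructor
  · intro h
    have hz : 1 < val P (z ^ N) := by
      rw [map_pow]; exact one_lt_pow₀ h (by omega)
    have hs : val P (1 + z ^ N) = val P (z ^ N) :=
      (val P).map_add_eq_of_lt_right (by rwa [map_one])
    have hne : 1 + z ^ N ≠ 0 := (val P).ne_zero_iff.1 (by rw [hs]; exact ne_zero_of_lt hz)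
    refine ⟨?_, by rw [map_div₀, hs, div_self (ne_zero_of_lt hz)]⟩
    rw [div_sub_one hne, map_div₀, hs, show z ^ N - (1 + z ^ N) = -1 by ring, Valuation.map_neg,
      map_one, one_div, exp_neg, map_pow]
    exact inv_anti₀ (by simp [zero_lt_iff]) (exp_natCast_le_pow h N)
  · intro h
    have hz : val P (z ^ N) < 1 := by
      rw [map_pow]; exact pow_lt_one₀ zero_le h (by omega)
    have hs : val P (1 + z ^ N) = 1 := (val P).map_one_add_of_lt hz
    rw [map_div₀, hs, div_one, map_pow]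
    exact pow_le_exp_neg h hN

theorem exists_separating (S : Finset (Place k K)) (P : Place k K) :
    ∃ z, 1 < val P z ∧ ∀ Q ∈ S, Q ≠ P → val Q z < 1 := by
  classical
  induction S using Finset.induction with
  | empty =>
    obtain ⟨z, -, hz⟩ := exists_val_eq P 1
    exact ⟨z, by rw [hz, ← exp_zero, exp_lt_exp]; omega, by simp⟩
  | insert R S hR ih =>
    obtain ⟨z, hzP, hzS⟩ := ih
    by_cases hRP : R = P
    · exact ⟨z, hzP, fun Q hQ hne => hzS Q ((Finset.mem_insert.1 hQ).resolve_left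
        (fun h => hne (h.trans hRP))) hne⟩
    by_cases hzR : val R z < 1
    · refine ⟨z, hzP, fun Q hQ hne => ?_⟩
      rcases Finset.mem_insert.1 hQ with rfl | h
      · exact hzR
      · exact hzS Q h hne
    obtain ⟨y, hyP, hyR⟩ := exists_one_lt_and_lt_one (Ne.symm hRP)
    rw [not_lt] at hzR
    -- exponent beating `y` on `S`
    let N : ℕ := 1 + ∑ Q ∈ S, (-Q.ord y).toNat
    have hy0 : y ≠ 0 := by rintro rfl; simp at hyP
    have hN : ∀ Q ∈ S, exp (-(N : ℤ)) * val Q y < 1 := fun Q hQ => by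
      rw [val_eq Q hy0, ← exp_add, ← exp_zero, exp_lt_exp]
      have h1 : (-Q.ord y).toNat ≤ ∑ Q ∈ S, (-Q.ord y).toNat :=
        Finset.single_le_sum (f := fun Q => (-Q.ord y).toNat) (fun _ _ => Nat.zero_le _) hQ
      omega
    rcases eq_or_lt_of_le hzR with h1 | h1
    · refine ⟨z ^ N * y, ?_, fun Q hQ hne => ?_⟩
      · rw [map_mul, map_pow]
        exact one_lt_mul (one_le_pow₀ hzP.le) hyP
      rcases Finset.mem_insert.1 hQ with rfl | h
      · rw [map_mul, map_pow, ← h1, one_pow, one_mul]; exact hyR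
      · rw [map_mul, map_pow]
        exact lt_of_le_of_lt (mul_le_mul' (pow_le_exp_neg (hzS Q h hne) (by omega)) le_rfl) (hN Q h)
    · refine ⟨z ^ N / (1 + z ^ N) * y, ?_, fun Q hQ hne => ?_⟩
      · rw [map_mul, ((val_bump P (by omega)).1 hzP).2, one_mul]; exact hyP
      rcases Finset.mem_insert.1 hQ with rfl | h
      · rw [map_mul, ((val_bump _ (by omega)).1 h1).2, one_mul]; exact hyR
      · rw [map_mul]
        exact lt_of_le_of_lt
          (mul_le_mul' ((val_bump Q (by omega)).2 (hzS Q h hne)) le_rfl) (hN Q h)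

/-- Weak approximation. -/
theorem exists_approx (S : Finset (Place k K)) (x : Place k K → K) (n : Place k K → ℤ) :
    ∃ y, ∀ P ∈ S, val P (y - x P) ≤ exp (n P) := by
  classical
  choose z hzP hzS using fun P : Place k K => exists_separating S P
  let N : ℕ := 1 + ∑ P ∈ S, ∑ R ∈ S, ((-n P) + (-P.ord (x R))).toNat
  refine ⟨∑ R ∈ S, x R * (z R ^ N / (1 + z R ^ N)), fun P hP => ?_⟩
  have hN : ∀ R ∈ S, ∀ a : K, val P a ≤ exp (-(N : ℤ)) → val P (x R * a) ≤ exp (n P) := by
    intro R hR a ha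
    by_cases hx : x R = 0
    · simp [hx]
    rw [map_mul, val_eq P hx]
    refine (mul_le_mul' le_rfl ha).trans ?_
    rw [← exp_add, exp_le_exp]
    have h1 : ((-n P) + (-P.ord (x R))).toNat ≤
        ∑ P ∈ S, ∑ R ∈ S, ((-n P) + (-P.ord (x R))).toNat :=
      (Finset.single_le_sum (f := fun R => ((-n P) + (-P.ord (x R))).toNat)
        (fun _ _ => Nat.zero_le _) hR).trans
      (Finset.single_le_sum (f := fun P => ∑ R ∈ S, ((-n P) + (-P.ord (x R))).toNat)
        (fun _ _ => Nat.zero_le _) hP)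
    omega
  have hsplit : ∑ R ∈ S, x R * (z R ^ N / (1 + z R ^ N)) - x P =
      ∑ R ∈ S, x R * (z R ^ N / (1 + z R ^ N) - if R = P then 1 else 0) := by
    simp [mul_sub, Finset.sum_sub_distrib, mul_ite, hP]
  rw [hsplit]
  refine (val P).map_sum_le fun R hR => hN R hR _ ?_
  by_cases hRP : R = P
  · subst hRP; rw [if_pos rfl]; exact ((val_bump R (by omega)).1 (hzP R)).1
  · rw [if_neg hRP, sub_zero]; exact (val_bump P (by omega)).2 (hzS R P hP (Ne.symm hRP))

/-- Weak approximation with prescribed exact values. -/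
theorem exists_approx_eq (S : Finset (Place k K)) (x : Place k K → K) (n : Place k K → ℤ) :
    ∃ y, ∀ P ∈ S, val P (y - x P) = exp (n P) := by
  choose c _ hc using fun P : Place k K => exists_val_eq P (n P)
  obtain ⟨y, hy⟩ := exists_approx S (fun P => x P + c P) (fun P => n P - 1)
  refine ⟨y, fun P hP => ?_⟩
  rw [show y - x P = c P + (y - (x P + c P)) by ring]
  rw [(val P).map_add_eq_of_lt_left ((hy P hP).trans_lt ((exp_sub_one_lt _).trans_eq (hc P).symm))]
  exact hc P

end GrothLib.FunFld
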