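import Groth.Agent.Lib.FunFld.QuadGenus
import Groth.Agent.Lib.FunFld.Quadratic
import Mathlib.FieldTheory.Perfect

/-!
Artin–Schreier covers of the rational line in characteristic two.
-/

set_option autoImplicit false
set_option linter.style.haveILetI false
set_option linter.unusedSectionVars false

namespace GrothLib.FunFld

open _root_.FunFld WithZero Polynomial

variable {k K : Type*} [Field k] [Field K] [Algebra k K] [Algebra (RatFunc k) K]
  [IsScalarTower k (RatFunc k) K]

variable (h2 : ringChar k = 2) (hdeg : Module.finrank (RatFunc k) K = 2) {y : K}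
  (hy : y ∉ Set.range (algebraMap (RatFunc k) K)) {f : RatFunc k}
  (heq : y ^ 2 + y = algebraMap (RatFunc k) K f)

include h2 in
theorem charP_two_ratFunc : CharP (RatFunc k) 2 := by
  haveI : CharP k 2 := ringChar.of_eq h2
  exact charP_of_injective_algebraMap (algebraMap k (RatFunc k)).injective 2

include hdeg hy heq in
theorem isQuad_as : IsQuad y (1 : RatFunc k) (-f) :=
  ⟨hdeg, hy, by rw [map_one, one_mul, map_neg, heq, add_neg_cancel]⟩

include h2 hdeg hy heq in
theorem as_unramified (P₀ : Place k (RatFunc k)) (hint : 0 ≤ P₀.ord f) (a b : RatFunc k) (n : ℤ) :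
    ((∀ (P : Place k K) (e : ℕ), IsOverWith P P₀ e →
        val P (algebraMap (RatFunc k) K a + algebraMap (RatFunc k) K b * y) ≤ exp ((e : ℤ) * n)) ↔
      val P₀ a ≤ exp n ∧ val P₀ b ≤ exp (n - 0)) ∧
    ∀ P : Place k K, IsOver P P₀ → IsOverWith P P₀ 1 := by
  haveI := charP_two_ratFunc h2
  have h4 : (4 : RatFunc k) = 0 := by
    rw [show (4 : RatFunc k) = 2 * 2 by norm_num, CharTwo.two_eq_zero, mul_zero]
  refine (isQuad_as hdeg hy heq).bound_iff_exp isFG_ratFunc P₀ (m := 0) (by rw [map_one, exp_zero]) ?_ ?_ a b n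
  · rw [mul_zero, exp_zero, Valuation.map_neg]
    rcases eq_or_ne f 0 with rfl | hf
    · simp
    · exact (val_le_one_iff P₀ hf).mpr hint
  · rw [h4, zero_mul, sub_zero, one_pow, map_one, mul_zero, exp_zero]

include h2 hdeg hy heq in
theorem as_ramified (P₀ : Place k (RatFunc k)) (hneg : P₀.ord f < 0) (hodd : Odd (P₀.ord f)) :
    (∀ P : Place k K, IsOver P P₀ → IsOverWith P P₀ 2 ∧ P.deg = P₀.deg) ∧ (∃! P : Place k K, IsOver P P₀) ∧
    ∀ (a b : RatFunc k) (n : ℤ), ((∀ (P : Place k K) (e : ℕ), IsOverWith P P₀ e →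
        val P (algebraMap (RatFunc k) K a + algebraMap (RatFunc k) K b * y) ≤ exp ((e : ℤ) * n)) ↔
      val P₀ a ≤ exp n ∧ val P₀ b ≤ exp (n + P₀.ord f / 2)) := by
  have hq := isQuad_as hdeg hy heq
  haveI := hq.finite
  have hf : f ≠ 0 := fun h => by rw [h, ord_zero] at hneg; exact lt_irrefl _ hneg
  have hord : ∀ (P : Place k K) (e : ℕ), IsOverWith P P₀ e → 2 * P.ord y = (e : ℤ) * P₀.ord f := by
    intro P e he
    have hF : P.ord (algebraMap (RatFunc k) K f) = (e : ℤ) * P₀.ord f := ord_of_isOverWith he f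
    have he0 := pos_of_isOverWith he
    have hy0 : y ≠ 0 := fun h0 => hy ⟨0, by rw [map_zero, h0]⟩
    have hbig : 1 < val P y := by
      by_contra hle
      rw [not_lt] at hle
      have : val P (algebraMap (RatFunc k) K f) ≤ 1 := by
        rw [← heq]; exact ((val P).map_add _ _).trans (max_le (by rw [map_pow]; exact pow_le_one₀ zero_le hle) hle)
      rw [val_le_one_iff P (by rwa [_root_.map_ne_zero]), hF] at this
      nlinarith
    have hv : val P (algebraMap (RatFunc k) K f) = val P (y ^ 2) := by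
      rw [← heq, (val P).map_add_eq_of_lt_left]
      rw [map_pow, sq]; exact lt_mul_of_one_lt_left (zero_lt_one.trans hbig) hbig
    rw [map_pow, val_eq P hy0, val_eq P (by rwa [_root_.map_ne_zero]), ← exp_nsmul, exp_inj, hF,
      nsmul_eq_mul] at hv
    push_cast at hv
    omega
  have := fun a b n => hq.odd_iff isFG_ratFunc P₀ hodd hord a b n
  exact ⟨(this 0 0 0).1, (this 0 0 0).2.1, fun a b n => (this a b n).2.2⟩

open scoped Classical in
/-- The conductor divisor of `y² + y = f`. -/
noncomputable def asE (f : RatFunc k) : Divisor k (RatFunc k) :=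
  ∑ P ∈ (div k f).support with div k f P < 0, Finsupp.single P ((1 - div k f P) / 2)

theorem asE_apply (f : RatFunc k) (P : Place k (RatFunc k)) :
    asE f P = if P.ord f < 0 then (1 - P.ord f) / 2 else 0 := by
  classical
  rw [asE, Finsupp.finsetSum_apply]
  simp only [Finsupp.single_apply, Finset.sum_ite_eq', Finset.mem_filter, Finsupp.mem_support_iff,
    isFG_ratFunc.div_apply]
  by_cases h : P.ord f < 0
  · rw [if_pos ⟨h.ne, h⟩, if_pos h]
  · rw [if_neg (fun hh => h hh.2), if_neg h]

include h2 hdeg hy heq in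
theorem as_splits (hodd : ∀ P : Place k (RatFunc k), P.ord f < 0 → Odd (P.ord f)) :
    IsQuad.Splits y (asE f) := by
  intro P₀ a b n
  rw [asE_apply]
  by_cases hneg : P₀.ord f < 0
  · rw [(as_ramified h2 hdeg hy heq P₀ hneg (hodd P₀ hneg)).2.2 a b n, if_pos hneg]
    obtain ⟨r, hr⟩ := hodd P₀ hneg
    rw [show n + P₀.ord f / 2 = n - (1 - P₀.ord f) / 2 by omega]
  · rw [(as_unramified h2 hdeg hy heq P₀ (not_lt.mp hneg) a b n).1, if_neg hneg]

include h2 hdeg hy heq in
open scoped Classical in
theorem as_genus (hK : IsFunctionField k K)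
    (hodd : ∀ P : Place k (RatFunc k), div k f P < 0 → Odd (div k f P)) :
    (genus k K : ℤ) = -1 + ∑ P ∈ (div k f).support with div k f P < 0,
      (1 - div k f P) / 2 * (P.deg : ℤ) := by
  have hsp := as_splits h2 hdeg hy heq fun P hP => by
    have := hodd P; rw [isFG_ratFunc.div_apply] at this; exact this hP
  rw [(isQuad_as hdeg hy heq).genus_eq hsp hK, asE, deg_sum]
  simp only [deg_single]
  ring

theorem delta_zero_of_nonneg {D : Divisor k (RatFunc k)} (hD : 0 ≤ D) : delta D = 0 := by
  obtain ⟨P, hP⟩ := exists_inf (k := k)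
  have h1 := isFG_ratFunc.delta_le_genus D
  rw [(inf_props hP).2.2.2] at h1
  have h2 := isFG_ratFunc.delta_mono hD
  rw [delta_zero isFunctionField_ratFunc] at h2
  push_cast at h1
  omega

/-- Principal parts at one place are realised by functions with no other pole. -/
theorem exists_principal_part (P : Place k (RatFunc k)) {m : ℕ} (hm : 1 ≤ m) (x : RatFunc k)
    (hx : val P x ≤ exp (m : ℤ)) :
    ∃ g : RatFunc k, val P (x - g) ≤ exp ((m : ℤ) - 1) ∧ val P g ≤ exp (m : ℤ) ∧
      ∀ Q : Place k (RatFunc k), Q ≠ P → val Q g ≤ 1 := by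
  classical
  set D : Divisor k (RatFunc k) := Finsupp.single P (m : ℤ)
  set D' : Divisor k (RatFunc k) := Finsupp.single P ((m : ℤ) - 1)
  haveI := isFG_ratFunc.finite_residueField P
  haveI := isFG_ratFunc.finite_L D
  haveI := isFG_ratFunc.finite_L D'
  obtain ⟨m₁, m₂, c1, c2, hsum⟩ := (hasCodim_ball_succ P (m : ℤ)).modular (L D)
  have hA : ball P ((m : ℤ) - 1) ⊓ L D = L D' := by
    ext z
    simp only [Submodule.mem_inf, mem_ball, mem_L_iff, D, D']
    refine ⟨fun ⟨a, b⟩ Q => ?_, fun hz => ⟨by simpa using hz P, fun Q => (hz Q).trans ?_⟩⟩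
    · rcases eq_or_ne P Q with rfl | hne
      · simpa using a
      · simpa [Finsupp.single_apply, hne] using b Q
    · rw [exp_le_exp]
      rcases eq_or_ne P Q with rfl | hne
      · simp
      · simp [Finsupp.single_apply, hne]
  have hB : ball P (m : ℤ) ⊓ L D = L D := inf_eq_right.mpr fun z hz => by
    have := hz P; simpa [D, mem_ball] using this
  rw [hA, hB] at c1
  have hf := c1.finite_right.2
  have d1 := delta_zero_of_nonneg (k := k) (D := D) (Finsupp.single_nonneg.mpr (by omega))
  have d2 := delta_zero_of_nonneg (k := k) (D := D') (Finsupp.single_nonneg.mpr (by omega))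
  simp only [delta, ell, deg_single, D, D'] at d1 d2
  simp only [D, D'] at hf
  rw [hf] at d1
  push_cast at d1
  have hm1 : (m₁ : ℤ) = P.deg := by linarith
  obtain rfl : m₂ = 0 := by omega
  have hx' : x ∈ ball P (m : ℤ) ⊔ L D := Submodule.mem_sup_left hx
  rw [← c2.eq_of_zero] at hx'
  obtain ⟨u, hu, g, hg, rfl⟩ := Submodule.mem_sup.mp hx'
  refine ⟨g, by rwa [add_sub_cancel_right], by simpa [D] using hg P, fun Q hQ => ?_⟩
  simpa [D, Finsupp.single_apply, Ne.symm hQ] using hg Q

open scoped Classical in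
/-- The total pole order. -/
noncomputable def poleMass (f : RatFunc k) : ℕ :=
  ∑ P ∈ (div k f).support, (-(P.ord f)).toNat

theorem poleMass_eq (f : RatFunc k) (S : Finset (Place k (RatFunc k)))
    (hS : ∀ P, P.ord f < 0 → P ∈ S) : poleMass f = ∑ P ∈ S, (-(P.ord f)).toNat := by
  classical
  have hsub : ∀ P, P.ord f < 0 → P ∈ (div k f).support := fun P hP => by
    rw [Finsupp.mem_support_iff, isFG_ratFunc.div_apply]; exact hP.ne
  rw [poleMass, ← Finset.sum_filter_of_ne (p := fun P => P.ord f < 0) (fun P _ h => by omega),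
    ← Finset.sum_filter_of_ne (s := S) (p := fun P => P.ord f < 0) (fun P _ h => by omega)]
  refine Finset.sum_congr (Finset.ext fun P => ?_) fun _ _ => rfl
  simp only [Finset.mem_filter]
  exact ⟨fun h => ⟨hS P h.2, h.2⟩, fun h => ⟨hsub P h.2, h.2⟩⟩

include h2 in
theorem exists_reduced [PerfectField k] (f : RatFunc k) :
    ∃ g : RatFunc k, ∀ P : Place k (RatFunc k), P.ord (f + g ^ 2 + g) < 0 → Odd (P.ord (f + g ^ 2 + g)) := by
  classical
  haveI := charP_two_ratFunc h2
  induction hn : poleMass f using Nat.strong_induction_on generalizing f with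
  | _ n ih =>
    by_cases hgood : ∀ P : Place k (RatFunc k), P.ord f < 0 → Odd (P.ord f)
    · exact ⟨0, by simpa using hgood⟩
    push_neg at hgood
    obtain ⟨P, hP, hev⟩ := hgood
    obtain ⟨r, hr⟩ := Int.not_odd_iff_even.mp hev
    set m : ℕ := (-r).toNat with hm
    have hf0 : f ≠ 0 := fun h => by rw [h, ord_zero] at hP; exact lt_irrefl _ hP
    have hfv : val P f = exp (2 * (m : ℤ)) := by rw [val_eq P hf0]; congr 1; omega
    obtain ⟨t, ht0, ht⟩ := exists_val_eq P (-1)
    have htm : val P (t ^ m) = exp (-(m : ℤ)) := by rw [map_pow, ht, ← exp_nsmul]; simp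
    have hc : val P (f * (t ^ m) ^ 2) ≤ 1 := by
      rw [map_mul, map_pow _ (t ^ m), hfv, htm, ← exp_nsmul, ← exp_add, ← exp_zero, exp_le_exp, nsmul_eq_mul]
      push_cast; omega
    haveI : Algebra.IsAlgebraic k (IsLocalRing.ResidueField P.O) := ⟨fun z => by
      have hfin : @Module.Finite k (IsLocalRing.ResidueField P.O) _ _ Algebra.toModule :=
        isFG_ratFunc.finite_residueField P
      exact (@IsIntegral.of_finite k (IsLocalRing.ResidueField P.O) _ _ _ hfin z).isAlgebraic⟩
    haveI : PerfectField (IsLocalRing.ResidueField P.O) := Algebra.IsAlgebraic.perfectField k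
    haveI : CharP (IsLocalRing.ResidueField P.O) 2 :=
      haveI : CharP k 2 := ringChar.of_eq h2
      charP_of_injective_algebraMap (algebraMap k (IsLocalRing.ResidueField P.O)).injective 2
    haveI : ExpChar (IsLocalRing.ResidueField P.O) 2 := ExpChar.prime Nat.prime_two
    haveI := PerfectField.toPerfectRing (K := IsLocalRing.ResidueField P.O) 2
    obtain ⟨a, ha⟩ := surjective_frobenius (IsLocalRing.ResidueField P.O) 2 (res P ⟨_, hc⟩)
    obtain ⟨s, rfl⟩ := res_surjective P a
    rw [frobenius_def] at ha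
    have hs : val P (f * (t ^ m) ^ 2 - (s : RatFunc k) ^ 2) < 1 := by
      have := (res_eq_zero_iff P (⟨_, hc⟩ - s ^ 2)).mp (by rw [map_sub, map_pow, ha, sub_self])
      exact this
    have htm0 : t ^ m ≠ 0 := pow_ne_zero _ ht0
    obtain ⟨g, hg1, hg2, hg3⟩ := exists_principal_part P (m := m) (by omega) ((s : RatFunc k) / t ^ m) (by
      rw [map_div₀, htm, div_le_iff₀ (zero_lt_iff.mpr exp_ne_zero), ← exp_add, add_neg_cancel, exp_zero]
      exact s.2)
    have hnew : val P (f + g ^ 2 + g) ≤ exp (2 * (m : ℤ) - 1) := by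
      have h1 : val P (f - ((s : RatFunc k) / t ^ m) ^ 2) ≤ exp (2 * (m : ℤ) - 1) := by
        rw [show f - ((s : RatFunc k) / t ^ m) ^ 2 = (f * (t ^ m) ^ 2 - (s : RatFunc k) ^ 2) / (t ^ m) ^ 2 by
          field_simp, map_div₀, map_pow (val P) (t ^ m), htm, ← exp_nsmul,
          div_le_iff₀ (zero_lt_iff.mpr exp_ne_zero), ← exp_add]
        rw [show 2 * (m : ℤ) - 1 + 2 • -(m : ℤ) = 0 - 1 by rw [two_nsmul]; ring, le_exp_sub_one_iff, exp_zero]
        exact hs
      rw [show f + g ^ 2 + g = (f - ((s : RatFunc k) / t ^ m) ^ 2) + ((s : RatFunc k) / t ^ m - g) ^ 2 + g by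
        rw [CharTwo.sub_eq_add, CharTwo.sub_eq_add, CharTwo.add_sq]
        linear_combination -(CharTwo.two_eq_zero (R := RatFunc k)) * ((s : RatFunc k) / t ^ m) ^ 2]
      refine ((val P).map_add _ _).trans (max_le (((val P).map_add _ _).trans (max_le h1 ?_))
        (hg2.trans (exp_le_exp.mpr (by omega))))
      rw [map_pow]
      refine (pow_le_pow_left₀ zero_le hg1 2).trans ?_
      rw [← exp_nsmul, exp_le_exp, two_nsmul]; omega
    set f' := f + g ^ 2 + g
    have hother : ∀ Q, Q ≠ P → (-(Q.ord f')).toNat ≤ (-(Q.ord f)).toNat := by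
      intro Q hQ
      rcases eq_or_ne f' 0 with h0 | h0
      · simp [h0]
      have hv : val Q f' ≤ max (val Q f) 1 := by
        refine ((val Q).map_add _ _).trans (max_le (((val Q).map_add _ _).trans (max_le (le_max_left _ _) ?_))
          ((hg3 Q hQ).trans (le_max_right _ _)))
        rw [map_pow]; exact (pow_le_one₀ zero_le (hg3 Q hQ)).trans (le_max_right _ _)
      rw [val_eq Q h0, val_eq Q hf0, ← exp_zero, le_max_iff, exp_le_exp, exp_le_exp] at hv
      omega
    have hP' : (-(P.ord f')).toNat < (-(P.ord f)).toNat := by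
      rcases eq_or_ne f' 0 with h0 | h0
      · simp [h0]; omega
      rw [val_eq P h0, exp_le_exp] at hnew
      omega
    have hlt : poleMass f' < n := by
      rw [← hn, poleMass_eq f' ((div k f).support ∪ (div k f').support) fun Q hQ => Finset.mem_union_right _
          (by rw [Finsupp.mem_support_iff, isFG_ratFunc.div_apply]; exact hQ.ne),
        poleMass_eq f ((div k f).support ∪ (div k f').support) fun Q hQ => Finset.mem_union_left _
          (by rw [Finsupp.mem_support_iff, isFG_ratFunc.div_apply]; exact hQ.ne)]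
      refine Finset.sum_lt_sum (fun Q _ => ?_) ⟨P, Finset.mem_union_left _
        (by rw [Finsupp.mem_support_iff, isFG_ratFunc.div_apply]; exact hP.ne), hP'⟩
      rcases eq_or_ne Q P with rfl | hQ
      · exact hP'.le
      · exact hother Q hQ
    obtain ⟨g', hg'⟩ := ih _ hlt f' rfl
    refine ⟨g + g', fun Q => ?_⟩
    rw [show f + (g + g') ^ 2 + (g + g') = f' + g' ^ 2 + g' by
      rw [CharTwo.add_sq]; ring]
    exact hg' Q

include h2 hdeg in
theorem exists_as_odd [PerfectField k] [Algebra.IsSeparable (RatFunc k) K] :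
    ∃ (y : K) (f : RatFunc k), y ^ 2 + y = algebraMap (RatFunc k) K f ∧
      IntermediateField.adjoin (RatFunc k) ({y} : Set K) = ⊤ ∧
      ∀ P : Place k (RatFunc k), P.ord f < 0 → Odd (P.ord f) := by
  obtain ⟨y, f, heq, htop⟩ := exists_artin_schreier h2 hdeg
  obtain ⟨g, hg⟩ := exists_reduced h2 f
  haveI := charP_two_ratFunc h2
  haveI : CharP K 2 := charP_of_injective_algebraMap (algebraMap (RatFunc k) K).injective 2
  refine ⟨y + algebraMap (RatFunc k) K g, f + g ^ 2 + g, ?_, ?_, hg⟩
  · rw [CharTwo.add_sq, map_add, map_add, map_pow, ← heq]; ring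
  · rw [eq_top_iff, ← htop, IntermediateField.adjoin_simple_le_iff]
    have h1 := IntermediateField.mem_adjoin_simple_self (RatFunc k) (y + algebraMap (RatFunc k) K g)
    have := sub_mem h1 (IntermediateField.algebraMap_mem _ g)
    rwa [add_sub_cancel_right] at this

end GrothLib.FunFld
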