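import Mathlib.LinearAlgebra.Isomorphisms
import Mathlib.LinearAlgebra.FiniteDimensional.Basic
import Mathlib.LinearAlgebra.Dimension.Constructions
import Mathlib.LinearAlgebra.FiniteDimensional.Lemmas

/-! Finite codimension of one subspace in another. -/

namespace GrothLib.FunFld

open Module Submodule

variable {k V : Type*} [Field k] [AddCommGroup V] [Module k V]

/-- `A ≤ B` and `B / A` has finite dimension `n`. -/
structure HasCodim (A B : Submodule k V) (n : ℕ) : Prop where
  le : A ≤ B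
  finite : Module.Finite k (B ⧸ A.comap B.subtype)
  finrank_eq : finrank k (B ⧸ A.comap B.subtype) = n

namespace HasCodim

theorem unique {A B : Submodule k V} {m n : ℕ} (h : HasCodim A B m) (h' : HasCodim A B n) :
    m = n := h.finrank_eq.symm.trans h'.finrank_eq

theorem of_linearMap {A B : Submodule k V} {W : Type*} [AddCommGroup W] [Module k W]
    [Module.Finite k W] (h : A ≤ B) (f : B →ₗ[k] W) (hf : Function.Surjective f)
    (hker : ∀ b : B, f b = 0 ↔ (b : V) ∈ A) : HasCodim A B (finrank k W) := by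
  have hk : A.comap B.subtype = LinearMap.ker f := by
    ext b; simpa using (hker b).symm
  have e := (Submodule.quotEquivOfEq _ _ hk).trans (f.quotKerEquivOfSurjective hf)
  exact ⟨h, Module.Finite.equiv e.symm, e.finrank_eq⟩

theorem refl (A : Submodule k V) : HasCodim A A 0 := by
  have hs : Subsingleton (A ⧸ A.comap A.subtype) := by
    rw [Submodule.Quotient.subsingleton_iff]; exact Submodule.comap_subtype_self A
  exact ⟨le_rfl, inferInstance, finrank_zero_of_subsingleton⟩

theorem bot (B : Submodule k V) [Module.Finite k B] : HasCodim ⊥ B (finrank k B) :=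
  of_linearMap bot_le LinearMap.id Function.surjective_id fun b => by simp

/-- The inclusion on quotients. -/
def incl {A B A' B' : Submodule k V} (hA : A ≤ A') (hB : B ≤ B') :
    (B ⧸ A.comap B.subtype) →ₗ[k] (B' ⧸ A'.comap B'.subtype) :=
  Submodule.mapQ _ _ (Submodule.inclusion hB) (fun _ hb => hA hb)

theorem incl_mk_eq_zero {A B A' B' : Submodule k V} (hA : A ≤ A') (hB : B ≤ B') (b : B) :
    incl hA hB (Submodule.Quotient.mk b) = 0 ↔ (b : V) ∈ A' :=
  Submodule.Quotient.mk_eq_zero (A'.comap B'.subtype) (x := Submodule.inclusion hB b)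

theorem trans {A B C : Submodule k V} {m n : ℕ} (h₁ : HasCodim A B m) (h₂ : HasCodim B C n) :
    HasCodim A C (m + n) := by
  let f := incl (A := A) (A' := A) le_rfl h₂.le
  let g := incl (B := C) (B' := C) h₁.le le_rfl
  have hg : Function.Surjective g := by
    intro x; obtain ⟨c, rfl⟩ := Submodule.Quotient.mk_surjective _ x
    exact ⟨Submodule.Quotient.mk c, rfl⟩
  have hf : Function.Injective f := by
    rw [injective_iff_map_eq_zero]; intro x
    obtain ⟨b, rfl⟩ := Submodule.Quotient.mk_surjective _ x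
    intro hx
    exact (Submodule.Quotient.mk_eq_zero _).2 ((incl_mk_eq_zero _ _ b).1 hx :)
  have hex : LinearMap.ker g = LinearMap.range f := by
    ext x; obtain ⟨c, rfl⟩ := Submodule.Quotient.mk_surjective _ x
    constructor
    · intro hx
      have hc : (c : V) ∈ B := (incl_mk_eq_zero _ _ c).1 hx
      exact ⟨Submodule.Quotient.mk ⟨c, hc⟩, rfl⟩
    · rintro ⟨y, hy⟩; obtain ⟨b, rfl⟩ := Submodule.Quotient.mk_surjective _ y
      rw [← hy]; exact (Submodule.Quotient.mk_eq_zero _).2 b.2
  have := h₁.finite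
  have := h₂.finite
  have : Module.Finite k (LinearMap.ker g) := by rw [hex]; infer_instance
  have : Module.Finite k (_ ⧸ LinearMap.ker g) :=
    Module.Finite.equiv (g.quotKerEquivOfSurjective hg).symm
  have hfin : Module.Finite k (C ⧸ A.comap C.subtype) :=
    Module.Finite.of_submodule_quotient (LinearMap.ker g)
  refine ⟨h₁.le.trans h₂.le, hfin, ?_⟩
  have := g.finrank_range_add_finrank_ker
  rw [LinearMap.range_eq_top.2 hg, finrank_top, hex, LinearMap.finrank_range_of_inj hf,
    h₁.finrank_eq, h₂.finrank_eq] at this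
  omega

/-- A subspace in between splits the codimension. -/
theorem split {A B C : Submodule k V} {n : ℕ} (h : HasCodim A C n) (hAB : A ≤ B) (hBC : B ≤ C) :
    ∃ m₁ m₂, HasCodim A B m₁ ∧ HasCodim B C m₂ ∧ m₁ + m₂ = n := by
  have := h.finite
  have h₁ : HasCodim A B (finrank k (B ⧸ A.comap B.subtype)) := by
    refine ⟨hAB, Module.Finite.of_injective (incl le_rfl hBC) ?_, rfl⟩
    rw [injective_iff_map_eq_zero]; intro x
    obtain ⟨b, rfl⟩ := Submodule.Quotient.mk_surjective _ x
    intro hx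
    exact (Submodule.Quotient.mk_eq_zero _).2 ((incl_mk_eq_zero _ _ b).1 hx :)
  have h₂ : HasCodim B C (finrank k (C ⧸ B.comap C.subtype)) := by
    refine ⟨hBC, Module.Finite.of_surjective (incl hAB le_rfl) ?_, rfl⟩
    intro x; obtain ⟨c, rfl⟩ := Submodule.Quotient.mk_surjective _ x
    exact ⟨Submodule.Quotient.mk c, rfl⟩
  exact ⟨_, _, h₁, h₂, (h₁.trans h₂).unique h⟩

theorem mono_inf {A B : Submodule k V} {n : ℕ} (h : HasCodim A B n) (C : Submodule k V) :
    ∃ m, m ≤ n ∧ HasCodim (A ⊓ C) (B ⊓ C) m := by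
  have := h.finite
  let f : (↥(B ⊓ C) ⧸ (A ⊓ C).comap (B ⊓ C).subtype) →ₗ[k] (B ⧸ A.comap B.subtype) :=
    incl inf_le_left inf_le_left
  have hf : Function.Injective f := by
    rw [injective_iff_map_eq_zero]; intro x
    obtain ⟨b, rfl⟩ := Submodule.Quotient.mk_surjective _ x
    intro hx
    exact (Submodule.Quotient.mk_eq_zero _).2
      ⟨(incl_mk_eq_zero _ _ b).1 hx, b.2.2⟩
  exact ⟨_, (LinearMap.finrank_le_finrank_of_injective hf).trans_eq h.finrank_eq,
    inf_le_inf_right C h.le, Module.Finite.of_injective f hf, rfl⟩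

theorem inf_to_sup {A B : Submodule k V} {n : ℕ} (h : HasCodim (A ⊓ B) B n) :
    HasCodim A (A ⊔ B) n := by
  have := h.finite
  have hA : A.comap (A ⊔ B).subtype = A.comap (A ⊔ B).subtype := rfl
  let f : (B ⧸ (A ⊓ B).comap B.subtype) →ₗ[k] (↥(A ⊔ B) ⧸ A.comap (A ⊔ B).subtype) :=
    incl inf_le_left le_sup_right
  have hf : Function.Bijective f := by
    refine ⟨?_, ?_⟩
    · rw [injective_iff_map_eq_zero]; intro x
      obtain ⟨b, rfl⟩ := Submodule.Quotient.mk_surjective _ x
      intro hx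
      exact (Submodule.Quotient.mk_eq_zero _).2 ⟨(incl_mk_eq_zero _ _ b).1 hx, b.2⟩
    · intro x
      obtain ⟨⟨c, hc⟩, rfl⟩ := Submodule.Quotient.mk_surjective _ x
      obtain ⟨a, ha, b, hb, rfl⟩ := Submodule.mem_sup.1 hc
      refine ⟨Submodule.Quotient.mk ⟨b, hb⟩, (Submodule.Quotient.eq _).2 ?_⟩
      simpa using ha
  have e := LinearEquiv.ofBijective f hf
  exact ⟨le_sup_left, Module.Finite.equiv e, e.finrank_eq.symm.trans h.finrank_eq⟩

theorem sup_to_inf {A B : Submodule k V} {n : ℕ} (h : HasCodim A (A ⊔ B) n) :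
    HasCodim (A ⊓ B) B n := by
  obtain ⟨m, -, hm⟩ := h.mono_inf B
  rw [inf_eq_right.2 (le_sup_right : B ≤ A ⊔ B)] at hm
  rwa [h.unique hm.inf_to_sup]

theorem modular {A B : Submodule k V} {n : ℕ} (h : HasCodim A B n) (C : Submodule k V) :
    ∃ m₁ m₂, HasCodim (A ⊓ C) (B ⊓ C) m₁ ∧ HasCodim (A ⊔ C) (B ⊔ C) m₂ ∧ m₁ + m₂ = n := by
  obtain ⟨m₁, m₂, h₁, h₂, hn⟩ :=
    h.split (B := A ⊔ B ⊓ C) le_sup_left (sup_le h.le inf_le_left)
  refine ⟨m₁, m₂, ?_, ?_, hn⟩
  · have := h₁.sup_to_inf
    rwa [← inf_assoc, inf_eq_left.2 h.le] at this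
  · have hmod : A ⊔ B ⊓ C = (A ⊔ C) ⊓ B := by
      rw [inf_comm B C, sup_inf_assoc_of_le C h.le]
    rw [hmod] at h₂
    have := h₂.inf_to_sup
    have heq : A ⊔ C ⊔ B = B ⊔ C := by
      rw [sup_assoc, sup_comm C B, ← sup_assoc, sup_eq_right.2 h.le]
    rwa [heq] at this

theorem finite_right {A B : Submodule k V} [Module.Finite k A] {n : ℕ} (h : HasCodim A B n) :
    Module.Finite k B ∧ finrank k B = finrank k A + n := by
  have h' := (HasCodim.bot A).trans h
  have := h'.finite
  have e : (B ⧸ (⊥ : Submodule k V).comap B.subtype) ≃ₗ[k] B :=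
    Submodule.quotEquivOfEqBot _ (by rw [Submodule.comap_bot, Submodule.ker_subtype])
  exact ⟨Module.Finite.equiv e, e.finrank_eq.symm.trans h'.finrank_eq⟩

theorem eq_of_zero {A B : Submodule k V} (h : HasCodim A B 0) : A = B := by
  have := h.finite
  have := (Submodule.Quotient.subsingleton_iff).1
    (Module.finrank_zero_iff.1 h.finrank_eq : Subsingleton (B ⧸ A.comap B.subtype))
  exact le_antisymm h.le (Submodule.comap_subtype_eq_top.1 this)

end HasCodim

end GrothLib.FunFld
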