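import Groth.Prelude.Def_W4bk4goldsch23FF
import Groth.Agent.Lib.FunFld.Codim
import Mathlib.RingTheory.Valuation.Basic
import Mathlib.RingTheory.Algebraic.Basic

/-! Elementary facts about one place of a function field. -/

namespace GrothLib.FunFld

open _root_.FunFld WithZero

variable {k K : Type*} [Field k] [Field K] [Algebra k K]

/-- The valuation of a place. -/
abbrev val (P : Place k K) : Valuation K (WithZero (Multiplicative ℤ)) := P.1

theorem val_le_one_of_const (P : Place k K) (c : k) : val P (algebraMap k K c) ≤ 1 := P.2.1 c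

theorem exists_val_eq (P : Place k K) (n : ℤ) : ∃ x : K, x ≠ 0 ∧ val P x = exp n := by
  obtain ⟨x, hx⟩ := P.2.2 (exp n)
  exact ⟨x, (val P).ne_zero_iff.1 (hx ▸ exp_ne_zero), hx⟩

theorem val_const (P : Place k K) {c : k} (hc : c ≠ 0) : val P (algebraMap k K c) = 1 := by
  refine le_antisymm (P.2.1 c) ?_
  have h := P.2.1 c⁻¹
  rw [map_inv₀, map_inv₀] at h
  exact (inv_le_one₀ (zero_lt_iff.2 ((val P).ne_zero_iff.2
    (by simpa using hc)))).1 h

theorem val_eq (P : Place k K) {x : K} (hx : x ≠ 0) : val P x = exp (-P.ord x) := by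
  rw [Place.ord, neg_neg, exp_log ((val P).ne_zero_iff.2 hx)]

theorem ord_eq_of_val_eq (P : Place k K) {x : K} {n : ℤ} (h : val P x = exp n) :
    P.ord x = -n := by
  rw [Place.ord, show P.1 x = exp n from h, log_exp]

@[simp] theorem ord_zero (P : Place k K) : P.ord (0 : K) = 0 := by simp [Place.ord]
@[simp] theorem ord_one (P : Place k K) : P.ord (1 : K) = 0 := by simp [Place.ord]

theorem ord_const (P : Place k K) (c : k) : P.ord (algebraMap k K c) = 0 := by
  by_cases hc : c = 0
  · simp [hc]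
  · exact ord_eq_of_val_eq P (n := 0) (by rw [exp_zero]; exact val_const P hc)

theorem ord_mul (P : Place k K) {x y : K} (hx : x ≠ 0) (hy : y ≠ 0) :
    P.ord (x * y) = P.ord x + P.ord y := by
  simp only [Place.ord, map_mul]
  rw [log_mul ((val P).ne_zero_iff.2 hx) ((val P).ne_zero_iff.2 hy)]
  ring

@[simp] theorem ord_inv (P : Place k K) (x : K) : P.ord x⁻¹ = -P.ord x := by
  simp [Place.ord, log_inv]

theorem ord_pow (P : Place k K) (x : K) (n : ℕ) : P.ord (x ^ n) = n * P.ord x := by
  simp [Place.ord, log_pow]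

theorem ord_zpow (P : Place k K) (x : K) (n : ℤ) : P.ord (x ^ n) = n * P.ord x := by
  simp [Place.ord, log_zpow]

theorem ord_smul (P : Place k K) {c : k} (hc : c ≠ 0) (x : K) : P.ord (c • x) = P.ord x := by
  by_cases hx : x = 0
  · simp [hx]
  · rw [Algebra.smul_def, ord_mul P (by simpa using hc) hx, ord_const, zero_add]

theorem val_le_exp_iff (P : Place k K) {x : K} (hx : x ≠ 0) (n : ℤ) :
    val P x ≤ exp n ↔ -n ≤ P.ord x := by
  rw [val_eq P hx, exp_le_exp]; omega

theorem val_lt_one_iff (P : Place k K) {x : K} (hx : x ≠ 0) : val P x < 1 ↔ 0 < P.ord x := by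
  rw [val_eq P hx, ← exp_zero, exp_lt_exp]; omega

theorem val_le_one_iff (P : Place k K) {x : K} (hx : x ≠ 0) : val P x ≤ 1 ↔ 0 ≤ P.ord x := by
  rw [← exp_zero, val_le_exp_iff P hx]; omega

theorem mem_L_iff {D : Divisor k K} {x : K} :
    x ∈ L D ↔ ∀ P : Place k K, val P x ≤ exp (D P) := Iff.rfl

theorem mem_L_iff_ord {D : Divisor k K} {x : K} (hx : x ≠ 0) :
    x ∈ L D ↔ ∀ P : Place k K, 0 ≤ P.ord x + D P := by
  refine forall_congr' fun P => ?_
  rw [val_le_exp_iff P hx]; omega

theorem mem_AD_iff {D : Divisor k K} {a : Place k K → K} :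
    a ∈ AD D ↔ ∀ P : Place k K, val P (a P) ≤ exp (D P) := Iff.rfl

theorem L_mono {D E : Divisor k K} (h : D ≤ E) : L D ≤ L E :=
  fun _ hx P => (hx P).trans (exp_le_exp.2 (h P))

theorem AD_mono {D E : Divisor k K} (h : D ≤ E) : AD D ≤ AD E :=
  fun _ hx P => (hx P).trans (exp_le_exp.2 (h P))

/-- `{x | v_P x ≤ exp n}`. -/
def ball (P : Place k K) (n : ℤ) : Submodule k K where
  carrier := {x | val P x ≤ exp n}
  add_mem' {x y} hx hy := ((val P).map_add x y).trans (max_le hx hy)
  zero_mem' := by simp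
  smul_mem' c x (hx : val P x ≤ exp n) := by
    show val P (c • x) ≤ exp n
    rw [Algebra.smul_def, map_mul]
    exact (mul_le_mul' (P.2.1 c) hx).trans_eq (one_mul _)

theorem mem_ball {P : Place k K} {n : ℤ} {x : K} : x ∈ ball P n ↔ val P x ≤ exp n := Iff.rfl

theorem ball_mono (P : Place k K) {m n : ℤ} (h : m ≤ n) : ball P m ≤ ball P n :=
  fun _ hx => le_trans hx (exp_le_exp.2 h)

theorem mem_O_iff {P : Place k K} {x : K} : x ∈ P.O ↔ val P x ≤ 1 := Iff.rfl

theorem algebraMap_O_coe (P : Place k K) (c : k) :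
    ((algebraMap k P.O c : P.O) : K) = algebraMap k K c := rfl

theorem residue_algebraMap (P : Place k K) (c : k) :
    IsLocalRing.residue P.O (algebraMap k P.O c) =
      algebraMap k (IsLocalRing.ResidueField P.O) c := rfl

/-- The residue map as a `k`-algebra map. -/
noncomputable def res (P : Place k K) : P.O →ₐ[k] IsLocalRing.ResidueField P.O :=
  { IsLocalRing.residue P.O with commutes' := fun _ => rfl }

theorem res_surjective (P : Place k K) : Function.Surjective (res P) :=
  IsLocalRing.residue_surjective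

theorem res_eq_zero_iff (P : Place k K) (x : P.O) : res P x = 0 ↔ val P (x : K) < 1 := by
  show IsLocalRing.residue P.O x = 0 ↔ _
  rw [IsLocalRing.residue_eq_zero_iff, IsLocalRing.mem_maximalIdeal, mem_nonunits_iff]
  constructor
  · intro h
    refine lt_of_le_of_ne x.2 fun h1 => h ?_
    have hx : (x : K) ≠ 0 := (val P).ne_zero_iff.1 (by rw [h1]; exact one_ne_zero)
    exact IsUnit.of_mul_eq_one (⟨(x : K)⁻¹, by rw [mem_O_iff, map_inv₀, h1, inv_one]⟩ : P.O)
      (Subtype.ext (mul_inv_cancel₀ hx))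
  · intro h hu
    obtain ⟨y, hy⟩ := hu.exists_right_inv
    have h1 : val P (x : K) * val P (y : K) = 1 := by
      rw [← map_mul, show (x : K) * (y : K) = 1 from congrArg Subtype.val hy, map_one]
    exact not_lt.2 (le_of_eq h1.symm) ((mul_le_of_le_one_right' y.2).trans_lt h)

theorem exp_sub_one_lt (n : ℤ) : (exp (n - 1) : WithZero (Multiplicative ℤ)) < exp n :=
  exp_lt_exp.2 (by omega)

theorem le_exp_sub_one_iff {a : WithZero (Multiplicative ℤ)} {n : ℤ} :
    a ≤ exp (n - 1) ↔ a < exp n := by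
  refine ⟨fun h => h.trans_lt (exp_sub_one_lt n), fun h => ?_⟩
  by_cases ha : a = 0
  · simp [ha]
  · rw [← exp_log ha] at h ⊢
    rw [exp_le_exp]; rw [exp_lt_exp] at h; omega

theorem hasCodim_ball_succ (P : Place k K) [Module.Finite k (IsLocalRing.ResidueField P.O)]
    (n : ℤ) : HasCodim (ball P (n - 1)) (ball P n) P.deg := by
  obtain ⟨c, -, hc⟩ := exists_val_eq P (-n)
  have hmem : ∀ b : ball P n, c * (b : K) ∈ P.O := fun b => by
    rw [mem_O_iff, map_mul, hc]
    exact (mul_le_mul' le_rfl b.2).trans_eq (by rw [← exp_add, neg_add_cancel, exp_zero])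
  let f : ball P n →ₗ[k] IsLocalRing.ResidueField P.O :=
    (res P).toLinearMap ∘ₗ
      { toFun := fun b => (⟨c * (b : K), hmem b⟩ : P.O)
        map_add' := fun a b => Subtype.ext (mul_add _ _ _)
        map_smul' := fun t b => Subtype.ext (by
          simp only [RingHom.id_apply, Algebra.smul_def, SetLike.val_smul]
          show c * (algebraMap k K t * (b : K)) = algebraMap k K t * (c * (b : K))
          ring) }
  refine HasCodim.of_linearMap (ball_mono P (by omega)) f ?_ ?_
  · intro r
    obtain ⟨u, rfl⟩ := res_surjective P r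
    have hc0 : c ≠ 0 := (val P).ne_zero_iff.1 (hc ▸ exp_ne_zero)
    refine ⟨⟨c⁻¹ * (u : K), ?_⟩, ?_⟩
    · rw [mem_ball, map_mul, map_inv₀, hc, ← exp_neg, neg_neg]
      exact mul_le_of_le_one_right' u.2
    · exact congrArg (res P) (Subtype.ext (mul_inv_cancel_left₀ hc0 _))
  · intro b
    refine (res_eq_zero_iff P ⟨c * (b : K), hmem b⟩).trans ?_
    rw [mem_ball, le_exp_sub_one_iff]
    show val P (c * (b : K)) < 1 ↔ _
    rw [map_mul, hc]
    have hz : ∀ a : WithZero (Multiplicative ℤ), exp (-n) * a < 1 ↔ a < exp n := fun a => by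
      constructor
      · intro h
        have := mul_lt_mul_of_pos_left h (zero_lt_iff.2 (exp_ne_zero (a := n)))
        rwa [← mul_assoc, ← exp_add, add_neg_cancel, exp_zero, one_mul, mul_one] at this
      · intro h
        have := mul_lt_mul_of_pos_left h (zero_lt_iff.2 (exp_ne_zero (a := -n)))
        rwa [← exp_add, neg_add_cancel, exp_zero] at this
    exact hz _

theorem hasCodim_ball (P : Place k K) [Module.Finite k (IsLocalRing.ResidueField P.O)]
    (n : ℤ) (m : ℕ) : HasCodim (ball P n) (ball P (n + m)) (m * P.deg) := by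
  induction m with
  | zero => simpa using HasCodim.refl (ball P n)
  | succ m ih =>
    have h := hasCodim_ball_succ P (n + ((m + 1 : ℕ) : ℤ))
    rw [show n + ((m + 1 : ℕ) : ℤ) - 1 = n + m by push_cast; ring] at h
    rw [Nat.succ_mul]; exact ih.trans h

/-- An element algebraic over `k` has value `1` at every place. -/
theorem val_eq_one_of_isAlgebraic (P : Place k K) {x : K} (hx : IsAlgebraic k x) (h0 : x ≠ 0) :
    val P x = 1 := by
  suffices h : ∀ y : K, IsAlgebraic k y → val P y ≤ 1 by
    refine le_antisymm (h x hx) ?_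
    have := h x⁻¹ hx.inv
    rw [map_inv₀] at this
    exact (inv_le_one₀ (zero_lt_iff.2 ((val P).ne_zero_iff.2 h0))).1 this
  intro y hy
  by_contra hlt
  rw [not_le] at hlt
  obtain ⟨p, hp0, hp⟩ := hy
  have hy0 : y ≠ 0 := by rintro rfl; simp at hlt
  have hlead : val P (algebraMap k K p.leadingCoeff * y ^ p.natDegree) =
      val P y ^ p.natDegree := by
    rw [map_mul, val_const P (Polynomial.leadingCoeff_ne_zero.2 hp0), one_mul, map_pow]
  rw [Polynomial.aeval_eq_sum_range, Finset.sum_range_succ] at hp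
  have hsum : val P (∑ i ∈ Finset.range p.natDegree, p.coeff i • y ^ i) <
      val P y ^ p.natDegree := by
    refine (val P).map_sum_lt (pow_ne_zero _ ((val P).ne_zero_iff.2 hy0)) fun i hi => ?_
    rw [Algebra.smul_def, map_mul, map_pow]
    exact (mul_le_of_le_one_left' (P.2.1 _)).trans_lt
      (pow_lt_pow_right₀ hlt (Finset.mem_range.1 hi))
  rw [Algebra.smul_def] at hp
  have := (val P).map_add_eq_of_lt_right (lt_of_lt_of_eq hsum hlead.symm)
  rw [Polynomial.coeff_natDegree] at hp
  rw [hp, map_zero, hlead] at this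
  exact pow_ne_zero _ ((val P).ne_zero_iff.2 hy0) this.symm

theorem transcendental_of_val_ne_one (P : Place k K) {x : K} (h0 : x ≠ 0) (h : val P x ≠ 1) :
    Transcendental k x := fun hx => h (val_eq_one_of_isAlgebraic P hx h0)

end GrothLib.FunFld
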