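import Groth.Agent.Lib.FunFld.Orders
import Mathlib.Data.Nat.Choose.Vandermonde

/-!
Selecting a nonsingular binomial minor below shifted exponents.
-/

set_option autoImplicit false
set_option linter.style.haveILetI false

namespace GrothLib.FunFld

open _root_.FunFld

variable (k : Type*) [Field k] {n : ℕ}

/-- The columns of the binomial matrix, with a leading unit column. -/
def bcol (d : Fin n → ℕ) : ℕ → Fin (n + 1) → k
  | 0 => Pi.single 0 1
  | i + 1 => Fin.cons 0 fun r => ((d r).choose i : k)

theorem span_bcol_shift_le (d : Fin n → ℕ) (e m : ℕ) :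
    Submodule.span k (bcol k (fun r => e + d r) '' Set.Iio m) ≤ Submodule.span k (bcol k d '' Set.Iio m) := by
  classical
  rw [Submodule.span_le]
  rintro _ ⟨i, hi, rfl⟩
  rcases i with _ | i
  · exact Submodule.subset_span ⟨0, hi, rfl⟩
  have : bcol k (fun r => e + d r) (i + 1) =
      ∑ x ∈ Finset.HasAntidiagonal.antidiagonal i, (e.choose x.1 : k) • bcol k d (x.2 + 1) := by
    funext r
    refine Fin.cases ?_ (fun r => ?_) r
    · simp [bcol, Finset.sum_apply]
    · simp only [bcol, Fin.cons_succ, Finset.sum_apply, Pi.smul_apply, smul_eq_mul]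
      rw [Nat.add_choose_eq, Nat.cast_sum]
      exact Finset.sum_congr rfl fun x _ => Nat.cast_mul _ _
  rw [this]
  refine Submodule.sum_mem _ fun x hx => Submodule.smul_mem _ _ (Submodule.subset_span ⟨x.2 + 1, ?_, rfl⟩)
  rw [Finset.HasAntidiagonal.mem_antidiagonal] at hx
  simp only [Set.mem_Iio] at hi ⊢; omega

theorem span_bcol_shift_eq (d : Fin n → ℕ) (e m : ℕ) :
    Submodule.span k (bcol k (fun r => e + d r) '' Set.Iio m) = Submodule.span k (bcol k d '' Set.Iio m) := by
  classical
  refine le_antisymm (span_bcol_shift_le k d e m) ?_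
  induction m with
  | zero => simp
  | succ m ih =>
    rw [Submodule.span_le]
    rintro _ ⟨i, hi, rfl⟩
    rcases lt_or_eq_of_le (Nat.lt_succ_iff.1 hi) with h | rfl
    · exact Submodule.span_mono (Set.image_mono (Set.Iio_subset_Iio (Nat.le_succ m)))
        (ih (Submodule.subset_span ⟨i, h, rfl⟩))
    rcases i with _ | i
    · exact Submodule.subset_span ⟨0, Nat.lt_succ_self 0, rfl⟩
    have hdec : bcol k (fun r => e + d r) (i + 1) = bcol k d (i + 1) +
        ∑ x ∈ (Finset.HasAntidiagonal.antidiagonal i).erase (0, i), (e.choose x.1 : k) • bcol k d (x.2 + 1) := by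
      funext r
      refine Fin.cases ?_ (fun r => ?_) r
      · simp [bcol, Finset.sum_apply]
      · simp only [bcol, Pi.add_apply, Fin.cons_succ, Finset.sum_apply, Pi.smul_apply, smul_eq_mul]
        rw [Nat.add_choose_eq, Nat.cast_sum,
          ← Finset.add_sum_erase _ _ (show (0, i) ∈ Finset.HasAntidiagonal.antidiagonal i by simp)]
        simp only [Nat.choose_zero_right, one_mul, Nat.cast_mul]
    rw [SetLike.mem_coe, show bcol k d (i + 1) = bcol k (fun r => e + d r) (i + 1) -
      ∑ x ∈ (Finset.HasAntidiagonal.antidiagonal i).erase (0, i), (e.choose x.1 : k) • bcol k d (x.2 + 1) by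
        rw [hdec]; abel]
    refine sub_mem (Submodule.subset_span ⟨i + 1, Nat.lt_succ_self _, rfl⟩)
      (Submodule.sum_mem _ fun x hx => Submodule.smul_mem _ _
        (Submodule.span_mono (Set.image_mono (Set.Iio_subset_Iio (Nat.le_succ _)))
          (ih (Submodule.subset_span ⟨x.2 + 1, ?_, rfl⟩))))
    obtain ⟨hne, hx⟩ := Finset.mem_erase.1 hx
    rw [Finset.HasAntidiagonal.mem_antidiagonal] at hx
    have : x.1 ≠ 0 := fun h0 => hne (by ext <;> simp <;> omega)
    simp only [Set.mem_Iio]; omega

theorem linearIndependent_bcol_self {d : Fin n → ℕ} (hd : StrictMono d) :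
    LinearIndependent k fun a => bcol k d (sel d a) := by
  classical
  let B : Matrix (Fin (n + 1)) (Fin (n + 1)) k := Matrix.of fun r a => bcol k d (sel d a) r
  have hB : B.det = 1 := by
    have hlow : B.IsLowerTriangular := by
      intro r a hra
      have hra' : r < a := hra
      obtain ⟨l, rfl⟩ := Fin.exists_succ_eq.2 (ne_of_gt (lt_of_le_of_lt (Fin.zero_le r) hra'))
      refine Fin.cases (fun _ => ?_) (fun r hr => ?_) r hra'
      · simp [B, sel, bcol]
      · simp [B, sel, bcol, Nat.choose_eq_zero_of_lt (hd (Fin.succ_lt_succ_iff.1 hr))]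
    rw [Matrix.det_of_lowerTriangular B hlow]
    refine Finset.prod_eq_one fun r _ => ?_
    refine Fin.cases ?_ (fun r => ?_) r <;> simp [B, sel, bcol]
  have h := Matrix.linearIndependent_cols_iff_isUnit.2
    ((Matrix.isUnit_iff_isUnit_det B).2 (by rw [hB]; exact isUnit_one))
  exact h

/-- There is a nonsingular minor of the binomial matrix of `e + d` with columns below `d`. -/
theorem exists_minor_le {d : Fin n → ℕ} (hd : StrictMono d) (e : ℕ) :
    ∃ I : Fin n → ℕ, StrictMono I ∧ (binomMat k (fun r => e + d r) I).det ≠ 0 ∧ ∀ l, I l ≤ d l := by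
  classical
  have hc0 : ∀ d : Fin n → ℕ, bcol k d 0 ≠ 0 := fun d h => by
    have := congrFun h 0
    simp [bcol] at this
  have htop : Submodule.span k (Set.range (bcol k d)) = ⊤ := top_unique <| by
    rw [← (linearIndependent_bcol_self k hd).span_eq_top_of_card_eq_finrank (by simp)]
    exact Submodule.span_mono (by rintro _ ⟨a, rfl⟩; exact ⟨_, rfl⟩)
  obtain ⟨I, hI⟩ := exists_isOrders (R := k) (n := n) (bcol k d) (hc0 d) htop (by simp)
  refine ⟨I, hI.1, ?_, isOrders_le (R := k) _ hI (hc0 d) hd (linearIndependent_bcol_self k hd)⟩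
  have hI' : IsOrders k (bcol k fun r => e + d r) I := ⟨hI.1, fun j => (hI.2 j).trans
    (isJump_congr (fun m => (span_bcol_shift_eq k d e m).symm) (j + 1))⟩
  have hli := linearIndependent_sel (R := k) _ hI' (hc0 _)
  have hdet : (Matrix.of fun r a => bcol k (fun r => e + d r) (sel I a) r).det ≠ 0 := by
    rw [← isUnit_iff_ne_zero, ← Matrix.isUnit_iff_isUnit_det, ← Matrix.linearIndependent_cols_iff_isUnit]
    exact hli
  rwa [Matrix.det_succ_column_zero, Finset.sum_eq_single (0 : Fin (n + 1)) (fun r _ hr => by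
      obtain ⟨l, rfl⟩ := Fin.exists_succ_eq.2 hr
      simp [sel, bcol]) (by simp), Fin.val_zero, pow_zero, one_mul,
    show (Matrix.of fun r a => bcol k (fun r => e + d r) (sel I a) r) 0 0 = 1 by simp [sel, bcol], one_mul,
    show (Matrix.of fun r a => bcol k (fun r => e + d r) (sel I a) r).submatrix (Fin.succAbove 0) Fin.succ =
      binomMat k (fun r => e + d r) I by
        ext r l : 1
        simp [binomMat, sel, bcol]] at hdet

end GrothLib.FunFld
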