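import Groth.Agent.Lib.FunFld.WeierstrassDiv
import Mathlib.LinearAlgebra.Vandermonde

/-!
Classical orders in large characteristic; orders are bounded by the degree.
-/

set_option autoImplicit false
set_option linter.style.haveILetI false

namespace GrothLib.FunFld

open _root_.FunFld

variable {k K : Type*} [Field k] [Field K] [Algebra k K]

theorem det_choose_ne_zero {m : ℕ} (v : Fin m → ℕ) (hv : Function.Injective fun i => (v i : k)) :
    (Matrix.of fun i j : Fin m => ((v i).choose (j : ℕ) : k)).det ≠ 0 := by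
  intro h
  have h1 := Matrix.det_eval_matrixOfPolynomials_eq_det_vandermonde (fun i => (v i : k))
    (fun j => descPochhammer k j) (fun j => descPochhammer_natDegree k j) (fun j => monic_descPochhammer k j)
  have h2 : (Matrix.of fun i j : Fin m => (descPochhammer k j).eval (v i : k)) =
      Matrix.of fun i j : Fin m => ((j : ℕ).factorial : k) * ((v i).choose (j : ℕ) : k) := by
    ext i j
    simp only [Matrix.of_apply]
    rw [descPochhammer_eval_eq_descFactorial, Nat.descFactorial_eq_factorial_mul_choose, Nat.cast_mul]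
  rw [h2, show (Matrix.of fun i j : Fin m => ((j : ℕ).factorial : k) * ((v i).choose (j : ℕ) : k)).det =
    (∏ j : Fin m, ((j : ℕ).factorial : k)) * (Matrix.of fun i j : Fin m => ((v i).choose (j : ℕ) : k)).det from
      Matrix.det_mul_row _ _, h, mul_zero] at h1
  exact Matrix.det_vandermonde_ne_zero_iff.2 hv h1

theorem injective_natCast_of_lt {m : ℕ} {v : Fin m → ℕ} (hv : Function.Injective v) {p : ℕ}
    (hp : ringChar k = 0 ∨ ∀ i, v i < ringChar k) (_ : p = ringChar k) : Function.Injective fun i => (v i : k) := by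
  intro a b hab
  simp only at hab
  rcases hp with hp | hp
  · haveI := CharP.ofCharZero
    haveI : CharP k 0 := by rw [← hp]; exact ringChar.charP k
    haveI := CharP.charP_to_charZero k
    exact hv (Nat.cast_injective hab)
  · haveI := ringChar.charP k
    refine hv ?_
    exact Nat.ModEq.eq_of_lt_of_lt ((CharP.natCast_eq_natCast k (ringChar k)).1 hab) (hp a) (hp b)

theorem det_binomMat_id_ne_zero {n : ℕ} {J : Fin n → ℕ} (hJ : StrictMono J) (hpos : ∀ l, 1 ≤ J l)
    (hp : ringChar k = 0 ∨ ∀ l, J l < ringChar k) :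
    (binomMat k J fun l : Fin n => (l : ℕ) + 1).det ≠ 0 := by
  have hinj : Function.Injective (Fin.cons 0 J : Fin (n + 1) → ℕ) := by
    intro a b
    refine Fin.cases ?_ (fun a' => ?_) a <;> refine Fin.cases ?_ (fun b' => ?_) b
    · simp
    · intro h; simp at h; have := hpos b'; omega
    · intro h; simp at h; have := hpos a'; omega
    · intro h; simp at h; rw [hJ.injective h]
  have hp' : ringChar k = 0 ∨ ∀ i, (Fin.cons 0 J : Fin (n + 1) → ℕ) i < ringChar k := by
    by_cases h0 : ringChar k = 0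
    · exact Or.inl h0
    · refine hp.imp id fun h i => ?_
      rcases Fin.eq_zero_or_eq_succ i with rfl | ⟨l, rfl⟩
      · simp only [Fin.cons_zero]; omega
      · simpa using h l
  have h := det_choose_ne_zero (k := k) (Fin.cons 0 J) (injective_natCast_of_lt hinj hp' rfl)
  rwa [Matrix.det_succ_row_zero, Finset.sum_eq_single (0 : Fin (n + 1)) (fun c _ hc => by
      obtain ⟨l, rfl⟩ := Fin.exists_succ_eq.2 hc
      simp) (by simp), Fin.val_zero, pow_zero, one_mul,
    show (Matrix.of fun i j : Fin (n + 1) => ((Fin.cons 0 J : Fin (n + 1) → ℕ) i).choose (j : ℕ) |>.cast (R := k)) 0 0 = 1 by simp,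
    one_mul, show (Matrix.of fun i j : Fin (n + 1) => ((((Fin.cons 0 J : Fin (n + 1) → ℕ) i).choose (j : ℕ) : ℕ) : k)).submatrix
      Fin.succ (Fin.succAbove 0) = binomMat k J fun l : Fin n => (l : ℕ) + 1 by
        ext r l; simp [binomMat]] at h

variable [IsAlgClosed k] {n : ℕ} {φ : Fin (n + 1) → K}

/-- The orders at a place are at most the degree of the map. -/
theorem order_le_deg (hK : IsFunctionField k K) (hφ : LinearIndependent k φ) {P : Place k K} {y : K} (hy : y ≠ 0)
    (heff : (1 : K) ∈ Submodule.span k (Set.range (y • φ))) (hnorm : ∀ i, val P ((y • φ) i) ≤ 1)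
    {f : K} (hf : f ∈ Submodule.span k (Set.range (y • φ))) (hf0 : f ≠ 0) :
    P.ord f ≤ (mapDiv k φ).deg := by
  classical
  have hne : ∀ i, (y • φ) i ≠ 0 := fun i => mul_ne_zero hy (hφ.ne_zero i)
  set D := mapDiv k (y • φ)
  have hD : D = mapDiv k φ - div k y := Finsupp.ext fun R => by
    rw [Finsupp.sub_apply, IsFG.div_apply hK.1]
    exact mapDiv_smul_apply hK.1 (fun i => hφ.ne_zero i) hy R
  have hnn : ∀ R, 0 ≤ (D + div k f) R := fun R => by
    have : 0 ≤ R.ord f + D R := (mem_L_iff_ord hf0).1 (span_le_L_mapDiv hK.1 hne hf) R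
    rw [Finsupp.add_apply, IsFG.div_apply hK.1]
    omega
  have hP : (D + div k f) P = P.ord f := by
    rw [Finsupp.add_apply, IsFG.div_apply hK.1, mapDiv_eq_zero_of_normalised hK.1 hne heff hnorm, zero_add]
  have h1 : Finsupp.single P (P.ord f) ≤ D + div k f := fun R => by
    by_cases hR : R = P
    · subst hR; rw [Finsupp.single_eq_same, hP]
    · rw [Finsupp.single_eq_of_ne hR]; exact hnn R
  have h2 := deg_mono h1
  rw [deg_single, IsFG.deg_eq_one hK.1 P, deg_add, hD, deg_sub, IsFG.deg_div hK.1, IsFG.deg_div hK.1] at h2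
  simpa using h2

theorem orders_at_lt_char (hK : IsFunctionField k K) (hφ : LinearIndependent k φ) {P : Place k K} {y : K} (hy : y ≠ 0)
    (heff : (1 : K) ∈ Submodule.span k (Set.range (y • φ))) (hnorm : ∀ i, val P ((y • φ) i) ≤ 1)
    {t : K} (ht : val P t = WithZero.exp (-1)) {Ht : K →ₐ[k] PowerSeries K}
    (hHt : _root_.LocRes.IsHasseFamily t Ht) {J' : Fin n → ℕ}
    (hJ' : IsOrders (IsLocalRing.ResidueField P.O) (hcolAt P Ht (y • φ)) J')
    (hchar : ringChar k = 0 ∨ (mapDiv k φ).deg < ringChar k) :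
    (∀ l, 1 ≤ J' l) ∧ (ringChar k = 0 ∨ ∀ l, J' l < ringChar k) := by
  have h := fun l => (isJump_hcolAt_iff hK ht hHt hnorm _).1 ((hJ'.2 _).1 ⟨l, rfl⟩)
  refine ⟨fun l => (h l).1, hchar.imp id fun hc l => ?_⟩
  obtain ⟨-, f, hf, hfv⟩ := h l
  have hf0 : f ≠ 0 := fun h0 => by rw [h0, map_zero] at hfv; exact WithZero.exp_ne_zero hfv.symm
  have h1 := order_le_deg hK hφ hy heff hnorm hf hf0
  rw [ord_eq_of_val_eq P hfv] at h1
  omega

end GrothLib.FunFld
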