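import Groth.Agent.Lib.FunFld.HyperTransfer
import Groth.Agent.Lib.FunFld.RR
import Groth.Agent.Lib.FunFld.Gaps
import Groth.Agent.Lib.FunFld.Conseq
import Mathlib.RingTheory.RootsOfUnity.PrimitiveRoots
import Mathlib.RingTheory.RootsOfUnity.EnoughRootsOfUnity
import Mathlib.FieldTheory.IsAlgClosed.Basic
import Mathlib.RingTheory.RootsOfUnity.AlgebraicallyClosed

/-!
Automorphisms of an elliptic function field fixing the base point.
-/

set_option autoImplicit false
set_option linter.style.haveILetI false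

namespace GrothLib.FunFld.EllAut

open _root_.FunFld WithZero
open Polynomial (aeval)

universe u v

variable {k : Type u} {K : Type v} [Field k] [Field K] [Algebra k K]

/-- The place `Q ∘ σ`. -/
noncomputable def pull (σ : K ≃ₐ[k] K) (Q : Place k K) : Place k K :=
  ⟨Q.1.comap (σ : K →+* K), fun c => by
    show Q.1 (σ (algebraMap k K c)) ≤ 1
    rw [AlgEquiv.commutes]; exact Q.2.1 c, fun r => by
    obtain ⟨x, hx⟩ := Q.2.2 r
    exact ⟨σ.symm x, (congrArg Q.1 (σ.apply_symm_apply x)).trans hx⟩⟩

theorem ord_pull (σ : K ≃ₐ[k] K) (Q : Place k K) (z : K) : (pull σ Q).ord z = Q.ord (σ z) := rfl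

theorem li_of_ord (P : Place k K) {n : ℕ} (f : Fin n → K) (hf : ∀ i, f i ≠ 0)
    (hm : Function.Injective fun i => P.ord (f i)) : LinearIndependent k f := by
  classical
  rw [Fintype.linearIndependent_iff]
  intro c hc
  by_contra hne
  push Not at hne
  obtain ⟨i₀, hi₀⟩ := hne
  obtain ⟨i, hi, hmax⟩ := Finset.exists_min_image (Finset.univ.filter fun j => c j ≠ 0) (fun j => P.ord (f j))
    ⟨i₀, by simp [hi₀]⟩
  rw [Finset.mem_filter] at hi
  have hci := hi.2
  have hv : val P (c i • f i) = exp (-P.ord (f i)) := by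
    rw [Algebra.smul_def, map_mul, val_const P hci, one_mul, val_eq P (hf i)]
  have := (val P).map_sum_eq_of_lt (s := Finset.univ) (f := fun j => c j • f j) (j := i) (Finset.mem_univ i) fun j hj => by
    simp only [Finset.mem_sdiff, Finset.mem_univ, Finset.mem_singleton, true_and] at hj
    show val P (c j • f j) < val P (c i • f i)
    rw [hv]
    by_cases hcj : c j = 0
    · rw [hcj, zero_smul, map_zero]; exact exp_pos
    rw [Algebra.smul_def, map_mul, val_const P hcj, one_mul, val_eq P (hf j), exp_lt_exp]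
    have h1 := hmax j (by simp [hcj])
    have h2 : P.ord (f i) ≠ P.ord (f j) := fun e => hj (hm e).symm
    omega
  rw [hc, map_zero, hv] at this
  exact exp_ne_zero this.symm

variable {P : Place k K} {a b : k} {x y : K}

theorem L_le_span [IsAlgClosed k] (hK : IsFunctionField k K) (hgen : genus k K = 1) {n : ℕ} (hn : 0 < n)
    (f : Fin n → K) (hf : ∀ i, f i ∈ L (Finsupp.single P (n : ℤ))) (hli : LinearIndependent k f) :
    L (Finsupp.single P (n : ℤ)) = Submodule.span k (Set.range f) := by
  have hfg : IsFG k K := hK.1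
  haveI := hfg.finite_L (Finsupp.single P (n : ℤ))
  refine (Submodule.eq_of_le_of_finrank_eq (Submodule.span_le.2 (by rintro _ ⟨i, rfl⟩; exact hf i)) ?_).symm
  rw [finrank_span_eq_card hli, Fintype.card_fin]
  have := ell_eq_of_deg_ge hK (D := Finsupp.single P (n : ℤ)) (by
    rw [deg_single, hfg.deg_eq_one P, hgen]; simp; omega)
  rw [deg_single, hfg.deg_eq_one P, hgen, ell] at this
  push_cast at this
  omega

theorem pull_mem (σ : K ≃ₐ[k] K) (hσ : ∀ z, P.1 (σ z) = P.1 z) {z : K} (hz : z ≠ 0) {n : ℤ} (hn : 0 ≤ n)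
    (hzn : z ∈ L (Finsupp.single P n)) : σ z ∈ L (Finsupp.single P n) := by
  obtain ⟨h1, h2⟩ := (mem_L_single_iff hz hn).1 hzn
  refine (mem_L_single_iff (by simpa using hz) hn).2 ⟨?_, fun Q hQ => ?_⟩
  · rw [show P.ord (σ z) = P.ord z from congrArg (fun v => -WithZero.log v) (hσ z)]; exact h1
  · rw [← ord_pull]
    refine h2 _ fun e => hQ (Subtype.ext (Valuation.ext fun w => ?_))
    obtain ⟨w, rfl⟩ := σ.surjective w
    rw [hσ w]
    conv_rhs => rw [← e]
    rfl

/-- The parameters of the automorphisms. -/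
def Pars (a b : k) : Set k := {u | u ≠ 0 ∧ a * (u ^ 4 - 1) = 0 ∧ b * (u ^ 6 - 1) = 0}

open scoped Classical in
theorem card_Pars [IsAlgClosed k] (h2 : (2 : k) ≠ 0) (h3 : (3 : k) ≠ 0) (hdisc : 4 * a ^ 3 + 27 * b ^ 2 ≠ 0) :
    Nat.card (Pars a b) = if a = 0 then 6 else if b = 0 then 4 else 2 := by
  have hroots : ∀ n : ℕ, n ≠ 0 → ((n : k) ≠ 0) → Nat.card {u : k | u ^ n = 1} = n := fun n hn hnk => by
    haveI : NeZero n := ⟨hn⟩
    haveI : NeZero (n : k) := ⟨hnk⟩
    obtain ⟨ζ, hζ⟩ := HasEnoughRootsOfUnity.exists_primitiveRoot k n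
    have hset : {u : k | u ^ n = 1} = ↑(Polynomial.nthRootsFinset n (1 : k)) := by
      ext u; simp [Polynomial.mem_nthRootsFinset (Nat.pos_of_ne_zero hn)]
    rw [hset, Nat.card_coe_set_eq, Set.ncard_coe_finset, hζ.card_nthRootsFinset]
  have h6 : ((6 : ℕ) : k) ≠ 0 := by
    rw [show ((6 : ℕ) : k) = 2 * 3 by norm_num]; exact mul_ne_zero h2 h3
  have h4 : ((4 : ℕ) : k) ≠ 0 := by
    rw [show ((4 : ℕ) : k) = 2 * 2 by norm_num]; exact mul_ne_zero h2 h2
  split_ifs with ha hb
  · have hb : b ≠ 0 := fun hb => hdisc (by rw [ha, hb]; ring)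
    have : Pars a b = {u : k | u ^ 6 = 1} := by
      ext u
      refine ⟨fun h => sub_eq_zero.1 ((mul_eq_zero.1 h.2.2).resolve_left hb), fun h => ⟨?_, ?_, ?_⟩⟩
      · rintro rfl; simp at h
      · rw [ha, zero_mul]
      · rw [show u ^ 6 = 1 from h, sub_self, mul_zero]
    rw [this]; exact hroots 6 (by norm_num) h6
  · have : Pars a b = {u : k | u ^ 4 = 1} := by
      ext u
      refine ⟨fun h => sub_eq_zero.1 ((mul_eq_zero.1 h.2.1).resolve_left ha), fun h => ⟨?_, ?_, ?_⟩⟩
      · rintro rfl; simp at h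
      · rw [show u ^ 4 = 1 from h, sub_self, mul_zero]
      · rw [hb, zero_mul]
    rw [this]; exact hroots 4 (by norm_num) h4
  · have : Pars a b = {u : k | u ^ 2 = 1} := by
      ext u
      refine ⟨fun h => ?_, fun h => ⟨?_, ?_, ?_⟩⟩
      · have e4 := sub_eq_zero.1 ((mul_eq_zero.1 h.2.1).resolve_left ha)
        have e6 := sub_eq_zero.1 ((mul_eq_zero.1 h.2.2).resolve_left hb)
        show u ^ 2 = 1
        calc u ^ 2 = u ^ 4 * u ^ 2 := by rw [e4, one_mul]
          _ = u ^ 6 := by ring
          _ = 1 := e6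
      · rintro rfl; simp at h
      · rw [show u ^ 4 = (u ^ 2) ^ 2 by ring, show u ^ 2 = 1 from h]; ring
      · rw [show u ^ 6 = (u ^ 2) ^ 3 by ring, show u ^ 2 = 1 from h]; ring
    rw [this]; exact hroots 2 (by norm_num) (by simpa using h2)

theorem squarefree_cubic (hdisc : 4 * a ^ 3 + 27 * b ^ 2 ≠ 0) :
    Squarefree (Polynomial.X ^ 3 + Polynomial.C a * Polynomial.X + Polynomial.C b : Polynomial k) := by
  refine Polynomial.Separable.squarefree ?_
  set d := 4 * a ^ 3 + 27 * b ^ 2 with hd
  refine ⟨Polynomial.C d⁻¹ * (Polynomial.C (-18 * a) * Polynomial.X + Polynomial.C (27 * b)),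
    Polynomial.C d⁻¹ * (Polynomial.C (6 * a) * Polynomial.X ^ 2 - Polynomial.C (9 * b) * Polynomial.X +
      Polynomial.C (4 * a ^ 2)), ?_⟩
  have h1 : Polynomial.C d⁻¹ * Polynomial.C d = 1 := by rw [← Polynomial.C_mul, inv_mul_cancel₀ hdisc, map_one]
  rw [hd] at h1 ⊢
  simp only [Polynomial.derivative_add, Polynomial.derivative_X_pow, Polynomial.derivative_mul,
    Polynomial.derivative_C, Polynomial.derivative_X, map_mul, map_add, map_neg, map_pow, map_ofNat, map_natCast, Nat.cast_ofNat] at h1 ⊢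
  linear_combination h1

theorem aeval_cubic (x : K) :
    aeval x (Polynomial.X ^ 3 + Polynomial.C a * Polynomial.X + Polynomial.C b : Polynomial k) =
      x ^ 3 + algebraMap k K a * x + algebraMap k K b := by simp

/-- Two generators with the same equation differ by an automorphism. -/
theorem exists_equiv {f : Polynomial k} (hf : Squarefree f) (hd : 1 ≤ f.natDegree) {x y x' y' : K}
    (hx : Transcendental k x) (hx' : Transcendental k x')
    (hxy : IntermediateField.adjoin k ({x, y} : Set K) = ⊤)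
    (hxy' : IntermediateField.adjoin k ({x', y'} : Set K) = ⊤)
    (heq : y ^ 2 = aeval x f) (heq' : y' ^ 2 = aeval x' f) :
    ∃ σ : K ≃ₐ[k] K, σ x = x' ∧ σ y = y' := by
  set g : Polynomial (RatFunc k) := Polynomial.X ^ 2 - Polynomial.C (algebraMap (Polynomial k) (RatFunc k) f)
  have hg : g.natDegree = 2 := Polynomial.natDegree_X_pow_sub_C
  have hg0 : g ≠ 0 := fun h => by rw [h] at hg; simp at hg
  have key : ∀ x y : K, Transcendental k x → IntermediateField.adjoin k ({x, y} : Set K) = ⊤ →
      y ^ 2 = aeval x f → ∃ φ : AdjoinRoot g →ₐ[k] K, Function.Bijective φ ∧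
        φ (algebraMap (RatFunc k) (AdjoinRoot g) RatFunc.X) = x ∧ φ (AdjoinRoot.root g) = y := by
    intro x y hx hxy heq
    obtain ⟨_, _, hX, hdeg, heq'⟩ := exists_ratFunc_structure hx hxy hf hd heq
    have hq := isQuad_hyper hdeg hf hd heq'
    haveI := hq.finite
    have hroot : g.eval₂ (↑(Algebra.ofId (RatFunc k) K) : RatFunc k →+* K) y = 0 := by
      simp [g, heq', Algebra.ofId_apply]
    let φ : AdjoinRoot g →ₐ[RatFunc k] K := AdjoinRoot.liftAlgHom g (Algebra.ofId (RatFunc k) K) y hroot
    haveI : Module.Finite (RatFunc k) (AdjoinRoot g) := Module.Finite.of_basis (AdjoinRoot.powerBasis hg0).basis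
    have hsurj : Function.Surjective φ := fun z => by
      obtain ⟨a, b, rfl⟩ := hq.exists_coeff z
      exact ⟨algebraMap (RatFunc k) _ a + algebraMap (RatFunc k) _ b * AdjoinRoot.root g, by
        rw [map_add, map_mul, AlgHom.commutes, AlgHom.commutes, AdjoinRoot.liftAlgHom_root]⟩
    have hinj : Function.Injective φ :=
      (LinearMap.injective_iff_surjective_of_finrank_eq_finrank (f := φ.toLinearMap) (by
        rw [(AdjoinRoot.powerBasis hg0).finrank, AdjoinRoot.powerBasis_dim, hg, hdeg])).2 hsurj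
    exact ⟨φ.restrictScalars k, ⟨hinj, hsurj⟩, (φ.commutes _).trans hX, AdjoinRoot.liftAlgHom_root g (Algebra.ofId (RatFunc k) K) y hroot⟩
  obtain ⟨φ, hφ, hφx, hφy⟩ := key x y hx hxy heq
  obtain ⟨φ', hφ', hφx', hφy'⟩ := key x' y' hx' hxy' heq'
  refine ⟨(AlgEquiv.ofBijective φ hφ).symm.trans (AlgEquiv.ofBijective φ' hφ'), ?_, ?_⟩
  · conv_lhs => rw [← hφx]
    rw [AlgEquiv.trans_apply]
    erw [AlgEquiv.symm_apply_apply (AlgEquiv.ofBijective φ hφ)]
    exact hφx'
  · conv_lhs => rw [← hφy]
    rw [AlgEquiv.trans_apply]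
    erw [AlgEquiv.symm_apply_apply (AlgEquiv.ofBijective φ hφ)]
    exact hφy'

open scoped Classical in
theorem card_aut [IsAlgClosed k] (h2 : (2 : k) ≠ 0) (h3 : (3 : k) ≠ 0) (hK : IsFunctionField k K)
    (hgen : genus k K = 1) (P : Place k K) (hdisc : 4 * a ^ 3 + 27 * b ^ 2 ≠ 0)
    (heq : y ^ 2 = x ^ 3 + algebraMap k K a * x + algebraMap k K b)
    (hxy : IntermediateField.adjoin k ({x, y} : Set K) = ⊤)
    (hx : x ∈ L (Finsupp.single P 2)) (hx2 : P.ord x = -2)
    (hy : y ∈ L (Finsupp.single P 3)) (hy3 : P.ord y = -3) :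
    Nat.card {σ : K ≃ₐ[k] K // ∀ z : K, P.1 (σ z) = P.1 z} = if a = 0 then 6 else if b = 0 then 4 else 2 := by
  rw [← card_Pars h2 h3 hdisc]
  have hx0 : x ≠ 0 := fun h => by rw [h] at hx2; simp [Place.ord] at hx2
  have hy0 : y ≠ 0 := fun h => by rw [h] at hy3; simp [Place.ord] at hy3
  have hord1 : P.ord (1 : K) = 0 := by rw [← map_one (algebraMap k K)]; exact ord_const P 1
  have htr : Transcendental k x := transcendental_of_ord_ne_zero (P := P) (by omega)
  have h1mem : ∀ n : ℕ, (1 : K) ∈ L (Finsupp.single P (n : ℤ)) := fun n =>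
    (mem_L_single_iff one_ne_zero (by omega)).2 ⟨by omega, fun Q _ => by
      rw [← map_one (algebraMap k K), ord_const]⟩
  have hL2 : L (Finsupp.single P ((2 : ℕ) : ℤ)) = Submodule.span k (Set.range ![(1 : K), x]) :=
    L_le_span hK hgen two_pos _ (fun i => by fin_cases i; exacts [h1mem 2, hx])
      (li_of_ord P _ (fun i => by fin_cases i <;> simp [hx0]) (fun i j h => by
        fin_cases i <;> fin_cases j <;> simp_all))
  have hL3 : L (Finsupp.single P ((3 : ℕ) : ℤ)) = Submodule.span k (Set.range ![(1 : K), x, y]) :=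
    L_le_span hK hgen three_pos _ (fun i => by
      fin_cases i
      · exact h1mem 3
      · exact L_mono (Finsupp.single_le_single.2 (by norm_num)) hx
      · exact hy)
      (li_of_ord P _ (fun i => by fin_cases i <;> simp [hx0, hy0]) (fun i j h => by
        fin_cases i <;> fin_cases j <;> simp_all))
  -- the shape of an automorphism
  have hshape : ∀ σ : K ≃ₐ[k] K, (∀ z, P.1 (σ z) = P.1 z) →
      ∃ u ∈ Pars a b, σ x = algebraMap k K (u ^ 2) * x ∧ σ y = algebraMap k K (u ^ 3) * y := by
    intro σ hσ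
    have hσord : ∀ z, P.ord (σ z) = P.ord z := fun z => congrArg (fun v => -WithZero.log v) (hσ z)
    have hσx : σ x ∈ Submodule.span k (Set.range ![(1 : K), x]) := hL2 ▸ pull_mem σ hσ hx0 (by norm_num) hx
    have hσy : σ y ∈ Submodule.span k (Set.range ![(1 : K), x, y]) := hL3 ▸ pull_mem σ hσ hy0 (by norm_num) hy
    obtain ⟨c, hc⟩ := (Submodule.mem_span_range_iff_exists_fun k).1 hσx
    obtain ⟨e, he⟩ := (Submodule.mem_span_range_iff_exists_fun k).1 hσy
    simp only [Fin.sum_univ_succ, Fin.sum_univ_zero, Matrix.cons_val_zero, Matrix.cons_val_succ, add_zero,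
      Fin.succ_zero_eq_one, Fin.succ_one_eq_two, Algebra.smul_def, mul_one] at hc he
    set β := c 0
    set α := c 1
    set ε := e 0
    set δ := e 1
    set γ := e 2
    have hα : α ≠ 0 := fun h => by
      rw [h, map_zero, zero_mul, add_zero] at hc
      have := hσord x
      rw [← hc, ord_const] at this
      omega
    have hγ : γ ≠ 0 := fun h => by
      rw [h, map_zero, zero_mul, add_zero] at he
      have h1 := hσord y
      by_cases hd : δ = 0
      · rw [← he, hd, map_zero, zero_mul, add_zero, ord_const] at h1; omega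
      · have hlt : val P (algebraMap k K ε) < val P (algebraMap k K δ * x) := by
          rw [map_mul (val P), val_const P hd, one_mul, val_eq P hx0, hx2]
          by_cases hε : ε = 0
          · rw [hε, map_zero, map_zero]; exact exp_pos
          · rw [val_const P hε, ← exp_zero, exp_lt_exp]; norm_num
        have h4 := (val P).map_add_eq_of_lt_right hlt
        rw [he, map_mul (val P), val_const P hd, one_mul, val_eq P hx0,
          val_eq P (by simpa using hy0 : σ y ≠ 0), exp_inj, h1] at h4
        omega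
    have heq' : σ y ^ 2 = σ x ^ 3 + algebraMap k K a * σ x + algebraMap k K b := by
      rw [← map_pow, heq]; simp
    have hli := li_of_ord P ![(1 : K), x, y, x ^ 2, x * y, x ^ 3]
      (fun i => by fin_cases i <;> simp [hx0, hy0]) (fun i j h => by
        fin_cases i <;> fin_cases j <;>
          simp [hord1, hx2, hy3, ord_pow, ord_mul P hx0 hy0] at h ⊢)
    have hz := Fintype.linearIndependent_iff.1 hli
      ![γ ^ 2 * b + ε ^ 2 - β ^ 3 - a * β - b, γ ^ 2 * a + 2 * δ * ε - 3 * α * β ^ 2 - a * α, 2 * γ * ε,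
        δ ^ 2 - 3 * α ^ 2 * β, 2 * γ * δ, γ ^ 2 - α ^ 3] (by
        simp only [Fin.sum_univ_succ, Fin.sum_univ_zero, Matrix.cons_val_zero, Matrix.cons_val_succ, add_zero,
          Algebra.smul_def, map_sub, map_add, map_mul, map_pow, map_ofNat]
        rw [← hc, ← he] at heq'
        linear_combination heq' - (algebraMap k K γ) ^ 2 * heq)
    have z0 := hz 0
    have z1 := hz 1
    have z2 := hz 2
    have z3 := hz 3
    have z4 := hz 4
    have z5 := hz 5
    simp at z0 z1 z2 z3 z4 z5
    have hε : ε = 0 := by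
      rcases z2 with h | h
      · rcases h with h | h
        · exact absurd h h2
        · exact absurd h hγ
      · exact h
    have hδ : δ = 0 := by
      rcases z4 with h | h
      · rcases h with h | h
        · exact absurd h h2
        · exact absurd h hγ
      · exact h
    have hβ : β = 0 := by
      rw [hδ] at z3
      have : (3 * α ^ 2) * β = 0 := by linear_combination -z3
      exact (mul_eq_zero.1 this).resolve_left (mul_ne_zero h3 (pow_ne_zero _ hα))
    refine ⟨γ / α, ⟨div_ne_zero hγ hα, ?_, ?_⟩, ?_, ?_⟩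
    · rw [hε, hδ, hβ] at z1
      field_simp
      linear_combination γ ^ 2 * z1 + a * α * z5
    · rw [hε, hβ] at z0
      field_simp
      linear_combination γ ^ 4 * z0 + b * (γ ^ 2 + α ^ 3) * z5
    · rw [← hc, hβ, map_zero, zero_add, show (γ / α) ^ 2 = α by field_simp; linear_combination z5]
    · rw [← he, hε, hδ]
      simp only [map_zero, zero_mul, zero_add]
      congr 2
      field_simp
      linear_combination -z5
  have hex : ∀ u ∈ Pars a b, ∃ σ : K ≃ₐ[k] K, (∀ z, P.1 (σ z) = P.1 z) ∧
      σ x = algebraMap k K (u ^ 2) * x ∧ σ y = algebraMap k K (u ^ 3) * y := by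
    intro u ⟨hu, hua, hub⟩
    have hu2 : algebraMap k K (u ^ 2) ≠ 0 := by simpa using hu
    have hu3 : algebraMap k K (u ^ 3) ≠ 0 := by simpa using hu
    have hd : 1 ≤ (Polynomial.X ^ 3 + Polynomial.C a * Polynomial.X + Polynomial.C b : Polynomial k).natDegree := by
      have : (Polynomial.X ^ 3 + Polynomial.C a * Polynomial.X + Polynomial.C b : Polynomial k).natDegree = 3 := by
        compute_degree!
      omega
    have hgen' : IntermediateField.adjoin k
        ({algebraMap k K (u ^ 2) * x, algebraMap k K (u ^ 3) * y} : Set K) = ⊤ := by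
      refine top_unique (hxy.ge.trans (IntermediateField.adjoin_le_iff.2 ?_))
      set S := IntermediateField.adjoin k ({algebraMap k K (u ^ 2) * x, algebraMap k K (u ^ 3) * y} : Set K)
      rintro z (rfl | rfl)
      · have := div_mem (IntermediateField.subset_adjoin k _ (Set.mem_insert _ _) : algebraMap k K (u ^ 2) * z ∈ S)
          (S.algebraMap_mem (u ^ 2))
        rwa [mul_div_cancel_left₀ _ hu2] at this
      · have := div_mem (IntermediateField.subset_adjoin k _ (Set.mem_insert_of_mem _ rfl) : algebraMap k K (u ^ 3) * z ∈ S)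
          (S.algebraMap_mem (u ^ 3))
        rwa [mul_div_cancel_left₀ _ hu3] at this
    obtain ⟨σ, hσx, hσy⟩ := exists_equiv (squarefree_cubic hdisc) hd htr
      (transcendental_of_ord_ne_zero (P := P) (x := algebraMap k K (u ^ 2) * x) (by
        rw [ord_mul P hu2 hx0, ord_const]; omega))
      hxy hgen' (heq.trans (aeval_cubic x).symm) (by
        rw [aeval_cubic]
        simp only [map_pow]
        have ea : algebraMap k K a * (algebraMap k K u ^ 4 - 1) = 0 := by simpa using congrArg (algebraMap k K) hua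
        have eb : algebraMap k K b * (algebraMap k K u ^ 6 - 1) = 0 := by simpa using congrArg (algebraMap k K) hub
        linear_combination (algebraMap k K u ^ 6) * heq + (algebraMap k K u ^ 2 * x) * ea + eb)
    refine ⟨σ, fun z => ?_, hσx, hσy⟩
    have hne : pull σ P = P := by
      by_contra hne
      have h1 := ((mem_L_single_iff hx0 (by norm_num)).1 hx).2 _ hne
      rw [ord_pull, hσx, ord_mul P hu2 hx0, ord_const] at h1
      omega
    exact congrArg (fun Q : Place k K => Q.1 z) hne
  let F : {σ : K ≃ₐ[k] K // ∀ z : K, P.1 (σ z) = P.1 z} → Pars a b :=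
    fun σ => ⟨(hshape σ.1 σ.2).choose, (hshape σ.1 σ.2).choose_spec.1⟩
  refine Nat.card_eq_of_bijective F ⟨fun σ τ h => ?_, fun u => ?_⟩
  · obtain ⟨-, s1, s2⟩ := (hshape σ.1 σ.2).choose_spec
    obtain ⟨-, t1, t2⟩ := (hshape τ.1 τ.2).choose_spec
    have hh : (hshape σ.1 σ.2).choose = (hshape τ.1 τ.2).choose := congrArg Subtype.val h
    rw [hh] at s1 s2
    have hadj : ∀ z, σ.1 z = τ.1 z := by
      intro z
      have hz : z ∈ IntermediateField.adjoin k ({x, y} : Set K) := hxy ▸ IntermediateField.mem_top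
      induction hz using IntermediateField.adjoin_induction with
      | mem w hw => rcases hw with rfl | rfl; exacts [s1.trans t1.symm, s2.trans t2.symm]
      | algebraMap c => rw [AlgEquiv.commutes, AlgEquiv.commutes]
      | add v w _ _ hv hw => rw [map_add, map_add, hv, hw]
      | inv v _ hv => rw [map_inv₀, map_inv₀, hv]
      | mul v w _ _ hv hw => rw [map_mul, map_mul, hv, hw]
    exact Subtype.ext (AlgEquiv.ext hadj)
  · obtain ⟨σ, hσ, h1, h2'⟩ := hex u.1 u.2
    refine ⟨⟨σ, hσ⟩, Subtype.ext ?_⟩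
    obtain ⟨hu', s1, s2⟩ := (hshape σ hσ).choose_spec
    show (hshape σ hσ).choose = u.1
    have e2 : (hshape σ hσ).choose ^ 2 = u.1 ^ 2 := (algebraMap k K).injective (mul_right_cancel₀ hx0 (s1.symm.trans h1))
    have e3 : (hshape σ hσ).choose ^ 3 = u.1 ^ 3 := (algebraMap k K).injective (mul_right_cancel₀ hy0 (s2.symm.trans h2'))
    refine mul_left_cancel₀ (pow_ne_zero 2 u.2.1) ?_
    linear_combination e3 - (hshape σ hσ).choose * e2

end GrothLib.FunFld.EllAut
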