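import Groth.Agent.Lib.FunFld.Basic
import Mathlib.RingTheory.Unramified.Field
import Mathlib.RingTheory.Kaehler.Basic
import Mathlib.RingTheory.IntegralDomain
import Mathlib.FieldTheory.Galois.Basic

/-!
Higher ramification groups at a place.
-/

set_option autoImplicit false
set_option linter.style.haveILetI false

namespace GrothLib.FunFld

open _root_.FunFld WithZero

universe u v w

variable {k : Type u} {K : Type v} {K' : Type w} [Field k] [Field K] [Field K'] [Algebra k K]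
  [Algebra K K'] [Algebra k K'] [IsScalarTower k K K'] [FiniteDimensional K K'] {Q : Place k K'}

/-- `σ ≡ id` on `O_Q` modulo `Q ^ j`. -/
def InRam (Q : Place k K') (j : ℤ) (σ : K' ≃ₐ[K] K') : Prop :=
  ∀ x : K', val Q x ≤ 1 → val Q (σ x - x) ≤ exp (-j)

theorem exp_neg_le_one {j : ℤ} (hj : 0 ≤ j) : (exp (-j) : WithZero (Multiplicative ℤ)) ≤ 1 := by
  rw [← exp_zero, exp_le_exp]; omega

omit [IsScalarTower k K K'] [FiniteDimensional K K'] in
theorem InRam.mono {i j : ℤ} (h : i ≤ j) {σ : K' ≃ₐ[K] K'} (hσ : InRam Q j σ) : InRam Q i σ :=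
  fun x hx => (hσ x hx).trans (exp_le_exp.mpr (by omega))

omit [IsScalarTower k K K'] [FiniteDimensional K K'] in
theorem InRam.val_le {j : ℤ} {σ : K' ≃ₐ[K] K'} (hσ : InRam Q j σ) {x : K'} (hx : val Q x ≤ 1)
    {n : ℤ} (hxn : val Q x ≤ exp (-n)) (hn : n ≤ j) : val Q (σ x) ≤ exp (-n) := by
  rw [show σ x = x + (σ x - x) by ring]
  exact ((val Q).map_add _ _).trans (max_le hxn ((hσ x hx).trans (exp_le_exp.mpr (by omega))))

omit [IsScalarTower k K K'] [FiniteDimensional K K'] in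
theorem InRam.val_le_one {j : ℤ} (hj : 0 ≤ j) {σ : K' ≃ₐ[K] K'} (hσ : InRam Q j σ) {x : K'}
    (hx : val Q x ≤ 1) : val Q (σ x) ≤ 1 := by
  simpa using hσ.val_le hx (n := 0) (by simpa using hx) hj

/-- The ramification subgroups. -/
def ramGroup (Q : Place k K') (j : ℕ) : Subgroup (K' ≃ₐ[K] K') :=
  let M : Submonoid (K' ≃ₐ[K] K') :=
    { carrier := {σ | InRam Q (j : ℤ) σ}
      one_mem' := fun x _ => by simp
      mul_mem' := fun {σ τ} hσ hτ x hx => by
        rw [AlgEquiv.mul_apply, show σ (τ x) - x = (σ (τ x) - τ x) + (τ x - x) by ring]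
        exact ((val Q).map_add _ _).trans
          (max_le (hσ _ (InRam.val_le_one (by omega) hτ hx)) (hτ x hx)) }
  { M with
    inv_mem' := fun {σ} hσ => by
      obtain ⟨n, hn⟩ := (isOfFinOrder_of_finite σ).mem_powers_iff_mem_zpowers.mpr
        (inv_mem (Subgroup.mem_zpowers σ))
      have := M.pow_mem hσ n
      rwa [show σ ^ n = σ⁻¹ from hn] at this }

theorem mem_ramGroup {j : ℕ} {σ : K' ≃ₐ[K] K'} : σ ∈ ramGroup Q j ↔ InRam Q (j : ℤ) σ := Iff.rfl

variable {t : K'} (ht : val Q t = exp (-1))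

omit [FiniteDimensional K K'] in
include ht in
theorem ram_step [Algebra.IsSeparable k (IsLocalRing.ResidueField Q.O)] {σ : K' ≃ₐ[K] K'} {n : ℕ}
    (hn : 1 ≤ n) (hσ : InRam Q (n : ℤ) σ) (hσt : val Q (σ t - t) ≤ exp (-((n : ℤ) + 1))) :
    InRam Q ((n : ℤ) + 1) σ := by
  classical
  have ht0 : t ≠ 0 := fun h => by rw [h, map_zero] at ht; exact exp_ne_zero ht.symm
  have ht1 : val Q t ≤ 1 := by rw [ht]; exact exp_neg_le_one zero_le_one
  have htn : val Q (t ^ n) = exp (-(n : ℤ)) := by rw [map_pow, ht, ← exp_nsmul]; simp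
  let g : Q.O → Q.O := fun x => ⟨(σ (x : K') - x) / t ^ n, by
    show val Q _ ≤ 1
    rw [map_div₀, htn]
    exact (div_le_one₀ (zero_lt_iff.mpr exp_ne_zero)).mpr (hσ _ x.2)⟩
  have hgC : ∀ x : Q.O, (g x : K') = (σ (x : K') - x) / t ^ n := fun x => rfl
  have hlow : ∀ x : Q.O, val Q (x : K') < 1 → res Q (g x) = 0 := fun x hx => by
    rw [res_eq_zero_iff, hgC, map_div₀, htn, div_lt_one₀ (zero_lt_iff.mpr exp_ne_zero)]
    have hw : val Q ((x : K') / t) ≤ 1 := by
      rw [map_div₀, ht]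
      refine (div_le_one₀ (zero_lt_iff.mpr exp_ne_zero)).mpr ?_
      rw [show (-1 : ℤ) = 0 - 1 by ring, le_exp_sub_one_iff, exp_zero]; exact hx
    rw [show σ (x : K') - x = (σ t - t) * σ ((x : K') / t) + t * (σ ((x : K') / t) - (x : K') / t) by
      conv_lhs => rw [← mul_div_cancel₀ (x : K') ht0, map_mul]
      ring]
    refine lt_of_le_of_lt ((val Q).map_add _ _)
      (max_lt (lt_of_le_of_lt (b := exp (-((n : ℤ) + 1))) ?_ ?_)
        (lt_of_le_of_lt (b := exp (-((n : ℤ) + 1))) ?_ ?_))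
    · rw [map_mul]
      exact (mul_le_of_le_one_right' (InRam.val_le_one (by omega) hσ hw)).trans hσt
    · rw [exp_lt_exp]; omega
    · rw [map_mul, ht, show -((n : ℤ) + 1) = (-1) + -(n : ℤ) by ring, exp_add]
      exact mul_le_mul_right (hσ _ hw) _
    · rw [exp_lt_exp]; omega
  have hadd : ∀ x y : Q.O, g (x + y) = g x + g y := fun x y => Subtype.ext <| by
    show (σ ((x : K') + y) - ((x : K') + y)) / t ^ n = (σ (x : K') - x) / t ^ n + (σ (y : K') - y) / t ^ n
    rw [map_add]; ring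
  have hcong : ∀ x y : Q.O, res Q x = res Q y → res Q (g x) = res Q (g y) := fun x y h => by
    have := hlow (x - y) ((res_eq_zero_iff Q _).mp (by rw [map_sub, h, sub_self]))
    have h2 := hadd (x - y) y
    rw [sub_add_cancel] at h2
    rw [h2, map_add, this, zero_add]
  let s := Function.surjInv (res_surjective Q)
  have hs : ∀ a, res Q (s a) = a := Function.surjInv_eq (res_surjective Q)
  have hmul : ∀ x y : Q.O, res Q (g (x * y)) = res Q x * res Q (g y) + res Q y * res Q (g x) := by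
    intro x y
    have hσy : (σ (y : K') : K') ∈ Q.O := InRam.val_le_one (by omega) hσ y.2
    have e : g (x * y) = x * g y + ⟨σ (y : K'), hσy⟩ * g x := Subtype.ext <| by
      show (σ ((x : K') * y) - (x : K') * y) / t ^ n =
        (x : K') * ((σ (y : K') - y) / t ^ n) + σ (y : K') * ((σ (x : K') - x) / t ^ n)
      rw [map_mul]; ring
    have hy : res Q (⟨σ (y : K'), hσy⟩ : Q.O) = res Q y := by
      rw [← sub_eq_zero, ← map_sub, res_eq_zero_iff]
      exact lt_of_le_of_lt (hσ _ y.2) (by rw [← exp_zero, exp_lt_exp]; omega)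
    rw [e, map_add, map_mul, map_mul, hy]
  have hconst : ∀ c : k, res Q (g (algebraMap k Q.O c)) = 0 := fun c => by
    have : g (algebraMap k Q.O c) = 0 := Subtype.ext <| by
      show (σ ((algebraMap k Q.O c : Q.O) : K') - _) / t ^ n = 0
      rw [algebraMap_O_coe, IsScalarTower.algebraMap_apply k K K', AlgEquiv.commutes, sub_self, zero_div]
    rw [this, map_zero]
  letI : SMul k (IsLocalRing.ResidueField Q.O) := Algebra.toSMul
  letI : Module k (IsLocalRing.ResidueField Q.O) := Algebra.toModule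
  haveI : IsScalarTower k (IsLocalRing.ResidueField Q.O) (IsLocalRing.ResidueField Q.O) := IsScalarTower.right
  let d : Derivation k (IsLocalRing.ResidueField Q.O) (IsLocalRing.ResidueField Q.O) := Derivation.mk'
    { toFun := fun a => res Q (g (s a))
      map_add' := fun a b => by
        rw [hcong (s (a + b)) (s a + s b) (by rw [map_add, hs, hs, hs]), hadd, map_add]
      map_smul' := fun c a => by
        rw [RingHom.id_apply, hcong (s (c • a)) (algebraMap k Q.O c * s a) (by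
          rw [map_mul, hs, hs, AlgHom.commutes, Algebra.smul_def]), hmul, hconst, mul_zero, add_zero,
          AlgHom.commutes, ← Algebra.smul_def] }
    fun a b => by
      show res Q (g (s (a * b))) = a * res Q (g (s b)) + b * res Q (g (s a))
      rw [hcong (s (a * b)) (s a * s b) (by rw [map_mul, hs, hs, hs]), hmul, hs, hs]
  have : Algebra.FormallyUnramified k (IsLocalRing.ResidueField Q.O) :=
    Algebra.FormallyUnramified.of_isSeparable k _
  intro x hx
  have hd : d (res Q ⟨x, hx⟩) = 0 := by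
    rw [← d.liftKaehlerDifferential_comp_D, Subsingleton.elim (KaehlerDifferential.D k _ _) 0, map_zero]
  change res Q (g (s (res Q ⟨x, hx⟩))) = 0 at hd
  rw [hcong _ ⟨x, hx⟩ (hs _), res_eq_zero_iff, hgC, map_div₀, htn,
    div_lt_one₀ (zero_lt_iff.mpr exp_ne_zero)] at hd
  rw [show -((n : ℤ) + 1) = -(n : ℤ) - 1 by ring, le_exp_sub_one_iff]
  exact hd

omit [FiniteDimensional K K'] in
include ht in
theorem inRam_iff [Algebra.IsSeparable k (IsLocalRing.ResidueField Q.O)] {σ : K' ≃ₐ[K] K'}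
    (hσ : InRam Q 1 σ) {j : ℕ} (hj : 1 ≤ j) :
    InRam Q (j : ℤ) σ ↔ val Q (σ t - t) ≤ exp (-(j : ℤ)) := by
  refine ⟨fun h => h t (by rw [ht]; exact exp_neg_le_one zero_le_one), fun h => ?_⟩
  induction j, hj using Nat.le_induction with
  | base => exact_mod_cast hσ
  | succ n hn ih =>
    push_cast at h ⊢
    exact ram_step ht hn (ih (h.trans (exp_le_exp.mpr (by omega)))) h

omit [IsScalarTower k K K'] [FiniteDimensional K K'] in
include ht in
theorem ram_add {i : ℕ} (hi : 2 ≤ i) {σ τ : K' ≃ₐ[K] K'} (hσ : InRam Q (i : ℤ) σ) (hτ : InRam Q (i : ℤ) τ) :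
    val Q (((σ * τ) t - t) - ((σ t - t) + (τ t - t))) ≤ exp (-((i : ℤ) + 1)) := by
  have ht0 : t ≠ 0 := fun h => by rw [h, map_zero] at ht; exact exp_ne_zero ht.symm
  have ht1 : val Q t ≤ 1 := by rw [ht]; exact exp_neg_le_one zero_le_one
  set y := τ t - t with hy
  have hyv : val Q y ≤ exp (-(i : ℤ)) := hτ t ht1
  set w := y / t with hw
  have hwv : val Q w ≤ exp (-((i : ℤ) - 1)) := by
    rw [hw, map_div₀, ht, div_le_iff₀ (zero_lt_iff.mpr exp_ne_zero), ← exp_add]
    exact hyv.trans (exp_le_exp.mpr (by omega))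
  have hw1 : val Q w ≤ 1 := hwv.trans (exp_neg_le_one (by omega))
  have hyw : y = t * w := by rw [hw, mul_div_cancel₀ _ ht0]
  have e : ((σ * τ) t - t) - ((σ t - t) + y) = (σ t - t) * σ w + t * (σ w - w) := by
    have h1 : σ (τ t) = σ t + σ (t * w) := by rw [← hyw, ← map_add, hy]; congr 1; ring
    rw [AlgEquiv.mul_apply, h1, map_mul, hyw]; ring
  rw [e]
  refine ((val Q).map_add _ _).trans (max_le ?_ ?_)
  · rw [map_mul]
    refine (mul_le_mul' (hσ t ht1) (hσ.val_le hw1 hwv (by omega))).trans ?_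
    rw [← exp_add, exp_le_exp]; omega
  · rw [map_mul, ht]
    refine (mul_le_mul_right (hσ w hw1) _).trans ?_
    rw [← exp_add, exp_le_exp]; omega

include ht in
theorem ram_pow {i : ℕ} (hi : 2 ≤ i) {σ : K' ≃ₐ[K] K'} (hσ : σ ∈ ramGroup Q i) (n : ℕ) :
    val Q (((σ ^ n) t - t) - (n : K') * (σ t - t)) ≤ exp (-((i : ℤ) + 1)) := by
  induction n with
  | zero => simp
  | succ n ih =>
    have h := ram_add ht hi (mem_ramGroup.mp (pow_mem hσ n)) (mem_ramGroup.mp hσ)
    rw [← pow_succ] at h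
    rw [show (σ ^ (n + 1)) t - t - ((n + 1 : ℕ) : K') * (σ t - t) =
      ((σ ^ (n + 1)) t - t - (((σ ^ n) t - t) + (σ t - t))) + (((σ ^ n) t - t) - (n : K') * (σ t - t)) by
      push_cast; ring]
    exact ((val Q).map_add _ _).trans (max_le h ih)

/-- The quotient `G_i / G_{i+1}` for `i ≥ 2`. -/
theorem ram_quotient_elementary [Algebra.IsSeparable k (IsLocalRing.ResidueField Q.O)] {i : ℕ} (hi : 2 ≤ i)
    {σ τ : K' ≃ₐ[K] K'} (hσ : σ ∈ ramGroup Q i) (hτ : τ ∈ ramGroup Q i) :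
    InRam Q ((i : ℤ) + 1) (σ * τ * σ⁻¹ * τ⁻¹) ∧
      (ringChar K = 0 → InRam Q ((i : ℤ) + 1) σ) ∧
      ∀ p : ℕ, p.Prime → ringChar K = p → InRam Q ((i : ℤ) + 1) (σ ^ p) := by
  obtain ⟨t, -, ht⟩ := exists_val_eq Q (-1)
  have ht1 : val Q t ≤ 1 := by rw [ht]; exact exp_neg_le_one zero_le_one
  have key : ∀ ρ ∈ ramGroup (K := K) Q i, val Q (ρ t - t) ≤ exp (-((i : ℤ) + 1)) → InRam Q ((i : ℤ) + 1) ρ := by
    intro ρ hρ h
    have := inRam_iff ht (InRam.mono (i := 1) (by omega) (mem_ramGroup.mp hρ)) (j := i + 1) (by omega)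
    push_cast at this
    exact this.mpr h
  have hinv : ∀ ρ ∈ ramGroup (K := K) Q i, val Q ((ρ t - t) + (ρ⁻¹ t - t)) ≤ exp (-((i : ℤ) + 1)) := by
    intro ρ hρ
    have := ram_add ht hi (mem_ramGroup.mp hρ) (mem_ramGroup.mp (inv_mem hρ))
    rwa [mul_inv_cancel, AlgEquiv.one_apply, sub_self, zero_sub, Valuation.map_neg] at this
  refine ⟨key _ (mul_mem (mul_mem (mul_mem hσ hτ) (inv_mem hσ)) (inv_mem hτ)) ?_, fun h0 => key _ hσ ?_,
    fun p hp hc => key _ (pow_mem hσ p) ?_⟩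
  · have h1 := ram_add ht hi (mem_ramGroup.mp hσ) (mem_ramGroup.mp hτ)
    have h2 := ram_add ht hi (mem_ramGroup.mp (mul_mem hσ hτ)) (mem_ramGroup.mp (inv_mem hσ))
    have h3 := ram_add ht hi (mem_ramGroup.mp (mul_mem (mul_mem hσ hτ) (inv_mem hσ))) (mem_ramGroup.mp (inv_mem hτ))
    rw [show (σ * τ * σ⁻¹ * τ⁻¹) t - t =
      ((σ * τ * σ⁻¹ * τ⁻¹) t - t - (((σ * τ * σ⁻¹) t - t) + (τ⁻¹ t - t))) +
      ((σ * τ * σ⁻¹) t - t - (((σ * τ) t - t) + (σ⁻¹ t - t))) +
      ((σ * τ) t - t - ((σ t - t) + (τ t - t))) +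
      ((σ t - t) + (σ⁻¹ t - t)) + ((τ t - t) + (τ⁻¹ t - t)) by ring]
    exact Valuation.map_add_le _ (Valuation.map_add_le _ (Valuation.map_add_le _ (Valuation.map_add_le _
      h3 h2) h1) (hinv σ hσ)) (hinv τ hτ)
  · have h := ram_pow ht hi hσ (orderOf σ)
    rw [pow_orderOf_eq_one, AlgEquiv.one_apply, sub_self, zero_sub, Valuation.map_neg, map_mul] at h
    have hn : (orderOf σ : k) ≠ 0 := by
      haveI : CharP K 0 := h0 ▸ ringChar.charP K
      haveI : CharZero K := CharP.charP_to_charZero K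
      intro h'
      have := congrArg (algebraMap k K) h'
      rw [map_natCast, map_zero, Nat.cast_eq_zero] at this
      exact orderOf_pos σ |>.ne' this
    rwa [← map_natCast (algebraMap k K'), val_const Q hn, one_mul] at h
  · have h := ram_pow ht hi hσ p
    have : (p : K') = 0 := by
      haveI : CharP K p := hc ▸ ringChar.charP K
      rw [← map_natCast (algebraMap K K'), CharP.cast_eq_zero, map_zero]
    rwa [this, zero_mul, sub_zero] at h

/-- `σ ↦ σt/t mod Q` on `G₁`. -/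
theorem ram_one_cyclic [Algebra.IsSeparable k (IsLocalRing.ResidueField Q.O)] :
    ∃ σ₀ ∈ ramGroup (K := K) Q 1, ∀ σ ∈ ramGroup (K := K) Q 1, ∃ n : ℕ,
      InRam Q 2 ((σ₀ ^ n)⁻¹ * σ) := by
  obtain ⟨t, ht0, ht⟩ := exists_val_eq Q (-1)
  have ht1 : val Q t ≤ 1 := by rw [ht]; exact exp_neg_le_one zero_le_one
  have h1 : ∀ σ ∈ ramGroup (K := K) Q 1, val Q (σ t - t) ≤ exp (-1) := fun σ hσ => by
    simpa using hσ t ht1
  have hmem : ∀ σ ∈ ramGroup (K := K) Q 1, σ t / t ∈ Q.O := fun σ hσ => by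
    show val Q _ ≤ 1
    rw [map_div₀, ht]
    refine (div_le_one₀ (zero_lt_iff.mpr exp_ne_zero)).mpr ?_
    rw [show σ t = t + (σ t - t) by ring]
    exact ((val Q).map_add _ _).trans (max_le ht.le (h1 σ hσ))
  let f : ramGroup (K := K) Q 1 →* IsLocalRing.ResidueField Q.O :=
    { toFun := fun σ => res Q ⟨_, hmem σ.1 σ.2⟩
      map_one' := by
        rw [show (⟨_, hmem (1 : ramGroup (K := K) Q 1).1 (1 : ramGroup (K := K) Q 1).2⟩ : Q.O) = 1 from
          Subtype.ext (by simp [ht0]), map_one]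
      map_mul' := fun σ τ => by
        have hw := hmem τ.1 τ.2
        have hσw : σ.1 (τ.1 t / t) ∈ Q.O := InRam.val_le_one (by omega) (mem_ramGroup.mp σ.2) hw
        rw [show (⟨_, hmem (σ * τ).1 (σ * τ).2⟩ : Q.O) = ⟨_, hmem σ.1 σ.2⟩ * ⟨_, hσw⟩ from Subtype.ext (by
          show σ.1 (τ.1 t) / t = σ.1 t / t * σ.1 (τ.1 t / t)
          rw [map_div₀]
          have : σ.1 t ≠ 0 := by simpa using ht0
          field_simp), map_mul]
        congr 1
        rw [← sub_eq_zero, ← map_sub, res_eq_zero_iff]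
        exact lt_of_le_of_lt (mem_ramGroup.mp σ.2 _ hw) (by rw [← exp_zero, exp_lt_exp]; omega) }
  have hker : ∀ σ, f σ = 1 → InRam Q 2 σ.1 := fun σ h => by
    have h' : val Q (σ.1 t / t - 1) < 1 := by
      rw [← map_one (res Q), ← sub_eq_zero] at h
      have := (res_eq_zero_iff Q _).mp (by rw [map_sub]; exact h :
        res Q ((⟨_, hmem σ.1 σ.2⟩ : Q.O) - 1) = 0)
      exact this
    have h2 : val Q (σ.1 t - t) ≤ exp (-(2 : ℤ)) := by
      rw [show σ.1 t - t = t * (σ.1 t / t - 1) by field_simp, map_mul, ht,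
        show -(2 : ℤ) = -1 + (0 - 1) by ring, exp_add]
      exact mul_le_mul_right (le_exp_sub_one_iff.mpr (by simpa using h')) _
    exact (inRam_iff ht (by simpa using mem_ramGroup.mp σ.2) (j := 2) (by omega)).mpr h2
  haveI : Finite (K' ≃ₐ[K] K') := inferInstance
  haveI : Finite f.toHomUnits.range := Finite.of_surjective _ f.toHomUnits.rangeRestrict_surjective
  haveI : IsCyclic f.toHomUnits.range :=
    isCyclic_of_injective_ringHom (Units.coeHom _ |>.comp f.toHomUnits.range.subtype)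
      fun a b h => Subtype.ext (Units.ext h)
  obtain ⟨⟨g, σ₀, rfl⟩, hg⟩ := IsCyclic.exists_generator (α := f.toHomUnits.range)
  refine ⟨σ₀.1, σ₀.2, fun σ hσ => ?_⟩
  have hz := hg ⟨_, ⟨σ, hσ⟩, rfl⟩
  obtain ⟨n, hn⟩ := (mem_powers_iff_mem_zpowers.mpr hz : _)
  refine ⟨n, hker ((σ₀ ^ n)⁻¹ * ⟨σ, hσ⟩) ?_⟩
  have h1 : f.toHomUnits ((σ₀ ^ n)⁻¹ * ⟨σ, hσ⟩) = 1 := by
    rw [map_mul, map_inv, map_pow]
    have : f.toHomUnits σ₀ ^ n = f.toHomUnits ⟨σ, hσ⟩ := congrArg Subtype.val hn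
    rw [this, inv_mul_cancel]
  exact congrArg Units.val h1

end GrothLib.FunFld
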