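import Groth.Agent.Lib.FunFld.Ext
import Groth.Agent.Lib.FunFld.Approx
import Groth.Agent.Lib.FunFld.Ramification
import Mathlib.RingTheory.Valuation.RamificationGroup
import Mathlib.RingTheory.Norm.Transitivity

/-!
Decomposition and inertia groups of places in Galois extensions.
-/

set_option autoImplicit false
set_option linter.style.haveILetI false
set_option linter.unusedSectionVars false

namespace GrothLib.FunFld

open _root_.FunFld WithZero Polynomial
open scoped Pointwise

universe u v w

variable {k : Type u} {K : Type v} {K' : Type w} [Field k] [Field K] [Field K'] [Algebra k K]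
  [Algebra K K'] [Algebra k K'] [IsScalarTower k K K'] [FiniteDimensional K K']

/-- The image of a place under an automorphism over `K`. -/
noncomputable def mapPlace (σ : K' ≃ₐ[K] K') (Q : Place k K') : Place k K' :=
  ⟨(val Q).comap (σ.symm : K' →+* K'), fun c => by
    show val Q (σ.symm (algebraMap k K' c)) ≤ 1
    rw [IsScalarTower.algebraMap_apply k K K', AlgEquiv.commutes, ← IsScalarTower.algebraMap_apply k K K']
    exact Q.2.1 c, fun r => by
    obtain ⟨x, hx⟩ := Q.2.2 r
    exact ⟨σ x, (congrArg (val Q) (σ.symm_apply_apply x)).trans hx⟩⟩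

theorem val_mapPlace (σ : K' ≃ₐ[K] K') (Q : Place k K') (x : K') :
    val (mapPlace σ Q) x = val Q (σ.symm x) := rfl

theorem isOverWith_mapPlace (σ : K' ≃ₐ[K] K') {Q : Place k K'} {P : Place k K} {e : ℕ}
    (he : IsOverWith Q P e) : IsOverWith (mapPlace σ Q) P e := fun x => by
  show val Q (σ.symm (algebraMap K K' x)) = _
  rw [AlgEquiv.commutes]; exact he x

theorem deg_mapPlace (σ : K' ≃ₐ[K] K') (Q : Place k K') : (mapPlace σ Q).deg = Q.deg := by
  let f : (mapPlace σ Q).O ≃+* Q.O :=
    { toFun := fun x => ⟨σ.symm (x : K'), x.2⟩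
      invFun := fun y => ⟨σ (y : K'), by
        show val Q (σ.symm (σ (y : K'))) ≤ 1
        rw [AlgEquiv.symm_apply_apply]; exact y.2⟩
      left_inv := fun x => Subtype.ext (σ.apply_symm_apply _)
      right_inv := fun y => Subtype.ext (σ.symm_apply_apply _)
      map_mul' := fun x y => Subtype.ext (map_mul σ.symm (x : K') y)
      map_add' := fun x y => Subtype.ext (map_add σ.symm (x : K') y) }
  let g : IsLocalRing.ResidueField (mapPlace σ Q).O ≃ₐ[k] IsLocalRing.ResidueField Q.O :=
    AlgEquiv.ofRingEquiv (f := IsLocalRing.ResidueField.mapEquiv f) fun c => by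
      show IsLocalRing.residue Q.O (f (algebraMap k _ c)) = IsLocalRing.residue Q.O (algebraMap k _ c)
      congr 1
      refine Subtype.ext ?_
      show σ.symm ((algebraMap k (mapPlace σ Q).O c : (mapPlace σ Q).O) : K') = _
      rw [algebraMap_O_coe, algebraMap_O_coe, IsScalarTower.algebraMap_apply k K K', AlgEquiv.commutes]
  exact g.toLinearEquiv.finrank_eq

theorem O_mapPlace (σ : K' ≃ₐ[K] K') (Q : Place k K') : (mapPlace σ Q).O = σ • Q.O := by
  ext x
  rw [ValuationSubring.mem_smul_pointwise_iff_exists]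
  constructor
  · exact fun h => ⟨σ.symm x, h, σ.apply_symm_apply x⟩
  · rintro ⟨y, hy, rfl⟩
    show val Q (σ.symm (σ y)) ≤ 1
    rw [AlgEquiv.symm_apply_apply]; exact hy

theorem mem_decomposition_iff (σ : K' ≃ₐ[K] K') (Q : Place k K') :
    σ ∈ (Q.O).decompositionSubgroup K ↔ mapPlace σ Q = Q := by
  rw [MulAction.mem_stabilizer_iff, ← O_mapPlace]
  refine ⟨fun h => place_eq_of_le_one_iff fun x => ?_, fun h => by rw [h]⟩
  rw [← mem_O_iff, ← mem_O_iff, h]

/-- The Galois group is transitive on the places above a place. -/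
theorem exists_mapPlace_eq [IsGalois K K'] {Q Q' : Place k K'} {P : Place k K} (h : IsOver Q P)
    (h' : IsOver Q' P) : ∃ σ : K' ≃ₐ[K] K', mapPlace σ Q = Q' := by
  classical
  by_contra hno
  push_neg at hno
  letI : Fintype (K' ≃ₐ[K] K') := AlgEquiv.fintype K K'
  let A := Finset.univ.image fun σ : K' ≃ₐ[K] K' => mapPlace σ Q
  let B := Finset.univ.image fun σ : K' ≃ₐ[K] K' => mapPlace σ Q'
  have hAB : ∀ R ∈ B, R ∉ A := by
    intro R hR hRA
    obtain ⟨τ, -, hτ⟩ := Finset.mem_image.mp hR
    obtain ⟨σ, -, hσ⟩ := Finset.mem_image.mp hRA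
    refine hno (τ.symm * σ) (place_eq_of_le_one_iff fun x => ?_)
    rw [val_mapPlace, show ((τ.symm * σ).symm x) = σ.symm (τ x) from rfl, ← val_mapPlace, hσ, ← hτ,
      val_mapPlace, AlgEquiv.symm_apply_apply]
  obtain ⟨y, hy⟩ := exists_approx (A ∪ B) (fun R => if R ∈ A then 1 else 0) fun _ => -1
  have hlt : (exp (-1 : ℤ) : WithZero (Multiplicative ℤ)) < 1 := by rw [← exp_zero, exp_lt_exp]; omega
  have hyA : ∀ σ : K' ≃ₐ[K] K', val Q (σ y) = 1 := fun σ => by
    have hmem : mapPlace σ.symm Q ∈ A := Finset.mem_image.mpr ⟨_, Finset.mem_univ _, rfl⟩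
    have h1 := hy _ (Finset.mem_union_left _ hmem)
    rw [if_pos hmem, val_mapPlace, AlgEquiv.symm_symm, map_sub σ, map_one σ] at h1
    rw [show σ y = 1 + (σ y - 1) by ring, (val Q).map_add_eq_of_lt_left, map_one]
    rw [map_one]; exact h1.trans_lt hlt
  have hyB : ∀ σ : K' ≃ₐ[K] K', val Q' (σ y) < 1 := fun σ => by
    have hmem : mapPlace σ.symm Q' ∈ B := Finset.mem_image.mpr ⟨_, Finset.mem_univ _, rfl⟩
    have h1 := hy _ (Finset.mem_union_right _ hmem)
    rw [if_neg (hAB _ hmem), sub_zero, val_mapPlace, AlgEquiv.symm_symm] at h1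
    exact h1.trans_lt hlt
  obtain ⟨e, he⟩ := h
  obtain ⟨e', he'⟩ := h'
  have hN := Algebra.norm_eq_prod_automorphisms K y
  have h1 : val P (Algebra.norm K y) ^ e = 1 := by
    rw [← he, hN, map_prod]; exact Finset.prod_eq_one fun σ _ => hyA σ
  have h2 : val P (Algebra.norm K y) ^ e' < 1 := by
    rw [← he', hN, map_prod]
    show ∏ σ : K' ≃ₐ[K] K', val Q' (σ y) < 1
    rw [← Finset.mul_prod_erase _ _ (Finset.mem_univ (1 : K' ≃ₐ[K] K'))]
    exact (mul_le_of_le_one_right' (Finset.prod_le_one' fun σ _ => (hyB σ).le)).trans_lt (hyB 1)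
  have h3 := (pow_left_inj₀ zero_le zero_le (pos_of_isOverWith he).ne').mp (h1.trans (one_pow e).symm)
  rw [h3, one_pow] at h2
  exact lt_irrefl _ h2

theorem isOverWith_of_isOver [IsGalois K K'] {Q : Place k K'} {P : Place k K} {e : ℕ}
    (he : IsOverWith Q P e) {Q' : Place k K'} (h' : IsOver Q' P) :
    IsOverWith Q' P e ∧ Q'.deg = Q.deg := by
  obtain ⟨σ, rfl⟩ := exists_mapPlace_eq ⟨e, he⟩ h'
  exact ⟨isOverWith_mapPlace σ he, deg_mapPlace σ Q⟩

theorem card_fibre_mul_card_decomposition [IsGalois K K'] {Q : Place k K'} {P : Place k K} {e : ℕ}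
    (he : IsOverWith Q P e) :
    Nat.card {Q' : Place k K' // IsOver Q' P} * Nat.card ((Q.O).decompositionSubgroup K) =
      Module.finrank K K' := by
  let f : {Q' : Place k K' // IsOver Q' P} → MulAction.orbit (K' ≃ₐ[K] K') Q.O := fun Q' =>
    ⟨Q'.1.O, by
      obtain ⟨σ, hσ⟩ := exists_mapPlace_eq ⟨e, he⟩ Q'.2
      exact ⟨σ, by rw [← hσ, O_mapPlace]⟩⟩
  have hf : Function.Bijective f := by
    refine ⟨fun a b h => Subtype.ext (place_eq_of_le_one_iff fun x => ?_), ?_⟩
    · rw [← mem_O_iff, ← mem_O_iff, show a.1.O = b.1.O from congrArg Subtype.val h]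
    · rintro ⟨_, σ, rfl⟩
      exact ⟨⟨mapPlace σ Q, e, isOverWith_mapPlace σ he⟩, Subtype.ext (O_mapPlace σ Q)⟩
  rw [Nat.card_congr (Equiv.ofBijective f hf), Nat.card_coe_set_eq, ← MulAction.index_stabilizer]
  exact (Subgroup.index_mul_card _).trans (IsGalois.card_aut_eq_finrank K K')

theorem card_decomposition_mul_deg [IsGalois K K'] (h : IsFG k K) {Q : Place k K'} {P : Place k K} {e : ℕ}
    (he : IsOverWith Q P e) : Nat.card ((Q.O).decompositionSubgroup K) * P.deg = e * Q.deg := by
  obtain ⟨hfin, hsum⟩ := sum_ramIdx (K' := K') h P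
  have h1 := hsum hfin.toFinset fun Q' => hfin.mem_toFinset
  rw [Finset.sum_eq_card_nsmul (b := e * Q.deg) fun Q' hQ' => by
    obtain ⟨h2, h3⟩ := isOverWith_of_isOver he (hfin.mem_toFinset.mp hQ')
    rw [ramIdx_eq h2, h3], smul_eq_mul, ← card_fibre_mul_card_decomposition he, mul_assoc] at h1
  have hc : Nat.card {Q' : Place k K' // IsOver Q' P} = hfin.toFinset.card :=
    Nat.card_eq_card_finite_toFinset hfin
  rw [hc] at h1
  exact (Nat.eq_of_mul_eq_mul_left (Finset.card_pos.mpr ⟨Q, hfin.mem_toFinset.mpr ⟨e, he⟩⟩) h1).symm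

section residue

/-- The Artin degree formula for a fixed field given as an image. -/
theorem finrank_mul_card {F A B : Type*} [Field F] [Field A] [Field B] [Algebra F A] [Algebra F B]
    [FiniteDimensional F B] (ι : A →ₐ[F] B) (H : Subgroup (B ≃ₐ[F] B))
    (hfix : IntermediateField.fixedField H = ι.fieldRange) :
    Module.finrank F A * Nat.card H = Module.finrank F B := by
  rw [← IntermediateField.finrank_fixedField_eq_card H, hfix,
    (AlgEquiv.ofInjectiveField ι).toLinearEquiv.finrank_eq]
  exact Module.finrank_mul_finrank F ι.fieldRange B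

variable (Q : Place k K')

/-- The action of the decomposition group on the residue field. -/
noncomputable def resAut : (Q.O).decompositionSubgroup K →*
    (IsLocalRing.ResidueField Q.O ≃ₐ[k] IsLocalRing.ResidueField Q.O) where
  toFun g := AlgEquiv.ofRingEquiv
    (f := MulSemiringAction.toRingEquiv _ (IsLocalRing.ResidueField Q.O) g) fun c => by
      show g • IsLocalRing.residue Q.O (algebraMap k Q.O c) = IsLocalRing.residue Q.O (algebraMap k Q.O c)
      rw [← IsLocalRing.ResidueField.residue_smul]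
      congr 1
      refine Subtype.ext ?_
      show g.1 ((algebraMap k Q.O c : Q.O) : K') = _
      rw [algebraMap_O_coe, IsScalarTower.algebraMap_apply k K K', AlgEquiv.commutes]
  map_one' := AlgEquiv.ext fun a => one_smul ((Q.O).decompositionSubgroup K) a
  map_mul' g h := AlgEquiv.ext fun a => mul_smul g h a

theorem resAut_res (g : (Q.O).decompositionSubgroup K) (x : Q.O) :
    resAut Q g (res Q x) = res Q (g • x) :=
  (IsLocalRing.ResidueField.residue_smul (R := Q.O) ((Q.O).decompositionSubgroup K) g x).symm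

theorem ker_resAut : (resAut (K := K) Q).ker = (Q.O).inertiaSubgroup K := by
  ext g
  show resAut Q g = 1 ↔ MulSemiringAction.toRingAut ((Q.O).decompositionSubgroup K)
    (IsLocalRing.ResidueField Q.O) g = 1
  constructor
  · exact fun h => RingEquiv.ext fun a => AlgEquiv.congr_fun h a
  · exact fun h => AlgEquiv.ext fun a => RingEquiv.congr_fun h a

theorem map_inertia_eq :
    ((Q.O).inertiaSubgroup K).map ((Q.O).decompositionSubgroup K).subtype = ramGroup Q 1 := by
  ext σ
  rw [← ker_resAut, mem_ramGroup]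
  constructor
  · rintro ⟨g, hg, rfl⟩ x hx
    have h := resAut_res Q g ⟨x, hx⟩
    rw [MonoidHom.mem_ker.mp hg, AlgEquiv.one_apply, eq_comm, ← sub_eq_zero, ← map_sub, res_eq_zero_iff] at h
    rw [show -((1 : ℕ) : ℤ) = 0 - 1 by norm_num, le_exp_sub_one_iff, exp_zero]
    exact h
  · intro h
    have h1 : σ ∈ (Q.O).decompositionSubgroup K := by
      rw [mem_decomposition_iff]
      refine place_eq_of_le_one_iff fun x => ?_
      rw [val_mapPlace]
      have hs : InRam Q ((1 : ℕ) : ℤ) σ.symm := mem_ramGroup.mp (inv_mem (mem_ramGroup.mpr h))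
      refine ⟨fun hx => ?_, fun hx => hs.val_le_one (by omega) hx⟩
      simpa using InRam.val_le_one (by omega) h hx
    refine ⟨⟨σ, h1⟩, MonoidHom.mem_ker.mpr (AlgEquiv.ext fun a => ?_), rfl⟩
    obtain ⟨x, rfl⟩ := res_surjective Q a
    rw [resAut_res, AlgEquiv.one_apply, ← sub_eq_zero, ← map_sub, res_eq_zero_iff]
    exact lt_of_le_of_lt (h _ x.2) (by rw [← exp_zero, exp_lt_exp]; norm_num)

theorem card_inertia_eq_card_ramGroup :
    Nat.card ((Q.O).inertiaSubgroup K) = Nat.card (ramGroup (K := K) Q 1) := by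
  rw [← map_inertia_eq Q]
  exact Nat.card_congr (Subgroup.equivMapOfInjective _ _ (Subgroup.subtype_injective _)).toEquiv

theorem card_ramGroup_one [IsGalois K K'] (h : IsFG k K) {P : Place k K} {e : ℕ}
    (he : IsOverWith Q P e) [Algebra.IsSeparable k (IsLocalRing.ResidueField Q.O)] :
    Nat.card (ramGroup (K := K) Q 1) = e := by
  classical
  have h' : IsFG k K' := isFG_extension (K := K) h
  have hfinQ : @Module.Finite k (IsLocalRing.ResidueField Q.O) _ _ Algebra.toModule :=
    h'.finite_residueField Q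
  letI : SMul k (IsLocalRing.ResidueField Q.O) := Algebra.toSMul
  letI : Module k (IsLocalRing.ResidueField Q.O) := Algebra.toModule
  haveI : FiniteDimensional k (IsLocalRing.ResidueField Q.O) := hfinQ
  letI : Fintype (K' ≃ₐ[K] K') := AlgEquiv.fintype K K'
  let i : P.O →+* Q.O := ((algebraMap K K').comp P.O.subtype).codRestrict Q.O fun x =>
    (val_le_one_iff_of_isOverWith he _).mpr x.2
  haveI : IsLocalHom i := ⟨fun x hx => by
    by_contra hn
    have h1 : res P x = 0 := (IsLocalRing.residue_eq_zero_iff x).mpr hn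
    have h2 : res Q (i x) = 0 := by
      rw [res_eq_zero_iff] at h1 ⊢
      show val Q (algebraMap K K' (x : K)) < 1
      rw [show val Q (algebraMap K K' (x : K)) = val P (x : K) ^ e from he _]
      exact pow_lt_one₀ zero_le h1 (pos_of_isOverWith he).ne'
    exact (IsLocalRing.residue_eq_zero_iff (i x)).mp h2 hx⟩
  let ι : IsLocalRing.ResidueField P.O →ₐ[k] IsLocalRing.ResidueField Q.O :=
    { IsLocalRing.ResidueField.map i with
      commutes' := fun c => by
        show IsLocalRing.residue Q.O (i (algebraMap k P.O c)) = IsLocalRing.residue Q.O (algebraMap k Q.O c)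
        congr 1
        refine Subtype.ext ?_
        show algebraMap K K' ((algebraMap k P.O c : P.O) : K) = _
        rw [algebraMap_O_coe, algebraMap_O_coe, ← IsScalarTower.algebraMap_apply] }
  set H := (resAut (K := K) Q).range
  have hfix : IntermediateField.fixedField H = ι.fieldRange := by
    refine le_antisymm (fun a ha => ?_) ?_
    · obtain ⟨x, rfl⟩ := res_surjective Q a
      let S := Finset.univ.image fun σ : K' ≃ₐ[K] K' => mapPlace σ Q
      obtain ⟨y, hy⟩ := exists_approx S (fun R => if R = Q then (x : K') else 0) fun _ => -1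
      have hlt : (exp (-1 : ℤ) : WithZero (Multiplicative ℤ)) < 1 := by rw [← exp_zero, exp_lt_exp]; omega
      have hQS : Q ∈ S := Finset.mem_image.mpr ⟨1, Finset.mem_univ _, place_eq_of_le_one_iff fun z => Iff.rfl⟩
      have hy1 := hy Q hQS
      rw [if_pos rfl] at hy1
      have hyO : val Q y ≤ 1 := by
        rw [show y = (y - x) + (x : K') by ring]
        exact ((val Q).map_add _ _).trans (max_le (hy1.trans hlt.le) x.2)
      have hnot : ∀ σ : K' ≃ₐ[K] K', σ ∉ (Q.O).decompositionSubgroup K → val Q (σ y) < 1 := fun σ hσ => by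
        have h1 := hy (mapPlace σ.symm Q) (Finset.mem_image.mpr ⟨_, Finset.mem_univ _, rfl⟩)
        rw [if_neg (fun hh => hσ (inv_inv σ ▸ inv_mem ((mem_decomposition_iff σ.symm Q).mpr hh))), sub_zero,
          val_mapPlace, AlgEquiv.symm_symm] at h1
        exact h1.trans_lt hlt
      have hmem : ∀ σ : K' ≃ₐ[K] K', σ y ∈ Q.O := fun σ => by
        by_cases hσ : σ ∈ (Q.O).decompositionSubgroup K
        · exact ((⟨σ, hσ⟩ : (Q.O).decompositionSubgroup K) • (⟨y, hyO⟩ : Q.O)).2
        · exact (hnot σ hσ).le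
      have hxy : res Q ⟨y, hyO⟩ = res Q x := by
        rw [← sub_eq_zero, ← map_sub, res_eq_zero_iff]
        exact hy1.trans_lt hlt
      let c : (K' ≃ₐ[K] K') → IsLocalRing.ResidueField Q.O :=
        fun σ => if σ ∈ (Q.O).decompositionSubgroup K then res Q x else 0
      have hc : ∀ σ, res Q ⟨σ y, hmem σ⟩ = c σ := fun σ => by
        by_cases hσ : σ ∈ (Q.O).decompositionSubgroup K
        · show _ = if _ then _ else _
          rw [if_pos hσ]
          have := (resAut_res Q ⟨σ, hσ⟩ ⟨y, hyO⟩).symm
          rw [hxy] at this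
          exact this.trans (ha ⟨resAut Q ⟨σ, hσ⟩, ⟨_, rfl⟩⟩)
        · show _ = if _ then _ else _
          rw [if_neg hσ, res_eq_zero_iff]
          exact hnot σ hσ
      let pO : Q.O[X] := ∏ σ : K' ≃ₐ[K] K', (X - C ⟨σ y, hmem σ⟩)
      have hcoef : ∀ n, ∃ r : P.O, i r = pO.coeff n := fun n => by
        have hz : ∀ τ : K' ≃ₐ[K] K', τ ((pO.coeff n : Q.O) : K') = ((pO.coeff n : Q.O) : K') := fun τ => by
          have hp : pO.map Q.O.subtype = ∏ σ : K' ≃ₐ[K] K', (X - C (σ y)) := by
            simp only [pO, Polynomial.map_prod, Polynomial.map_sub, Polynomial.map_X, Polynomial.map_C]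
            rfl
          have h2 : (∏ σ : K' ≃ₐ[K] K', (X - C (σ y))).map (τ : K' →+* K') =
              ∏ σ : K' ≃ₐ[K] K', (X - C (σ y)) := by
            simp only [Polynomial.map_prod, Polynomial.map_sub, Polynomial.map_X, Polynomial.map_C]
            exact Fintype.prod_equiv (Equiv.mulLeft τ) _ _ fun σ => rfl
          have h3 := congrArg (fun p : K'[X] => p.coeff n) h2
          simp only [← hp, Polynomial.coeff_map] at h3
          exact h3
        obtain ⟨r, hr⟩ := (IsGalois.mem_range_algebraMap_iff_fixed _).mpr hz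
        exact ⟨⟨r, (val_le_one_iff_of_isOverWith he r).mp (by rw [hr]; exact (pO.coeff n).2)⟩, Subtype.ext hr⟩
      have hlift : pO.map (res Q).toRingHom ∈ Polynomial.lifts ι.fieldRange.val.toRingHom := by
        rw [Polynomial.lifts_iff_coeff_lifts]
        intro n
        obtain ⟨r, hr⟩ := hcoef n
        refine ⟨⟨ι (res P r), ⟨_, rfl⟩⟩, ?_⟩
        rw [Polynomial.coeff_map, ← hr]
        rfl
      obtain ⟨q, hq⟩ := hlift
      rw [Polynomial.coe_mapRingHom] at hq
      rw [Polynomial.map_prod] at hq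
      simp only [Polynomial.map_sub, Polynomial.map_X, Polynomial.map_C] at hq
      have hq' : q.map ι.fieldRange.val.toRingHom = ∏ σ : K' ≃ₐ[K] K', (X - C (c σ)) :=
        hq.trans (Finset.prod_congr rfl fun σ _ => by rw [← hc σ]; rfl)
      set b := res Q x with hb
      by_cases hb0 : b = 0
      · rw [hb0]; exact zero_mem _
      haveI : Algebra.IsSeparable ι.fieldRange (IsLocalRing.ResidueField Q.O) :=
        Algebra.isSeparable_tower_top_of_isSeparable k _ _
      have hint : IsIntegral ι.fieldRange b := Algebra.IsIntegral.isIntegral b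
      have hev : Polynomial.aeval b q = 0 := by
        rw [Polynomial.aeval_def, ← Polynomial.eval_map]
        show (q.map ι.fieldRange.val.toRingHom).eval b = 0
        rw [hq', Polynomial.eval_prod]
        refine Finset.prod_eq_zero (Finset.mem_univ 1) ?_
        simp [c, b]
      have hdvd : (minpoly ι.fieldRange b).map ι.fieldRange.val.toRingHom ∣
          ∏ σ : K' ≃ₐ[K] K', (X - C (c σ)) := hq' ▸ Polynomial.map_dvd _ (minpoly.dvd _ _ hev)
      have hroots : ∀ r : IsLocalRing.ResidueField Q.O,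
          ((minpoly ι.fieldRange b).map ι.fieldRange.val.toRingHom).IsRoot r → r = b := fun r hr => by
        have hr' := Polynomial.IsRoot.dvd hr hdvd
        rw [Polynomial.IsRoot, Polynomial.eval_prod, Finset.prod_eq_zero_iff] at hr'
        obtain ⟨σ, -, hσ⟩ := hr'
        rw [Polynomial.eval_sub, Polynomial.eval_X, Polynomial.eval_C, sub_eq_zero] at hσ
        by_cases hd : σ ∈ (Q.O).decompositionSubgroup K
        · rwa [show c σ = b from if_pos hd] at hσ
        · rw [show c σ = 0 from if_neg hd] at hσ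
          subst hσ
          exfalso
          rw [Polynomial.IsRoot, ← Polynomial.coeff_zero_eq_eval_zero, Polynomial.coeff_map,
            map_eq_zero_iff _ ι.fieldRange.val.toRingHom.injective] at hr
          exact hb0 ((minpoly.coeff_zero_eq_zero hint).mp hr)
      have hsplit : ((minpoly ι.fieldRange b).map ι.fieldRange.val.toRingHom).Splits :=
        (Polynomial.Splits.prod fun σ _ => Polynomial.Splits.X_sub_C (c σ)).of_dvd
          (Polynomial.Monic.ne_zero (Polynomial.monic_prod_of_monic _ _ fun σ _ => Polynomial.monic_X_sub_C _)) hdvd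
      have hsepb := Polynomial.Separable.map (Algebra.IsSeparable.isSeparable ι.fieldRange b) (f := ι.fieldRange.val.toRingHom)
      have hdeg : (minpoly ι.fieldRange b).natDegree = 1 := by
        rw [← Polynomial.natDegree_map ι.fieldRange.val.toRingHom, hsplit.natDegree_eq_card_roots]
        have hn := Polynomial.nodup_roots hsepb
        refine le_antisymm ?_ ?_
        · calc _ ≤ ({b} : Multiset _).card := Multiset.card_le_card ((Multiset.le_iff_subset hn).mpr
              fun r hr => Multiset.mem_singleton.mpr (hroots r (Polynomial.isRoot_of_mem_roots hr)))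
            _ = 1 := Multiset.card_singleton _
        · rw [← hsplit.natDegree_eq_card_roots, Polynomial.natDegree_map]
          exact minpoly.natDegree_pos hint
      obtain ⟨z, hz⟩ := minpoly.natDegree_eq_one_iff.mp hdeg
      exact hz ▸ z.2
    · rintro _ ⟨z, rfl⟩ ⟨_, g, rfl⟩
      obtain ⟨r, rfl⟩ := res_surjective P z
      show resAut Q g (res Q (i r)) = res Q (i r)
      rw [resAut_res]
      congr 1
      exact Subtype.ext (g.1.commutes (r : K))
  have hH : P.deg * Nat.card H = Q.deg := by
    exact finrank_mul_card ι H hfix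
  have hker : Nat.card (ramGroup (K := K) Q 1) * Nat.card H =
      Nat.card ((Q.O).decompositionSubgroup K) := by
    rw [← card_inertia_eq_card_ramGroup, ← ker_resAut, ← Subgroup.index_ker]
    exact Subgroup.card_mul_index _
  have hd := card_decomposition_mul_deg h he
  rw [← hker, ← hH] at hd
  have hpos : 0 < P.deg * Nat.card H := Nat.mul_pos (h.deg_pos P) Nat.card_pos
  nlinarith [hd, hpos]

end residue

instance isScalarTower_intermediateField (E : IntermediateField K K') : IsScalarTower k E K' :=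
  IsScalarTower.of_algebraMap_eq fun _ => rfl

/-- Automorphisms over an intermediate field. -/
theorem card_ramGroup_intermediateField (Q : Place k K') (E : IntermediateField K K') :
    Nat.card (ramGroup (K := E) Q 1) =
      Nat.card {σ : K' ≃ₐ[K] K' // σ ∈ ramGroup Q 1 ∧ σ ∈ E.fixingSubgroup} :=
  Nat.card_congr
    { toFun := fun σ => ⟨σ.1.restrictScalars K, mem_ramGroup.mpr (mem_ramGroup.mp σ.2 :),
        fun z => σ.1.commutes z⟩
      invFun := fun σ => ⟨IntermediateField.fixingSubgroupEquiv E ⟨σ.1, σ.2.2⟩,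
        mem_ramGroup.mpr (mem_ramGroup.mp σ.2.1 :)⟩
      left_inv := fun σ => Subtype.ext (AlgEquiv.ext fun z => rfl)
      right_inv := fun σ => Subtype.ext (AlgEquiv.ext fun z => rfl) }

theorem range_comap_eq_iff [IsGalois K K'] (h : IsFG k K) (Q : Place k K')
    [Algebra.IsSeparable k (IsLocalRing.ResidueField Q.O)] (E : IntermediateField K K') :
    Set.range (Q.1.comap (algebraMap E K')) = Set.range (Q.1.comap (algebraMap K K')) ↔
      E ≤ IntermediateField.fixedField (ramGroup (K := K) Q 1) := by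
  classical
  rw [IntermediateField.le_iff_le]
  have hE : IsFG k E := isFG_extension (K := K) (K' := E) h
  obtain ⟨Q₁, d, -, hd⟩ := exists_isOverWith (K := E) Q
  obtain ⟨P, e, -, he⟩ := exists_isOverWith (K := K) Q
  have hdc := card_ramGroup_one Q hE hd
  have hec := card_ramGroup_one Q h he
  rw [card_ramGroup_intermediateField] at hdc
  haveI : Finite (K' ≃ₐ[K] K') := inferInstance
  have key : d = e ↔ ramGroup (K := K) Q 1 ≤ E.fixingSubgroup := by
    rw [← hdc, ← hec]
    refine ⟨fun hc σ hσ => ?_, fun hle => Nat.card_congr (Equiv.subtypeEquivRight fun σ =>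
      ⟨fun hσ => hσ.1, fun hσ => ⟨hσ, hle hσ⟩⟩)⟩
    by_contra hn
    let j : {σ : K' ≃ₐ[K] K' // σ ∈ ramGroup Q 1 ∧ σ ∈ E.fixingSubgroup} → ramGroup (K := K) Q 1 :=
      fun s => ⟨s.1, s.2.1⟩
    have hj : Function.Injective j := fun a b hab => Subtype.ext (congrArg (fun z => z.1) hab)
    obtain ⟨s, hs⟩ := (hj.bijective_of_nat_card_le hc.ge).2 ⟨σ, hσ⟩
    have h2 : s.1 = σ := congrArg Subtype.val hs
    exact hn (h2 ▸ s.2.2)
  rw [← key]
  constructor
  · intro hr
    obtain ⟨y, -, hy⟩ := exists_val_eq Q₁ (-1)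
    obtain ⟨x, -, hx⟩ := exists_val_eq P (-1)
    obtain ⟨a, ha⟩ : val Q (algebraMap E K' y) ∈ Set.range (Q.1.comap (algebraMap K K')) := hr ▸ ⟨y, rfl⟩
    obtain ⟨b, hb⟩ : val Q (algebraMap K K' x) ∈ Set.range (Q.1.comap (algebraMap E K')) :=
      hr.symm ▸ ⟨x, rfl⟩
    have h1 : (exp (-(d : ℤ)) : WithZero (Multiplicative ℤ)) = val P a ^ e := by
      rw [← he, show Q.1 (algebraMap K K' a) = _ from ha, show val Q (algebraMap E K' y) = _ from hd y]
      rw [show Q₁.1 y = exp (-1) from hy, ← exp_nsmul]; simp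
    have h2 : (exp (-(e : ℤ)) : WithZero (Multiplicative ℤ)) = val Q₁ b ^ d := by
      rw [← hd, show Q.1 (algebraMap E K' b) = _ from hb, show val Q (algebraMap K K' x) = _ from he x]
      rw [show P.1 x = exp (-1) from hx, ← exp_nsmul]; simp
    have h1' := congrArg log h1
    have h2' := congrArg log h2
    rw [log_exp, log_pow, nsmul_eq_mul] at h1' h2'
    have de : (e : ℤ) ∣ d := ⟨-log (val P a), by push_cast at h1' ⊢; linarith⟩
    have ed : (d : ℤ) ∣ e := ⟨-log (val Q₁ b), by push_cast at h2' ⊢; linarith⟩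
    exact Nat.dvd_antisymm (by exact_mod_cast ed) (by exact_mod_cast de)
  · intro hde
    ext g
    simp only [Set.mem_range, Valuation.comap_apply]
    constructor
    · rintro ⟨y, rfl⟩
      obtain ⟨x, hx⟩ := P.2.2 (Q₁.1 y)
      exact ⟨x, by rw [he x, hd y, hx, hde]⟩
    · rintro ⟨x, rfl⟩
      obtain ⟨y, hy⟩ := Q₁.2.2 (P.1 x)
      exact ⟨y, by rw [he x, hd y, hy, hde]⟩

theorem totallyRamified_fixedField [IsGalois K K'] (h : IsFG k K) (Q : Place k K')
    [Algebra.IsSeparable k (IsLocalRing.ResidueField Q.O)] :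
    ∃ Q₁ : Place k (IntermediateField.fixedField (ramGroup (K := K) Q 1)),
      IsOverWith Q Q₁ (Module.finrank (IntermediateField.fixedField (ramGroup (K := K) Q 1)) K') := by
  set E := IntermediateField.fixedField (ramGroup (K := K) Q 1) with hEdef
  have hE : IsFG k E := isFG_extension (K := K) (K' := E) h
  obtain ⟨Q₁, d, -, hd⟩ := exists_isOverWith (K := E) Q
  refine ⟨Q₁, ?_⟩
  have hdc := card_ramGroup_one Q hE hd
  rw [card_ramGroup_intermediateField] at hdc
  have hfr : Module.finrank E K' = Nat.card (ramGroup (K := K) Q 1) :=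
    IntermediateField.finrank_fixedField_eq_card _
  rw [hfr, Nat.card_congr (Equiv.subtypeEquivRight
    fun σ : K' ≃ₐ[K] K' => (?_ : σ ∈ ramGroup (K := K) Q 1 ↔ σ ∈ ramGroup (K := K) Q 1 ∧ σ ∈ E.fixingSubgroup)), hdc]
  · exact hd
  · rw [hEdef, IntermediateField.fixingSubgroup_fixedField]
    exact ⟨fun hh => ⟨hh, hh⟩, fun hh => hh.1⟩

end GrothLib.FunFld
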