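import Groth.Agent.Lib.FunFld.ConstExt
import Groth.Agent.Lib.FunFld.Riemann
import Groth.Agent.Lib.FunFld.Separating
import Mathlib.RingTheory.Discriminant
import Mathlib.RingTheory.Norm.Transitivity
import Mathlib.FieldTheory.PrimitiveElement

/-!
Almost all places are unramified with residue field generated by a simple root.
-/

set_option autoImplicit false
set_option linter.style.haveILetI false
set_option linter.unusedSectionVars false

namespace GrothLib.FunFld

open _root_.FunFld WithZero Polynomial

variable {k K K' : Type*} [Field k] [Field K] [Field K'] [Algebra k K] [Algebra K K'] [Algebra k K']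
  [IsScalarTower k K K'] [FiniteDimensional K K']

/-- The inclusion of valuation rings below a place. -/
def inclBelow {P : Place k K} {Q : Place k K'} {e : ℕ} (he : IsOverWith Q P e) : P.O →+* Q.O :=
  ((algebraMap K K').comp P.O.subtype).codRestrict Q.O fun x => (val_le_one_iff_of_isOverWith he _).mpr x.2

/-- The map of residue fields below a place. -/
noncomputable def resBelow {P : Place k K} {Q : Place k K'} {e : ℕ} (he : IsOverWith Q P e) :
    IsLocalRing.ResidueField P.O →+* IsLocalRing.ResidueField Q.O :=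
  Ideal.Quotient.lift (IsLocalRing.maximalIdeal P.O) ((IsLocalRing.residue Q.O).comp (inclBelow he))
    fun x hx => by
      refine (res_eq_zero_iff Q _).mpr ?_
      have h1 := (res_eq_zero_iff P x).mp ((IsLocalRing.residue_eq_zero_iff x).mpr hx)
      show val Q (algebraMap K K' (x : K)) < 1
      rw [show val Q (algebraMap K K' (x : K)) = val P (x : K) ^ e from he _]
      exact pow_lt_one₀ zero_le h1 (pos_of_isOverWith he).ne'

theorem resBelow_residue {P : Place k K} {Q : Place k K'} {e : ℕ} (he : IsOverWith Q P e) (x : P.O) :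
    resBelow he (IsLocalRing.residue P.O x) = IsLocalRing.residue Q.O (inclBelow he x) := rfl

variable (K') in
/-- Outside a finite set of places of `K`, a primitive element of a separable extension reduces to a
simple root generating the residue field, and there is no ramification. -/
theorem exists_finite_good (h : IsFG k K) [Algebra.IsSeparable K K'] :
    ∃ (y : K') (B : Set (Place k K)), B.Finite ∧ ∀ (P : Place k K) (_ : P ∉ B) (Q : Place k K') (e : ℕ)
      (he : IsOverWith Q P e), e = 1 ∧ ∃ (hy : y ∈ Q.O) (f : (IsLocalRing.ResidueField P.O)[X]),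
        f.eval₂ (resBelow he) (IsLocalRing.residue Q.O ⟨y, hy⟩) = 0 ∧
        f.derivative.eval₂ (resBelow he) (IsLocalRing.residue Q.O ⟨y, hy⟩) ≠ 0 ∧
        ∀ a, ∃ q : (IsLocalRing.ResidueField P.O)[X],
          q.eval₂ (resBelow he) (IsLocalRing.residue Q.O ⟨y, hy⟩) = a := by
  classical
  have h' : IsFG k K' := isFG_extension (K := K) h
  set pb := Field.powerBasisOfFiniteOfSeparable K K'
  set y := pb.gen
  set d := Algebra.discr K pb.basis with hd
  have hd0 : d ≠ 0 := Algebra.discr_not_zero_of_basis K pb.basis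
  set B : Set (Place k K) := {P | P.ord d ≠ 0} ∪
    {P | ∃ Q : Place k K', Q.ord y < 0 ∧ IsOver Q P} with hB
  have hBfin : B.Finite := by
    refine (h.finite_support_ord d).union ?_
    let g : Place k K' → Place k K := fun Q => (exists_isOverWith (K := K) Q).choose
    refine (((h'.finite_support_ord y).subset
      (show {Q : Place k K' | Q.ord y < 0} ⊆ _ from fun Q hQ => ne_of_lt hQ)).image g).subset ?_
    rintro P ⟨Q, hQ, e', hQP⟩
    obtain ⟨e, -, he⟩ := (exists_isOverWith (K := K) Q).choose_spec
    exact ⟨Q, hQ, (isOverWith_unique he hQP).1⟩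
  refine ⟨y, B, hBfin, fun P hP Q e he => ?_⟩
  simp only [hB, Set.mem_union, Set.mem_ofPred_eq, not_or, not_exists, not_and, ne_eq, not_not] at hP
  obtain ⟨hdP, hyP⟩ := hP
  letI : Algebra P.O K' := ((algebraMap K K').comp P.O.subtype).toAlgebra
  haveI : IsScalarTower P.O K K' := IsScalarTower.of_algebraMap_eq fun _ => rfl
  have hyint : IsIntegral P.O y := (isIntegral_iff_forall h y).mpr fun R hR => by
    rcases eq_or_ne y 0 with h0 | h0
    · rw [h0, map_zero]; exact zero_le
    · rw [val_le_one_iff R h0]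
      by_contra hneg
      exact hyP R (not_le.mp hneg) hR
  have hy : y ∈ Q.O := val_le_one_of_isIntegral ⟨e, he⟩ hyint
  have hdval : val P d = 1 := by rw [val_eq P hd0, hdP, neg_zero, exp_zero]
  haveI : IsPrincipalIdealRing P.O := isPrincipalIdealRing_O P
  set p := minpoly P.O y with hp
  have hpK : p.map (algebraMap P.O K) = minpoly K y :=
    (minpoly.isIntegrallyClosed_eq_field_fractions K K' hyint).symm
  set i := inclBelow he
  have hcomm : (Q.O.subtype).comp i = algebraMap P.O K' := rfl
  -- the derivative at `y` is a unit at `Q`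
  set w : K' := aeval y (minpoly K y).derivative with hw
  have hw' : w = ((p.derivative.eval₂ i (⟨y, hy⟩ : Q.O) : Q.O) : K') := by
    show _ = Q.O.subtype _
    rw [Polynomial.hom_eval₂, hcomm, hw, ← hpK, derivative_map, aeval_map_algebraMap]
    rfl
  have hnorm : Algebra.norm K w = (-1 : K) ^ (pb.dim * (pb.dim - 1) / 2) * d := by
    rw [hd, Algebra.discr_powerBasis_eq_norm K pb, ← pb.finrank, ← mul_assoc, ← mul_pow,
      neg_one_mul, neg_neg, one_pow, one_mul]
  have hwv : val Q w = 1 := by
    refine le_antisymm (hw' ▸ (p.derivative.eval₂ i (⟨y, hy⟩ : Q.O)).2) (not_lt.mp fun hlt => ?_)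
    have hwint : IsIntegral P.O w := by
      rw [show w = aeval y p.derivative by rw [hw, ← hpK, derivative_map, aeval_map_algebraMap]]
      exact Algebra.adjoin_le (S := integralClosure P.O K') (Set.singleton_subset_iff.mpr hyint)
        (aeval_mem_adjoin_singleton P.O y)
    set q := minpoly P.O w
    have hqK : q.map (algebraMap P.O K) = minpoly K w :=
      (minpoly.isIntegrallyClosed_eq_field_fractions K K' hwint).symm
    have hc0 : val P ((q.coeff 0 : P.O) : K) < 1 := by
      refine (res_eq_zero_iff P (q.coeff 0)).mp ?_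
      have h0 : q.eval₂ i (⟨w, hw' ▸ (p.derivative.eval₂ i (⟨y, hy⟩ : Q.O)).2⟩ : Q.O) = 0 := by
        refine Subtype.ext ?_
        show Q.O.subtype _ = 0
        rw [Polynomial.hom_eval₂, hcomm]
        exact minpoly.aeval P.O w
      have h1 := congrArg (IsLocalRing.residue Q.O) h0
      rw [map_zero, Polynomial.hom_eval₂] at h1
      have hw0 : IsLocalRing.residue Q.O (⟨w, hw' ▸ (p.derivative.eval₂ i (⟨y, hy⟩ : Q.O)).2⟩ : Q.O) = 0 :=
        (res_eq_zero_iff Q _).mpr hlt
      rw [hw0, Polynomial.eval₂_at_zero] at h1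
      change resBelow he (IsLocalRing.residue P.O (q.coeff 0)) = 0 at h1
      exact (map_eq_zero_iff _ (resBelow he).injective).mp h1
    have hlt' : val P (Algebra.norm K w) < 1 := by
      rw [Algebra.norm_eq_norm_adjoin K w, ← IntermediateField.adjoin.powerBasis_gen
        (Algebra.IsIntegral.isIntegral (R := K) w), Algebra.PowerBasis.norm_gen_eq_coeff_zero_minpoly]
      rw [map_pow, map_mul, map_pow, Valuation.map_neg, map_one, one_pow, one_mul,
        IntermediateField.adjoin.powerBasis_gen, IntermediateField.minpoly_gen, ← hqK, coeff_map]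
      exact pow_lt_one₀ zero_le hc0 Module.finrank_pos.ne'
    rw [hnorm, map_mul, map_pow, Valuation.map_neg, map_one, one_pow, one_mul, hdval] at hlt'
    exact lt_irrefl _ hlt'
  set f := p.map (IsLocalRing.residue P.O)
  set yb := IsLocalRing.residue Q.O ⟨y, hy⟩
  have hev : ∀ r : P.O[X], (r.map (IsLocalRing.residue P.O)).eval₂ (resBelow he) yb =
      IsLocalRing.residue Q.O (r.eval₂ i (⟨y, hy⟩ : Q.O)) := fun r => by
    rw [Polynomial.eval₂_map, Polynomial.hom_eval₂]; rfl
  have hf0 : f.eval₂ (resBelow he) yb = 0 := by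
    rw [hev, show p.eval₂ i (⟨y, hy⟩ : Q.O) = 0 from Subtype.ext (by
      show Q.O.subtype _ = 0
      rw [Polynomial.hom_eval₂, hcomm]; exact minpoly.aeval P.O y), map_zero]
  have hf' : f.derivative.eval₂ (resBelow he) yb ≠ 0 := by
    rw [derivative_map, hev]
    intro hz
    have := (res_eq_zero_iff Q _).mp hz
    rw [← hw', hwv] at this
    exact lt_irrefl _ this
  -- elements integral above `P` are polynomials in `y`
  have hdu : ∃ du : P.O, (du : K) * d = 1 :=
    ⟨⟨d⁻¹, by show val P _ ≤ 1; rw [map_inv₀, hdval, inv_one]⟩, inv_mul_cancel₀ hd0⟩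
  have hpoly : ∀ z : K', IsIntegral P.O z → ∃ r : P.O[X], aeval y r = z := by
    intro z hz
    obtain ⟨du, hdu⟩ := hdu
    have h1 := Algebra.discr_mul_isIntegral_mem_adjoin (R := P.O) K (B := pb) hyint hz
    rw [Algebra.adjoin_singleton_eq_range_aeval] at h1
    obtain ⟨r, hr⟩ := h1
    refine ⟨C du * r, ?_⟩
    rw [map_mul, aeval_C, show aeval y r = d • z from hr, IsScalarTower.algebraMap_apply P.O K K',
      Algebra.smul_def, ← mul_assoc, ← map_mul, show algebraMap P.O K du = (du : K) from rfl, hdu,
      map_one, one_mul]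
  have hmodel : ∀ r : P.O[X], aeval y r = ((r.eval₂ i (⟨y, hy⟩ : Q.O) : Q.O) : K') := fun r => by
    show _ = Q.O.subtype _
    rw [Polynomial.hom_eval₂, hcomm]; rfl
  refine ⟨?_, hy, f, hf0, hf', fun a => ?_⟩
  · -- no ramification
    obtain ⟨z, hzint, hz⟩ := exists_integral_val_eq (K' := K') (P := P) h
    obtain ⟨r, hr⟩ := hpoly z hzint
    set S : (IsLocalRing.ResidueField P.O)[X] →+* IsLocalRing.ResidueField Q.O :=
      Polynomial.eval₂RingHom (resBelow he) yb
    obtain ⟨g, hg⟩ : ∃ g, RingHom.ker S = Ideal.span {g} :=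
      ⟨_, (IsPrincipalIdealRing.principal (RingHom.ker S)).principal.choose_spec⟩
    obtain ⟨gl, hgl⟩ := Polynomial.map_surjective _ IsLocalRing.residue_surjective g
    obtain ⟨t, ht0, ht⟩ := exists_val_eq P (-1)
    let π : P.O := ⟨t, by show val P t ≤ 1; rw [ht, ← exp_zero, exp_le_exp]; omega⟩
    have hπv : val Q (algebraMap P.O K' π) = exp (-(e : ℤ)) := by
      rw [IsScalarTower.algebraMap_apply P.O K K', show algebraMap P.O K π = t from rfl,
        show val Q (algebraMap K K' t) = _ from he t, show P.1 t = exp (-1) from ht, ← exp_nsmul]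
      simp
    have hsmall : ∀ u : P.O[X], u.map (IsLocalRing.residue P.O) = 0 →
        val Q (aeval y u) ≤ exp (-(e : ℤ)) := by
      intro u hu
      have : ∃ u', u = C π * u' := by
        refine Polynomial.C_dvd_iff_dvd_coeff _ _ |>.mpr fun n => ?_
        have hn : IsLocalRing.residue P.O (u.coeff n) = 0 := by rw [← coeff_map, hu, coeff_zero]
        have hv := (res_eq_zero_iff P _).mp hn
        refine ⟨⟨(u.coeff n : K) / t, ?_⟩, Subtype.ext (mul_div_cancel₀ _ ht0).symm⟩
        show val P _ ≤ 1
        rw [map_div₀, ht]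
        refine (div_le_one₀ (zero_lt_iff.mpr exp_ne_zero)).mpr ?_
        rw [show (-1 : ℤ) = 0 - 1 by ring, le_exp_sub_one_iff, exp_zero]; exact hv
      obtain ⟨u', rfl⟩ := this
      rw [map_mul, aeval_C, map_mul, hπv]
      exact mul_le_of_le_one_right' (hmodel u' ▸ (u'.eval₂ i (⟨y, hy⟩ : Q.O)).2)
    obtain ⟨hl, hhl⟩ : ∃ hl : (IsLocalRing.ResidueField P.O)[X], f = g * hl := by
      have : f ∈ RingHom.ker S := hf0
      rw [hg] at this
      exact Ideal.mem_span_singleton.mp this
    obtain ⟨hh, hhh⟩ := Polynomial.map_surjective _ IsLocalRing.residue_surjective hl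
    have hg0 : g.eval₂ (resBelow he) yb = 0 := show g ∈ RingHom.ker S by
      rw [hg]; exact Ideal.mem_span_singleton_self g
    have hhl0 : hl.eval₂ (resBelow he) yb ≠ 0 := fun h0 => hf' (by
      rw [hhl, derivative_mul, eval₂_add, eval₂_mul, eval₂_mul, hg0, h0, mul_zero, zero_mul, add_zero])
    have hgy : val Q (aeval y gl) ≤ exp (-(e : ℤ)) := by
      have h1 := hsmall (p - gl * hh) (by rw [Polynomial.map_sub, Polynomial.map_mul, hgl, hhh, ← hhl, sub_self])
      rw [map_sub, minpoly.aeval, zero_sub, Valuation.map_neg, map_mul, map_mul] at h1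
      have hunit : val Q (aeval y hh) = 1 := by
        refine le_antisymm (hmodel hh ▸ (hh.eval₂ i (⟨y, hy⟩ : Q.O)).2) (not_lt.mp fun hlt => hhl0 ?_)
        rw [← hhh, hev]
        exact (res_eq_zero_iff Q _).mpr (hmodel hh ▸ hlt)
      rwa [hunit, mul_one] at h1
    have hrg : r.map (IsLocalRing.residue P.O) ∈ RingHom.ker S := by
      show Polynomial.eval₂ _ _ _ = 0
      rw [hev]
      refine (res_eq_zero_iff Q _).mpr ?_
      rw [← hmodel, hr, hz Q ⟨e, he⟩, ← exp_zero, exp_lt_exp]; omega
    rw [hg] at hrg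
    obtain ⟨s, hs⟩ := Ideal.mem_span_singleton.mp hrg
    obtain ⟨sl, hsl⟩ := Polynomial.map_surjective _ IsLocalRing.residue_surjective s
    have h2 := hsmall (r - gl * sl) (by rw [Polynomial.map_sub, Polynomial.map_mul, hgl, hsl, ← hs, sub_self])
    have h3 : val Q z ≤ exp (-(e : ℤ)) := by
      rw [← hr, show aeval y r = aeval y (r - gl * sl) + aeval y gl * aeval y sl by
        rw [← map_mul, ← map_add, sub_add_cancel]]
      refine ((val Q).map_add _ _).trans (max_le h2 ?_)
      rw [map_mul]
      exact (mul_le_of_le_one_right' (hmodel sl ▸ (sl.eval₂ i (⟨y, hy⟩ : Q.O)).2)).trans hgy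
    rw [hz Q ⟨e, he⟩, exp_le_exp] at h3
    have := pos_of_isOverWith he
    omega
  · obtain ⟨z, rfl⟩ := IsLocalRing.residue_surjective a
    obtain ⟨z', hz'int, hz'⟩ := exists_integral_approx (K' := K') (P := P) h
      (fun R => if R = Q then (z : K') else 0) (fun R => by
        split_ifs with hR
        · subst hR; exact z.2
        · simp)
    obtain ⟨r, hr⟩ := hpoly z' hz'int
    refine ⟨r.map (IsLocalRing.residue P.O), ?_⟩
    rw [hev, ← sub_eq_zero, ← map_sub]
    refine (res_eq_zero_iff Q _).mpr ?_
    have := hz' Q ⟨e, he⟩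
    rw [if_pos rfl, ← hr, hmodel] at this
    exact this

/-- In a finite separable extension almost all places are unramified. -/
theorem finite_ramified (h : IsFG k K) [Algebra.IsSeparable K K'] :
    {Q : Place k K' | ¬ Function.Surjective (Q.1.comap (algebraMap K K'))}.Finite := by
  obtain ⟨y, B, hB, hgood⟩ := exists_finite_good K' h
  refine (hB.biUnion fun P _ => (sum_ramIdx (K' := K') h P).1).subset fun Q hQ => ?_
  obtain ⟨P, e, -, he⟩ := exists_isOverWith (K := K) Q
  refine Set.mem_biUnion (x := P) ?_ ⟨e, he⟩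
  by_contra hPB
  obtain ⟨rfl, -⟩ := hgood P hPB Q e he
  refine hQ fun r => ?_
  obtain ⟨x, hx⟩ := P.2.2 r
  exact ⟨x, by rw [Valuation.comap_apply, he x, pow_one]; exact hx⟩

end GrothLib.FunFld
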