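import Groth.Agent.Lib.FunFld.Separating
import Groth.Agent.Lib.FunFld.Unramified
import Groth.Agent.Lib.FunFld.GenusZero
import Mathlib.GroupTheory.CosetCover
import Mathlib.FieldTheory.PrimitiveElement

/-!
Generators of a function field inside linear spaces of functions.
-/

set_option autoImplicit false
set_option linter.style.haveILetI false

namespace GrothLib.FunFld

open _root_.FunFld

variable {k K : Type*} [Field k] [IsAlgClosed k] [Field K] [Algebra k K]

theorem transcendental_of_separating (hK : IsFunctionField k K) {x : K}
    (hsep : Algebra.IsSeparable (IntermediateField.adjoin k ({x} : Set K)) K) : Transcendental k x := by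
  intro h
  obtain ⟨c, hc⟩ := hK.2 x h
  refine D_ne_zero_of_isSeparable hK.1 hsep ?_
  rw [← hc, Derivation.map_algebraMap]

/-- A finite separable extension is generated by an element of any generating subspace. -/
theorem exists_mem_adjoin_eq_top {F : IntermediateField k K} [FiniteDimensional F K] [Algebra.IsSeparable F K]
    (W : Submodule k K) (hW : IntermediateField.adjoin k (W : Set K) = ⊤) :
    ∃ y ∈ W, IntermediateField.adjoin F ({y} : Set K) = ⊤ := by
  classical
  haveI : Finite (IntermediateField F K) :=
    Field.finite_intermediateField_of_exists_primitive_element F K (Field.exists_primitive_element F K)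
  haveI : Infinite k := inferInstance
  let p : {M : IntermediateField F K // M ≠ ⊤} → Subspace k W := fun M =>
    (Submodule.restrictScalars k (Subalgebra.toSubmodule (M.1.restrictScalars k).toSubalgebra)).comap W.subtype
  by_contra hcon
  push Not at hcon
  have hcov : ⋃ M, (p M : Set W) = Set.univ := Set.eq_univ_of_forall fun y =>
    Set.mem_iUnion.2 ⟨⟨IntermediateField.adjoin F ({(y : K)} : Set K), hcon y y.2⟩,
      IntermediateField.mem_adjoin_simple_self F (y : K)⟩
  obtain ⟨⟨M, hM⟩, htop⟩ := Subspace.exists_eq_top_of_iUnion_eq_univ hcov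
  refine hM (IntermediateField.restrictScalars_injective k ?_)
  rw [IntermediateField.restrictScalars_top, eq_top_iff, ← hW, IntermediateField.adjoin_le_iff]
  intro y hy
  have : (⟨y, hy⟩ : W) ∈ p ⟨M, hM⟩ := htop ▸ trivial
  exact this

/-- Orders of the elements of `k(x)` are multiples of the order of the local parameter. -/
theorem dvd_ord_of_mem_adjoin {P : Place k K} {x : K} {c : k} (hc : val P (x - algebraMap k K c) < 1)
    (hx : Transcendental k x) {w : K} (hw : w ∈ IntermediateField.adjoin k ({x} : Set K)) :
    P.ord (x - algebraMap k K c) ∣ P.ord w := by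
  classical
  have hne : ∀ a : k, x - algebraMap k K a ≠ 0 := fun a h => hx (by
    rw [sub_eq_zero.1 h]; exact isAlgebraic_algebraMap a)
  have hpoly : ∀ p : Polynomial k, p ≠ 0 →
      Polynomial.aeval x p ≠ 0 ∧ P.ord (x - algebraMap k K c) ∣ P.ord (Polynomial.aeval x p) := by
    intro p hp
    refine ⟨fun h => hp (transcendental_iff.1 hx p h), ?_⟩
    have hlc : algebraMap k K p.leadingCoeff ≠ 0 := by simpa using hp
    rw [(IsAlgClosed.splits p).eq_prod_roots, map_mul, Polynomial.aeval_C, map_multiset_prod, Multiset.map_map]
    have hprod : ∀ R : Multiset k,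
        (R.map (⇑(Polynomial.aeval x : Polynomial k →ₐ[k] K) ∘ fun a => Polynomial.X - Polynomial.C a)).prod ≠ 0 ∧
        P.ord (x - algebraMap k K c) ∣
          P.ord ((R.map (⇑(Polynomial.aeval x : Polynomial k →ₐ[k] K) ∘ fun a => Polynomial.X - Polynomial.C a)).prod) := by
      intro R
      induction R using Multiset.induction_on with
      | empty => simp [ord_one]
      | cons a R ih =>
        rw [Multiset.map_cons, Multiset.prod_cons, Function.comp_apply, map_sub, Polynomial.aeval_X,
          Polynomial.aeval_C]
        refine ⟨mul_ne_zero (hne a) ih.1, ?_⟩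
        rw [ord_mul P (hne a) ih.1]
        refine dvd_add ?_ ih.2
        rcases eq_or_ne a c with rfl | hac
        · exact dvd_rfl
        · have hd : algebraMap k K (c - a) ≠ 0 := (map_ne_zero _).2 (sub_ne_zero.2 (Ne.symm hac))
          have h1 : val P (algebraMap k K (c - a)) = 1 := val_const P (sub_ne_zero.2 (Ne.symm hac))
          have h2 : val P (x - algebraMap k K a) = 1 := by
            rw [show x - algebraMap k K a = algebraMap k K (c - a) + (x - algebraMap k K c) by rw [map_sub]; ring,
              (val P).map_add_eq_of_lt_left (hc.trans_eq h1.symm), h1]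
          rw [val_eq P (hne a), ← WithZero.exp_zero, WithZero.exp_inj] at h2
          rw [show P.ord (x - algebraMap k K a) = 0 by omega]
          exact dvd_zero _
    have h0 : P.ord (algebraMap k K p.leadingCoeff) = 0 := by
      have h1 := val_const P (Polynomial.leadingCoeff_ne_zero.2 hp)
      rw [val_eq P hlc, ← WithZero.exp_zero, WithZero.exp_inj] at h1
      omega
    rw [ord_mul P hlc (hprod _).1, h0, zero_add]
    exact (hprod _).2
  obtain ⟨p, q, rfl⟩ := (IntermediateField.mem_adjoin_simple_iff k w).1 hw
  rcases eq_or_ne q 0 with rfl | hq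
  · simp
  rcases eq_or_ne p 0 with rfl | hp
  · simp
  rw [div_eq_mul_inv, ord_mul P (hpoly p hp).1 (inv_ne_zero (hpoly q hq).1), ord_inv]
  exact dvd_add (hpoly p hp).2 (hpoly q hq).2.neg_right

/-- Apart from finitely many places, a separating variable differs by a constant from a local parameter. -/
theorem finite_no_parameter (hK : IsFunctionField k K) {x : K}
    (hsep : Algebra.IsSeparable (IntermediateField.adjoin k ({x} : Set K)) K) :
    {P : Place k K | ∀ c : k, val P (x - algebraMap k K c) ≠ WithZero.exp (-1)}.Finite := by
  classical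
  have hx := transcendental_of_separating hK hsep
  set K₀ := IntermediateField.adjoin k ({x} : Set K)
  haveI := IsFG.finiteDimensional_adjoin hK.1 hx
  haveI := hsep
  have hfg : IsFG k K₀ := (isFunctionField_intermediateField hK K₀
    ⟨x, IntermediateField.mem_adjoin_simple_self k x, hx⟩).1.1
  refine ((finite_ramified (K := K₀) (K' := K) hfg).union (IsFG.finite_support_ord hK.1 x)).subset ?_
  intro P hP
  by_contra hcon
  simp only [Set.mem_union, Set.mem_setOf_eq, Function.mem_support, not_or, not_not] at hcon
  obtain ⟨hsurj, hord⟩ := hcon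
  have hx0 : x ≠ 0 := fun h => hx (h ▸ isAlgebraic_zero)
  have hle : val P x ≤ 1 := by rw [val_eq P hx0, hord, neg_zero, WithZero.exp_zero]
  obtain ⟨c, hc⟩ := exists_residue hK.1 P hle
  refine hP c ?_
  obtain ⟨w, hw⟩ := hsurj (WithZero.exp (-1))
  rw [Valuation.comap_apply] at hw
  have hw0 : (w : K) ≠ 0 := fun h => WithZero.exp_ne_zero (a := (-1 : ℤ)) (by
    rw [← hw]; exact (congrArg (val P) h).trans (map_zero _))
  have hne : x - algebraMap k K c ≠ 0 := fun h => hx (by rw [sub_eq_zero.1 h]; exact isAlgebraic_algebraMap c)
  have hd := dvd_ord_of_mem_adjoin hc hx w.2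
  have hw1 : val P (w : K) = WithZero.exp (-1) := hw
  rw [val_eq P hw0, WithZero.exp_inj] at hw1
  rw [show P.ord (w : K) = 1 by omega] at hd
  rw [val_eq P hne, WithZero.exp_inj]
  rw [val_eq P hne, ← WithZero.exp_zero, WithZero.exp_lt_exp] at hc
  have := Int.eq_one_of_dvd_one (by omega) hd
  omega

end GrothLib.FunFld
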