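import Groth.Prelude.Def_W4c6gradedringsgwSect
import Groth.Agent.Lib.FunFld.GenusZero
import Groth.Agent.Lib.FunFld.LocRing
import Groth.Agent.Lib.FunFld.Gaps
import Mathlib.Algebra.MonoidAlgebra.Basic
import Mathlib.Algebra.Polynomial.Lifts
import Mathlib.RingTheory.Ideal.Quotient.Operations
import Mathlib.RingTheory.Finiteness.Ideal
import Mathlib.Algebra.Module.SpanRank
import Mathlib.RingTheory.Polynomial.Basic

/-! The section ring of a point and its Weierstrass semigroup. -/

namespace GrothLib.FunFld

open _root_.FunFld WithZero W4c6gradedringsgw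
open Polynomial (C X)

universe u

variable {k K : Type u} [Field k] [Field K] [Algebra k K] [IsAlgClosed k]

/-- The residue at a place, as a ring homomorphism to the constants. -/
noncomputable def resConst (h : IsFG k K) (P : Place k K) : P.O →ₐ[k] k where
  toFun x := (exists_residue h P x.2).choose
  map_one' := residue_unique P (exists_residue h P (1 : P.O).2).choose_spec (by simp)
  map_zero' := residue_unique P (exists_residue h P (0 : P.O).2).choose_spec (by simp)
  map_mul' x y := by
    refine residue_unique P (exists_residue h P (x * y).2).choose_spec ?_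
    have hx := (exists_residue h P x.2).choose_spec
    have hy := (exists_residue h P y.2).choose_spec
    set a := (exists_residue h P x.2).choose
    set b := (exists_residue h P y.2).choose
    rw [map_mul, show ((x * y : P.O) : K) - algebraMap k K a * algebraMap k K b =
      ((x : K) - algebraMap k K a) * y + algebraMap k K a * ((y : K) - algebraMap k K b) by
        push_cast; ring]
    refine ((val P).map_add _ _).trans_lt (max_lt ?_ ?_)
    · rw [map_mul]; exact (mul_le_of_le_one_right' y.2).trans_lt hx
    · rw [map_mul]; exact (mul_le_of_le_one_left' (P.2.1 a)).trans_lt hy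
  map_add' x y := by
    refine residue_unique P (exists_residue h P (x + y).2).choose_spec ?_
    rw [map_add, show ((x + y : P.O) : K) - (algebraMap k K _ + algebraMap k K _) =
      ((x : K) - algebraMap k K (exists_residue h P x.2).choose) +
        ((y : K) - algebraMap k K (exists_residue h P y.2).choose) by push_cast; ring]
    exact ((val P).map_add _ _).trans_lt (max_lt (exists_residue h P x.2).choose_spec
      (exists_residue h P y.2).choose_spec)
  commutes' c := residue_unique P (exists_residue h P (algebraMap k P.O c).2).choose_spec (by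
    show val P (algebraMap k K c - algebraMap k K c) < 1
    simp)

theorem resConst_spec (h : IsFG k K) (P : Place k K) (x : P.O) :
    val P ((x : K) - algebraMap k K (resConst h P x)) < 1 :=
  (exists_residue h P x.2).choose_spec

theorem resConst_eq_zero_iff (h : IsFG k K) (P : Place k K) (x : P.O) :
    resConst h P x = 0 ↔ val P (x : K) < 1 :=
  ⟨fun h0 => by simpa [h0] using resConst_spec h P x,
    fun hlt => residue_unique P (resConst_spec h P x) (by simpa using hlt)⟩

variable {P : Place k K}

theorem zsmul_single_one (n : ℤ) :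
    n • (Finsupp.single P 1 : Divisor k K) = Finsupp.single P n := by
  rw [Finsupp.smul_single, smul_eq_mul, mul_one]

theorem mem_sectRing_iff {r : Polynomial K} :
    r ∈ sectRing (Finsupp.single P 1 : Divisor k K) ↔
      ∀ n : ℕ, r.coeff n ∈ L (Finsupp.single P (n : ℤ)) := by
  refine forall_congr' fun n => ?_
  rw [zsmul_single_one]

theorem mem_L_pred_iff {n : ℕ} {f : K} (hf : f ∈ L (Finsupp.single P (n : ℤ))) :
    f ∈ L (Finsupp.single P ((n : ℤ) - 1)) ↔ val P f < exp (n : ℤ) := by
  rw [← le_exp_sub_one_iff]
  refine ⟨fun hf' => by simpa using hf' P, fun hlt R => ?_⟩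
  by_cases hR : R = P
  · subst hR; simpa using hlt
  · simpa [hR] using hf R

theorem poleOrders_iff (h : IsFunctionField k K) (n : ℕ) :
    n ∈ poleOrders P ↔ ¬ IsGap P n := by
  have hfg : IsFG k K := h.1
  show ell ((n : ℤ) • (Finsupp.single P 1 : Divisor k K)) =
    ell (((n : ℤ) - 1) • (Finsupp.single P 1 : Divisor k K)) + 1 ↔ _
  rw [zsmul_single_one, zsmul_single_one]
  have hle : Finsupp.single P ((n : ℤ) - 1) ≤ Finsupp.single P (n : ℤ) :=
    Finsupp.single_le_single.2 (by omega)
  have := hfg.finite_L (Finsupp.single P (n : ℤ))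
  constructor
  · intro he hg
    rw [IsGap] at hg
    have e := congrArg (fun W : Submodule k K => Module.finrank k W) hg
    simp only [ell] at he
    omega
  · intro hg
    have hlt := Submodule.finrank_lt_finrank_of_lt (lt_of_le_of_ne (L_mono hle) (Ne.symm hg))
    have h1 := hfg.ell_sub_ell_le hle
    rw [deg_single, deg_single, hfg.deg_eq_one P] at h1
    simp only [ell] at hlt h1 ⊢
    push_cast at h1
    omega

theorem zero_mem_poleOrders (h : IsFunctionField k K) : 0 ∈ poleOrders P := by
  rw [poleOrders_iff h]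
  exact not_gap_of_exact (m := 0) one_ne_zero
    ((mem_L_single_iff one_ne_zero (by simp)).2 ⟨by simp, by simp⟩) (by simp)

theorem closure_poleOrders (h : IsFunctionField k K) :
    (AddSubmonoid.closure (poleOrders P) : Set ℕ) = poleOrders P := by
  refine subset_antisymm (fun n hn => ?_) AddSubmonoid.subset_closure
  induction hn using AddSubmonoid.closure_induction with
  | mem x hx => exact hx
  | zero => exact zero_mem_poleOrders h
  | add a b _ _ ha hb =>
    rw [poleOrders_iff h] at *
    exact not_gap_add h ha hb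

theorem one_notMem_poleOrders (h : IsFunctionField k K) (hg : 1 ≤ genus k K) :
    1 ∉ poleOrders P ∧ L (Finsupp.single P (1 : ℤ)) = L (0 : Divisor k K) := by
  have hgap : IsGap P 1 := by
    by_contra hng
    obtain ⟨x, hx0, hx, hxo⟩ := exists_exact_of_not_gap h hng
    have h2 := le_card_gaps_two_mul_sub_one h (h.1 |> fun hh => IsFG.deg_eq_one hh P) (l := 1) hg
    simp only [mul_one, Nat.add_one_sub_one, Finset.Icc_self] at h2
    rw [Finset.filter_singleton, if_neg (not_gap_of_exact hx0 hx hxo)] at h2
    simp at h2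
  refine ⟨fun h1 => (poleOrders_iff h 1).1 h1 hgap, ?_⟩
  have := hgap
  rw [IsGap] at this
  simpa using this

theorem mem_poleOrders_of_le (h : IsFunctionField k K) {n : ℕ} (hn : 2 * genus k K ≤ n) :
    n ∈ poleOrders P := by
  rw [poleOrders_iff h]
  intro hg
  have hfg : IsFG k K := h.1
  have e := congrArg (fun W : Submodule k K => Module.finrank k W) (show _ = _ from hg)
  have e1 := ell_eq_of_deg_ge h (D := Finsupp.single P (n : ℤ))
    (by rw [deg_single, hfg.deg_eq_one P]; simp; omega)
  have e2 := ell_eq_of_deg_ge h (D := Finsupp.single P ((n : ℤ) - 1))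
    (by rw [deg_single, hfg.deg_eq_one P]; simp; omega)
  rw [deg_single, hfg.deg_eq_one P] at e1 e2
  simp only [ell] at e1 e2
  omega

variable (P)

/-- Rescaled coefficients lie in the valuation ring. -/
theorem mul_pow_mem_O {π : K} (hπ : val P π = exp (-1)) {r : Polynomial K}
    (hr : r ∈ sectRing (Finsupp.single P 1 : Divisor k K)) (n : ℕ) :
    r.coeff n * π ^ n ∈ P.O := by
  rw [mem_O_iff, map_mul, map_pow, hπ, ← exp_nsmul]
  have := (mem_sectRing_iff.1 hr n) P
  rw [Finsupp.single_eq_same] at this
  refine (mul_le_mul' this le_rfl).trans ?_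
  rw [← exp_add, ← exp_zero, exp_le_exp]
  simp

/-- The "leading coefficient" map of the section ring. -/
noncomputable def leadMap (h : IsFG k K) {π : K} (hπ : val P π = exp (-1)) :
    sectRing (Finsupp.single P 1 : Divisor k K) →ₐ[k] Polynomial k :=
  have hlift : ∀ r : sectRing (Finsupp.single P 1 : Divisor k K), ∃ s : Polynomial P.O,
      s.map P.O.subtype = (r : Polynomial K).comp (C π * X) := fun r => by
    have : (r : Polynomial K).comp (C π * X) ∈ Polynomial.lifts P.O.subtype := by
      rw [Polynomial.lifts_iff_coeff_lifts]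
      intro n
      rw [Polynomial.comp_C_mul_X_coeff]
      exact ⟨⟨_, mul_pow_mem_O P hπ r.2 n⟩, rfl⟩
    exact this
  have hinj : Function.Injective (Polynomial.map P.O.subtype) :=
    Polynomial.map_injective _ Subtype.val_injective
  let l : sectRing (Finsupp.single P 1 : Divisor k K) →+* Polynomial P.O :=
    { toFun := fun r => (hlift r).choose
      map_one' := hinj (by rw [(hlift 1).choose_spec]; simp)
      map_zero' := hinj (by rw [(hlift 0).choose_spec]; simp)
      map_mul' := fun r s => hinj (by
        rw [(hlift (r * s)).choose_spec, Polynomial.map_mul, (hlift r).choose_spec,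
          (hlift s).choose_spec]
        simp)
      map_add' := fun r s => hinj (by
        rw [(hlift (r + s)).choose_spec, Polynomial.map_add, (hlift r).choose_spec,
          (hlift s).choose_spec]
        simp) }
  { toRingHom := (Polynomial.mapRingHom (resConst h P).toRingHom).comp l
    commutes' := fun c => by
      have : l (algebraMap k _ c) = C (algebraMap k P.O c) := hinj (by
        show Polynomial.map _ (hlift _).choose = _
        rw [(hlift _).choose_spec]
        simp only [Polynomial.map_C]
        show ((algebraMap k (Polynomial K) c)).comp (C π * X) = _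
        rw [Polynomial.algebraMap_apply, Polynomial.C_comp]
        rfl)
      show Polynomial.map _ (l (algebraMap k _ c)) = _
      rw [this, Polynomial.map_C, Polynomial.algebraMap_apply]
      exact congrArg C ((resConst h P).commutes c) }

theorem coeff_leadMap (h : IsFG k K) {π : K} (hπ : val P π = exp (-1))
    (r : sectRing (Finsupp.single P 1 : Divisor k K)) (n : ℕ) :
    (leadMap P h hπ r).coeff n = resConst h P ⟨_, mul_pow_mem_O P hπ r.2 n⟩ := by
  unfold leadMap
  simp only [AlgHom.coe_mk, RingHom.coe_comp, Function.comp_apply, Polynomial.coe_mapRingHom,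
    RingHom.coe_mk, MonoidHom.coe_mk, OneHom.coe_mk, Polynomial.coeff_map]
  generalize_proofs h1 h2
  refine congrArg (resConst h P) (Subtype.ext ?_)
  have := congrArg (fun s : Polynomial K => s.coeff n) h2.choose_spec
  simp only [Polynomial.coeff_map, Polynomial.comp_C_mul_X_coeff] at this
  exact this

theorem coeff_leadMap_eq_zero_iff (h : IsFG k K) {π : K} (hπ : val P π = exp (-1))
    (r : sectRing (Finsupp.single P 1 : Divisor k K)) (n : ℕ) :
    (leadMap P h hπ r).coeff n = 0 ↔
      (r : Polynomial K).coeff n ∈ L (Finsupp.single P ((n : ℤ) - 1)) := by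
  rw [coeff_leadMap, resConst_eq_zero_iff, mem_L_pred_iff (mem_sectRing_iff.1 r.2 n)]
  show val P ((r : Polynomial K).coeff n * π ^ n) < 1 ↔ _
  have he : val P (π ^ n) = exp (-(n : ℤ)) := by rw [map_pow, hπ, ← exp_nsmul]; congr 1; simp
  rw [map_mul, he]
  constructor
  · intro hlt
    have := mul_lt_mul_of_pos_right hlt (exp_pos (a := (n : ℤ)))
    rwa [mul_assoc, ← exp_add, neg_add_cancel, exp_zero, mul_one, one_mul] at this
  · intro hlt
    have := mul_lt_mul_of_pos_right hlt (exp_pos (a := -(n : ℤ)))
    rwa [← exp_add, add_neg_cancel, exp_zero] at this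

theorem monomial_mem_sectRing {n : ℕ} {f : K} (hf : f ∈ L (Finsupp.single P (n : ℤ))) :
    Polynomial.monomial n f ∈ sectRing (Finsupp.single P 1 : Divisor k K) := by
  rw [mem_sectRing_iff]
  intro m
  rw [Polynomial.coeff_monomial]
  split_ifs with he
  · subst he; exact hf
  · exact zero_mem _

theorem X_mem_sectRing (h : IsFunctionField k K) :
    (X : Polynomial K) ∈ sectRing (Finsupp.single P 1 : Divisor k K) := by
  rw [← Polynomial.monomial_one_one_eq_X]
  refine monomial_mem_sectRing P ((mem_L_single_iff one_ne_zero (by simp)).2 ⟨by simp, by simp⟩)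

/-- The kernel of the leading coefficient map is generated by `T`. -/
theorem leadMap_eq_zero_iff (h : IsFunctionField k K) {π : K} (hπ : val P π = exp (-1))
    (r : sectRing (Finsupp.single P 1 : Divisor k K)) :
    leadMap P h.1 hπ r = 0 ↔
      ∃ s : sectRing (Finsupp.single P 1 : Divisor k K), ⟨X, X_mem_sectRing P h⟩ * s = r := by
  constructor
  · intro h0
    have hc : ∀ n : ℕ, (r : Polynomial K).coeff n ∈ L (Finsupp.single P ((n : ℤ) - 1)) := fun n =>
      (coeff_leadMap_eq_zero_iff P h.1 hπ r n).1 (by rw [h0, Polynomial.coeff_zero])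
    have h00 : (r : Polynomial K).coeff 0 = 0 := by
      have := hc 0
      rw [h.1 |> fun hh => IsFG.L_eq_bot_of_deg_neg hh (by
        rw [deg_single, IsFG.deg_eq_one hh P]; simp)] at this
      exact (Submodule.mem_bot k).1 this
    refine ⟨⟨Polynomial.divX (r : Polynomial K), mem_sectRing_iff.2 fun n => ?_⟩, Subtype.ext ?_⟩
    · rw [Polynomial.coeff_divX]
      have := hc (n + 1)
      simpa using this
    · show (X : Polynomial K) * Polynomial.divX (r : Polynomial K) = r
      conv_rhs => rw [← Polynomial.X_mul_divX_add (r : Polynomial K), h00, map_zero, add_zero]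
  · rintro ⟨s, rfl⟩
    ext n
    rw [Polynomial.coeff_zero, coeff_leadMap_eq_zero_iff]
    show (X * (s : Polynomial K)).coeff n ∈ _
    cases n with
    | zero => simp
    | succ n =>
      rw [Polynomial.coeff_X_mul]
      simpa using mem_sectRing_iff.1 s.2 n

/-- The range of the leading coefficient map. -/
theorem coeff_leadMap_eq_zero_of_notMem (h : IsFunctionField k K) {π : K} (hπ : val P π = exp (-1))
    (r : sectRing (Finsupp.single P 1 : Divisor k K)) {n : ℕ} (hn : n ∉ poleOrders P) :
    (leadMap P h.1 hπ r).coeff n = 0 := by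
  rw [coeff_leadMap_eq_zero_iff]
  rw [poleOrders_iff h, not_not] at hn
  rw [← (show L (Finsupp.single P (n : ℤ)) = L (Finsupp.single P ((n : ℤ) - 1)) from hn)]
  exact mem_sectRing_iff.1 r.2 n

theorem exists_leadMap_eq_X_pow (h : IsFunctionField k K) {π : K} (hπ : val P π = exp (-1)) {n : ℕ}
    (hn : n ∈ poleOrders P) :
    ∃ (f : K) (hf : f ∈ L (Finsupp.single P (n : ℤ))),
      leadMap P h.1 hπ ⟨_, monomial_mem_sectRing P hf⟩ = X ^ n := by
  obtain ⟨f, hf0, hf, hord⟩ := exists_exact_of_not_gap h ((poleOrders_iff h n).1 hn)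
  set r : sectRing (Finsupp.single P 1 : Divisor k K) := ⟨_, monomial_mem_sectRing P hf⟩
  set c := (leadMap P h.1 hπ r).coeff n with hc
  have hc0 : c ≠ 0 := by
    rw [hc, Ne, coeff_leadMap_eq_zero_iff]
    show (Polynomial.monomial n f).coeff n ∉ _
    rw [Polynomial.coeff_monomial, if_pos rfl, mem_L_pred_iff hf, val_eq P hf0, hord, neg_neg]
    exact lt_irrefl _
  refine ⟨c⁻¹ • f, Submodule.smul_mem _ _ hf, ?_⟩
  have hr : (⟨_, monomial_mem_sectRing P (Submodule.smul_mem _ c⁻¹ hf)⟩ :
      sectRing (Finsupp.single P 1 : Divisor k K)) = c⁻¹ • r :=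
    Subtype.ext (Polynomial.smul_monomial _ _ _).symm
  rw [hr, map_smul]
  ext m
  rw [Polynomial.coeff_smul, Polynomial.coeff_X_pow]
  split_ifs with hm
  · subst hm; rw [← hc]; exact inv_mul_cancel₀ hc0
  · rw [(coeff_leadMap_eq_zero_iff P h.1 hπ r m).2, smul_zero]
    show (Polynomial.monomial n f).coeff m ∈ _
    rw [Polynomial.coeff_monomial, if_neg (Ne.symm hm)]
    exact zero_mem _

theorem prime_and_quotient (h : IsFunctionField k K) (hg : 1 ≤ genus k K)
    (t : sectRing (Finsupp.single P 1 : Divisor k K)) (a : K) (ha : a ≠ 0)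
    (ht : (t : Polynomial K) = C a * X) :
    Prime t ∧ Nonempty ((sectRing (Finsupp.single P 1 : Divisor k K) ⧸ Ideal.span {t}) ≃ₐ[k]
      AddMonoidAlgebra k (AddSubmonoid.closure (poleOrders P))) := by
  classical
  obtain ⟨π, -, hπ⟩ := exists_val_eq P (-1)
  set Ψ := leadMap P h.1 hπ
  have haL : a ∈ L (0 : Divisor k K) := by
    rw [← (one_notMem_poleOrders h hg).2]
    have := mem_sectRing_iff.1 t.2 1
    rw [ht, Polynomial.coeff_C_mul, Polynomial.coeff_X_one, mul_one] at this
    exact this
  rw [L_zero_eq_one h, Submodule.mem_one] at haL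
  obtain ⟨c, hc⟩ := haL
  have hc0 : c ≠ 0 := by rintro rfl; rw [map_zero] at hc; exact ha hc.symm
  set T : sectRing (Finsupp.single P 1 : Divisor k K) := ⟨X, X_mem_sectRing P h⟩
  have htT : t = c • T := Subtype.ext (by
    rw [ht, ← hc]
    show _ = c • (X : Polynomial K)
    rw [Algebra.smul_def, Polynomial.algebraMap_apply])
  have hspan : Ideal.span {t} = RingHom.ker Ψ := by
    ext r
    rw [Ideal.mem_span_singleton', RingHom.mem_ker, leadMap_eq_zero_iff P h hπ]
    constructor
    · rintro ⟨s, rfl⟩; exact ⟨c • s, by rw [htT, mul_smul_comm, mul_smul_comm, mul_comm]⟩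
    · rintro ⟨s, rfl⟩
      exact ⟨c⁻¹ • s, by rw [htT, smul_mul_smul_comm, inv_mul_cancel₀ hc0, one_smul, mul_comm]⟩
  have ht0 : t ≠ 0 := fun e => by
    have := congrArg (fun p : sectRing (Finsupp.single P 1 : Divisor k K) => (p : Polynomial K).coeff 1) e
    simp [ht, ha] at this
  refine ⟨(Ideal.span_singleton_prime ht0).1 (hspan ▸ RingHom.ker_isPrime Ψ), ?_⟩
  set H := AddSubmonoid.closure (poleOrders P)
  let ι : AddMonoidAlgebra k H →ₐ[k] Polynomial k :=
    (Polynomial.toFinsuppIsoAlg k).symm.toAlgHom.comp (AddMonoidAlgebra.mapDomainAlgHom k k H.subtype)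
  have hι : Function.Injective ι :=
    (Polynomial.toFinsuppIsoAlg k).symm.injective.comp
      (AddMonoidAlgebra.mapDomain_injective Subtype.val_injective)
  have hιs : ∀ (m : H) (b : k), ι (AddMonoidAlgebra.single m b) = Polynomial.monomial (m : ℕ) b := by
    intro m b
    show (Polynomial.toFinsuppIsoAlg k).symm (AddMonoidAlgebra.mapDomain _ _) = _
    rw [AddMonoidAlgebra.mapDomain_single]
    exact Polynomial.ofFinsupp_single _ _
  have hrange : Ψ.range = ι.range := by
    apply le_antisymm
    · rintro _ ⟨r, rfl⟩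
      show Ψ r ∈ ι.range
      rw [Polynomial.as_sum_support (Ψ r)]
      refine sum_mem fun m hm => ?_
      have hmH : m ∈ H := AddSubmonoid.subset_closure (by
        by_contra hnot
        exact Polynomial.mem_support_iff.1 hm (coeff_leadMap_eq_zero_of_notMem P h hπ r hnot))
      exact ⟨AddMonoidAlgebra.single ⟨m, hmH⟩ ((Ψ r).coeff m), hιs _ _⟩
    · rintro _ ⟨p, rfl⟩
      show ι p ∈ Ψ.range
      induction p using AddMonoidAlgebra.induction_linear with
      | zero => rw [map_zero]; exact zero_mem _
      | add p q hp hq => rw [map_add]; exact add_mem hp hq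
      | single m b =>
        have hm : (m : ℕ) ∈ poleOrders P := by
          rw [← closure_poleOrders h]; exact m.2
        obtain ⟨f, hf, hfX⟩ := exists_leadMap_eq_X_pow P h hπ hm
        rw [hιs, ← Polynomial.C_mul_X_pow_eq_monomial, ← hfX, ← Polynomial.smul_eq_C_mul]
        exact Subalgebra.smul_mem _ ((AlgHom.mem_range _).2 ⟨_, rfl⟩) b
  exact ⟨(Ideal.quotientEquivAlgOfEq k (hspan.trans (RingHom.ker_rangeRestrict Ψ.toRingHom).symm)).trans
    ((Ideal.quotientKerAlgEquivOfSurjective (f := Ψ.rangeRestrict) Ψ.rangeRestrict_surjective).trans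
    ((Subalgebra.equivOfEq _ _ hrange).trans (AlgEquiv.ofInjective ι hι).symm))⟩

/-- The irrelevant ideal. -/
noncomputable abbrev irrelevant : Ideal (sectRing (Finsupp.single P 1 : Divisor k K)) :=
  RingHom.ker (Polynomial.constantCoeff.comp
    (sectRing (Finsupp.single P 1 : Divisor k K)).val.toRingHom)

theorem spanFinrank_irrelevant (h : IsFunctionField k K) (hg : 1 ≤ genus k K) :
    (irrelevant P).spanFinrank = Set.ncard (minGens (poleOrders P)) + 1 := by
  classical
  obtain ⟨π, -, hπ⟩ := exists_val_eq P (-1)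
  set R := sectRing (Finsupp.single P 1 : Divisor k K)
  let Ψ : R →ₐ[k] Polynomial k := leadMap P h.1 hπ
  set T : R := ⟨X, X_mem_sectRing P h⟩ with hT
  obtain ⟨h1H, hL1⟩ := one_notMem_poleOrders (P := P) h hg
  have hmem : ∀ r : R, r ∈ irrelevant P ↔ (r : Polynomial K).coeff 0 = 0 := fun r => by
    rw [RingHom.mem_ker]; rfl
  have hfinG : (minGens (poleOrders P)).Finite := by
    refine (Set.finite_Iic (4 * genus k K)).subset fun n hn => ?_
    obtain ⟨hnH, hn0, hmin⟩ := hn
    by_contra hlt
    simp only [Set.mem_Iic, not_le] at hlt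
    exact hmin (2 * genus k K) (mem_poleOrders_of_le h le_rfl) (n - 2 * genus k K)
      (mem_poleOrders_of_le h (by omega)) (by omega) (by omega) (by omega)
  set G := hfinG.toFinset
  have hgen : ∀ n ∈ G, ∃ r : R, Ψ r = X ^ n ∧ (r : Polynomial K).coeff 0 = 0 ∧
      (r : Polynomial K).coeff 1 = 0 := by
    intro n hn
    obtain ⟨hnH, hn0, -⟩ := hfinG.mem_toFinset.1 hn
    have hn1 : n ≠ 1 := fun e => h1H (e ▸ hnH)
    obtain ⟨f, hf, hfX⟩ := exists_leadMap_eq_X_pow P h hπ hnH
    refine ⟨_, hfX, ?_, ?_⟩ <;> show (Polynomial.monomial n f).coeff _ = 0 <;>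
      rw [Polynomial.coeff_monomial, if_neg (by omega)]
  choose gr hgr hgr0 hgr1 using fun n : G => hgen n.1 n.2
  -- upper bound
  set S : Set R := insert T (Set.range gr)
  have hSfin : S.Finite := (Set.finite_range gr).insert T
  have hSle : Ideal.span S ≤ irrelevant P := by
    rw [Ideal.span_le]
    rintro r (rfl | ⟨n, rfl⟩)
    · exact (hmem _).2 Polynomial.coeff_X_zero
    · exact (hmem _).2 (hgr0 n)
  have hH : ∀ m, m ∈ poleOrders P → m ≠ 0 → ∃ r ∈ Ideal.span S, Ψ r = X ^ m := by
    intro m
    induction m using Nat.strong_induction_on with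
    | _ m ih =>
      intro hm hm0
      by_cases hmin : m ∈ minGens (poleOrders P)
      · have hmG : m ∈ G := hfinG.mem_toFinset.2 hmin
        exact ⟨gr ⟨m, hmG⟩, Ideal.subset_span (Or.inr ⟨_, rfl⟩), hgr ⟨m, hmG⟩⟩
      · simp only [minGens, Set.mem_setOf_eq, not_and, not_forall, not_not] at hmin
        obtain ⟨a, haH, b, hbH, ha0, hb0, hab⟩ := hmin hm hm0
        obtain ⟨r, hr, hrX⟩ := ih a (by omega) haH ha0
        obtain ⟨s, -, hsX⟩ := ih b (by omega) hbH hb0
        exact ⟨r * s, Ideal.mul_mem_right _ _ hr, by rw [map_mul, hrX, hsX, ← pow_add, hab]⟩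
  have hle : irrelevant P ≤ Ideal.span S := by
    intro r hr
    rw [hmem] at hr
    have hex : ∀ m : ℕ, ∃ q ∈ Ideal.span S, Ψ q = Polynomial.monomial m ((Ψ r).coeff m) := by
      intro m
      by_cases hz : (Ψ r).coeff m = 0
      · exact ⟨0, zero_mem _, by rw [map_zero, hz, map_zero]⟩
      have hmH : m ∈ poleOrders P := by
        by_contra hnot; exact hz (coeff_leadMap_eq_zero_of_notMem P h hπ r hnot)
      have hm0 : m ≠ 0 := by
        rintro rfl
        refine hz ((coeff_leadMap_eq_zero_iff P h.1 hπ r 0).2 ?_)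
        rw [hr]; exact zero_mem _
      obtain ⟨q, hq, hqX⟩ := hH m hmH hm0
      exact ⟨(Ψ r).coeff m • q, Submodule.smul_of_tower_mem _ _ hq, by
        rw [map_smul, hqX, ← Polynomial.C_mul_X_pow_eq_monomial, Polynomial.smul_eq_C_mul]⟩
    choose q hq hqX using hex
    obtain ⟨w, hw⟩ := (leadMap_eq_zero_iff P h hπ
      (r - ∑ m ∈ (Ψ r).support, q m)).1 (by
        show Ψ _ = 0
        rw [map_sub, map_sum, Finset.sum_congr rfl fun m _ => hqX m, ← Polynomial.as_sum_support,
          sub_self])
    rw [← sub_add_cancel r (∑ m ∈ (Ψ r).support, q m), ← hw]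
    exact add_mem (Ideal.mul_mem_right _ _ (Ideal.subset_span (Or.inl rfl)))
      (sum_mem fun m _ => hq m)
  have hspan : irrelevant P = Ideal.span S := le_antisymm hle hSle
  rw [Set.ncard_eq_toFinset_card _ hfinG]
  refine le_antisymm ?_ ?_
  · rw [hspan]
    refine (Submodule.spanFinrank_span_le_ncard_of_finite hSfin).trans ?_
    refine (Set.ncard_insert_le _ _).trans (Nat.add_le_add_right ?_ 1)
    rw [← Set.image_univ]
    exact (Set.ncard_image_le (Set.finite_univ)).trans_eq (by rw [Set.ncard_univ, Nat.card_eq_fintype_card, Fintype.card_coe])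
  -- lower bound
  let Λ : R →ₗ[k] Option G → K :=
    LinearMap.pi fun o => match o with
      | some n => (Algebra.linearMap k K).comp ((Polynomial.lcoeff k (n : ℕ)).comp Ψ.toLinearMap)
      | none => ((Polynomial.lcoeff K 1).restrictScalars k).comp R.val.toLinearMap
  have hΛn : ∀ (r : R) (n : G), Λ r (some n) = algebraMap k K ((Ψ r).coeff n) := fun _ _ => rfl
  have hΛ1 : ∀ r : R, Λ r none = (r : Polynomial K).coeff 1 := fun _ => rfl
  have hΨ0 : ∀ r : R, (r : Polynomial K).coeff 0 = algebraMap k K ((Ψ r).coeff 0) := by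
    intro r
    have h0 := mem_sectRing_iff.1 r.2 0
    rw [Nat.cast_zero, Finsupp.single_zero, L_zero_eq_one h, Submodule.mem_one] at h0
    obtain ⟨c, hc⟩ := h0
    rw [← hc, coeff_leadMap]
    congr 1
    refine residue_unique P (x := algebraMap k K c) (by simp) ?_
    have := resConst_spec h.1 P ⟨_, mul_pow_mem_O P hπ r.2 0⟩
    simpa [← hc] using this
  have hmul : ∀ a b : R, b ∈ irrelevant P → Λ (a * b) = (Ψ a).coeff 0 • Λ b := by
    intro a b hb
    rw [hmem] at hb
    have hb' : (Ψ b).coeff 0 = 0 :=
      (coeff_leadMap_eq_zero_iff P h.1 hπ b 0).2 (by rw [hb]; exact zero_mem _)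
    funext o
    rw [Pi.smul_apply, Algebra.smul_def]
    match o with
    | none =>
      rw [hΛ1, hΛ1, ← hΨ0]
      show ((a : Polynomial K) * (b : Polynomial K)).coeff 1 = _
      rw [Polynomial.coeff_mul, Finset.Nat.sum_antidiagonal_succ, Finset.Nat.antidiagonal_zero,
        Finset.sum_singleton]
      simp [hb]
    | some n =>
      rw [hΛn, hΛn, ← map_mul (algebraMap k K), map_mul Ψ, Polynomial.coeff_mul]
      congr 1
      refine Finset.sum_eq_single_of_mem (0, (n : ℕ)) (by simp) fun x hx hne => ?_
      rw [Finset.mem_antidiagonal] at hx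
      by_contra hnz
      obtain ⟨h1, h2⟩ := mul_ne_zero_iff.1 hnz
      have hi : x.1 ∈ poleOrders P := by
        by_contra hnot; exact h1 (coeff_leadMap_eq_zero_of_notMem P h hπ a hnot)
      have hj : x.2 ∈ poleOrders P := by
        by_contra hnot; exact h2 (coeff_leadMap_eq_zero_of_notMem P h hπ b hnot)
      have hi0 : x.1 ≠ 0 := fun e => hne (Prod.ext e (by simp [e] at hx; exact hx))
      have hj0 : x.2 ≠ 0 := fun e => h2 (by rw [e]; exact hb')
      exact (hfinG.mem_toFinset.1 n.2).2.2 _ hi _ hj hi0 hj0 hx
  obtain ⟨S', hS'card, hS'⟩ := Submodule.FG.exists_span_finset_card_eq_spanFinrank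
    (p := irrelevant P) (hspan ▸ Submodule.fg_span hSfin)
  let V := Submodule.span k (Λ '' (S' : Set R))
  have hV : ∀ r ∈ irrelevant P, Λ r ∈ V := by
    intro r hr
    rw [← hS'] at hr
    have hr' : r ∈ Ideal.span (S' : Set R) := hr
    clear hr
    induction hr' using Submodule.span_induction with
    | mem x hx => exact Submodule.subset_span ⟨x, hx, rfl⟩
    | zero => rw [map_zero]; exact zero_mem _
    | add x y _ _ hx hy => rw [map_add]; exact add_mem hx hy
    | smul a x hx' hx =>
      rw [smul_eq_mul, hmul a x (hS' ▸ hx')]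
      exact Submodule.smul_mem _ _ hx
  let v : Option G → Option G → K := fun o => Pi.single o 1
  have hv : ∀ o, v o ∈ V := by
    intro o
    match o with
    | none =>
      have : Λ T = v none := by
        funext o
        match o with
        | none => rw [hΛ1]; simp [v, hT]
        | some n =>
          have hT0 : Ψ T = 0 := (leadMap_eq_zero_iff P h hπ T).2 ⟨1, mul_one _⟩
          rw [hΛn, hT0]; simp [v]
      exact this ▸ hV T ((hmem _).2 Polynomial.coeff_X_zero)
    | some n =>
      have : Λ (gr n) = v (some n) := by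
        funext o
        match o with
        | none => rw [hΛ1, hgr1 n]; simp [v]
        | some m =>
          rw [hΛn, hgr n, Polynomial.coeff_X_pow]
          by_cases he : m = n
          · subst he; simp [v]
          · simp [v, he, Subtype.coe_ne_coe.2 he]
      exact this ▸ hV _ ((hmem _).2 (hgr0 n))
  have : Module.Finite k V := Module.Finite.span_of_finite k (S'.finite_toSet.image _)
  have hli : LinearIndependent k (fun o => (⟨v o, hv o⟩ : V)) := by
    refine LinearIndependent.of_comp V.subtype ?_
    exact (Pi.linearIndependent_single_one (Option G) K).restrict_scalars' k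
  have h1 := hli.fintype_card_le_finrank
  rw [Fintype.card_option, Fintype.card_coe] at h1
  have h2 : Module.finrank k V ≤ S'.card := by
    classical
    have := finrank_span_finset_le_card (R := k) (S'.image Λ)
    rw [Finset.coe_image] at this
    exact this.trans Finset.card_image_le
  simp only [G] at h1
  rw [← hS'card]
  exact h1.trans h2

end GrothLib.FunFld
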