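import Groth.Prelude.Def_CAlg
import Groth.Agent.Lib.Gor.Quotient
import Groth.Agent.Lib.GorEquiv.Basic
import Mathlib.RingTheory.Ideal.Quotient.Operations
import Mathlib.RingTheory.Localization.AtPrime.Basic

/-!
Cutting a localisation by a regular sequence of length two down to a quotient of the ring.
-/

universe u

set_option autoImplicit false

namespace GrothLib.GrSectGor

theorem gorenstein_atPrime_iff {R : Type u} [CommRing R] [IsDomain R] [IsNoetherianRing R] (p : Ideal R) [p.IsPrime]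
    {t y : R} (ht0 : t ≠ 0) (htp : t ∈ p) (hyp : y ∈ p) (hpr : (Ideal.span {t}).IsPrime)
    (hy : y ∉ Ideal.span {t}) (hunit : ∀ s ∉ p, IsUnit (Ideal.Quotient.mk (Ideal.span {t, y}) s)) :
    LocCoh.IsGorensteinLocalRing (Localization.AtPrime p) ↔
      LocCoh.IsGorensteinLocalRing (R ⧸ Ideal.span {t, y}) := by
  let A := Localization.AtPrime p
  haveI : IsDomain A := IsLocalization.isDomain_of_atPrime A p
  let t' : A := algebraMap R A t
  have ht' : t' ∈ IsLocalRing.maximalIdeal A := (IsLocalization.AtPrime.to_map_mem_maximal_iff A p t).2 htp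
  have htreg : IsSMulRegular A t' := by
    refine fun a b hab => mul_left_cancel₀ (fun h => ht0 ?_) hab
    exact IsLocalization.injective A (M := p.primeCompl)
      (Ideal.primeCompl_le_nonZeroDivisors p) (h.trans (map_zero _).symm)
  haveI := GrothLib.Gor.isLocalRing_quotient ht' htreg
  let B := A ⧸ Ideal.span {t'}
  let y' : B := Ideal.Quotient.mk _ (algebraMap R A y)
  have hy' : y' ∈ IsLocalRing.maximalIdeal B := by
    rw [← IsLocalRing.map_maximalIdeal_of_surjective (Ideal.Quotient.mk (Ideal.span {t'})) Ideal.Quotient.mk_surjective]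
    exact Ideal.mem_map_of_mem _ ((IsLocalization.AtPrime.to_map_mem_maximal_iff A p y).2 hyp)
  have hmapt : Ideal.map (algebraMap R A) (Ideal.span {t}) = Ideal.span {t'} := by
    rw [Ideal.map_span, Set.image_singleton]
  have hyreg : IsSMulRegular B y' := isSMulRegular_iff_right_eq_zero_of_smul.2 fun z hz => by
    obtain ⟨z, rfl⟩ := Ideal.Quotient.mk_surjective z
    obtain ⟨⟨a, s⟩, rfl⟩ := IsLocalization.mk'_surjective p.primeCompl z
    rw [smul_eq_mul] at hz
    change Ideal.Quotient.mk _ (algebraMap R A y) * Ideal.Quotient.mk _ (IsLocalization.mk' A a s) = 0 at hz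
    rw [← map_mul, Ideal.Quotient.eq_zero_iff_mem, IsLocalization.mul_mk'_eq_mk'_of_mul, ← hmapt,
      IsLocalization.mk'_mem_map_algebraMap_iff] at hz
    obtain ⟨m, hm, hm'⟩ := hz
    have hms : m ∉ Ideal.span {t} := fun h =>
      hm ((Ideal.span_singleton_le_iff_mem p).2 htp h)
    have ha : a ∈ Ideal.span {t} :=
      (hpr.mem_or_mem ((hpr.mem_or_mem hm').resolve_left hms)).resolve_left hy
    rw [Ideal.Quotient.eq_zero_iff_mem, ← hmapt, IsLocalization.mk'_mem_map_algebraMap_iff]
    exact ⟨1, p.primeCompl.one_mem, by rwa [one_mul]⟩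
  rw [← show _ ↔ LocCoh.IsGorensteinLocalRing A from
    ⟨fun h => @GrothLib.Gor.isGorensteinLocalRing_of_quotient A _ _ _ t' ht' htreg h,
      fun h => @GrothLib.Gor.isGorensteinLocalRing_quotient A _ _ _ t' ht' htreg h⟩]
  haveI := GrothLib.Gor.isLocalRing_quotient hy' hyreg
  rw [← show _ ↔ LocCoh.IsGorensteinLocalRing B from
    ⟨fun h => @GrothLib.Gor.isGorensteinLocalRing_of_quotient B _ _ _ y' hy' hyreg h,
      fun h => @GrothLib.Gor.isGorensteinLocalRing_quotient B _ _ _ y' hy' hyreg h⟩]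
  set J : Ideal R := Ideal.span {t, y} with hJ
  let φ : R →+* A ⧸ Ideal.map (algebraMap R A) J := (Ideal.Quotient.mk _).comp (algebraMap R A)
  have hinv : ∀ s : p.primeCompl, ∃ s' : R, (s : R) * s' - 1 ∈ J := fun s => by
    obtain ⟨v, hv⟩ := (hunit s s.2).exists_right_inv
    obtain ⟨s', rfl⟩ := Ideal.Quotient.mk_surjective v
    exact ⟨s', by rw [← Ideal.Quotient.eq, map_mul, map_one, hv]⟩
  have hφ : Function.Surjective φ := fun z => by
    obtain ⟨z, rfl⟩ := Ideal.Quotient.mk_surjective z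
    obtain ⟨⟨a, s⟩, rfl⟩ := IsLocalization.mk'_surjective p.primeCompl z
    obtain ⟨s', hs'⟩ := hinv s
    refine ⟨a * s', ?_⟩
    change Ideal.Quotient.mk _ (algebraMap R A (a * s')) = Ideal.Quotient.mk _ (IsLocalization.mk' A a s)
    rw [Ideal.Quotient.eq, map_mul, ← IsLocalization.mk'_spec A a s, mul_assoc, ← map_mul, ← mul_sub_one,
      ← map_one (algebraMap R A), ← map_sub]
    exact Ideal.mul_mem_left _ _ (Ideal.mem_map_of_mem _ hs')
  have hker : RingHom.ker φ = J := by
    ext x
    rw [RingHom.mem_ker, RingHom.comp_apply, Ideal.Quotient.eq_zero_iff_mem,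
      IsLocalization.algebraMap_mem_map_algebraMap_iff p.primeCompl]
    refine ⟨fun ⟨s, hs, hsx⟩ => ?_, fun hx => ⟨1, p.primeCompl.one_mem, by rwa [one_mul]⟩⟩
    obtain ⟨s', hs'⟩ := hinv ⟨s, hs⟩
    have h1 : x = s' * (s * x) - x * (s * s' - 1) := by ring
    rw [h1]
    exact sub_mem (J.mul_mem_left _ hsx) (J.mul_mem_left _ hs')
  have hJmap : Ideal.span {t'} ⊔ Ideal.span {algebraMap R A y} = Ideal.map (algebraMap R A) J := by
    rw [hJ, Ideal.map_span, Set.image_pair, ← Ideal.span_insert]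
  have hspany : (Ideal.span {algebraMap R A y}).map (Ideal.Quotient.mk (Ideal.span {t'})) = Ideal.span {y'} := by
    rw [Ideal.map_span, Set.image_singleton]
  let e : (B ⧸ Ideal.span {y'}) ≃+* R ⧸ J :=
    (Ideal.quotEquivOfEq hspany.symm).trans ((DoubleQuot.quotQuotEquivQuotSup _ _).trans
      ((Ideal.quotEquivOfEq hJmap).trans
        ((Ideal.quotEquivOfEq hker.symm).trans (RingHom.quotientKerEquivOfSurjective hφ)).symm))
  exact ⟨fun h => @GrothLib.GorEquiv.of_ringEquiv _ _ _ _ e h,
    fun h => @GrothLib.GorEquiv.of_ringEquiv _ _ _ _ e.symm h⟩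

end GrothLib.GrSectGor
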