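import Groth.Agent.Lib.FunFld.GrSect
import Groth.Agent.Lib.FunFld.GrSectGorTools
import Groth.Agent.Lib.Segre.GorTools
import Groth.Agent.Lib.GrLC.CanonGor
import Groth.Agent.Lib.Gor.Liaison

/-!
The section ring of a point is Gorenstein iff the Weierstrass semigroup is symmetric.
-/

set_option autoImplicit false
set_option linter.style.haveILetI false

universe u

open CategoryTheory
open _root_.FunFld WithZero W4c6gradedringsgw
open GrothLib.FunFld
open Polynomial (C X)

namespace GrothLib.GrSectGor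

variable {k K : Type u} [Field k] [IsAlgClosed k] [Field K] [Algebra k K]

/-- The section ring of a point. -/
noncomputable abbrev SR (P : Place k K) : Subalgebra k (Polynomial K) := sectRing (Finsupp.single P 1 : Divisor k K)

variable (P : Place k K)

/-- Homogeneous pieces. -/
def pr (n : ℤ) : Submodule k (SR P) where
  carrier := {r | ∀ i : ℕ, (i : ℤ) ≠ n → (r : Polynomial K).coeff i = 0}
  add_mem' := fun {r s} hr hs i hi => by simp [hr i hi, hs i hi]
  zero_mem' := fun i _ => by simp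
  smul_mem' := fun c r hr i hi => by simp [hr i hi]

theorem mem_pr_iff {n : ℤ} {r : SR P} :
    r ∈ pr P n ↔ ∀ i : ℕ, (i : ℤ) ≠ n → (r : Polynomial K).coeff i = 0 := Iff.rfl

theorem mem_pr_nat {n : ℕ} {r : SR P} :
    r ∈ pr P n ↔ (r : Polynomial K) = Polynomial.monomial n ((r : Polynomial K).coeff n) := by
  rw [mem_pr_iff]
  constructor
  · intro hr
    ext i
    rw [Polynomial.coeff_monomial]
    split_ifs with hi
    · rw [hi]
    · exact hr i (by exact_mod_cast Ne.symm hi)
  · intro he i hi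
    rw [he, Polynomial.coeff_monomial, if_neg fun e => hi (by rw [e])]

theorem pr_neg {n : ℤ} (hn : n < 0) : pr P n = ⊥ := by
  refine (Submodule.eq_bot_iff _).2 fun r hr => Subtype.ext (Polynomial.ext fun i => ?_)
  rw [hr i (by omega)]; simp

instance gradedMonoid : SetLike.GradedMonoid (pr P) where
  one_mem i hi := by
    show (1 : Polynomial K).coeff i = 0
    rw [Polynomial.coeff_one, if_neg (by exact_mod_cast hi)]
  mul_mem m n a b ha hb i hi := by
    show ((a : Polynomial K) * (b : Polynomial K)).coeff i = 0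
    rw [Polynomial.coeff_mul]
    refine Finset.sum_eq_zero fun x hx => ?_
    rw [Finset.mem_antidiagonal] at hx
    by_cases h1 : (x.1 : ℤ) = m
    · rw [hb x.2 (by omega), mul_zero]
    · rw [ha x.1 h1, zero_mul]

theorem exists_piece (r : SR P) (i : ℕ) :
    ∃ s : SR P, s ∈ pr P i ∧ (s : Polynomial K) = Polynomial.monomial i ((r : Polynomial K).coeff i) := by
  refine ⟨⟨_, monomial_mem_sectRing P (mem_sectRing_iff.1 r.2 i)⟩, fun j hj => ?_, rfl⟩
  show (Polynomial.monomial i _).coeff j = 0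
  rw [Polynomial.coeff_monomial, if_neg fun e => hj (by rw [e])]

theorem isInternal_pr : DirectSum.IsInternal (pr P) := by
  classical
  rw [DirectSum.isInternal_submodule_iff_iSupIndep_and_iSup_eq_top]
  constructor
  · rw [iSupIndep_def]
    intro n
    rw [disjoint_iff, Submodule.eq_bot_iff]
    rintro r ⟨h1, h2⟩
    refine Subtype.ext (Polynomial.ext fun i => ?_)
    by_cases hi : (i : ℤ) = n
    · have hle : (⨆ (j) (_ : j ≠ n), pr P j) ≤
          LinearMap.ker (((Polynomial.lcoeff K i).restrictScalars k).comp (SR P).val.toLinearMap) :=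
        iSup₂_le fun j hj x hx => hx i fun e => hj (e.symm.trans hi)
      simpa using hle h2
    · simpa using h1 i hi
  · refine eq_top_iff.2 fun r _ => ?_
    choose s hs hse using exists_piece P r
    have : r = ∑ i ∈ (r : Polynomial K).support, s i := Subtype.ext (by
      push_cast
      simp only [hse]
      exact Polynomial.as_sum_support _)
    rw [this]
    exact sum_mem fun i _ => Submodule.mem_iSup_of_mem (i : ℤ) (hs i)

noncomputable instance gradedAlgebra : GradedAlgebra (pr P) :=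
  { gradedMonoid P, (isInternal_pr P).chooseDecomposition with }

variable (hK : IsFunctionField k K)
include hK

/-- The leading coefficient map. -/
noncomputable def lead : SR P →ₐ[k] Polynomial k :=
  leadMap P hK.1 (exists_val_eq P (-1)).choose_spec.2

theorem lead_coeff_eq_zero_iff (r : SR P) (n : ℕ) :
    (lead P hK r).coeff n = 0 ↔ (r : Polynomial K).coeff n ∈ L (Finsupp.single P ((n : ℤ) - 1)) :=
  coeff_leadMap_eq_zero_iff P hK.1 _ r n

theorem mem_of_lead_ne_zero {r : SR P} {n : ℕ} (h : (lead P hK r).coeff n ≠ 0) : n ∈ poleOrders P := by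
  by_contra hn
  exact h (coeff_leadMap_eq_zero_of_notMem P hK _ r hn)

/-- The element `T`. -/
noncomputable def T : SR P := ⟨X, X_mem_sectRing P hK⟩

theorem lead_eq_zero_iff (r : SR P) : lead P hK r = 0 ↔ r ∈ Ideal.span {T P hK} :=
  (leadMap_eq_zero_iff P hK _ r).trans
    (Ideal.mem_span_singleton'.trans (exists_congr fun s => by rw [mul_comm]; rfl)).symm

theorem lead_T : lead P hK (T P hK) = 0 := (lead_eq_zero_iff P hK _).2 (Ideal.subset_span rfl)

theorem span_T_isPrime : (Ideal.span {T P hK}).IsPrime := by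
  have : Ideal.span {T P hK} = RingHom.ker (lead P hK) := by
    ext r; rw [RingHom.mem_ker, lead_eq_zero_iff]
  rw [this]; exact RingHom.ker_isPrime _

theorem exists_mono {n : ℕ} (hn : n ∈ poleOrders P) :
    ∃ r : SR P, r ∈ pr P n ∧ lead P hK r = X ^ n := by
  obtain ⟨f, hf, he⟩ := exists_leadMap_eq_X_pow P hK (exists_val_eq P (-1)).choose_spec.2 hn
  refine ⟨_, fun i hi => ?_, he⟩
  show (Polynomial.monomial n f).coeff i = 0
  rw [Polynomial.coeff_monomial, if_neg fun e => hi (by rw [e])]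

theorem coeff_zero_mem (r : SR P) : (r : Polynomial K).coeff 0 ∈ (1 : Submodule k K) := by
  have := mem_sectRing_iff.1 r.2 0
  rwa [Nat.cast_zero, Finsupp.single_zero, L_zero_eq_one hK] at this

theorem pr_zero : pr P 0 = Submodule.span k {(1 : SR P)} := by
  refine le_antisymm (fun r hr => ?_) ((Submodule.span_singleton_le_iff_mem _ _).2 SetLike.GradedOne.one_mem)
  obtain ⟨c, hc⟩ := Submodule.mem_one.1 (coeff_zero_mem P hK r)
  refine Submodule.mem_span_singleton.2 ⟨c, ?_⟩
  rw [← Algebra.algebraMap_eq_smul_one]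
  refine Subtype.ext ?_
  show algebraMap k (Polynomial K) c = _
  rw [Polynomial.algebraMap_apply, hc, (mem_pr_nat P).1 hr, Polynomial.monomial_zero_left,
    Polynomial.coeff_C_zero]

theorem zero_lead_iff (r : SR P) : (lead P hK r).coeff 0 = 0 ↔ (r : Polynomial K).coeff 0 = 0 := by
  rw [lead_coeff_eq_zero_iff, IsFG.L_eq_bot_of_deg_neg hK.1 (by
    rw [deg_single, IsFG.deg_eq_one hK.1 P]; simp), Submodule.mem_bot]

theorem poleOrders_add {a b : ℕ} (ha : a ∈ poleOrders P) (hb : b ∈ poleOrders P) : a + b ∈ poleOrders P := by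
  rw [← closure_poleOrders hK] at ha hb ⊢
  exact add_mem ha hb

/-- The section ring is of finite type. -/
theorem finiteType (hg : 1 ≤ genus k K) : Algebra.FiniteType k (SR P) := by
  classical
  set g := genus k K
  have hmono : ∀ n : ℕ, ∃ r : SR P, n ∈ poleOrders P → r ∈ pr P n ∧ lead P hK r = X ^ n := fun n => by
    by_cases hn : n ∈ poleOrders P
    · exact (exists_mono P hK hn).imp fun r hr _ => hr
    · exact ⟨0, fun h => absurd h hn⟩
  choose mono hmono using hmono
  let S : Finset (SR P) := insert (T P hK) ((Finset.range (4 * g + 1)).image mono)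
  set B := Algebra.adjoin k (S : Set (SR P))
  have hH : ∀ n, n ∈ poleOrders P → ∃ r ∈ B, r ∈ pr P n ∧ lead P hK r = X ^ n := by
    intro n
    induction n using Nat.strong_induction_on with
    | _ n ih =>
      intro hn
      by_cases hle : n ≤ 4 * g
      · exact ⟨mono n, Algebra.subset_adjoin (Finset.mem_insert_of_mem
          (Finset.mem_image_of_mem _ (Finset.mem_range.2 (by omega)))), hmono n hn⟩
      obtain ⟨r, hrB, hr, hrX⟩ := ih (2 * g) (by omega) (mem_poleOrders_of_le hK le_rfl)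
      obtain ⟨s, hsB, hs, hsX⟩ := ih (n - 2 * g) (by omega) (mem_poleOrders_of_le hK (by omega))
      refine ⟨r * s, mul_mem hrB hsB, ?_, by rw [map_mul, hrX, hsX, ← pow_add]; congr 1; omega⟩
      have := SetLike.mul_mem_graded hr hs
      rwa [← Nat.cast_add, show 2 * g + (n - 2 * g) = n by omega] at this
  have hall : ∀ n : ℕ, ∀ r ∈ pr P n, r ∈ B := by
    intro n
    induction n with
    | zero =>
      intro r hr
      rw [Nat.cast_zero, pr_zero P hK] at hr
      obtain ⟨c, rfl⟩ := Submodule.mem_span_singleton.1 hr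
      exact B.smul_mem (one_mem B) c
    | succ n ih =>
      intro r hr
      obtain ⟨s, hsB, hs, hsc⟩ : ∃ s ∈ B, s ∈ pr P (n + 1 : ℕ) ∧
          (lead P hK s).coeff (n + 1) = (lead P hK r).coeff (n + 1) := by
        by_cases hc : (lead P hK r).coeff (n + 1) = 0
        · exact ⟨0, zero_mem _, zero_mem _, by simp [hc]⟩
        obtain ⟨s, hsB, hs, hsX⟩ := hH _ (mem_of_lead_ne_zero P hK hc)
        exact ⟨_, B.smul_mem hsB ((lead P hK r).coeff (n + 1)), Submodule.smul_mem _ _ hs, by simp [hsX]⟩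
      have hd : ((r - s : SR P) : Polynomial K).coeff (n + 1) ∈ L (Finsupp.single P (n : ℤ)) := by
        have h1 : (lead P hK (r - s)).coeff (n + 1) = 0 := by rw [map_sub, Polynomial.coeff_sub, hsc, sub_self]
        rw [lead_coeff_eq_zero_iff] at h1
        simpa using h1
      set d : SR P := ⟨_, monomial_mem_sectRing P hd⟩
      have hdp : d ∈ pr P n := (mem_pr_nat P).2 (by simp [d])
      have he : r - s = T P hK * d := Subtype.ext (by
        have h2 := (mem_pr_nat P).1 (sub_mem hr hs)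
        rw [h2]
        show _ = X * Polynomial.monomial n _
        rw [Polynomial.X_mul_monomial])
      rw [← sub_add_cancel r s, he]
      exact add_mem (mul_mem (Algebra.subset_adjoin (Finset.mem_insert_self _ _)) (ih _ hdp)) hsB
  refine ⟨⟨S, eq_top_iff.2 fun r _ => ?_⟩⟩
  choose s hs hse using exists_piece P r
  have : r = ∑ i ∈ (r : Polynomial K).support, s i := Subtype.ext (by
    push_cast
    simp only [hse]
    exact Polynomial.as_sum_support _)
  rw [this]
  exact sum_mem fun i _ => hall i _ (hs i)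

/-- The irrelevant ideal. -/
noncomputable def irr : HomogeneousIdeal (pr P) :=
  ⟨Ideal.span (⋃ n ∈ Set.Ioi (0 : ℤ), (pr P n : Set (SR P))), Ideal.homogeneous_span _ _ fun x hx => by
    obtain ⟨n, -, hn⟩ := Set.mem_iUnion₂.1 hx
    exact ⟨n, hn⟩⟩

theorem mem_irr_iff (r : SR P) : r ∈ (irr P).toIdeal ↔ (lead P hK r).coeff 0 = 0 := by
  rw [zero_lead_iff]
  constructor
  · intro hr
    have hle : Ideal.span (⋃ n ∈ Set.Ioi (0 : ℤ), (pr P n : Set (SR P))) ≤
        RingHom.ker (Polynomial.constantCoeff.comp (SR P).val.toRingHom) := by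
      rw [Ideal.span_le]
      intro x hx
      obtain ⟨n, hn, hx⟩ := Set.mem_iUnion₂.1 hx
      exact hx 0 (by have : (0 : ℤ) < n := hn; omega)
    exact hle hr
  · intro h0
    choose s hs hse using exists_piece P r
    have : r = ∑ i ∈ (r : Polynomial K).support, s i := Subtype.ext (by
      push_cast
      simp only [hse]
      exact Polynomial.as_sum_support _)
    rw [this]
    refine sum_mem fun i hi => Ideal.subset_span (Set.mem_iUnion₂.2 ⟨i, ?_, hs i⟩)
    have : i ≠ 0 := fun e => Polynomial.mem_support_iff.1 hi (e ▸ h0)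
    simp only [Set.mem_Ioi]
    omega

/-- Apéry elements with respect to `h`. -/
def Ap (h i : ℕ) : Prop := i ∈ poleOrders P ∧ ¬ (h ≤ i ∧ i - h ∈ poleOrders P)

variable {h : ℕ} {y : SR P}

theorem Ap_lt {i : ℕ} (hi : Ap P h i) : i < 2 * genus k K + h := by
  by_contra hlt
  exact hi.2 ⟨by omega, mem_poleOrders_of_le hK (by omega)⟩

theorem mem_J_iff (hy : lead P hK y = X ^ h) (r : SR P) :
    r ∈ Ideal.span {T P hK, y} ↔ ∀ i, Ap P h i → (lead P hK r).coeff i = 0 := by
  classical
  constructor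
  · intro hr i hi
    obtain ⟨a, b, rfl⟩ := Ideal.mem_span_pair.1 hr
    rw [map_add, map_mul, lead_T, mul_zero, zero_add, map_mul, hy, Polynomial.coeff_mul_X_pow']
    split_ifs with hle
    · by_contra hne
      exact hi.2 ⟨hle, mem_of_lead_ne_zero P hK hne⟩
    · rfl
  · intro h0
    have hw : ∀ i ∈ (lead P hK r).support, ∃ w : SR P,
        lead P hK (w * y) = Polynomial.monomial i ((lead P hK r).coeff i) := by
      intro i hi
      have hne := Polynomial.mem_support_iff.1 hi
      have hAp : ¬ Ap P h i := fun hA => hne (h0 i hA)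
      obtain ⟨hle, hH⟩ : h ≤ i ∧ i - h ∈ poleOrders P :=
        not_not.1 fun hn => hAp ⟨mem_of_lead_ne_zero P hK hne, hn⟩
      obtain ⟨m, -, hm⟩ := exists_mono P hK hH
      refine ⟨(lead P hK r).coeff i • m, ?_⟩
      rw [map_mul, map_smul, hm, hy, smul_mul_assoc, ← pow_add, Nat.sub_add_cancel hle,
        Polynomial.smul_eq_C_mul, Polynomial.C_mul_X_pow_eq_monomial]
    choose! w hw using hw
    have hker : r - ∑ i ∈ (lead P hK r).support, w i * y ∈ Ideal.span {T P hK} := by
      rw [← lead_eq_zero_iff, map_sub, map_sum, Finset.sum_congr rfl hw, ← Polynomial.as_sum_support, sub_self]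
    rw [← sub_add_cancel r (∑ i ∈ (lead P hK r).support, w i * y)]
    exact add_mem (Ideal.span_mono (by simp) hker)
      (sum_mem fun i _ => Ideal.mul_mem_left _ _ (Ideal.subset_span (by simp)))

theorem isUnit_mk_of_notMem (hy : lead P hK y = X ^ h) {s : SR P} (hs : s ∉ (irr P).toIdeal) :
    IsUnit (Ideal.Quotient.mk (Ideal.span {T P hK, y}) s) := by
  rw [mem_irr_iff P hK] at hs
  set c := (lead P hK s).coeff 0
  set n := s - algebraMap k (SR P) c with hn
  have hn0 : (lead P hK n).coeff 0 = 0 := by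
    rw [hn, map_sub, AlgHom.commutes, Polynomial.coeff_sub, Polynomial.algebraMap_apply, Polynomial.coeff_C_zero]
    simp [c]
  obtain ⟨q, hq⟩ := Polynomial.X_dvd_iff.2 hn0
  have hnil : IsNilpotent (Ideal.Quotient.mk (Ideal.span {T P hK, y}) n) := by
    refine ⟨2 * genus k K + h, ?_⟩
    rw [← map_pow, Ideal.Quotient.eq_zero_iff_mem, mem_J_iff P hK hy]
    intro i hi
    have := Ap_lt P hK hi
    rw [map_pow, hq, mul_pow, mul_comm, Polynomial.coeff_mul_X_pow', if_neg (by omega)]
  have hsn : s = algebraMap k (SR P) c + n := by rw [hn, add_sub_cancel]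
  rw [hsn, map_add]
  refine hnil.isUnit_add_left_of_commute (((IsUnit.mk0 c hs).map (algebraMap k (SR P))).map _) ?_
  rw [commute_iff_eq, ← map_mul, ← map_mul, mul_comm]

/-- The top element of the Apéry set. -/
def IsTop (h D : ℕ) : Prop := Ap P h D ∧ ∀ i, Ap P h i → ∃ a ∈ poleOrders P, i + a = D

theorem isSymmetric_iff_top (hh0 : 0 < h) (hh : h ∈ poleOrders P) :
    IsSymmetric (poleOrders P) ↔ ∃ D, IsTop P h D := by
  constructor
  · rintro ⟨d, hd⟩
    have h0 : (0 : ℕ) ∈ poleOrders P := zero_mem_poleOrders hK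
    obtain ⟨D, hDH, hD⟩ : ∃ D ∈ poleOrders P, (D : ℤ) = d + h := by
      by_contra hno
      obtain ⟨a, -, ha⟩ := (hd (-(h : ℤ))).2 (by
        rintro ⟨a, haH, ha⟩; exact hno ⟨a, haH, by omega⟩)
      omega
    refine ⟨D, ⟨hDH, fun ⟨hle, hH⟩ => ?_⟩, fun i hi => ?_⟩
    · exact (hd 0).1 ⟨0, h0, rfl⟩ ⟨D - h, hH, by omega⟩
    · by_contra hno
      have hnot : ¬ ∃ a ∈ poleOrders P, (a : ℤ) = (i : ℤ) - h := by
        rintro ⟨a, haH, ha⟩
        exact hi.2 ⟨by omega, by rwa [show i - h = a by omega]⟩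
      refine hnot ((hd _).2 ?_)
      rintro ⟨a, haH, ha⟩
      exact hno ⟨a, haH, by omega⟩
  · rintro ⟨D, hD, htop⟩
    refine ⟨(D : ℤ) - h, fun n => ⟨?_, fun hn => ?_⟩⟩
    · rintro ⟨a, haH, rfl⟩ ⟨b, hbH, hb⟩
      exact hD.2 ⟨by omega, by rw [show D - h = a + b by omega]; exact poleOrders_add P hK haH hbH⟩
    · by_contra hno
      classical
      have hex : ∃ k' : ℕ, ∃ a ∈ poleOrders P, (a : ℤ) = n + k' * h := by
        refine ⟨2 * genus k K + n.natAbs, (n + (2 * genus k K + n.natAbs : ℕ) * h).toNat, ?_, ?_⟩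
        all_goals
          have h1 : ((2 * genus k K + n.natAbs : ℕ) : ℤ) * 1 ≤ ((2 * genus k K + n.natAbs : ℕ) : ℤ) * h :=
            mul_le_mul_of_nonneg_left (by omega) (by omega)
        · refine mem_poleOrders_of_le hK ?_
          omega
        · omega
      obtain ⟨a, haH, ha⟩ := Nat.find_spec hex
      obtain ⟨m, hm⟩ : ∃ m, Nat.find hex = m + 1 := Nat.exists_eq_succ_of_ne_zero fun h0 =>
        hno ⟨a, haH, by rw [ha, h0]; simp⟩
      have hAp : Ap P h a := ⟨haH, fun ⟨hle, hH⟩ => Nat.find_min hex (show m < Nat.find hex by omega)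
        ⟨a - h, hH, by rw [Nat.cast_sub hle, ha, hm]; push_cast; ring⟩⟩
      obtain ⟨b, hbH, hb⟩ := htop a hAp
      have hmh : ∀ j : ℕ, j * h ∈ poleOrders P := fun j => by
        induction j with
        | zero => simpa using zero_mem_poleOrders hK
        | succ j ih => rw [Nat.succ_mul]; exact poleOrders_add P hK ih hh
      refine hn ⟨b + m * h, poleOrders_add P hK hbH (hmh m), ?_⟩
      rw [hm] at ha
      push_cast at ha ⊢
      rw [add_mul, one_mul] at ha
      omega

theorem finite_quotient (hy : lead P hK y = X ^ h) : Module.Finite k (SR P ⧸ Ideal.span {T P hK, y}) := by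
  classical
  let c : SR P →ₗ[k] Fin (2 * genus k K + h) → k := LinearMap.pi fun i =>
    if Ap P h i then (Polynomial.lcoeff k (i : ℕ)).comp (lead P hK).toLinearMap else 0
  have hc : ∀ r, c r = 0 ↔ r ∈ Ideal.span {T P hK, y} := fun r => by
    rw [mem_J_iff P hK hy, funext_iff]
    refine ⟨fun h0 i hi => ?_, fun h0 i => ?_⟩
    · simpa [c, hi] using h0 ⟨i, Ap_lt P hK hi⟩
    · by_cases hi : Ap P h i
      · simp [c, hi, h0 i hi]
      · simp [c, hi]
  let cQ : (SR P ⧸ Ideal.span {T P hK, y}) →ₗ[k] Fin (2 * genus k K + h) → k :=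
    Submodule.liftQ ((Ideal.span {T P hK, y}).restrictScalars k) c fun r hr => (hc r).2 hr
  refine Module.Finite.of_injective cQ ((injective_iff_map_eq_zero cQ).2 fun a ha => ?_)
  obtain ⟨r, rfl⟩ := Ideal.Quotient.mk_surjective a
  exact Ideal.Quotient.eq_zero_iff_mem.2 ((hc r).1 ha)

theorem injective_of_top (hy : lead P hK y = X ^ h) {D : ℕ} (hD : IsTop P h D) :
    Module.Injective (SR P ⧸ Ideal.span {T P hK, y}) (SR P ⧸ Ideal.span {T P hK, y}) := by
  haveI := finite_quotient P hK hy
  set J := Ideal.span {T P hK, y}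
  let ε : (SR P ⧸ J) →ₗ[k] k := Submodule.liftQ (J.restrictScalars k)
    ((Polynomial.lcoeff k D).comp (lead P hK).toLinearMap) fun r hr => (mem_J_iff P hK hy r).1 hr D hD.1
  have hε : ∀ r, ε (Ideal.Quotient.mk J r) = (lead P hK r).coeff D := fun _ => rfl
  let Φ : (SR P ⧸ J) →ₗ[k] Module.Dual k (SR P ⧸ J) :=
    LinearMap.mk₂ k (fun a b => ε (a * b)) (fun a b c => by rw [add_mul, map_add])
      (fun t a b => by rw [smul_mul_assoc, map_smul]) (fun a b c => by rw [mul_add, map_add])
      (fun t a b => by rw [mul_smul_comm, map_smul])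
  have hinj : Function.Injective Φ := (injective_iff_map_eq_zero Φ).2 fun a ha => by
    obtain ⟨r, rfl⟩ := Ideal.Quotient.mk_surjective a
    rw [Ideal.Quotient.eq_zero_iff_mem, mem_J_iff P hK hy]
    intro i hi
    obtain ⟨b, hbH, hb⟩ := hD.2 i hi
    obtain ⟨m, -, hm⟩ := exists_mono P hK hbH
    have h1 := LinearMap.congr_fun ha (Ideal.Quotient.mk J m)
    change ε (Ideal.Quotient.mk J r * Ideal.Quotient.mk J m) = 0 at h1
    rwa [← map_mul, hε, map_mul, hm, ← hb, Polynomial.coeff_mul_X_pow] at h1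
  have hsurj : Function.Surjective Φ :=
    (LinearMap.injective_iff_surjective_of_finrank_eq_finrank Subspace.dual_finrank_eq.symm).1 hinj
  refine Module.Baer.injective fun I g => ?_
  obtain ⟨φ, hφ⟩ := LinearMap.exists_extend (p := I.restrictScalars k)
    (ε.comp (g.restrictScalars k) : I.restrictScalars k →ₗ[k] k)
  obtain ⟨c, hc⟩ := hsurj φ
  refine ⟨LinearMap.toSpanSingleton (SR P ⧸ J) _ c, fun x hx => hinj (LinearMap.ext fun z => ?_)⟩
  have h2 : ε (g ⟨z * x, I.mul_mem_left z hx⟩) = φ (z * x) :=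
    (LinearMap.congr_fun hφ ⟨z * x, I.mul_mem_left z hx⟩).symm
  have h3 : g ⟨z * x, I.mul_mem_left z hx⟩ = z * g ⟨x, hx⟩ := g.map_smul z ⟨x, hx⟩
  rw [h3, ← hc] at h2
  show ε (x • c * z) = ε (g ⟨x, hx⟩ * z)
  rw [mul_comm (g ⟨x, hx⟩), h2]
  show _ = ε (c * (z * x))
  rw [smul_eq_mul]
  congr 1
  ring

theorem top_of_gorenstein (hy : lead P hK y = X ^ h) (hh0 : 0 < h)
    [LocCoh.IsGorensteinLocalRing (SR P ⧸ Ideal.span {T P hK, y})] : ∃ D, IsTop P h D := by
  classical
  haveI := finite_quotient P hK hy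
  haveI : IsArtinianRing (SR P ⧸ Ideal.span {T P hK, y}) := IsArtinianRing.of_finite k _
  set J := Ideal.span {T P hK, y}
  -- socle elements
  let Soc : ℕ → Prop := fun M => Ap P h M ∧ ∀ b ∈ poleOrders P, 0 < b → ¬ Ap P h (M + b)
  have hkill : ∀ M (m : SR P), Soc M → lead P hK m = X ^ M → ∀ r : SR P, (lead P hK r).coeff 0 = 0 →
      r * m ∈ J := fun M m hM hm r hr => by
    rw [mem_J_iff P hK hy]
    intro i hi
    rw [map_mul, hm, Polynomial.coeff_mul_X_pow']
    split_ifs with hle
    · by_contra hne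
      refine hM.2 (i - M) (mem_of_lead_ne_zero P hK hne) ?_ (by rwa [Nat.add_sub_cancel' hle])
      exact Nat.pos_of_ne_zero fun e => hne (by rw [e]; exact hr)
    · rfl
  have huniq : ∀ M M', Soc M → Soc M' → M ≤ M' → M = M' := fun M M' hM hM' hle => by
    obtain ⟨m, -, hm⟩ := exists_mono P hK hM.1.1
    obtain ⟨m', -, hm'⟩ := exists_mono P hK hM'.1.1
    have hmne : Ideal.Quotient.mk J m ≠ 0 := fun e => by
      have := (mem_J_iff P hK hy m).1 (Ideal.Quotient.eq_zero_iff_mem.1 e) M hM.1
      simp [hm] at this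
    have hmem : Ideal.Quotient.mk J m' ∈ Ideal.span {Ideal.Quotient.mk J m} := by
      refine @GrothLib.Gor.mem_of_mul_annihilator (SR P ⧸ J) _ ‹_› ?_ _ _ fun a ha => ?_
      · haveI : Nontrivial (SR P ⧸ J) := ⟨⟨_, 0, hmne⟩⟩
        exact le_antisymm (Ring.krullDimLE_iff.1 inferInstance) ringKrullDim_nonneg_of_nontrivial
      obtain ⟨r, rfl⟩ := Ideal.Quotient.mk_surjective a
      have hr0 : (lead P hK r).coeff 0 = 0 := by
        by_contra hne
        refine hmne ((IsUnit.mul_right_eq_zero ?_).1 (ha _ (Ideal.subset_span rfl)))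
        exact isUnit_mk_of_notMem P hK hy fun hmem => hne ((mem_irr_iff P hK r).1 hmem)
      rw [← map_mul, Ideal.Quotient.eq_zero_iff_mem]
      exact hkill M' m' hM' hm' r hr0
    obtain ⟨c, hc⟩ := Ideal.mem_span_singleton'.1 hmem
    obtain ⟨c, rfl⟩ := Ideal.Quotient.mk_surjective c
    rw [← map_mul, Ideal.Quotient.eq] at hc
    have h1 := (mem_J_iff P hK hy _).1 hc M' hM'.1
    rw [map_sub, Polynomial.coeff_sub, map_mul, hm, hm', Polynomial.coeff_X_pow, if_pos rfl,
      Polynomial.coeff_mul_X_pow', if_pos hle, sub_eq_zero] at h1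
    by_contra hne
    exact hM.2 (M' - M) (mem_of_lead_ne_zero P hK (by rw [h1]; exact one_ne_zero)) (by omega)
      (by rw [Nat.add_sub_cancel' hle]; exact hM'.1)
  have hmax : ∀ i, Ap P h i → ∃ a ∈ poleOrders P, Soc (i + a) := fun i hi => by
    let Pr : ℕ → Prop := fun a => a ∈ poleOrders P ∧ Ap P h (i + a)
    have h0 : Pr 0 := ⟨zero_mem_poleOrders hK, hi⟩
    obtain ⟨haH, haAp⟩ := Nat.findGreatest_spec (P := Pr) (Nat.zero_le (2 * genus k K + h)) h0
    refine ⟨_, haH, haAp, fun b hbH hb0 hAp => ?_⟩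
    have hle := Nat.le_findGreatest (P := Pr) (m := Nat.findGreatest Pr (2 * genus k K + h) + b)
      (n := 2 * genus k K + h) (by have := Ap_lt P hK hAp; omega)
      ⟨poleOrders_add P hK haH hbH, by rwa [← add_assoc]⟩
    omega
  obtain ⟨a₀, -, ha₀⟩ := hmax 0 ⟨zero_mem_poleOrders hK, fun ⟨hle, _⟩ => by omega⟩
  refine ⟨0 + a₀, ha₀.1, fun i hi => ?_⟩
  obtain ⟨a, haH, ha⟩ := hmax i hi
  refine ⟨a, haH, ?_⟩
  rcases le_total (i + a) (0 + a₀) with hle | hle
  · exact huniq _ _ ha ha₀ hle
  · exact (huniq _ _ ha₀ ha hle).symm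

end GrothLib.GrSectGor
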