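import Groth.Agent.Lib.FunFld.GrSectGor

/-!
Gorenstein section rings and symmetric semigroups.
-/

set_option autoImplicit false
set_option linter.style.haveILetI false

universe u

open _root_.FunFld W4c6gradedringsgw
open GrothLib.FunFld

namespace GrothLib.GrSectGor

theorem gorenstein_iff_symmetric {k K : Type u} [Field k] [IsAlgClosed k] [Field K] [Algebra k K]
    (hK : IsFunctionField k K) (hg : 1 ≤ genus k K) (P : Place k K) :
    LocCoh.IsGorensteinRing (SR P) ↔ IsSymmetric (poleOrders P) := by
  haveI := finiteType P hK hg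
  haveI : IsNoetherianRing (SR P) := Algebra.FiniteType.isNoetherianRing k _
  have hpos : ∀ n : ℤ, n < 0 → pr P n = ⊥ := fun n hn => pr_neg P hn
  have h0 := pr_zero P hK
  have hm : (irr P).toIdeal = Ideal.span (⋃ n ∈ Set.Ioi (0 : ℤ), (pr P n : Set (SR P))) := rfl
  haveI hmax : (irr P).toIdeal.IsMaximal := GrothLib.Segre.isMaximal hpos h0 hm
  set h := 2 * genus k K with hh
  have hh0 : 0 < h := by omega
  have hhH : h ∈ poleOrders P := mem_poleOrders_of_le hK le_rfl
  obtain ⟨y, -, hy⟩ := exists_mono P hK hhH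
  have hT0 : T P hK ≠ 0 := fun e => by
    have : ((T P hK : SR P) : Polynomial K) = 0 := by rw [e]; rfl
    exact Polynomial.X_ne_zero this
  have hTm : T P hK ∈ (irr P).toIdeal := (mem_irr_iff P hK _).2 (by rw [lead_T, Polynomial.coeff_zero])
  have hym : y ∈ (irr P).toIdeal := (mem_irr_iff P hK _).2 (by
    rw [hy, Polynomial.coeff_X_pow, if_neg (by omega)])
  have hyT : y ∉ Ideal.span {T P hK} := fun hmem => by
    have := (lead_eq_zero_iff P hK y).2 hmem
    rw [hy] at this
    exact pow_ne_zero _ Polynomial.X_ne_zero this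
  have hiff := gorenstein_atPrime_iff (irr P).toIdeal hT0 hTm hym (span_T_isPrime P hK) hyT
    fun s hs => isUnit_mk_of_notMem P hK hy hs
  rw [isSymmetric_iff_top P hK hh0 hhH]
  constructor
  · intro hG
    haveI := hiff.1 (hG.isGorensteinLocalRing_localization (irr P).toIdeal)
    exact top_of_gorenstein P hK hy hh0
  · rintro ⟨D, hD⟩
    refine GrothLib.GrLC.isGorensteinRing_of_irrelevant (GrothLib.Segre.pos' hpos)
      (GrothLib.Segre.isField_deg0 h0) (GrothLib.Segre.isStarLocal_irrel hpos h0 hm) (GrothLib.Segre.irr' hm) (hiff.2 ?_)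
    haveI := injective_of_top P hK hy hD
    haveI := finite_quotient P hK hy
    haveI : IsArtinianRing (SR P ⧸ Ideal.span {T P hK, y}) := IsArtinianRing.of_finite k _
    haveI : IsLocalRing (SR P ⧸ Ideal.span {T P hK, y}) := by
      haveI : Nontrivial (SR P ⧸ Ideal.span {T P hK, y}) := Ideal.Quotient.nontrivial_iff.2 fun e =>
        hmax.ne_top (eq_top_iff.2 (e.ge.trans (Ideal.span_le.2 (Set.insert_subset hTm (Set.singleton_subset_iff.2 hym)))))
      refine IsLocalRing.of_isUnit_or_isUnit_one_sub_self fun a => ?_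
      obtain ⟨r, rfl⟩ := Ideal.Quotient.mk_surjective a
      by_cases hr : r ∈ (irr P).toIdeal
      · refine Or.inr ?_
        rw [← map_one (Ideal.Quotient.mk _), ← map_sub]
        refine isUnit_mk_of_notMem P hK hy fun hmem => hmax.ne_top ((Ideal.eq_top_iff_one _).2 ?_)
        simpa using add_mem hmem hr
      · exact Or.inl (isUnit_mk_of_notMem P hK hy hr)
    haveI : CategoryTheory.Injective (ModuleCat.of (SR P ⧸ Ideal.span {T P hK, y}) (SR P ⧸ Ideal.span {T P hK, y})) :=
      Module.injective_object_of_injective_module _ _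
    exact ⟨⟨1, CategoryTheory.injective_iff_hasInjectiveDimensionLT_one.1 inferInstance⟩⟩

end GrothLib.GrSectGor
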