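import Groth.Agent.Lib.FunFld.WeierstrassPts

/-!
Points of high contact of a complete linear system.
-/

set_option autoImplicit false
set_option linter.style.haveILetI false

namespace GrothLib.FunFld

open _root_.FunFld

variable {k K : Type*} [Field k] [Field K] [Algebra k K]

/-- An effective divisor of degree zero is zero. -/
theorem eq_zero_of_nonneg_of_deg (h : IsFG k K) {D : Divisor k K} (hD : 0 ≤ D) (hdeg : D.deg = 0) : D = 0 := by
  classical
  ext P
  by_contra hP
  have hmem : P ∈ D.support := Finsupp.mem_support_iff.2 hP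
  have hs : ∑ R ∈ D.support, D R * (R.deg : ℤ) = 0 := hdeg
  have := (Finset.sum_eq_zero_iff_of_nonneg fun R _ => mul_nonneg (hD R) (Int.natCast_nonneg _)).1 hs P hmem
  rcases mul_eq_zero.1 this with h1 | h1
  · exact hP h1
  · have := h.deg_pos P; omega

/-- A nonzero element of a degree-zero `L(E)` has divisor `-E`. -/
theorem ord_eq_neg_of_deg_zero (h : IsFG k K) {E : Divisor k K} (hE : E.deg = 0) {x : K} (hx : x ≠ 0)
    (hxE : x ∈ L E) (R : Place k K) : R.ord x = -E R := by
  have h1 : div k x + E = 0 := eq_zero_of_nonneg_of_deg h (fun S => by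
    have := (mem_L_iff_ord hx).1 hxE S
    rw [Finsupp.add_apply, h.div_apply]; simpa using this) (by
    rw [deg_add, h.deg_div, hE, add_zero])
  have := congrArg (fun D : Divisor k K => D R) h1
  simp only [Finsupp.add_apply, h.div_apply, Finsupp.zero_apply] at this
  omega

variable [IsAlgClosed k]

/-- In characteristic zero only finitely many places carry a function of `L(D)` vanishing there to order at
least `ℓ(D)`. -/
theorem finite_high_contact (hK : IsFunctionField k K) (hchar : ringChar k = 0) {D : Divisor k K} (hD : 0 ≤ D) :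
    {Q : Place k K | D Q = 0 ∧ ∃ g : K, g ≠ 0 ∧ g ∈ L D ∧ (ell D : ℤ) ≤ Q.ord g}.Finite := by
  classical
  have := IsFG.finite_L hK.1 D
  have h1D : (1 : K) ∈ L D := (mem_L_iff_ord one_ne_zero).2 fun R => by
    rw [ord_one]; simpa using hD R
  obtain ⟨n, hn⟩ : ∃ n, Module.finrank k (L D) = n + 1 := by
    refine ⟨Module.finrank k (L D) - 1, ?_⟩
    have : 0 < Module.finrank k (L D) := Module.finrank_pos_iff_exists_ne_zero.2
      ⟨⟨1, h1D⟩, fun h0 => one_ne_zero (congrArg Subtype.val h0)⟩
    omega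
  let b := Module.finBasisOfFinrankEq k (L D) hn
  set φ : Fin (n + 1) → K := fun i => (b i : K)
  have hφ : LinearIndependent k φ := b.linearIndependent.map' (L D).subtype (Submodule.ker_subtype _)
  have hspan : Submodule.span k (Set.range φ) = L D := by
    rw [show Set.range φ = (L D).subtype '' Set.range b from Set.range_comp _ _, Submodule.span_image, b.span_eq,
      Submodule.map_top, Submodule.range_subtype]
  obtain ⟨P0⟩ := IsFG.exists_place hK.1
  obtain ⟨s, H, -, hH⟩ := exists_parameter_hasse hK P0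
  obtain ⟨J, hJ, -⟩ := exists_isOrders_det hH hK (isGeometric_of_perfectField hK) hφ (AlgHom.id k K)
  have hexp : ∀ Q : Place k K, ∃ ψ : K →ₐ[k] LaurentSeries k, _root_.LocRes.IsExpansionAt Q.1 ψ := fun Q => by
    obtain ⟨t, -, ht, -⟩ := exists_parameter_hasse hK Q
    obtain ⟨ψ, hψ, -⟩ := exists_expansion_closed hK.1 ht
    exact ⟨ψ, hψ⟩
  choose Φ hΦ using hexp
  set W := wDiv (AlgHom.id k K) H Φ s φ J with hW
  refine (W.support.finite_toSet).subset ?_
  rintro Q ⟨hQ0, g, hg0, hg, hord⟩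
  rw [Finset.mem_coe, Finsupp.mem_support_iff]
  have hJeq := isOrders_classical hK hφ (Or.inl hchar) hH hJ
  obtain ⟨t, Ht, ht, hHt⟩ := exists_parameter_hasse hK Q
  have hsmul : (1 : K) • φ = φ := one_smul K φ
  have heff : (1 : K) ∈ Submodule.span k (Set.range φ) := hspan ▸ h1D
  have hnorm : ∀ i, val Q (φ i) ≤ 1 := fun i => by
    have := (b i).2 Q
    rwa [hQ0, WithZero.exp_zero] at this
  obtain ⟨J', hJ'⟩ := exists_isOrders_at hK hφ ht hHt heff hnorm
  obtain ⟨hpos, hlt⟩ := orders_at_lt_char hK hφ one_ne_zero (by rwa [hsmul]) (by rwa [hsmul]) ht hHt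
    (by rwa [hsmul]) (Or.inl hchar)
  obtain ⟨hJy, he⟩ := wDiv_apply_local hK hφ hH hJ hΦ (one_ne_zero (α := K)) ht hHt (P := Q)
  rw [hsmul] at hJy he
  have hfix : IsFixedPt (AlgHom.id k K) Q := fun z hz => hz
  have hw := ((sum_sub_le_wDiv hK hφ hfix heff hnorm ht hHt hJy hJ' hΦ).2.2 (Or.inl rfl)).2
    (by rw [hJeq]; exact det_binomMat_id_ne_zero hJ'.1 hpos hlt)
  rw [hW, he, hw, hJeq]
  have hlow : ∀ (a : ℕ) (h : a < n), a + 1 ≤ J' ⟨a, h⟩ := by
    intro a
    induction a with
    | zero => intro h; exact hpos _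
    | succ a ih =>
      intro h
      have := ih (by omega)
      have : J' ⟨a, by omega⟩ < J' ⟨a + 1, h⟩ := hJ'.1 (Fin.mk_lt_mk.2 (Nat.lt_succ_self _))
      omega
  have hl : (n + 1 : ℤ) ≤ Q.ord g := by
    have : ell D = n + 1 := hn
    omega
  obtain ⟨a, ha⟩ := (hJ'.2 (Q.ord g).toNat).2 ((isJump_hcolAt_iff hK ht hHt hnorm _).2
    ⟨by omega, g, hspan ▸ hg, by rw [val_eq Q hg0, Int.toNat_of_nonneg (by omega)]⟩)
  intro h0
  rw [Finset.sum_eq_zero_iff_of_nonneg fun l _ => by
    have := hlow l.1 l.2; simp only [Fin.eta] at this; push_cast; omega] at h0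
  have h2 := h0 a (Finset.mem_univ _)
  push_cast at h2
  have := a.2
  omega

/-- On a curve of genus one only finitely many `Q` have `n Q` linearly equivalent to `n P`. -/
theorem finite_torsion_translate (hK : IsFunctionField k K) (hchar : ringChar k = 0) (hg : genus k K = 1)
    (P : Place k K) {n : ℕ} (hn : 1 ≤ n) :
    {Q : Place k K | Q ≠ P ∧ ∃ g : K, g ≠ 0 ∧ g ∈ L (Finsupp.single P (n : ℤ) : Divisor k K) ∧
      (n : ℤ) ≤ Q.ord g}.Finite := by
  classical
  have hP : P.deg = 1 := IsFG.deg_eq_one hK.1 P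
  have hell : (ell (Finsupp.single P (n : ℤ) : Divisor k K) : ℤ) = n := by
    rw [ell_eq_of_deg_ge hK (by rw [deg_single, hP, hg]; omega), deg_single, hP, hg]; simp
  refine (finite_high_contact hK hchar (D := Finsupp.single P (n : ℤ))
    (Finsupp.single_nonneg.2 (Int.natCast_nonneg n))).subset ?_
  rintro Q ⟨hQ, g, hg0, hgL, hord⟩
  exact ⟨Finsupp.single_eq_of_ne hQ, g, hg0, hgL, hell.le.trans hord⟩

end GrothLib.FunFld
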