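import Groth.Agent.Lib.FunFld.Hyperelliptic

/-!
Hyperelliptic function fields presented as `k(x, y)`.
-/

set_option autoImplicit false
set_option linter.style.haveILetI false
set_option linter.unusedSectionVars false

namespace GrothLib.FunFld

open _root_.FunFld WithZero Polynomial
open IntermediateField (adjoin)

universe u v

variable {k : Type u} {K : Type v} [Field k] [Field K] [Algebra k K]

theorem exists_ratFunc_structure {x y : K} (hx : Transcendental k x)
    (hxy : adjoin k ({x, y} : Set K) = ⊤) {f : k[X]} (hf : Squarefree f) (hd : 1 ≤ f.natDegree)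
    (heq : y ^ 2 = aeval x f) :
    ∃ (_ : Algebra (RatFunc k) K) (_ : IsScalarTower k (RatFunc k) K),
      algebraMap (RatFunc k) K RatFunc.X = x ∧ Module.finrank (RatFunc k) K = 2 ∧
      y ^ 2 = algebraMap (RatFunc k) K (algebraMap k[X] (RatFunc k) f) := by
  let e := RatFunc.algEquivOfTranscendental x hx
  let φ : RatFunc k →ₐ[k] K := (IntermediateField.val _).comp e.toAlgHom
  letI alg : Algebra (RatFunc k) K := φ.toRingHom.toAlgebra
  haveI tow : IsScalarTower k (RatFunc k) K := IsScalarTower.of_algebraMap_eq fun c => (φ.commutes c).symm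
  have hX : algebraMap (RatFunc k) K RatFunc.X = x := by
    show ((e RatFunc.X : adjoin k ({x} : Set K)) : K) = x
    rw [RatFunc.algEquivOfTranscendental_X]
  have hpoly : ∀ g : k[X], algebraMap (RatFunc k) K (algebraMap k[X] (RatFunc k) g) = aeval x g := fun g => by
    rw [← aeval_X_eq, ← Polynomial.aeval_algebraMap_apply K (RatFunc.X : RatFunc k) g, hX]
  refine ⟨alg, tow, hX, ?_, (heq.trans (hpoly f).symm)⟩
  have htop : adjoin (RatFunc k) ({y} : Set K) = ⊤ := by
    apply IntermediateField.restrictScalars_injective k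
    rw [IntermediateField.restrictScalars_top, eq_top_iff, ← hxy, IntermediateField.adjoin_le_iff]
    rintro z (rfl | rfl)
    · exact (hX ▸ IntermediateField.algebraMap_mem (adjoin (RatFunc k) ({y} : Set K)) RatFunc.X :)
    · exact IntermediateField.mem_adjoin_simple_self _ _
  have hroot : aeval y (X ^ 2 - C (algebraMap k[X] (RatFunc k) f)) = 0 := by
    rw [map_sub, map_pow, aeval_X, aeval_C, hpoly, heq, sub_self]
  have hmon : (X ^ 2 - C (algebraMap k[X] (RatFunc k) f)).Monic := monic_X_pow_sub_C _ two_ne_zero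
  have hint : IsIntegral (RatFunc k) y := ⟨_, hmon, hroot⟩
  have hfin : Module.finrank (RatFunc k) K = (minpoly (RatFunc k) y).natDegree := by
    rw [← IntermediateField.finrank_top', ← htop, IntermediateField.adjoin.finrank hint]
  have hle : (minpoly (RatFunc k) y).natDegree ≤ 2 :=
    (natDegree_le_of_dvd (minpoly.dvd _ y hroot) hmon.ne_zero).trans (natDegree_X_pow_sub_C).le
  refine le_antisymm (hfin ▸ hle) (hfin ▸ (minpoly.two_le_natDegree_iff hint).mpr ?_)
  rintro ⟨r, rfl⟩
  rw [← map_pow, ← hpoly] at heq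
  have hr : r ^ 2 = algebraMap k[X] (RatFunc k) f := (algebraMap (RatFunc k) K).injective heq
  obtain ⟨p, hp, hpf⟩ := WfDvdMonoid.exists_irreducible_factor
    (show ¬ IsUnit f from fun hu => by rw [natDegree_eq_zero_of_isUnit hu] at hd; omega) hf.ne_zero
  obtain ⟨P, hP, hpos⟩ := exists_finite_place_of_irreducible hp
  obtain ⟨q, hq, hq1, hiff⟩ := exists_prime hP
  have hpos' : 0 < P.ord (algebraMap k[X] (RatFunc k) f) := (hiff f hf.ne_zero).mpr
    (((hiff p hp.ne_zero).mp hpos).trans hpf)
  have h1 := (ord_squarefree_le_one hP hf).2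
  rw [← hr, ord_pow] at h1 hpos'
  omega

theorem isFunctionField_hyper (h2 : ringChar k ≠ 2) {x y : K} (hx : Transcendental k x)
    (hxy : adjoin k ({x, y} : Set K) = ⊤) {f : k[X]} (hf : Squarefree f) (hd : 1 ≤ f.natDegree)
    (heq : y ^ 2 = aeval x f) : IsFunctionField k K := by
  obtain ⟨_, _, hX, hdeg, heq'⟩ := exists_ratFunc_structure hx hxy hf hd heq
  have hq := isQuad_hyper hdeg hf hd heq'
  haveI := hq.finite
  refine ⟨isFG_extension (K := RatFunc k) isFG_ratFunc, fun z hz =>
    hq.algebraic_mem_range (hyper_splits h2 hdeg hf hd heq') ?_ z hz⟩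
  rw [deg_hyperE]; omega

theorem genus_hyper (hK : IsFunctionField k K) (h2 : ringChar k ≠ 2) {x y : K} (hx : Transcendental k x)
    (hxy : adjoin k ({x, y} : Set K) = ⊤) {f : k[X]} (hf : Squarefree f) (hd : 1 ≤ f.natDegree)
    (heq : y ^ 2 = aeval x f) : genus k K = (f.natDegree - 1) / 2 := by
  obtain ⟨_, _, hX, hdeg, heq'⟩ := exists_ratFunc_structure hx hxy hf hd heq
  have hg := (isQuad_hyper hdeg hf hd heq').genus_eq (hyper_splits h2 hdeg hf hd heq') hK
  rw [deg_hyperE] at hg
  omega

end GrothLib.FunFld
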