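import Groth.Agent.Lib.FunFld.QuadGenus
import Mathlib.FieldTheory.RatFunc.Degree

/-!
Hyperelliptic function fields in characteristic not two.
-/

set_option autoImplicit false
set_option linter.style.haveILetI false
set_option linter.unusedSectionVars false

namespace GrothLib.FunFld

open _root_.FunFld WithZero Polynomial

variable {k K : Type*} [Field k] [Field K] [Algebra k K] [Algebra (RatFunc k) K]
  [IsScalarTower k (RatFunc k) K]

local notation "ι" => algebraMap k[X] (RatFunc k)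

variable (h2 : ringChar k ≠ 2) (hdeg : Module.finrank (RatFunc k) K = 2) {y : K} {f : k[X]}
  (hf : Squarefree f) (hd : 1 ≤ f.natDegree)
  (heq : y ^ 2 = algebraMap (RatFunc k) K (algebraMap k[X] (RatFunc k) f))

include h2 in
theorem val_four (P : Place k (RatFunc k)) : val P (4 : RatFunc k) = 1 := by
  rw [show (4 : RatFunc k) = algebraMap k (RatFunc k) 4 by rw [map_ofNat]]
  refine val_const P ?_
  rw [show (4 : k) = 2 * 2 by norm_num]
  exact mul_ne_zero (Ring.two_ne_zero h2) (Ring.two_ne_zero h2)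

include hdeg hf hd heq in
theorem isQuad_hyper : IsQuad y (0 : RatFunc k) (-ι f) := by
  refine ⟨hdeg, ?_, by rw [map_zero, zero_mul, add_zero, map_neg, heq, add_neg_cancel]⟩
  rintro ⟨r, rfl⟩
  rw [← map_pow] at heq
  have hr : r ^ 2 = ι f := (algebraMap (RatFunc k) K).injective heq
  obtain ⟨p, hp, hpf⟩ := WfDvdMonoid.exists_irreducible_factor
    (show ¬ IsUnit f from fun hu => by rw [natDegree_eq_zero_of_isUnit hu] at hd; omega) hf.ne_zero
  obtain ⟨P, hP, hpos⟩ := exists_finite_place_of_irreducible hp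
  obtain ⟨q, hq, hq1, hiff⟩ := exists_prime hP
  have hpos' : 0 < P.ord (ι f) := (hiff f hf.ne_zero).mpr
    (((hiff p hp.ne_zero).mp hpos).trans hpf)
  have h1 := (ord_squarefree_le_one hP hf).2
  rw [← hr, ord_pow] at h1 hpos'
  omega

include heq hf in
theorem two_mul_ord {P₀ : Place k (RatFunc k)} {P : Place k K} {e : ℕ} (he : IsOverWith P P₀ e) :
    2 * P.ord y = (e : ℤ) * P₀.ord (ι f) := by
  haveI : IsScalarTower k (RatFunc k) K := inferInstance
  rw [show (2 : ℤ) * P.ord y = P.ord (y ^ 2) by rw [ord_pow]; push_cast; ring, heq]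
  show -log (P.1 _) = (e : ℤ) * -log (P₀.1 _)
  rw [he, log_pow]; simp

/-- `⌈deg f / 2⌉` times the infinite place. -/
noncomputable def hyperE (f : k[X]) : Divisor k (RatFunc k) :=
  Finsupp.single (exists_inf (k := k)).choose (((f.natDegree + 1) / 2 : ℕ) : ℤ)

theorem deg_hyperE (f : k[X]) : (hyperE f).deg = (((f.natDegree + 1) / 2 : ℕ) : ℤ) := by
  rw [hyperE, deg_single, (inf_props (exists_inf (k := k)).choose_spec).1]; simp

theorem hyperE_apply (f : k[X]) (P₀ : Place k (RatFunc k)) :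
    (0 ≤ P₀.ord (RatFunc.X : RatFunc k) → hyperE f P₀ = 0) ∧
    (P₀.ord (RatFunc.X : RatFunc k) < 0 → hyperE f P₀ = (((f.natDegree + 1) / 2 : ℕ) : ℤ)) := by
  classical
  have hspec := (exists_inf (k := k)).choose_spec
  constructor
  · intro h
    rw [hyperE, Finsupp.single_apply, if_neg]
    intro hh; subst hh; exact absurd hspec (not_lt.mpr h)
  · intro h
    rw [hyperE, Finsupp.single_apply, if_pos]
    by_contra hne
    exact absurd ((inf_props h).2.2.1 _ hne) (not_le.mpr hspec)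

include h2 hdeg hf hd heq

theorem hyper_unramified (P₀ : Place k (RatFunc k)) (hev : Even (P₀.ord (ι f)))
    (a b : RatFunc k) (n : ℤ) :
    ((∀ (P : Place k K) (e : ℕ), IsOverWith P P₀ e →
        val P (algebraMap (RatFunc k) K a + algebraMap (RatFunc k) K b * y) ≤ exp ((e : ℤ) * n)) ↔
      val P₀ a ≤ exp n ∧ val P₀ b ≤ exp (n - (-(P₀.ord (ι f))) / 2)) ∧
    ∀ P : Place k K, IsOver P P₀ → IsOverWith P P₀ 1 := by
  have hq := isQuad_hyper hdeg hf hd heq
  obtain ⟨r, hr⟩ := hev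
  have hF : ι f ≠ 0 := RatFunc.algebraMap_ne_zero hf.ne_zero
  have hv : val P₀ (ι f) = exp (2 * ((-(P₀.ord (ι f))) / 2)) := by
    rw [val_eq P₀ hF]; congr 1; omega
  refine hq.bound_iff_exp isFG_ratFunc P₀ (by rw [map_zero]; exact zero_le) ?_ ?_ a b n
  · rw [Valuation.map_neg, hv]
  · rw [zero_pow two_ne_zero, mul_neg, sub_neg_eq_add, zero_add, map_mul, val_four h2, one_mul, hv]

theorem hyper_ramified (P₀ : Place k (RatFunc k)) (hodd : Odd (P₀.ord (ι f))) :
    (∀ P : Place k K, IsOver P P₀ → IsOverWith P P₀ 2 ∧ P.deg = P₀.deg) ∧ (∃! P : Place k K, IsOver P P₀) ∧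
    ∀ (a b : RatFunc k) (n : ℤ), ((∀ (P : Place k K) (e : ℕ), IsOverWith P P₀ e →
        val P (algebraMap (RatFunc k) K a + algebraMap (RatFunc k) K b * y) ≤ exp ((e : ℤ) * n)) ↔
      val P₀ a ≤ exp n ∧ val P₀ b ≤ exp (n + P₀.ord (ι f) / 2)) := by
  have hq := isQuad_hyper hdeg hf hd heq
  have := fun a b n => hq.odd_iff isFG_ratFunc P₀ hodd (fun P e he => two_mul_ord hf heq he) a b n
  exact ⟨(this 0 0 0).1, (this 0 0 0).2.1, fun a b n => (this a b n).2.2⟩

theorem hyper_splits : IsQuad.Splits y (hyperE f) := by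
  intro P₀ a b n
  rcases Int.even_or_odd (P₀.ord (ι f)) with hev | hodd
  · rw [(hyper_unramified h2 hdeg hf hd heq P₀ hev a b n).1]
    suffices (-(P₀.ord (ι f))) / 2 = hyperE f P₀ by rw [this]
    rcases lt_or_ge (P₀.ord (RatFunc.X : RatFunc k)) 0 with hX | hX
    · rw [(hyperE_apply f P₀).2 hX, ord_poly_inf hX hf.ne_zero] at *
      obtain ⟨r, hr⟩ := hev
      omega
    · obtain ⟨h0, h1⟩ := ord_squarefree_le_one hX hf
      obtain ⟨r, hr⟩ := hev
      rw [(hyperE_apply f P₀).1 hX]; omega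
  · rw [(hyper_ramified h2 hdeg hf hd heq P₀ hodd).2.2 a b n]
    suffices P₀.ord (ι f) / 2 = -hyperE f P₀ by rw [this, ← sub_eq_add_neg]
    obtain ⟨r, hr⟩ := hodd
    rcases lt_or_ge (P₀.ord (RatFunc.X : RatFunc k)) 0 with hX | hX
    · rw [(hyperE_apply f P₀).2 hX]
      rw [ord_poly_inf hX hf.ne_zero] at hr ⊢
      omega
    · obtain ⟨h0, h1⟩ := ord_squarefree_le_one hX hf
      rw [(hyperE_apply f P₀).1 hX]; omega

theorem hyper_ord_y (P : Place k K) :
    (0 < P.ord y → P.ord y = 1) ∧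
    (0 < P.ord y ↔ ∃ P₀ : Place k (RatFunc k), IsOver P P₀ ∧ 0 ≤ P₀.ord (RatFunc.X : RatFunc k) ∧
      0 < P₀.ord (ι f)) := by
  haveI := (isQuad_hyper hdeg hf hd heq).finite
  obtain ⟨P₀, e, he0, he⟩ := exists_isOverWith (K := RatFunc k) P
  have key := two_mul_ord hf heq he
  have hfin : 0 < P₀.ord (ι f) → 0 ≤ P₀.ord (RatFunc.X : RatFunc k) := fun hF => not_lt.mp fun hX => by
    rw [ord_poly_inf hX hf.ne_zero] at hF; omega
  have hpos : 0 < P.ord y ↔ 0 < P₀.ord (ι f) := by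
    constructor <;> intro h
    · nlinarith
    · nlinarith
  refine ⟨fun hy => ?_, fun hy => ⟨P₀, ⟨e, he⟩, hfin (hpos.mp hy), hpos.mp hy⟩, ?_⟩
  · have hF := hpos.mp hy
    have h1 : P₀.ord (ι f) = 1 := by have := (ord_squarefree_le_one (hfin hF) hf).2; omega
    rw [h1, mul_one] at key
    have := ((isQuad_hyper hdeg hf hd heq).ramIdx_facts isFG_ratFunc P₀).2.1 P e he
    omega
  · rintro ⟨P₁, ⟨e₁, he₁⟩, -, hF⟩
    obtain ⟨rfl, -⟩ := isOverWith_unique he he₁
    exact hpos.mpr hF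

omit [IsScalarTower k (RatFunc k) K] in
theorem hyper_infinite [IsScalarTower k (RatFunc k) K] (Pinf : Place k (RatFunc k))
    (hinf : Pinf.ord (RatFunc.X : RatFunc k) < 0) :
    (Odd f.natDegree → (∃! P : Place k K, IsOver P Pinf) ∧
      ∀ P : Place k K, IsOver P Pinf → IsOverWith P Pinf 2 ∧ P.deg = 1) ∧
    (Even f.natDegree → (conorm K (Finsupp.single Pinf 1)).deg = 2 ∧
      ∀ P : Place k K, IsOver P Pinf → IsOverWith P Pinf 1) := by
  haveI := (isQuad_hyper hdeg hf hd heq).finite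
  obtain ⟨hd1, -, -, -⟩ := inf_props hinf
  have hF := ord_poly_inf hinf hf.ne_zero
  refine ⟨fun ho => ?_, fun hev => ?_⟩
  · obtain ⟨hall, hu, -⟩ := hyper_ramified h2 hdeg hf hd heq Pinf (by
      rw [hF, odd_neg]; exact_mod_cast ho)
    exact ⟨hu, fun P hP => ⟨(hall P hP).1, (hall P hP).2.trans hd1⟩⟩
  · refine ⟨?_, (hyper_unramified h2 hdeg hf hd heq Pinf (by rw [hF, even_neg]; exact_mod_cast hev) 0 0 0).2⟩
    rw [deg_conorm isFG_ratFunc, deg_single, hd1, hdeg]; norm_num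

end GrothLib.FunFld
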