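import Groth.Agent.Lib.FunFld.Embedding
import Mathlib.RingTheory.MvPolynomial.Homogeneous
import Mathlib.RingTheory.MvPolynomial.EulerIdentity
import Mathlib.Algebra.MvPolynomial.PDeriv
import Mathlib.LinearAlgebra.Matrix.Adjugate

/-!
The Jacobian criterion for nonsingularity of projective maps at a place.
-/

set_option autoImplicit false
set_option linter.style.haveILetI false

namespace GrothLib.FunFld

open _root_.FunFld MvPolynomial

variable {k K : Type*} [Field k] [Field K] [Algebra k K] {ι : Type*} [Fintype ι]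

/-- A first-order expansion at a rational point. -/
theorem exists_taylor_one [DecidableEq ι] (r : ι → k) (p : MvPolynomial ι k) :
    ∃ A : ι → MvPolynomial ι k, p = C (eval r p) + ∑ l, A l * (X l - C (r l)) ∧
      ∀ l, eval r (A l) = eval r (pderiv l p) := by
  induction p using MvPolynomial.induction_on with
  | C a => exact ⟨0, by simp, fun l => by simp⟩
  | add p q hp hq =>
    obtain ⟨A, hA, hA'⟩ := hp
    obtain ⟨B, hB, hB'⟩ := hq
    refine ⟨A + B, ?_, fun l => by simp [hA' l, hB' l]⟩
    simp only [Pi.add_apply, map_add, add_mul, Finset.sum_add_distrib]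
    nth_rewrite 1 [hA, hB]
    abel
  | mul_X p m hp =>
    obtain ⟨A, hA, hA'⟩ := hp
    refine ⟨fun l => A l * X m + if m = l then C (eval r p) else 0, ?_, fun l => ?_⟩
    · rw [map_mul, eval_X, map_mul]
      simp only [add_mul, Finset.sum_add_distrib, ite_mul, zero_mul, Finset.sum_ite_eq, Finset.mem_univ, if_true]
      have hS : ∑ l, A l * X m * (X l - C (r l)) = (p - C (eval r p)) * X m := by
        rw [show p - C (eval r p) = ∑ l, A l * (X l - C (r l)) by nth_rewrite 1 [hA]; abel, Finset.sum_mul]
        exact Finset.sum_congr rfl fun l _ => by ring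
      rw [hS]
      ring
    · rw [map_add, map_mul, eval_X, hA' l, pderiv_mul, map_add, map_mul, eval_X]
      by_cases h : m = l
      · subst h; simp
      · simp [h]

/-- Values at `P` against values at the point. -/
theorem val_aeval_sub_lt {x : ι → K} {r : ι → k} (P : Place k K)
    (hr : ∀ l, val P (x l - algebraMap k K (r l)) < 1) (p : MvPolynomial ι k) :
    val P (aeval x p - algebraMap k K (eval r p)) < 1 := by
  classical
  have hx : ∀ l, val P (x l) ≤ 1 := fun l => by
    have := (val P).map_add (x l - algebraMap k K (r l)) (algebraMap k K (r l))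
    rw [sub_add_cancel] at this
    exact this.trans (max_le (hr l).le (P.2.1 _))
  have hint : ∀ q : MvPolynomial ι k, val P (aeval x q) ≤ 1 := fun q => by
    induction q using MvPolynomial.induction_on with
    | C a => rw [aeval_C]; exact P.2.1 a
    | add a b ha hb => rw [map_add]; exact ((val P).map_add _ _).trans (max_le ha hb)
    | mul_X a m ha => rw [map_mul, map_mul, aeval_X]; exact mul_le_one' ha (hx m)
  obtain ⟨A, hA, -⟩ := exists_taylor_one r p
  nth_rewrite 1 [hA]
  rw [map_add, aeval_C, add_sub_cancel_left, map_sum]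
  refine (val P).map_sum_lt one_ne_zero fun l _ => ?_
  rw [map_mul, map_mul, map_sub, aeval_X, aeval_C]
  exact mul_lt_one_of_nonneg_of_lt_one_right (hint _) zero_le (hr l)

/-- A polynomial in the ratios lies in the chart. -/
theorem aeval_mem_chart (φ : ι → K) (j : ι) (p : MvPolynomial ι k) :
    aeval (fun i => φ i / φ j) p ∈ chart k φ j := by
  induction p using MvPolynomial.induction_on with
  | C a => rw [aeval_C]; exact Subalgebra.algebraMap_mem _ a
  | add a b ha hb => rw [map_add]; exact add_mem ha hb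
  | mul_X a m ha => rw [map_mul, aeval_X]; exact mul_mem ha (ratio_mem_chart φ m j)

theorem exists_aeval_eq_of_mem_chart {φ : ι → K} {j : ι} {z : K} (hz : z ∈ chart k φ j) :
    ∃ p : MvPolynomial ι k, aeval (fun i => φ i / φ j) p = z := by
  rw [chart, Algebra.adjoin_range_eq_range_aeval] at hz
  exact hz

/-- Every chart element is the value of forms of every large degree. -/
theorem exists_form_of_mem_chart {φ : ι → K} {j : ι} (hj : φ j ≠ 0) {z : K} (hz : z ∈ chart k φ j) :
    ∃ N, ∀ M, N ≤ M → ∃ H : MvPolynomial ι k, H.IsHomogeneous M ∧ aeval (fun i => φ i / φ j) H = z := by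
  obtain ⟨p, rfl⟩ := exists_aeval_eq_of_mem_chart hz
  induction p using MvPolynomial.induction_on with
  | C a =>
    refine ⟨0, fun M _ => ⟨C a * X j ^ M, (isHomogeneous_C_mul_X_pow a j M), ?_⟩⟩
    simp [hj]
  | add p q hp hq =>
    obtain ⟨N, hN⟩ := hp (aeval_mem_chart φ j p)
    obtain ⟨N', hN'⟩ := hq (aeval_mem_chart φ j q)
    refine ⟨N + N', fun M hM => ?_⟩
    obtain ⟨H, hH, hHe⟩ := hN M (by omega)
    obtain ⟨H', hH', hHe'⟩ := hN' M (by omega)
    exact ⟨H + H', hH.add hH', by rw [map_add, map_add, hHe, hHe']⟩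
  | mul_X p m hp =>
    obtain ⟨N, hN⟩ := hp (aeval_mem_chart φ j p)
    refine ⟨N + 1, fun M hM => ?_⟩
    obtain ⟨H, hH, hHe⟩ := hN (M - 1) (by omega)
    refine ⟨H * X m, ?_, by rw [map_mul, map_mul, hHe]⟩
    have := hH.mul (isHomogeneous_X k m)
    rwa [show M - 1 + 1 = M by omega] at this

/-- Scaling a form. -/
theorem aeval_ratio_mul_pow {φ : ι → K} {j : ι} (hj : φ j ≠ 0) {g : MvPolynomial ι k} {d : ℕ}
    (hg : g.IsHomogeneous d) : φ j ^ d * aeval (fun i => φ i / φ j) g = aeval φ g := by
  rw [aeval_def, eval₂_eq, aeval_def, eval₂_eq, Finset.mul_sum]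
  refine Finset.sum_congr rfl fun m hm => ?_
  have hdeg : (m.sum fun _ e => e) = d := by
    simpa [Finsupp.weight_apply] using hg (MvPolynomial.mem_support_iff.1 hm)
  rw [← hdeg, Finsupp.sum, ← Finset.prod_pow_eq_pow_sum, mul_left_comm, ← Finset.prod_mul_distrib]
  congr 1
  refine Finset.prod_congr rfl fun i _ => ?_
  rw [← mul_pow, mul_div_cancel₀ _ hj]

/-- Forms as relations in `K[X]`. -/
theorem aeval_C_mul_X_of_isHomogeneous (φ : ι → K) {g : MvPolynomial ι k} {d : ℕ} (hg : g.IsHomogeneous d) :
    aeval (fun i => Polynomial.C (φ i) * Polynomial.X) g = Polynomial.C (aeval φ g) * Polynomial.X ^ d := by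
  rw [g.as_sum, map_sum, map_sum, map_sum, Finset.sum_mul]
  refine Finset.sum_congr rfl fun m hm => ?_
  have hdeg : ∑ i, m i = d := by
    have := hg (MvPolynomial.mem_support_iff.1 hm)
    rw [Finsupp.weight_apply, Finsupp.sum_fintype _ _ (fun _ => by simp)] at this
    simpa using this
  rw [aeval_monomial, aeval_monomial, Finsupp.prod_fintype _ _ (fun _ => pow_zero _),
    Finsupp.prod_fintype _ _ (fun _ => pow_zero _), IsScalarTower.algebraMap_apply k K (Polynomial K),
    Polynomial.algebraMap_eq, ← hdeg, map_mul, map_prod, ← Finset.prod_pow_eq_pow_sum, mul_assoc,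
    ← Finset.prod_mul_distrib]
  congr 1
  exact Finset.prod_congr rfl fun i _ => by rw [mul_pow, map_pow]

/-- If the differences `φ_l / φ_j - r_l` are multiples of one of them in the local ring, `φ` is
nonsingular. -/
theorem isNonsingularAt_of_principal {φ : ι → K} {j : ι} {P : Place k K} (hj : IsLead φ P j)
    (hgen : IntermediateField.adjoin k (Set.range fun i => φ i / φ j) = ⊤) {r : ι → k}
    (hr : ∀ l, val P (φ l / φ j - algebraMap k K (r l)) < 1) {π : K} (hπ : π ≠ 0) (hπA : π ∈ chart k φ j) (hπ1 : val P π < 1)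
    (hdiv : ∀ l, ∃ U ∈ chart k φ j, ∃ W ∈ chart k φ j, val P W = 1 ∧
      (φ l / φ j - algebraMap k K (r l)) * W = π * U) :
    IsNonsingularAt φ P := by
  classical
  choose U hU W hW hW1 hUW using hdiv
  have hint : ∀ a ∈ chart k φ j, val P a ≤ 1 := fun a ha => val_le_one_of_mem_chart hj ha
  have hW0 : ∀ l, W l ≠ 0 := fun l h0 => by have := hW1 l; rw [h0, map_zero] at this; exact zero_ne_one this
  -- every element of the chart is a constant plus a multiple of `π`
  have hsplit : ∀ a ∈ chart k φ j, ∃ c : k, ∃ u ∈ chart k φ j, ∃ w ∈ chart k φ j, val P w = 1 ∧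
      (a - algebraMap k K c) * w = π * u := by
    intro a ha
    induction ha using Algebra.adjoin_induction with
    | mem x hx => obtain ⟨l, rfl⟩ := hx; exact ⟨r l, U l, hU l, W l, hW l, hW1 l, hUW l⟩
    | algebraMap c => exact ⟨c, 0, zero_mem _, 1, one_mem _, map_one _, by simp⟩
    | add x y _ _ hx hy =>
      obtain ⟨c, u, hu, w, hw, hw1, he⟩ := hx
      obtain ⟨c', u', hu', w', hw', hw1', he'⟩ := hy
      refine ⟨c + c', u * w' + u' * w, add_mem (mul_mem hu hw') (mul_mem hu' hw), w * w', mul_mem hw hw',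
        by rw [map_mul, hw1, hw1', one_mul], ?_⟩
      rw [map_add, show (x + y - (algebraMap k K c + algebraMap k K c')) * (w * w') =
        ((x - algebraMap k K c) * w) * w' + ((y - algebraMap k K c') * w') * w by ring, he, he']
      ring
    | mul x y hx' hy' hx hy =>
      obtain ⟨c, u, hu, w, hw, hw1, he⟩ := hx
      obtain ⟨c', u', hu', w', hw', hw1', he'⟩ := hy
      refine ⟨c * c', u * w' * y + algebraMap k K c * (u' * w),
        add_mem (mul_mem (mul_mem hu hw') hy') (mul_mem (Subalgebra.algebraMap_mem _ c) (mul_mem hu' hw)),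
        w * w', mul_mem hw hw', by rw [map_mul, hw1, hw1', one_mul], ?_⟩
      rw [map_mul, show (x * y - algebraMap k K c * algebraMap k K c') * (w * w') =
        ((x - algebraMap k K c) * w) * w' * y + algebraMap k K c * (((y - algebraMap k K c') * w') * w) by ring,
        he, he']
      ring
  -- every nonzero element of the chart is a power of `π` times a unit
  have hpow : ∀ N : ℕ, ∀ a ∈ chart k φ j, a ≠ 0 → P.ord a ≤ N → ∃ n : ℕ, ∃ u ∈ chart k φ j, ∃ w ∈ chart k φ j,
      val P u = 1 ∧ val P w = 1 ∧ a * w = π ^ n * u := by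
    intro N
    induction N using Nat.strong_induction_on with
    | _ N ih =>
      intro a ha ha0 hN
      by_cases h1 : val P a = 1
      · exact ⟨0, a, ha, 1, one_mem _, h1, map_one _, by simp⟩
      obtain ⟨c, u, hu, w, hw, hw1, he⟩ := hsplit a ha
      have hlt : val P a < 1 := lt_of_le_of_ne (hint a ha) h1
      have hc : c = 0 := by
        by_contra hc
        have h2 : val P ((a - algebraMap k K c) * w) < 1 := by
          rw [he, map_mul]
          exact (mul_le_of_le_one_right' (hint u hu)).trans_lt hπ1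
        rw [map_mul, hw1, mul_one, (val P).map_sub_eq_of_lt_right (by rw [val_const P hc]; exact hlt),
          val_const P hc] at h2
        exact lt_irrefl _ h2
      rw [hc, map_zero, sub_zero] at he
      have hw0 : w ≠ 0 := fun h0 => by rw [h0, map_zero] at hw1; exact zero_ne_one hw1
      have hu0 : u ≠ 0 := fun h0 => mul_ne_zero ha0 hw0 (by rw [he, h0, mul_zero])
      have hord := congrArg P.ord he
      rw [ord_mul P ha0 hw0, ord_mul P hπ hu0, ord_eq_of_val_eq P (x := w) (n := 0) (by rw [hw1, WithZero.exp_zero])] at hord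
      have h3 := (val_lt_one_iff P hπ).1 hπ1
      have h4 := (val_le_one_iff P hu0).1 (hint u hu)
      obtain ⟨n, u', hu', w', hw', hu1', hw1', he'⟩ := ih (P.ord u).toNat (by omega) u hu hu0 (by omega)
      refine ⟨n + 1, u', hu', w * w', mul_mem hw hw', hu1', by rw [map_mul, hw1, hw1', one_mul], ?_⟩
      rw [← mul_assoc, he, mul_assoc, he', pow_succ]
      ring
  intro z hz
  rw [inLocRing_iff hj]
  rcases eq_or_ne z 0 with rfl | hz0
  · exact ⟨0, zero_mem _, 1, one_mem _, map_one _, by simp⟩
  have hzmem : z ∈ IntermediateField.adjoin k (Set.range fun i => φ i / φ j) := hgen ▸ IntermediateField.mem_top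
  obtain ⟨a, ha, b, hb, rfl⟩ := IntermediateField.mem_adjoin_iff_div.1 hzmem
  obtain ⟨ha0, hb0⟩ := div_ne_zero_iff.1 hz0
  obtain ⟨n, u, hu, w, hw, hu1, hw1, hea⟩ := hpow _ a ha ha0 (Int.self_le_toNat _)
  obtain ⟨m, u', hu', w', hw', hu1', hw1', heb⟩ := hpow _ b hb hb0 (Int.self_le_toNat _)
  have hmn : m ≤ n := by
    by_contra hcon
    rw [map_div₀, div_le_one₀ (zero_lt_iff.2 ((val P).ne_zero_iff.2 hb0))] at hz
    have h5 := congrArg (val P) hea
    have h6 := congrArg (val P) heb
    simp only [map_mul, map_pow, hu1, hu1', hw1, hw1', mul_one] at h5 h6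
    rw [h5, h6] at hz
    exact not_lt.2 hz (pow_lt_pow_right_of_lt_one₀ (zero_lt_iff.2 ((val P).ne_zero_iff.2 hπ)) hπ1 (by omega))
  refine ⟨π ^ (n - m) * u * w', mul_mem (mul_mem (pow_mem hπA _) hu) hw', w * u', mul_mem hw hu',
    by rw [map_mul, hw1, hu1', one_mul], ?_⟩
  have hw0 : w ≠ 0 := fun h0 => by rw [h0, map_zero] at hw1; exact zero_ne_one hw1
  rw [div_mul_eq_mul_div, div_eq_iff hb0, show a * (w * u') = (a * w) * u' by ring, hea,
    show π ^ (n - m) * u * w' * b = π ^ (n - m) * u * (b * w') by ring, heb,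
    show π ^ (n - m) * u * (π ^ m * u') = π ^ (n - m) * π ^ m * u * u' by ring, ← pow_add, Nat.sub_add_cancel hmn]

/-- Relations with independent differentials modulo one coordinate give nonsingularity. -/
theorem isNonsingularAt_of_gradients (h : IsFG k K) [DecidableEq ι] {φ : ι → K} {j : ι} {P : Place k K}
    (hj : IsLead φ P j) (hgen : IntermediateField.adjoin k (Set.range fun i => φ i / φ j) = ⊤) {r : ι → k}
    (hr : ∀ l, val P (φ l / φ j - algebraMap k K (r l)) < 1) (i : ι)
    (hq : ∀ l, l ≠ i → ∃ q : MvPolynomial ι k, aeval (fun m => φ m / φ j) q = 0 ∧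
      ∀ m, m ≠ i → eval r (pderiv m q) = if l = m then 1 else 0) :
    IsNonsingularAt φ P := by
  set x : ι → K := fun m => φ m / φ j with hxdef
  set δ : ι → K := fun m => x m - algebraMap k K (r m) with hδdef
  have hrow : ∀ l, ∃ (B : ι → MvPolynomial ι k) (b : MvPolynomial ι k),
      ∑ m, aeval x (B m) * δ m = δ i * aeval x b ∧ ∀ m, eval r (B m) = if l = m then 1 else 0 := by
    intro l
    by_cases hl : l = i
    · refine ⟨fun m => if l = m then 1 else 0, 1, ?_, fun m => by by_cases hm : l = m <;> simp [hm]⟩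
      simp [hl, ite_mul, apply_ite (aeval x)]
    · obtain ⟨q, hq0, hq1⟩ := hq l hl
      obtain ⟨A, hA, hA'⟩ := exists_taylor_one r q
      have hc : eval r q = 0 := by
        by_contra hc
        have h1 := val_aeval_sub_lt P hr q
        rw [hq0, zero_sub, Valuation.map_neg, val_const P hc] at h1
        exact lt_irrefl _ h1
      refine ⟨fun m => if m = i then 0 else A m, -A i, ?_, fun m => ?_⟩
      · have h2 := congrArg (aeval x) hA
        rw [hq0, map_add, hc, C_0, map_zero, zero_add, map_sum, ← Finset.add_sum_erase _ _ (Finset.mem_univ i)] at h2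
        rw [← Finset.add_sum_erase _ _ (Finset.mem_univ i)]
        dsimp only
        rw [if_pos rfl, map_zero, zero_mul, zero_add,
          map_neg, mul_neg, eq_neg_iff_add_eq_zero, add_comm, h2, mul_comm]
        congr 1
        · simp [δ]
        · refine Finset.sum_congr rfl fun m hm => ?_
          rw [if_neg (Finset.ne_of_mem_erase hm), map_mul]
          simp [δ]
      · by_cases hm : m = i
        · subst hm; simp [hl]
        · dsimp only
          rw [if_neg hm, hA', hq1 m hm]
  choose B b hB hB1 using hrow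
  let M : Matrix ι ι (MvPolynomial ι k) := Matrix.of B
  let Mx : Matrix ι ι K := M.map (aeval x)
  have hmul : Matrix.mulVec Mx δ = fun l => δ i * aeval x (b l) := funext fun l => by
    simp [Mx, M, Matrix.mulVec, dotProduct, hB l]
  have hdet : eval r M.det = 1 := by
    rw [RingHom.map_det, show (eval r).mapMatrix M = 1 from Matrix.ext fun l m => by
      simp [M, hB1, Matrix.one_apply], Matrix.det_one]
  have hdet1 : val P (aeval x M.det) = 1 := by
    have h1 := val_aeval_sub_lt P hr M.det
    rw [hdet] at h1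
    exact (((val P).map_eq_of_sub_lt (x := algebraMap k K 1) (by rwa [val_const P one_ne_zero])).trans (val_const P one_ne_zero))
  have hsol : ∀ l, δ l * aeval x M.det = δ i * aeval x (Matrix.mulVec M.adjugate b l) := by
    intro l
    have h1 := congrArg (Matrix.mulVec Mx.adjugate) hmul
    rw [Matrix.mulVec_mulVec, Matrix.adjugate_mul, Matrix.smul_mulVec, Matrix.one_mulVec] at h1
    have h2 := congrFun h1 l
    simp only [Pi.smul_apply, smul_eq_mul] at h2
    have hdx : Mx.det = aeval x M.det := by
      show (M.map (aeval x)).det = _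
      rw [AlgHom.map_det]; rfl
    have hax : Mx.adjugate = M.adjugate.map (aeval x) := by
      show (M.map (aeval x)).adjugate = _
      rw [← AlgHom.mapMatrix_apply, ← AlgHom.map_adjugate]; rfl
    rw [hdx, hax] at h2
    rw [mul_comm, h2]
    simp only [Matrix.mulVec, dotProduct, map_sum, map_mul, Finset.mul_sum, Matrix.map_apply]
    exact Finset.sum_congr rfl fun m _ => by ring
  have hdet0 : aeval x M.det ≠ 0 := fun h0 => by rw [h0, map_zero] at hdet1; exact zero_ne_one hdet1
  have hπ : δ i ≠ 0 := by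
    intro h0
    have hall : ∀ l, x l = algebraMap k K (r l) := fun l => by
      have := hsol l
      rw [h0, zero_mul, mul_eq_zero] at this
      exact sub_eq_zero.1 (this.resolve_right hdet0)
    obtain ⟨t, ht, -⟩ := h
    refine ht ?_
    have htm : t ∈ (⊥ : IntermediateField k K) := by
      have : IntermediateField.adjoin k (Set.range x) ≤ (⊥ : IntermediateField k K) := by
        rw [IntermediateField.adjoin_le_iff]
        rintro _ ⟨l, rfl⟩
        exact IntermediateField.mem_bot.2 ⟨r l, (hall l).symm⟩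
      exact this (hgen ▸ IntermediateField.mem_top)
    obtain ⟨c, rfl⟩ := IntermediateField.mem_bot.1 htm
    exact isAlgebraic_algebraMap c
  refine isNonsingularAt_of_principal hj hgen hr hπ
    (sub_mem (ratio_mem_chart φ i j) (Subalgebra.algebraMap_mem _ _)) (hr i) fun l => ?_
  exact ⟨_, aeval_mem_chart φ j _, _, aeval_mem_chart φ j _, hdet1, hsol l⟩

/-- A relation kills the tangent direction. -/
theorem val_sum_pderiv_mul_le [DecidableEq ι] {x : ι → K} {r : ι → k} (P : Place k K)
    (hr : ∀ l, val P (x l - algebraMap k K (r l)) < 1) {q : MvPolynomial ι k} (hq : aeval x q = 0)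
    {e : ℤ} (he : ∀ l, val P (x l - algebraMap k K (r l)) ≤ WithZero.exp e) :
    val P (∑ l, algebraMap k K (eval r (pderiv l q)) * (x l - algebraMap k K (r l))) ≤ WithZero.exp (e - 1) := by
  obtain ⟨A, hA, hA'⟩ := exists_taylor_one r q
  have hc : eval r q = 0 := by
    by_contra hc
    have h1 := val_aeval_sub_lt P hr q
    rw [hq, zero_sub, Valuation.map_neg, val_const P hc] at h1
    exact lt_irrefl _ h1
  have h2 := congrArg (aeval x) hA
  rw [hq, map_add, hc, C_0, map_zero, zero_add, map_sum] at h2
  have h3 : ∑ l, algebraMap k K (eval r (pderiv l q)) * (x l - algebraMap k K (r l)) =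
      -∑ l, (aeval x (A l) - algebraMap k K (eval r (A l))) * (x l - algebraMap k K (r l)) := by
    rw [eq_neg_iff_add_eq_zero, ← Finset.sum_add_distrib, h2]
    exact Finset.sum_congr rfl fun l _ => by rw [hA' l, map_mul, map_sub, aeval_X, aeval_C]; ring
  rw [h3, Valuation.map_neg]
  refine (val P).map_sum_le fun l _ => ?_
  rw [map_mul, sub_eq_add_neg e, WithZero.exp_add, mul_comm (WithZero.exp e)]
  refine mul_le_mul' ?_ (he l)
  rw [show (-1 : ℤ) = 0 - 1 by ring, le_exp_sub_one_iff, WithZero.exp_zero]
  exact val_aeval_sub_lt P hr _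

/-- At a nonsingular point there are relations with all possible differentials. -/
theorem exists_relations_of_isNonsingularAt (h : IsFG k K) [DecidableEq ι] {φ : ι → K} {j : ι} {P : Place k K}
    (hj : IsLead φ P j) (hns : IsNonsingularAt φ P) {r : ι → k}
    (hr : ∀ l, val P (φ l / φ j - algebraMap k K (r l)) < 1) [IsAlgClosed k] :
    ∃ i, i ≠ j ∧ val P (φ i / φ j - algebraMap k K (r i)) = WithZero.exp (-1) ∧
      ∀ l, ∃ (lam : k) (N : ℕ) (G : MvPolynomial ι k), G.IsHomogeneous N ∧ aeval φ G = 0 ∧
        ∀ m, m ≠ j → eval r (pderiv m G) = (if l = m then 1 else 0) - lam * (if i = m then 1 else 0) := by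
  obtain ⟨-, t, htA, ht⟩ := fibre_and_parameter_of_isNonsingularAt h hj hns
  obtain ⟨i, c, hic⟩ := exists_coord_parameter h hj htA ht
  have hc : c = r i := residue_unique P (by rw [hic, ← WithZero.exp_zero, WithZero.exp_lt_exp]; omega) (hr i)
  rw [hc] at hic
  set x : ι → K := fun m => φ m / φ j with hxdef
  have hxj : x j = 1 := div_self hj.1
  have hrj : r j = 1 := residue_unique P (hr j) (by rw [show φ j / φ j = 1 from hxj]; simp)
  have hij : i ≠ j := by
    rintro rfl
    rw [hrj, map_one, show φ i / φ i = 1 from hxj, sub_self, map_zero] at hic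
    exact WithZero.exp_ne_zero hic.symm
  refine ⟨i, hij, hic, fun l => ?_⟩
  have hπ0 : φ i / φ j - algebraMap k K (r i) ≠ 0 := fun h0 => by
    rw [h0, map_zero] at hic; exact WithZero.exp_ne_zero hic.symm
  have hquot : val P ((x l - algebraMap k K (r l)) / (φ i / φ j - algebraMap k K (r i))) ≤ 1 := by
    rw [map_div₀, div_le_one₀ (zero_lt_iff.2 ((val P).ne_zero_iff.2 hπ0)), hic,
      show (-1 : ℤ) = 0 - 1 by ring, le_exp_sub_one_iff, WithZero.exp_zero]
    exact hr l
  obtain ⟨U, hU, W, hW, hW1, he⟩ := (inLocRing_iff hj).1 (hns _ hquot)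
  obtain ⟨N₁, hN₁⟩ := exists_form_of_mem_chart hj.1 hU
  obtain ⟨N₂, hN₂⟩ := exists_form_of_mem_chart hj.1 hW
  obtain ⟨U', hU', hUe⟩ := hN₁ (N₁ + N₂) (by omega)
  obtain ⟨W', hW', hWe⟩ := hN₂ (N₁ + N₂) (by omega)
  have hw : eval r W' ≠ 0 := fun h0 => by
    have h1 := val_aeval_sub_lt P hr W'
    rw [hWe, h0, map_zero, sub_zero, hW1] at h1
    exact lt_irrefl _ h1
  set w := eval r W'
  refine ⟨w⁻¹ * eval r U', N₁ + N₂ + 1,
    C w⁻¹ * (W' * (X l - C (r l) * X j) - U' * (X i - C (r i) * X j)), ?_, ?_, ?_⟩
  · have hlin : ∀ m, (X m - C (r m) * X j : MvPolynomial ι k).IsHomogeneous 1 := fun m =>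
      (isHomogeneous_X k m).sub ((isHomogeneous_X k j).C_mul _)
    exact ((hW'.mul (hlin l)).sub (hU'.mul (hlin i))).C_mul _
  · have hG : aeval x (C w⁻¹ * (W' * (X l - C (r l) * X j) - U' * (X i - C (r i) * X j))) = 0 := by
      change aeval x U' = U at hUe
      change aeval x W' = W at hWe
      simp only [map_mul, map_sub, aeval_X, aeval_C, hxj, mul_one, hUe, hWe, ← he]
      rw [show x i = φ i / φ j from rfl]
      field_simp
      ring
    rw [← aeval_ratio_mul_pow hj.1 (d := N₁ + N₂ + 1) ?_, hG, mul_zero]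
    have hlin : ∀ m, (X m - C (r m) * X j : MvPolynomial ι k).IsHomogeneous 1 := fun m =>
      (isHomogeneous_X k m).sub ((isHomogeneous_X k j).C_mul _)
    exact ((hW'.mul (hlin l)).sub (hU'.mul (hlin i))).C_mul _
  · intro m hmj
    simp only [pderiv_C_mul, map_sub, pderiv_mul, pderiv_X, Pi.single_apply, map_add, map_mul, eval_C,
      eval_X, hrj, mul_one, sub_self, mul_zero, zero_add, if_neg (Ne.symm hmj), pderiv_C, zero_mul,
      map_zero, sub_zero, add_zero, apply_ite (eval r), map_one]
    field_simp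
    ring

end GrothLib.FunFld
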