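import Groth.Agent.Lib.FunFld.Jacobian
import Groth.Agent.Lib.FunFld.PlaneRelations
import Mathlib.Algebra.BigOperators.Field

/-!
Residue field forms of the Jacobian criterion, and plane relations.
-/

set_option autoImplicit false
set_option linter.style.haveILetI false

namespace GrothLib.FunFld

open _root_.FunFld MvPolynomial

variable {k K : Type*} [Field k] [Field K] [Algebra k K]

theorem exists_point [IsAlgClosed k] (h : IsFG k K) {ι : Type*} {φ : ι → K} {P : Place k K} {j : ι}
    (hj : IsLead φ P j) : ∃ r : ι → k, ∀ l, val P (φ l / φ j - algebraMap k K (r l)) < 1 :=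
  Classical.axiomOfChoice fun l => exists_residue h P ((isLead_iff.1 hj).2 l)

theorem residue_eq_algebraMap {P : Place k K} (a : P.O) {c : k}
    (hc : val P ((a : K) - algebraMap k K c) < 1) :
    IsLocalRing.residue P.O a = algebraMap k (IsLocalRing.ResidueField P.O) c := by
  have h1 : res P (a - algebraMap k P.O c) = 0 := (res_eq_zero_iff P _).2 hc
  rw [map_sub, AlgHom.commutes, sub_eq_zero] at h1
  exact h1

theorem aeval_residue {ι : Type*} {P : Place k K} (a : ι → P.O) {r : ι → k}
    (hr : ∀ l, val P ((a l : K) - algebraMap k K (r l)) < 1) (p : MvPolynomial ι k) :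
    MvPolynomial.aeval (fun i => IsLocalRing.residue P.O (a i)) p =
      algebraMap k (IsLocalRing.ResidueField P.O) (eval r p) := by
  induction p using MvPolynomial.induction_on with
  | C c => rw [aeval_C, eval_C]
  | add p q hp hq => rw [map_add, map_add, hp, hq, map_add]
  | mul_X p m hp => rw [map_mul, map_mul, aeval_X, eval_X, hp, residue_eq_algebraMap _ (hr m), map_mul]

/-- The irreducible equation divides every homogeneous relation of a plane map. -/
theorem dvd_of_isHomogeneous_relation (hK : IsFunctionField k K) {φ : Fin 3 → K} (h0 : φ 0 ≠ 0)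
    (hbir : IntermediateField.adjoin k (Set.range fun i => φ i / φ 0) = ⊤) {f : MvPolynomial (Fin 3) k}
    (hf : Irreducible f) (hhom : f.IsHomogeneous f.totalDegree) (hfφ : aeval φ f = 0)
    {G : MvPolynomial (Fin 3) k} {N : ℕ} (hG : G.IsHomogeneous N) (hGφ : aeval φ G = 0) : f ∣ G := by
  have hψ : (![(1 : K), φ 1 / φ 0, φ 2 / φ 0] : Fin 3 → K) = fun i => φ i / φ 0 := by
    funext i; fin_cases i <;> simp [h0]
  have hxy : IntermediateField.adjoin k ({φ 1 / φ 0, φ 2 / φ 0} : Set K) = ⊤ := by
    refine top_unique (hbir.ge.trans ?_)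
    rw [IntermediateField.adjoin_le_iff]
    rintro _ ⟨i, rfl⟩
    fin_cases i
    · simp [h0]
    · exact IntermediateField.subset_adjoin _ _ (Set.mem_insert _ _)
    · exact IntermediateField.subset_adjoin _ _ (Set.mem_insert_of_mem _ rfl)
  obtain ⟨f₀, hf₀, -, hker⟩ := ker_plane_relations hK _ _ hxy
  have key : ∀ {H : MvPolynomial (Fin 3) k} {d : ℕ}, H.IsHomogeneous d → aeval φ H = 0 → f₀ ∣ H := by
    intro H d hH hH0
    rw [← Ideal.mem_span_singleton, ← hker, RingHom.mem_ker, aeval_C_mul_X_of_isHomogeneous _ hH, hψ]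
    have := aeval_ratio_mul_pow h0 hH
    rw [hH0, mul_eq_zero] at this
    rw [this.resolve_left (pow_ne_zero _ h0), map_zero, zero_mul]
  exact ((hf₀.associated_of_dvd hf (key hhom hfφ)).symm.dvd).trans (key hG hGφ)

/-- Euler's relation at the point. -/
theorem sum_mul_eval_pderiv {n : ℕ} {f : MvPolynomial (Fin n) k} {d : ℕ} (hf : f.IsHomogeneous d)
    {r : Fin n → k} (h0 : eval r f = 0) : ∑ l, r l * eval r (pderiv l f) = 0 := by
  have h := congrArg (eval r) hf.sum_X_mul_pderiv
  rw [map_sum, map_nsmul, h0, smul_zero] at h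
  rw [← h]
  exact Finset.sum_congr rfl fun l _ => by rw [map_mul, eval_X]

theorem eval_eq_zero_of_relation {ι : Type*} [Fintype ι] {φ : ι → K} {j : ι} {P : Place k K} (hj : φ j ≠ 0)
    {r : ι → k} (hr : ∀ l, val P (φ l / φ j - algebraMap k K (r l)) < 1) {G : MvPolynomial ι k} {N : ℕ}
    (hG : G.IsHomogeneous N) (hGφ : aeval φ G = 0) :
    aeval (fun i => φ i / φ j) G = 0 ∧ eval r G = 0 := by
  have h1 := aeval_ratio_mul_pow hj hG
  rw [hGφ, mul_eq_zero] at h1
  have h2 := h1.resolve_left (pow_ne_zero _ hj)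
  refine ⟨h2, ?_⟩
  by_contra hc
  have h3 := val_aeval_sub_lt P hr G
  rw [h2, zero_sub, Valuation.map_neg, val_const P hc] at h3
  exact lt_irrefl _ h3

end GrothLib.FunFld
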