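import Groth.Agent.Lib.FunFld.LinSeries
import Mathlib.Algebra.BigOperators.Fin

/-! Weights along chains of linear series. -/

namespace GrothLib.FunFld

open _root_.FunFld WithZero

/-- Along a chain `β_l + α_{l+1} = M`, lower bounds propagate from left to right. -/
theorem chain_lower {n : ℕ} {M : ℕ} (α β : Fin (n + 1) → ℕ)
    (hnode : ∀ l : Fin n, β l.castSucc + α l.succ = M)
    (hmid : ∀ l : Fin (n + 1), 0 < (l : ℕ) → (l : ℕ) < n → α l + β l ≤ M)
    (b : ℕ) (hb : β 0 + b ≤ M) (l : Fin (n + 1)) (hl : 0 < (l : ℕ)) : b ≤ α l := by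
  induction l using Fin.induction with
  | zero => simp at hl
  | succ i ih =>
    have h1 := hnode i
    by_cases hi : (i.castSucc : ℕ) = 0
    · rw [show i.castSucc = 0 from Fin.ext hi] at h1; omega
    · have h2 := ih (Nat.pos_of_ne_zero hi)
      have h3 := hmid i.castSucc (Nat.pos_of_ne_zero hi) i.2
      omega

/-- Along a chain, lower bounds propagate from right to left. -/
theorem chain_upper {n : ℕ} {M : ℕ} (α β : Fin (n + 1) → ℕ)
    (hnode : ∀ l : Fin n, β l.castSucc + α l.succ = M)
    (hmid : ∀ l : Fin (n + 1), 0 < (l : ℕ) → (l : ℕ) < n → α l + β l ≤ M)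
    (b : ℕ) (hb : α (Fin.last n) + b ≤ M) (l : Fin n) : b ≤ β l.castSucc := by
  have : ∀ l : Fin (n + 1), (l : ℕ) < n → b ≤ β l := by
    intro l
    induction l using Fin.reverseInduction with
    | last => intro h; simp at h
    | cast i ih =>
      intro _
      have h1 := hnode i
      by_cases hi : (i.succ : ℕ) = n
      · rw [show i.succ = Fin.last n from Fin.ext hi] at h1; omega
      · have hlt : (i.succ : ℕ) < n := by have := i.succ.2; omega
        have h2 := ih hlt
        have h3 := hmid i.succ (by simp) hlt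
        omega
  exact this _ l.2

/-- Telescoping with prescribed end values. -/
theorem chain_telescope {n : ℕ} {M T : ℕ} (α β e : Fin (n + 1) → ℕ)
    (hnode : ∀ l : Fin n, β l.castSucc + α l.succ = M) (h0 : α 0 = T) (hn : β (Fin.last n) = T)
    (hloc : ∀ i, α i + β i + e i ≤ M) :
    (∑ i, e i) + 2 * T ≤ M ∧
      ∀ i, 2 * T + ∑ j ∈ Finset.univ.erase i, e j ≤ α i + β i := by
  have htot : ∑ i, (α i + β i) = 2 * T + n * M := by
    have h1 : ∑ i, α i = T + ∑ l : Fin n, α l.succ := by rw [Fin.sum_univ_succ, h0]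
    have h2 : ∑ i, β i = (∑ l : Fin n, β l.castSucc) + T := by rw [Fin.sum_univ_castSucc, hn]
    have h3 : ∑ l : Fin n, (β l.castSucc + α l.succ) = n * M := by simp [hnode]
    rw [Finset.sum_add_distrib] at h3 ⊢
    omega
  have hbound : ∀ s : Finset (Fin (n + 1)),
      (∑ i ∈ s, (α i + β i)) + ∑ i ∈ s, e i ≤ s.card * M := fun s => by
    rw [← Finset.sum_add_distrib]
    exact (Finset.sum_le_card_nsmul _ _ M fun i _ => hloc i).trans_eq (smul_eq_mul _ _)
  constructor
  · have := hbound Finset.univ
    rw [Finset.card_univ, Fintype.card_fin, Nat.succ_mul] at this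
    omega
  · intro i
    have := hbound (Finset.univ.erase i)
    rw [Finset.card_erase_of_mem (Finset.mem_univ i), Finset.card_univ, Fintype.card_fin,
      Nat.add_sub_cancel] at this
    have h4 := Finset.sum_erase_add Finset.univ (fun i => α i + β i) (Finset.mem_univ i)
    omega

end GrothLib.FunFld
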