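import Groth.Agent.Lib.FunFld.DivDiff

/-!
The divisor of a tuple with an entry equal to one, and changes of coordinates.
-/

set_option autoImplicit false

namespace GrothLib.FunFld

open _root_.FunFld

variable {k K : Type*} [Field k] [Field K] [Algebra k K] {ι : Type*} [Fintype ι] [Nonempty ι]

theorem mapDiv_apply_of_one (h : IsFG k K) {φ : ι → K} {i₀ : ι} (h1 : φ i₀ = 1) (P : Place k K) :
    (∀ i, val P (φ i) ≤ WithZero.exp (mapDiv k φ P)) ∧
      ∀ n : ℤ, (∀ i, val P (φ i) ≤ WithZero.exp n) → mapDiv k φ P ≤ n := by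
  classical
  have hfin : (Function.support fun R : Place k K =>
      -Finset.univ.inf' Finset.univ_nonempty (fun i => R.ord (φ i))).Finite := by
    refine (Set.finite_iUnion fun i => IsFG.finite_support_ord h (φ i)).subset fun R hR => ?_
    by_contra hcon
    simp only [Set.mem_iUnion, Function.mem_support, not_exists, not_not] at hcon
    simp only [Function.mem_support, hcon, Finset.inf'_const, neg_zero, ne_eq, not_true_eq_false] at hR
  have hval : mapDiv k φ P = -Finset.univ.inf' Finset.univ_nonempty (fun i => P.ord (φ i)) := by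
    rw [mapDiv, dif_pos hfin]; rfl
  rw [hval]
  refine ⟨fun i => ?_, fun n hn => ?_⟩
  · rcases eq_or_ne (φ i) 0 with h0 | h0
    · rw [h0, map_zero]; exact zero_le
    rw [val_eq P h0, WithZero.exp_le_exp, neg_le_neg_iff]
    exact Finset.inf'_le _ (Finset.mem_univ i)
  · rw [neg_le, Finset.le_inf'_iff]
    intro i _
    rcases eq_or_ne (φ i) 0 with h0 | h0
    · have hn0 := hn i₀
      rw [h1, map_one, ← WithZero.exp_zero, WithZero.exp_le_exp] at hn0
      rw [h0, ord_zero]
      omega
    · have := hn i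
      rw [val_eq P h0, WithZero.exp_le_exp] at this
      omega

theorem mapDiv_le_of_combination (h : IsFG k K) {φ ψ : ι → K} {i₀ j₀ : ι} (hφ : φ i₀ = 1) (hψ : ψ j₀ = 1)
    {c : K} (hc : c ≠ 0) (B : ι → ι → k) (he : ∀ i, φ i = c * ∑ j, algebraMap k K (B i j) * ψ j) (P : Place k K) :
    mapDiv k φ P ≤ mapDiv k ψ P - P.ord c := by
  refine (mapDiv_apply_of_one h hφ P).2 _ fun i => ?_
  rw [he i, map_mul, val_eq P hc, show mapDiv k ψ P - P.ord c = -P.ord c + mapDiv k ψ P by ring, WithZero.exp_add]
  refine mul_le_mul_right ((val P).map_sum_le fun j _ => ?_) _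
  rw [map_mul]
  exact (mul_le_of_le_one_left' (P.2.1 _)).trans ((mapDiv_apply_of_one h hψ P).1 j)

end GrothLib.FunFld
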