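import Groth.Agent.Lib.FunFld.SplitField
import Groth.Agent.Lib.FunFld.AdjoinPair
import Mathlib.FieldTheory.IntermediateField.Adjoin.Algebra
import Mathlib.RingTheory.DedekindDomain.Different
import Mathlib.FieldTheory.PrimitiveElement

/-!
Finiteness of the singular places of a geometric function field.
-/

set_option autoImplicit false
set_option linter.style.haveILetI false
set_option linter.unusedSectionVars false

namespace GrothLib.FunFld.NonsingFinite

open _root_.FunFld GrothLib.FunFld GrothLib.FunFld.RH GrothLib.FunFld.SplitField WithZero Polynomial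
open scoped TensorProduct IntermediateField.algebraAdjoinAdjoin
open IntermediateField (adjoin)

universe u v w w'

/-- A root of a monic polynomial with integral coefficients is integral. -/
theorem val_le_one_of_monic {F : Type*} [Field F] (v : Valuation F (WithZero (Multiplicative ℤ)))
    {R : Type*} [CommRing R] (f : R →+* F) (hf : ∀ r, v (f r) ≤ 1) {x : F} {p : R[X]} (hp : p.Monic)
    (hev : p.eval₂ f x = 0) : v x ≤ 1 := by
  by_contra hlt
  rw [not_le] at hlt
  rw [Polynomial.eval₂_eq_sum_range, Finset.sum_range_succ] at hev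
  have hne : v x ^ p.natDegree ≠ 0 := pow_ne_zero _ (ne_zero_of_lt hlt)
  have hlast : v (f (p.coeff p.natDegree) * x ^ p.natDegree) = v x ^ p.natDegree := by
    rw [hp.coeff_natDegree, map_one, one_mul, map_pow]
  have hsum : v (∑ i ∈ Finset.range p.natDegree, f (p.coeff i) * x ^ i) < v x ^ p.natDegree :=
    v.map_sum_lt hne fun i hi => by
      rw [map_mul, map_pow]
      exact (mul_le_of_le_one_left' (hf _)).trans_lt (pow_lt_pow_right₀ hlt (Finset.mem_range.1 hi))
  have := v.map_add_eq_of_lt_right (lt_of_lt_of_eq hsum hlast.symm)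
  rw [hev, map_zero, hlast] at this
  exact hne this.symm

section Criterion

variable {k K : Type*} [Field k] [Field K] [Algebra k K]

theorem val_le_one_of_mem_adjoin {x : K} (Q : Place k K) (hx : val Q x ≤ 1) {a : K}
    (ha : a ∈ Algebra.adjoin k ({x} : Set K)) : val Q a ≤ 1 := by
  induction ha using Algebra.adjoin_induction with
  | mem z hz => rw [Set.mem_singleton_iff.1 hz]; exact hx
  | algebraMap c => exact Q.2.1 c
  | add a b _ _ ha hb => exact ((val Q).map_add _ _).trans (max_le ha hb)
  | mul a b _ _ ha hb => rw [map_mul]; exact mul_le_one' ha hb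

/-- An element regular at all finite places of `x` is integral over `k[x]`. -/
theorem isIntegral_adjoin_of_forall (hK : IsFG k K) {x : K} (hx : Transcendental k x) {z : K}
    (hz : ∀ Q : Place k K, val Q x ≤ 1 → val Q z ≤ 1) : IsIntegral (Algebra.adjoin k ({x} : Set K)) z := by
  classical
  haveI := hK.finiteDimensional_adjoin hx
  let x₀ : adjoin k ({x} : Set K) := ⟨x, IntermediateField.mem_adjoin_simple_self k x⟩
  have hx₀ : Transcendental k x₀ := fun halg => hx (halg.algHom (adjoin k ({x} : Set K)).val)
  have hgen : adjoin k ({x₀} : Set (adjoin k ({x} : Set K))) = ⊤ := by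
    apply IntermediateField.map_injective (adjoin k ({x} : Set K)).val
    rw [IntermediateField.adjoin_map, Set.image_singleton, ← AlgHom.fieldRange_eq_map,
      IntermediateField.fieldRange_val]
    rfl
  have hfgF : IsFG k (adjoin k ({x} : Set K)) := by
    refine ⟨x₀, hx₀, ?_⟩
    rw [hgen]
    exact Module.Finite.of_surjective
      (Algebra.linearMap (⊤ : IntermediateField k (adjoin k ({x} : Set K))) (adjoin k ({x} : Set K)))
      fun a => ⟨⟨a, IntermediateField.mem_top⟩, rfl⟩
  have hint : IsIntegral (adjoin k ({x} : Set K)) z := Algebra.IsIntegral.isIntegral z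
  have hc : ∀ i, ((minpoly (adjoin k ({x} : Set K)) z).coeff i : K) ∈ Algebra.adjoin k ({x} : Set K) := by
    intro i
    have h1 : (minpoly (adjoin k ({x} : Set K)) z).coeff i ∈ Algebra.adjoin k ({x₀} : Set (adjoin k ({x} : Set K))) := by
      refine mem_adjoin_of_forall_le_one hfgF hx₀ hgen fun P hP => ?_
      letI : Algebra P.O K := ((algebraMap (adjoin k ({x} : Set K)) K).comp P.O.subtype).toAlgebra
      haveI : IsScalarTower P.O (adjoin k ({x} : Set K)) K := IsScalarTower.of_algebraMap_eq fun _ => rfl
      have hzi : IsIntegral P.O z := (isIntegral_iff_forall hfgF z).2 fun Q hQ => by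
        obtain ⟨e, he⟩ := hQ
        exact hz Q ((val_le_one_iff_of_isOverWith he x₀).2 hP)
      haveI : IsPrincipalIdealRing P.O := isPrincipalIdealRing_O P
      rw [minpoly.isIntegrallyClosed_eq_field_fractions' (adjoin k ({x} : Set K)) hzi, coeff_map]
      exact ((minpoly P.O z).coeff i).2
    have h2 : ((minpoly (adjoin k ({x} : Set K)) z).coeff i : K) ∈
        (Algebra.adjoin k ({x₀} : Set (adjoin k ({x} : Set K)))).map (adjoin k ({x} : Set K)).val := ⟨_, h1, rfl⟩
    rwa [AlgHom.map_adjoin, Set.image_singleton] at h2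
  let p := minpoly (adjoin k ({x} : Set K)) z
  let f : Algebra.adjoin k ({x} : Set K) →+* adjoin k ({x} : Set K) := algebraMap _ _
  have hlift : p ∈ Polynomial.lifts f :=
    (Polynomial.lifts_iff_coeff_lifts p).2 fun i => ⟨⟨_, hc i⟩, rfl⟩
  obtain ⟨q, hq, -, hqm⟩ := Polynomial.lifts_and_natDegree_eq_and_monic hlift (minpoly.monic hint)
  refine ⟨q, hqm, ?_⟩
  have := minpoly.aeval (adjoin k ({x} : Set K)) z
  change aeval z p = 0 at this
  rw [← hq, aeval_def, Polynomial.eval₂_map] at this
  rwa [← IsScalarTower.algebraMap_eq] at this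

theorem exists_pole' (hK : IsFG k K) {x : K} (hx : Transcendental k x) :
    ∃ P : Place k K, 1 < val P x := by
  obtain ⟨P, hP⟩ := hK.exists_pole hx
  refine ⟨P, not_le.1 fun hle => ?_⟩
  have hx0 : x ≠ 0 := fun h0 => by simp [h0] at hP
  have := (val_le_one_iff P hx0).1 hle
  omega

end Criterion

/-- A place of the constant extension induces a place of `K`. -/
theorem exists_restrict {k : Type u} {K : Type v} {k' : Type w'} {K' : Type w} [Field k] [Field K]
    [Field k'] [Field K'] [Algebra k K] [Algebra k k'] [Algebra K K'] [Algebra k' K'] [Algebra k K']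
    [IsScalarTower k k' K'] [IsScalarTower k K K'] (h : IsBar k K k' K') (R : Place k' K') :
    ∃ (P : Place k K) (e : ℕ), 0 < e ∧ ∀ a : K, val R (algebraMap K K' a) = val P a ^ e := by
  classical
  obtain ⟨a, ha⟩ : ∃ a : K, 1 < val R (algebraMap K K' a) := by
    by_contra hcon
    push Not at hcon
    have hall : ∀ y : K', val R y ≤ exp 0 := fun y => by
      have hle : Submodule.span k' (Set.range (algebraMap K K')) ≤ ball R 0 :=
        Submodule.span_le.2 (by
          rintro _ ⟨b, rfl⟩
          exact mem_ball.2 (by rw [exp_zero]; exact hcon b))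
      exact mem_ball.1 (hle (h.mem_span y))
    obtain ⟨y, -, hy⟩ := exists_val_eq R 1
    have := hall y
    rw [hy, exp_le_exp] at this
    omega
  refine exists_place_of_hom (c := k) R (algebraMap K K') (fun c => ?_) (z := a) ?_ ha.ne'
  · rw [← IsScalarTower.algebraMap_apply k K K', IsScalarTower.algebraMap_apply k k' K']
    exact R.2.1 _
  · rintro rfl
    simp at ha

/-- The data attached to a separating variable. -/
structure Data {k : Type u} {K : Type v} [Field k] [Field K] [Algebra k K] (x y : K) : Prop where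
  tr : Transcendental k x
  int : IsIntegral (Algebra.adjoin k ({x} : Set K)) y
  sep : IsSeparable (adjoin k ({x} : Set K)) y
  gen : Algebra.adjoin (adjoin k ({x} : Set K)) ({y} : Set K) = ⊤

theorem exists_data {k : Type u} {K : Type v} [Field k] [Field K] [Algebra k K]
    (hK : IsFunctionField k K) (hg : IsGeometric k K) : ∃ x y : K, Data (k := k) x y := by
  obtain ⟨x, hx, hsep⟩ := exists_separatingElement hK.1 hg
  haveI := IsFG.finiteDimensional_adjoin hK.1 hx
  obtain ⟨y₀, hy₀⟩ := Field.exists_primitive_element (adjoin k ({x} : Set K)) K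
  haveI : Algebra.IsAlgebraic (Algebra.adjoin k ({x} : Set K)) K :=
    Algebra.IsAlgebraic.trans _ (adjoin k ({x} : Set K)) K
  obtain ⟨c, hc, hcy⟩ := IsAlgebraic.exists_integral_multiple
    (Algebra.IsAlgebraic.isAlgebraic (R := Algebra.adjoin k ({x} : Set K)) y₀)
  refine ⟨x, c • y₀, hx, hcy, Algebra.IsSeparable.isSeparable _ _, ?_⟩
  let cF : adjoin k ({x} : Set K) := algebraMap (Algebra.adjoin k ({x} : Set K)) (adjoin k ({x} : Set K)) c
  have hcF : cF ≠ 0 := fun h0 => hc (Subtype.ext (congrArg Subtype.val h0 :))
  rw [← IntermediateField.adjoin_simple_toSubalgebra_of_isAlgebraic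
      (Algebra.IsAlgebraic.isAlgebraic (R := adjoin k ({x} : Set K)) (c • y₀)),
    ← IntermediateField.top_toSubalgebra]
  congr 1
  rw [eq_top_iff, ← hy₀, IntermediateField.adjoin_simple_le_iff]
  have : y₀ = (cF⁻¹ : adjoin k ({x} : Set K)) • (c • y₀) := by
    rw [show c • y₀ = cF • y₀ from (algebraMap_smul (adjoin k ({x} : Set K)) c y₀).symm, smul_smul,
      inv_mul_cancel₀ hcF, one_smul]
  have hm : (cF⁻¹ : adjoin k ({x} : Set K)) • (c • y₀) ∈ (adjoin (adjoin k ({x} : Set K)) ({c • y₀} : Set K)).toSubalgebra :=
    Subalgebra.smul_mem _ (IntermediateField.mem_adjoin_simple_self (adjoin k ({x} : Set K)) (c • y₀)) _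
  rwa [← this] at hm

section Main

variable {k : Type u} {K : Type v} {k' : Type w'} {K' : Type w} [Field k] [Field K] [Field k'] [Field K']
  [Algebra k K] [Algebra k k'] [FiniteDimensional k k'] [Algebra K K'] [Algebra k' K'] [Algebra k K']
  [IsScalarTower k k' K'] [IsScalarTower k K K']

theorem mem_adjoin_of_good (h : IsBar k K k' K') (hK : IsFunctionField k K) {x y : K} (hd : Data (k := k) x y)
    (P : Place k K) (hPx : val P x ≤ 1)
    (hPD : val P (aeval y (minpoly (adjoin k ({x} : Set K)) y).derivative) = 1) {z : K'}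
    (hz : z ∈ integralClosure (P.O.toSubring.map (algebraMap K K')) K') :
    z ∈ Algebra.adjoin (P.O.toSubring.map (algebraMap K K')) (Set.range (algebraMap k' K')) := by
  classical
  haveI := IsFG.finiteDimensional_adjoin hK.1 hd.tr
  set A := Algebra.adjoin k ({x} : Set K)
  set F := adjoin k ({x} : Set K)
  set f := minpoly F y with hf
  set D := aeval y f.derivative with hD
  set x' := algebraMap K K' x
  set y' := algebraMap K K' y
  set A' := Algebra.adjoin k' ({x'} : Set K')
  set F' := adjoin k' ({x'} : Set K')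
  have hx't : Transcendental k' x' := h.transcendental hd.tr
  haveI := h.finiteDimensional (x := x)
  have hfg' : IsFG k' K' := ⟨x', hx't, inferInstance⟩
  have hn : Module.finrank F' K' = Module.finrank F K :=
    le_antisymm (finrank_adjoin_le h x) (le_finrank_adjoin h hd.tr)
  -- the base change of the rings
  have hA : ∀ a ∈ A, algebraMap K K' a ∈ A' := by
    intro a ha
    induction ha using Algebra.adjoin_induction with
    | mem w hw => rw [Set.mem_singleton_iff.1 hw]; exact Algebra.subset_adjoin rfl
    | algebraMap c =>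
      rw [← IsScalarTower.algebraMap_apply k K K', IsScalarTower.algebraMap_apply k k' K']
      exact Subalgebra.algebraMap_mem _ _
    | add a b _ _ ha hb => rw [map_add]; exact add_mem ha hb
    | mul a b _ _ ha hb => rw [map_mul]; exact mul_mem ha hb
  have hF : ∀ a ∈ F, algebraMap K K' a ∈ F' := by
    intro a ha
    induction ha using IntermediateField.adjoin_induction with
    | mem w hw => rw [Set.mem_singleton_iff.mp hw]; exact IntermediateField.mem_adjoin_simple_self _ _
    | algebraMap c =>
      rw [← IsScalarTower.algebraMap_apply k K K', IsScalarTower.algebraMap_apply k k' K']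
      exact IntermediateField.algebraMap_mem _ _
    | add a b _ _ ha hb => rw [map_add]; exact add_mem ha hb
    | inv a _ ha => rw [map_inv₀]; exact inv_mem ha
    | mul a b _ _ ha hb => rw [map_mul]; exact mul_mem ha hb
  let iA : A →+* A' := ((algebraMap K K').comp A.val.toRingHom).codRestrict A' fun a => hA a a.2
  let iF : F →+* F' := ((algebraMap K K').comp F.val.toRingHom).codRestrict F' fun a => hF a a.2
  have hiA : (algebraMap A' K').comp iA = (algebraMap K K').comp (algebraMap A K) := rfl
  have hiF : (algebraMap F' K').comp iF = (algebraMap K K').comp (algebraMap F K) := rfl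
  have hy'int : IsIntegral A' y' := by
    obtain ⟨p, hp, hev⟩ := hd.int
    refine ⟨p.map iA, hp.map iA, ?_⟩
    rw [Polynomial.eval₂_map, hiA, ← Polynomial.hom_eval₂, hev, map_zero]
  set f' := f.map iF with hf'
  have hf'ev : ∀ q : F[X], aeval y' (q.map iF) = algebraMap K K' (aeval y q) := fun q => by
    rw [aeval_def, Polynomial.eval₂_map, hiF, ← Polynomial.hom_eval₂]; rfl
  have hy'f : aeval y' f' = 0 := by rw [hf', hf'ev, minpoly.aeval, map_zero]
  have hfm : f.Monic := minpoly.monic (Algebra.IsIntegral.isIntegral y)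
  have hgen : Algebra.adjoin F' ({y'} : Set K') = ⊤ := by
    refine eq_top_iff.2 fun z _ => ?_
    refine (Submodule.span_le (p := ((Algebra.adjoin F' ({y'} : Set K')).restrictScalars k').toSubmodule)).2 ?_
      (h.mem_span z)
    rintro _ ⟨a, rfl⟩
    have : a ∈ Algebra.adjoin F ({y} : Set K) := hd.gen ▸ Algebra.mem_top
    show algebraMap K K' a ∈ Algebra.adjoin F' ({y'} : Set K')
    induction this using Algebra.adjoin_induction with
    | mem w hw => rw [Set.mem_singleton_iff.1 hw]; exact Algebra.subset_adjoin rfl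
    | algebraMap c => exact Subalgebra.algebraMap_mem (Algebra.adjoin F' ({y'} : Set K')) (iF c)
    | add a b _ _ ha hb => rw [map_add]; exact add_mem ha hb
    | mul a b _ _ ha hb => rw [map_mul]; exact mul_mem ha hb
  have hIFgen : adjoin F' ({y'} : Set K') = ⊤ := by
    apply IntermediateField.toSubalgebra_injective
    rw [IntermediateField.adjoin_simple_toSubalgebra_of_isAlgebraic (Algebra.IsAlgebraic.isAlgebraic _), hgen,
      IntermediateField.top_toSubalgebra]
  have hIgenK : adjoin F ({y} : Set K) = ⊤ := by
    apply IntermediateField.toSubalgebra_injective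
    rw [IntermediateField.adjoin_simple_toSubalgebra_of_isAlgebraic (Algebra.IsAlgebraic.isAlgebraic _), hd.gen,
      IntermediateField.top_toSubalgebra]
  have hmin : minpoly F' y' = f' := by
    refine (Polynomial.eq_of_monic_of_dvd_of_natDegree_le (minpoly.monic (Algebra.IsIntegral.isIntegral y'))
      (hfm.map iF) (minpoly.dvd F' y' hy'f) ?_).symm
    rw [natDegree_map, ← IntermediateField.adjoin.finrank (Algebra.IsIntegral.isIntegral y'), hIFgen,
      ← IntermediateField.adjoin.finrank (Algebra.IsIntegral.isIntegral y), hIgenK,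
      IntermediateField.finrank_top', IntermediateField.finrank_top', hn]
  have hsep' : IsSeparable F' y' := by
    show (minpoly F' y').Separable
    rw [hmin]; exact Polynomial.Separable.map hd.sep
  haveI : Algebra.IsSeparable F' K' := by
    haveI : Algebra.IsSeparable F' (adjoin F' ({y'} : Set K')) :=
      (IntermediateField.isSeparable_adjoin_simple_iff_isSeparable F' K').2 hsep'
    exact Algebra.IsSeparable.of_algHom F' (adjoin F' ({y'} : Set K'))
      ((IntermediateField.equivOfEq hIFgen).trans IntermediateField.topEquiv).symm.toAlgHom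
  haveI : IsIntegrallyClosed A' :=
    IsIntegrallyClosed.of_equiv ((AlgEquiv.ofInjective (aeval x') (transcendental_iff_injective.1 hx't)).trans
      (Subalgebra.equivOfEq _ _ (Algebra.adjoin_singleton_eq_range_aeval k' x').symm)).toRingEquiv
  letI algA'F' : Algebra A' F' :=
    (Subalgebra.inclusion (IntermediateField.algebra_adjoin_le_adjoin k' ({x'} : Set K'))).toAlgebra
  haveI htower : IsScalarTower A' F' K' := IsScalarTower.of_algebraMap_eq fun _ => rfl
  haveI hfrac : IsFractionRing A' F' :=
    .of_field _ _ fun ⟨w, hw⟩ =>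
      have ⟨r, hr, s, hs, eq⟩ := IntermediateField.mem_adjoin_iff_div.mp hw
      ⟨⟨r, hr⟩, ⟨s, hs⟩, Subtype.ext eq⟩
  -- clear the poles of `z` away from `P`
  set O' := P.O.toSubring.map (algebraMap K K')
  obtain ⟨p, hpm, hpz⟩ := hz
  have hzP : ∀ (R : Place k' K') (e : ℕ), (∀ a : K, val R (algebraMap K K' a) = val P a ^ e) → val R z ≤ 1 := by
    intro R e he
    refine val_le_one_of_monic (val R) (algebraMap O' K') ?_ hpm hpz
    rintro ⟨_, o, ho, rfl⟩
    show val R (algebraMap K K' o) ≤ 1
    rw [he]; exact pow_le_one₀ zero_le ho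
  choose rP re hre0 hre using fun R : Place k' K' => exists_restrict h R
  let T := ((hfg'.finite_support_ord z).subset
    (show {R : Place k' K' | R.ord z < 0 ∧ val R x' ≤ 1} ⊆ _ from fun R hR => hR.1.ne)).toFinset
  let S : Finset (Place k K) := insert P (T.image rP)
  obtain ⟨Pinf, hPinf⟩ := exists_pole' hK.1 hd.tr
  have hinfS : Pinf ∉ S := by
    intro hmem
    rcases Finset.mem_insert.1 hmem with rfl | hmem
    · exact absurd hPx (not_le.2 hPinf)
    · obtain ⟨R, hR, rfl⟩ := Finset.mem_image.1 hmem
      have h1 := (Set.Finite.mem_toFinset _).1 hR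
      have h2 := h1.2
      rw [hre R x] at h2
      exact absurd ((pow_le_one_iff (hre0 R).ne').1 h2) (not_le.2 hPinf)
  let N : ℕ := ∑ R ∈ T, (R.ord z).natAbs
  obtain ⟨a, haS, haO⟩ := strong_approximation' hK Pinf S hinfS (fun _ => 0)
    (fun Q => if Q = P then 0 else -(N : ℤ))
  have haP : val P a = 1 := by
    have := haS P (Finset.mem_insert_self _ _)
    rwa [sub_zero, if_pos rfl, exp_zero] at this
  have ha0 : a ≠ 0 := fun h0 => by simp [h0] at haP
  have hreg : ∀ R : Place k' K', val R x' ≤ 1 → val R (algebraMap K K' a * z) ≤ 1 := by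
    intro R hRx
    have hz0 : val R z ≤ 1 ∨ R ∈ T := by
      rcases eq_or_ne z 0 with rfl | hz0
      · left; simp
      rcases le_or_gt (val R z) 1 with hle | hgt
      · exact Or.inl hle
      · refine Or.inr ((Set.Finite.mem_toFinset _).2 ⟨?_, hRx⟩)
        have := (val_le_one_iff R hz0).not.1 (not_le.2 hgt)
        omega
    have haR : val (rP R) a ≤ 1 := by
      by_cases hmem : rP R ∈ S
      · have := haS (rP R) hmem
        rw [sub_zero] at this
        rw [this, ← exp_zero, exp_le_exp]
        split_ifs <;> omega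
      · refine haO _ (fun heq => ?_) hmem
        rw [hre R x, heq] at hRx
        exact absurd ((pow_le_one_iff (hre0 R).ne').1 hRx) (not_le.2 hPinf)
    rw [map_mul, hre R a]
    rcases hz0 with hz1 | hRT
    · exact mul_le_one' (pow_le_one₀ zero_le haR) hz1
    by_cases hRP : rP R = P
    · exact mul_le_one' (pow_le_one₀ zero_le haR) (hzP R (re R) (by rw [← hRP]; exact hre R))
    have h1 := haS (rP R) (Finset.mem_insert_of_mem (Finset.mem_image_of_mem rP hRT))
    rw [sub_zero, if_neg hRP] at h1
    rcases eq_or_ne z 0 with rfl | hz0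
    · simp
    rw [h1, val_eq R hz0, ← exp_nsmul, ← exp_add, ← exp_zero, exp_le_exp, nsmul_eq_mul]
    have hN : (R.ord z).natAbs ≤ N := Finset.single_le_sum (f := fun R => (R.ord z).natAbs) (fun _ _ => Nat.zero_le _) hRT
    have he1 : (1 : ℤ) ≤ re R := by exact_mod_cast hre0 R
    have h2 : (N : ℤ) ≤ re R * N := le_mul_of_one_le_left (Int.natCast_nonneg _) he1
    rw [mul_neg]
    omega
  have hint := isIntegral_adjoin_of_forall hfg' hx't hreg
  -- the trace dual
  have hdual : algebraMap K K' a * z ∈
      (Algebra.traceForm F' K').dualSubmodule (Subalgebra.toSubmodule (Algebra.adjoin A' ({y'} : Set K'))) := by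
    rw [LinearMap.BilinForm.mem_dualSubmodule]
    intro w hw
    rw [Submodule.mem_one, Algebra.traceForm_apply]
    refine IsIntegrallyClosed.isIntegral_iff.1 (Algebra.isIntegral_trace (hint.mul ?_))
    exact Algebra.adjoin_le (S := integralClosure A' K') (Set.singleton_subset_iff.2 hy'int) hw
  rw [traceForm_dualSubmodule_adjoin A' F' hgen hy'int, hmin, hf', derivative_map, hf'ev, ← hD] at hdual
  obtain ⟨w, hw, hwz⟩ := hdual
  have hwz' : (algebraMap K K' D)⁻¹ * w = algebraMap K K' a * z := hwz
  have hzeq : z = algebraMap K K' (a⁻¹ * D⁻¹) * w := by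
    rw [map_mul, map_inv₀, map_inv₀, mul_assoc, hwz', inv_mul_cancel_left₀ (by simpa using ha0)]
  have hO : ∀ b : K, val P b ≤ 1 → algebraMap K K' b ∈ Algebra.adjoin O' (Set.range (algebraMap k' K')) :=
    fun b hb => Subalgebra.algebraMap_mem (Algebra.adjoin O' _) (⟨_, b, hb, rfl⟩ : O')
  rw [hzeq]
  refine mul_mem (hO _ ?_) ?_
  · rw [map_mul, map_inv₀, map_inv₀, haP, hPD, inv_one, one_mul]
  have hyP : val P y ≤ 1 := by
    obtain ⟨q, hq, hqy⟩ := hd.int
    exact val_le_one_of_monic (val P) (algebraMap A K) (fun c => val_le_one_of_mem_adjoin P hPx c.2) hq hqy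
  change w ∈ Algebra.adjoin A' ({y'} : Set K') at hw
  clear hwz hwz' hzeq
  induction hw using Algebra.adjoin_induction with
  | mem v hv => rw [Set.mem_singleton_iff.1 hv]; exact hO y hyP
  | algebraMap c =>
    show (c : K') ∈ _
    suffices ∀ u ∈ A', u ∈ Algebra.adjoin O' (Set.range (algebraMap k' K')) from this _ c.2
    intro u hu
    induction hu using Algebra.adjoin_induction with
    | mem v hv => rw [Set.mem_singleton_iff.1 hv]; exact hO x hPx
    | algebraMap t => exact Algebra.subset_adjoin ⟨t, rfl⟩
    | add a b _ _ ha hb => exact add_mem ha hb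
    | mul a b _ _ ha hb => exact mul_mem ha hb
  | add a b _ _ ha hb => exact add_mem ha hb
  | mul a b _ _ ha hb => exact mul_mem ha hb

theorem integralClosure_eq_of_good (h : IsBar k K k' K') (hK : IsFunctionField k K) {x y : K}
    (hd : Data (k := k) x y) (P : Place k K) (hPx : val P x ≤ 1)
    (hPD : val P (aeval y (minpoly (adjoin k ({x} : Set K)) y).derivative) = 1) :
    integralClosure (P.O.toSubring.map (algebraMap K K')) K' =
      Algebra.adjoin (P.O.toSubring.map (algebraMap K K')) (Set.range (algebraMap k' K')) := by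
  refine le_antisymm (fun z hz => mem_adjoin_of_good h hK hd P hPx hPD hz) (Algebra.adjoin_le ?_)
  rintro _ ⟨c, rfl⟩
  obtain ⟨p, hp, hpc⟩ := Algebra.IsIntegral.isIntegral (R := k) c
  let σ : k →+* P.O.toSubring.map (algebraMap K K') :=
    ((algebraMap K K').comp (algebraMap k K)).codRestrict _ fun t => ⟨_, P.2.1 t, rfl⟩
  refine ⟨p.map σ, hp.map σ, ?_⟩
  rw [Polynomial.eval₂_map]
  have hσ : (algebraMap (P.O.toSubring.map (algebraMap K K')) K').comp σ =
      (algebraMap k' K').comp (algebraMap k k') := by
    ext t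
    show algebraMap K K' (algebraMap k K t) = algebraMap k' K' (algebraMap k k' t)
    rw [← IsScalarTower.algebraMap_apply, ← IsScalarTower.algebraMap_apply]
  rw [hσ, ← Polynomial.hom_eval₂, hpc, map_zero]

end Main

/-- The exceptional set. -/
theorem exists_finite_exceptional {k : Type u} {K : Type v} [Field k] [Field K] [Algebra k K]
    (hK : IsFunctionField k K) {x y : K} (hd : Data (k := k) x y) :
    {P : Place k K | ¬ (val P x ≤ 1 ∧
      val P (aeval y (minpoly (adjoin k ({x} : Set K)) y).derivative) = 1)}.Finite := by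
  have hfg : IsFG k K := hK.1
  set D := aeval y (minpoly (adjoin k ({x} : Set K)) y).derivative
  have hD : D ≠ 0 := hd.sep.aeval_derivative_ne_zero (minpoly.aeval _ y)
  refine ((hfg.finite_support_ord x).union (hfg.finite_support_ord D)).subset fun P hP => ?_
  rcases not_and_or.1 hP with h1 | h1
  · refine Or.inl ?_
    have hx0 : x ≠ 0 := fun h0 => h1 (by simp [h0])
    have := (val_le_one_iff P hx0).not.1 h1
    show P.ord x ≠ 0
    omega
  · refine Or.inr fun (h0 : P.ord D = 0) => h1 ?_
    rw [val_eq P hD, h0, neg_zero, exp_zero]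

end GrothLib.FunFld.NonsingFinite
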