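import Groth.Agent.Lib.FunFld.NonsingTower
import Mathlib.FieldTheory.Galois.Basic
import Mathlib.FieldTheory.Normal.Closure
import Mathlib.RingTheory.Ideal.Quotient.Basic

/-!
A finite purely inseparable extension of the constants making a function field nonsingular.
-/

set_option autoImplicit false
set_option linter.style.haveILetI false
set_option linter.unusedSectionVars false

namespace GrothLib.FunFld.NonsingSplit

open _root_.FunFld GrothLib.FunFld GrothLib.FunFld.RH GrothLib.FunFld.NonsingFinite
  GrothLib.FunFld.NonsingTower GrothLib.FunFld.SplitCount WithZero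
open scoped TensorProduct

universe u v u₁ u₂ u₃ u₄ u₅ u₆

noncomputable local instance (priority := high) resSMul {k K : Type*} [Field k] [Field K] [Algebra k K]
    (P : Place k K) : SMul k (IsLocalRing.ResidueField P.O) := Algebra.toSMul

noncomputable local instance (priority := high) resModule {k K : Type*} [Field k] [Field K] [Algebra k K]
    (P : Place k K) : Module k (IsLocalRing.ResidueField P.O) := Algebra.toModule

/-- The fixed field of the automorphisms of a normal extension is purely inseparable. -/
theorem isPurelyInseparable_fixedField {k : Type u₁} {N : Type u₂} [Field k] [Field N] [Algebra k N]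
    [FiniteDimensional k N] [Normal k N] :
    IsPurelyInseparable k (IntermediateField.fixedField (⊤ : Subgroup Gal(N/k))) := by
  classical
  rw [isPurelyInseparable_iff_natSepDegree_eq_one]
  intro a
  have heq : minpoly k a = minpoly k (a : N) := (minpoly.algebraMap_eq (FaithfulSMul.algebraMap_injective _ N) a).symm
  have hint : IsIntegral k (a : N) := Algebra.IsIntegral.isIntegral _
  rw [heq, Polynomial.natSepDegree_eq_of_splits (E := N) _ (Normal.splits inferInstance _)]
  rw [Finset.card_eq_one]
  refine ⟨(a : N), Finset.eq_singleton_iff_unique_mem.2 ⟨?_, fun r hr => ?_⟩⟩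
  · rw [Multiset.mem_toFinset, Polynomial.mem_aroots]
    exact ⟨minpoly.ne_zero hint, minpoly.aeval _ _⟩
  · rw [Multiset.mem_toFinset, Polynomial.mem_aroots] at hr
    obtain ⟨σ, hσ⟩ := minpoly.exists_algEquiv_of_root' hint.isAlgebraic hr.2
    rw [← hσ]
    exact a.2 ⟨σ, Subgroup.mem_top σ⟩

/-- `k' ⊗ K ≅ K'` over `k'`. -/
noncomputable def barEquiv {k : Type u₁} {K : Type u₂} {k' : Type u₃} {K' : Type u₄}
    [Field k] [Field K] [Field k'] [Field K'] [Algebra k k'] [Algebra k K] [Algebra K K'] [Algebra k' K']
    [Algebra k K'] [IsScalarTower k k' K'] [IsScalarTower k K K'] (h : IsBar k K k' K') :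
    k' ⊗[k] K ≃ₐ[k'] K' :=
  AlgEquiv.ofBijective
    (Algebra.TensorProduct.lift (Algebra.ofId k' K') (IsScalarTower.toAlgHom k K K') fun _ _ => Commute.all _ _)
    (by
      have : ⇑(Algebra.TensorProduct.lift (Algebra.ofId k' K') (IsScalarTower.toAlgHom k K K')
          fun _ _ => Commute.all _ _) = ⇑(Algebra.TensorProduct.productMap (IsScalarTower.toAlgHom k k' K')
          (IsScalarTower.toAlgHom k K K')) := by
        funext z
        induction z using TensorProduct.induction_on with
        | zero => simp
        | tmul a b => simp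
        | add a b ha hb => simp only [map_add, ha, hb]
      rw [this]
      exact h)

@[simp] theorem barEquiv_tmul {k : Type u₁} {K : Type u₂} {k' : Type u₃} {K' : Type u₄}
    [Field k] [Field K] [Field k'] [Field K'] [Algebra k k'] [Algebra k K] [Algebra K K'] [Algebra k' K']
    [Algebra k K'] [IsScalarTower k k' K'] [IsScalarTower k K K'] (h : IsBar k K k' K') (a : k') (b : K) :
    barEquiv h (a ⊗ₜ b) = algebraMap k' K' a * algebraMap K K' b := by
  simp [barEquiv]

/-- Transitivity and cancellation of base change. -/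
theorem isBar_iff {k : Type u₁} {K : Type u₂} {k' : Type u₃} {K' : Type u₄} {k'' : Type u₅} {K'' : Type u₆}
    [Field k] [Field K] [Field k'] [Field K'] [Field k''] [Field K'']
    [Algebra k k'] [Algebra k' k''] [Algebra k k''] [IsScalarTower k k' k'']
    [Algebra k K] [Algebra K K'] [Algebra k' K'] [Algebra k K'] [IsScalarTower k k' K'] [IsScalarTower k K K']
    [Algebra K' K''] [Algebra k'' K''] [Algebra k' K''] [Algebra k K''] [Algebra K K'']
    [IsScalarTower k' k'' K''] [IsScalarTower k' K' K''] [IsScalarTower K K' K''] [IsScalarTower k K K'']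
    [IsScalarTower k k'' K''] (h1 : IsBar k K k' K') :
    IsBar k' K' k'' K'' ↔ IsBar k K k'' K'' := by
  let e := barEquiv h1
  let c := (Algebra.TensorProduct.cancelBaseChange k k' k' k'' K).symm.trans
    (Algebra.TensorProduct.congr (AlgEquiv.refl : k'' ≃ₐ[k'] k'') e)
  have hcomp : ⇑(Algebra.TensorProduct.productMap (IsScalarTower.toAlgHom k k'' K'') (IsScalarTower.toAlgHom k K K'')) =
      ⇑(Algebra.TensorProduct.productMap (IsScalarTower.toAlgHom k' k'' K'') (IsScalarTower.toAlgHom k' K' K'')) ∘ ⇑c := by
    funext z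
    induction z using TensorProduct.induction_on with
    | zero => simp
    | add a b ha hb => simp only [Function.comp_apply, map_add] at ha hb ⊢; rw [ha, hb]
    | tmul a b =>
      simp [c, e, IsScalarTower.algebraMap_apply K K' K'']
  show Function.Bijective _ ↔ Function.Bijective _
  rw [hcomp]
  exact (Function.Bijective.of_comp_iff _ c.bijective).symm

/-- A finite constant extension is geometric again. -/
theorem isGeometric_of_isBar {k k' : Type u} {K : Type u₂} {K' : Type u₄} [Field k] [Field K] [Field k'] [Field K']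
    [Algebra k K] [Algebra k k'] [FiniteDimensional k k'] [Algebra K K'] [Algebra k' K'] [Algebra k K']
    [IsScalarTower k k' K'] [IsScalarTower k K K'] (hg : IsGeometric k K) (h : IsBar k K k' K') :
    IsGeometric k' K' := by
  intro k'' _ _ hfin
  letI : Algebra k k'' := ((algebraMap k' k'').comp (algebraMap k k')).toAlgebra
  haveI : IsScalarTower k k' k'' := IsScalarTower.of_algebraMap_eq fun _ => rfl
  haveI : FiniteDimensional k k'' := Module.Finite.trans k' k''
  let e := barEquiv h
  exact ((Algebra.TensorProduct.congr (AlgEquiv.refl : k'' ≃ₐ[k'] k'') e).symm.trans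
    (Algebra.TensorProduct.cancelBaseChange k k' k' k'' K)).toMulEquiv.isField (hg k'' inferInstance)

section Reduced

variable {k : Type u₁} {K : Type u₂} {k' : Type u₃} {K' : Type u₄} [Field k] [Field K] [Field k'] [Field K']
  [Algebra k K] [Algebra k k'] [FiniteDimensional k k'] [Algebra K K'] [Algebra k' K'] [Algebra k K']
  [IsScalarTower k k' K'] [IsScalarTower k K K']

theorem nonsing_of_isReduced (h : IsBar k K k' K') (P : Place k K)
    [IsReduced (k' ⊗[k] IsLocalRing.ResidueField P.O)] : Nonsing k' K' P := by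
  refine nonsing_of_forall fun z hz => ?_
  letI : Algebra P.O K' := ((algebraMap K K').comp P.O.subtype).toAlgebra
  haveI : IsScalarTower P.O K K' := IsScalarTower.of_algebraMap_eq fun _ => rfl
  obtain ⟨u, hu⟩ := h.2 z
  obtain ⟨w, rfl⟩ := mem_range_of_isIntegral (ψ := IsScalarTower.toAlgHom k k' K') h.1
    ((mem_integralClosure_iff P).1 hz) hu
  show model P _ w ∈ _
  clear hz hu
  induction w using TensorProduct.induction_on with
  | zero => rw [map_zero]; exact zero_mem _
  | tmul c o =>
    rw [model_tmul]
    exact mul_mem (Algebra.subset_adjoin ⟨c, rfl⟩)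
      (Subalgebra.algebraMap_mem (Algebra.adjoin (P.O.toSubring.map (algebraMap K K')) _)
        (⟨_, o, o.2, rfl⟩ : P.O.toSubring.map (algebraMap K K')))
  | add a b ha hb => rw [map_add]; exact add_mem ha hb

theorem nonsing_of_deg_one (h : IsBar k K k' K') (hK : IsFG k K) (P : Place k K) (hd : P.deg = 1) :
    Nonsing k' K' P := by
  haveI hfin : @Module.Finite k (IsLocalRing.ResidueField P.O) _ _ Algebra.toModule := hK.finite_residueField P
  haveI : Algebra.IsSeparable k (IsLocalRing.ResidueField P.O) := ⟨fun a => by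
    obtain ⟨c, rfl⟩ := (finrank_eq_one_iff_of_nonzero' (1 : IsLocalRing.ResidueField P.O) one_ne_zero).1 hd a
    convert isSeparable_algebraMap (K := IsLocalRing.ResidueField P.O) c using 1
    exact (Algebra.smul_def c (1 : IsLocalRing.ResidueField P.O)).trans (mul_one _)⟩
  haveI : IsReduced (k' ⊗[k] IsLocalRing.ResidueField P.O) := isReduced_tensor_right
  exact nonsing_of_isReduced h P

end Reduced

theorem hasExtension_of_pow {k : Type u₁} {K : Type u₂} {k' : Type u₃} {K' : Type u₄} [Field k] [Field K]
    [Field k'] [Field K'] [Algebra k K] [Algebra K K'] [Algebra k' K'] (P : Place k K) (R : Place k' K') {e : ℕ}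
    (he : 0 < e) (h : ∀ a : K, val R (algebraMap K K' a) = val P a ^ e) : P.1.HasExtension R.1 := by
  refine ⟨fun a b => ?_⟩
  show P.1 a ≤ P.1 b ↔ R.1 (algebraMap K K' a) ≤ R.1 (algebraMap K K' b)
  rw [show R.1 (algebraMap K K' a) = P.1 a ^ e from h a, show R.1 (algebraMap K K' b) = P.1 b ^ e from h b,
    pow_le_pow_iff_left₀ zero_le zero_le he.ne']

/-- The splitting hypothesis gives nonsingularity of all places. -/
theorem nonsing_all {k : Type u₁} {K : Type u₂} {N : Type u₃} {L : Type u₄} {k4 : Type u₅} {L4 : Type u₆}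
    [Field k] [Field K] [Field N] [Field L] [Field k4] [Field L4]
    [Algebra k N] [Algebra N k4] [Algebra k k4] [IsScalarTower k N k4]
    [FiniteDimensional k N] [FiniteDimensional N k4]
    [Algebra k K] [Algebra K L] [Algebra N L] [Algebra k L] [IsScalarTower k N L] [IsScalarTower k K L]
    [Algebra L L4] [Algebra k4 L4] [Algebra N L4] [Algebra k L4] [Algebra K L4]
    [IsScalarTower N k4 L4] [IsScalarTower N L L4] [IsScalarTower K L L4] [IsScalarTower k K L4]
    [IsScalarTower k k4 L4]
    (h1 : IsBar k K N L) (h2 : IsBar N L k4 L4) (hK : IsFunctionField k K) {x y : K} (hd : Data (k := k) x y)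
    (hB : ∀ (P : Place k K), ¬ (val P x ≤ 1 ∧
        val P (Polynomial.aeval y (Polynomial.derivative (minpoly (IntermediateField.adjoin k ({x} : Set K)) y))) = 1) →
      ∀ R : Place N L, P.1.HasExtension R.1 → R.deg = 1)
    (R : Place N L) : Nonsing k4 L4 R := by
  haveI := finiteDimensional_of_isBar h1
  haveI : FiniteDimensional k k4 := Module.Finite.trans N k4
  let R₀ : Place k L := ⟨R.1, fun a => by rw [IsScalarTower.algebraMap_apply k N L]; exact R.2.1 _, R.2.2⟩
  obtain ⟨P, e, he0, he⟩ := exists_isOverWith (K := K) R₀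
  by_cases hP : val P x ≤ 1 ∧
      val P (Polynomial.aeval y (Polynomial.derivative (minpoly (IntermediateField.adjoin k ({x} : Set K)) y))) = 1
  · have h14 : IsBar k K k4 L4 := (isBar_iff h1).1 h2
    have hP4 : Nonsing k4 L4 P := integralClosure_eq_of_good h14 hK hd P hP.1 hP.2
    exact nonsing_top (k' := N) h1 h2 hK.1 P hP4 R₀ ⟨e, he⟩
  · have hR1 := hB P hP R (hasExtension_of_pow P R he0 he)
    obtain ⟨x₁, hx₁, hfin⟩ := hK.1
    exact nonsing_of_deg_one h2 ⟨_, h1.transcendental hx₁, h1.finiteDimensional (x := x₁)⟩ R hR1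

/-- Nonsingularity after a purely inseparable extension, given a separable splitting extension of it. -/
theorem nonsing_key {k k' N : Type u} {K : Type v} [Field k] [Field k'] [Field N] [Field K]
    [Algebra k K] [Algebra k k'] [Algebra k' N] [Algebra k N] [IsScalarTower k k' N]
    [FiniteDimensional k k'] [FiniteDimensional k' N] [FiniteDimensional k N] [Algebra.IsSeparable k' N]
    (hK : IsFunctionField k K) (hg : IsGeometric k K) {x y : K} (hd : Data (k := k) x y)
    (hN : ∀ (P : Place k K), ¬ (val P x ≤ 1 ∧
        val P (Polynomial.aeval y (Polynomial.derivative (minpoly (IntermediateField.adjoin k ({x} : Set K)) y))) = 1) →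
      ∀ (L : Type (max u v)) [Field L] [Algebra K L] [Algebra N L] [Algebra k L] [IsScalarTower k N L]
        [IsScalarTower k K L], IsBar k K N L → ∀ R : Place N L, P.1.HasExtension R.1 → R.deg = 1)
    {K' : Type v} [Field K'] [Algebra K K'] [Algebra k' K'] [Algebra k K'] [IsScalarTower k k' K']
    [IsScalarTower k K K'] (h1 : IsBar k K k' K') (Q : Place k' K')
    (k'' : Type u) [Field k''] [Algebra k' k''] [FiniteDimensional k' k'']
    (K'' : Type v) [Field K''] [Algebra K' K''] [Algebra k'' K''] [Algebra k' K'']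
    [IsScalarTower k' k'' K''] [IsScalarTower k' K' K''] (h2 : IsBar k' K' k'' K'') : Nonsing k'' K'' Q := by
  classical
  have hg' : IsGeometric k' K' := isGeometric_of_isBar hg h1
  -- the composite field of constants
  obtain ⟨k4, _, _, _, ⟨iN⟩, ⟨i''⟩⟩ : ∃ (k4 : Type u) (_ : Field k4) (_ : Algebra k' k4),
      FiniteDimensional k' k4 ∧ Nonempty (N →ₐ[k'] k4) ∧ Nonempty (k'' →ₐ[k'] k4) := by
    haveI : Nontrivial (N ⊗[k'] k'') := (Algebra.TensorProduct.includeLeft_injective (R := k') (S := k') (A := N)
      (B := k'') (algebraMap k' k'').injective).nontrivial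
    obtain ⟨m, hm⟩ := Ideal.exists_maximal (N ⊗[k'] k'')
    exact ⟨(N ⊗[k'] k'') ⧸ m, Ideal.Quotient.field m, inferInstance,
      Module.Finite.of_surjective (Ideal.Quotient.mkₐ k' m).toLinearMap (Ideal.Quotient.mkₐ_surjective k' m),
      ⟨(Ideal.Quotient.mkₐ k' m).comp Algebra.TensorProduct.includeLeft⟩,
      ⟨(Ideal.Quotient.mkₐ k' m).comp Algebra.TensorProduct.includeRight⟩⟩
  letI : Algebra N k4 := iN.toRingHom.toAlgebra
  letI : Algebra k'' k4 := i''.toRingHom.toAlgebra
  haveI : IsScalarTower k' N k4 := IsScalarTower.of_algebraMap_eq fun c => (iN.commutes c).symm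
  haveI : IsScalarTower k' k'' k4 := IsScalarTower.of_algebraMap_eq fun c => (i''.commutes c).symm
  haveI : FiniteDimensional N k4 := Module.Finite.of_restrictScalars_finite k' N k4
  haveI : FiniteDimensional k'' k4 := Module.Finite.of_restrictScalars_finite k' k'' k4
  letI : Algebra k k4 := ((algebraMap k' k4).comp (algebraMap k k')).toAlgebra
  haveI : IsScalarTower k k' k4 := IsScalarTower.of_algebraMap_eq fun _ => rfl
  haveI : IsScalarTower k N k4 := IsScalarTower.of_algebraMap_eq fun c => by
    rw [IsScalarTower.algebraMap_apply k k' k4, IsScalarTower.algebraMap_apply k k' N,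
      ← IsScalarTower.algebraMap_apply k' N k4]
  -- the fields
  let L := N ⊗[k'] K'
  letI : Field L := (hg' N inferInstance).toField
  let L4 := k4 ⊗[k'] K'
  letI : Field L4 := (hg' k4 inferInstance).toField
  letI : Algebra K' L := (Algebra.TensorProduct.includeRight : K' →ₐ[k'] L).toRingHom.toAlgebra
  haveI : IsScalarTower k' K' L := IsScalarTower.of_algebraMap_eq fun c =>
    ((Algebra.TensorProduct.includeRight : K' →ₐ[k'] L).commutes c).symm
  letI : Algebra K' L4 := (Algebra.TensorProduct.includeRight : K' →ₐ[k'] L4).toRingHom.toAlgebra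
  haveI : IsScalarTower k' K' L4 := IsScalarTower.of_algebraMap_eq fun c =>
    ((Algebra.TensorProduct.includeRight : K' →ₐ[k'] L4).commutes c).symm
  have bid : ∀ (A : Type u) [Field A] [Algebra k' A] (_ : IsField (A ⊗[k'] K')),
      Function.Bijective (Algebra.TensorProduct.productMap
        (Algebra.TensorProduct.includeLeft : A →ₐ[k'] A ⊗[k'] K')
        (Algebra.TensorProduct.includeRight : K' →ₐ[k'] A ⊗[k'] K')) := by
    intro A _ _ _
    rw [show Algebra.TensorProduct.productMap (Algebra.TensorProduct.includeLeft : A →ₐ[k'] A ⊗[k'] K')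
        Algebra.TensorProduct.includeRight = AlgHom.id k' (A ⊗[k'] K') from
      Algebra.TensorProduct.ext' fun a b => by simp]
    exact Function.bijective_id
  have hL : IsBar k' K' N L := bid N (hg' N inferInstance)
  have hL4 : IsBar k' K' k4 L4 := bid k4 (hg' k4 inferInstance)
  -- maps into the top field
  let j : L →ₐ[k'] L4 := Algebra.TensorProduct.map iN (AlgHom.id k' K')
  letI : Algebra L L4 := j.toRingHom.toAlgebra
  haveI : IsScalarTower N L L4 := IsScalarTower.of_algebraMap_eq fun c => by
    show _ = j (c ⊗ₜ 1)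
    simp [j]; rfl
  haveI : IsScalarTower K' L L4 := IsScalarTower.of_algebraMap_eq fun c => by
    show (1 : k4) ⊗ₜ[k'] c = Algebra.TensorProduct.map iN (AlgHom.id k' K') ((1 : N) ⊗ₜ[k'] c)
    rw [Algebra.TensorProduct.map_tmul, map_one, AlgHom.id_apply]
  haveI : IsScalarTower k' N L4 := IsScalarTower.of_algebraMap_eq fun c => by
    rw [IsScalarTower.algebraMap_apply N k4 L4, ← IsScalarTower.algebraMap_apply k' N k4,
      IsScalarTower.algebraMap_apply k' k4 L4]
  haveI : IsScalarTower k' k4 L4 := inferInstance
  have hLL4 : IsBar N L k4 L4 := (isBar_iff hL).2 hL4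
  let e'' : k'' ⊗[k'] K' ≃ₐ[k'] K'' := AlgEquiv.ofBijective _ h2
  let j'' : K'' →ₐ[k'] L4 := (Algebra.TensorProduct.map i'' (AlgHom.id k' K')).comp e''.symm.toAlgHom
  letI : Algebra K'' L4 := j''.toRingHom.toAlgebra
  have hjK : ∀ a : K', j'' (algebraMap K' K'' a) = algebraMap K' L4 a := fun a => by
    show Algebra.TensorProduct.map i'' (AlgHom.id k' K') (e''.symm (algebraMap K' K'' a)) = _
    rw [show algebraMap K' K'' a = e'' (1 ⊗ₜ a) by simp [e''], e''.symm_apply_apply]
    simp; rfl
  have hjk : ∀ c : k'', j'' (algebraMap k'' K'' c) = algebraMap k'' L4 c := fun c => by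
    show Algebra.TensorProduct.map i'' (AlgHom.id k' K') (e''.symm (algebraMap k'' K'' c)) = _
    rw [show algebraMap k'' K'' c = e'' (c ⊗ₜ 1) by simp [e''], e''.symm_apply_apply]
    simp; rfl
  haveI : IsScalarTower K' K'' L4 := IsScalarTower.of_algebraMap_eq fun a => (hjK a).symm
  haveI : IsScalarTower k'' K'' L4 := IsScalarTower.of_algebraMap_eq fun a => (hjk a).symm
  haveI : IsScalarTower k' k'' L4 := IsScalarTower.of_algebraMap_eq fun c => by
    rw [IsScalarTower.algebraMap_apply k'' k4 L4, ← IsScalarTower.algebraMap_apply k' k'' k4,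
      ← IsScalarTower.algebraMap_apply k' k4 L4]
  haveI : IsScalarTower k' K'' L4 := IsScalarTower.of_algebraMap_eq fun c => (j''.commutes c).symm
  have hK''L4 : IsBar k'' K'' k4 L4 := (isBar_iff h2).2 hL4
  -- nonsingularity with respect to `k4`
  obtain ⟨x₁, hx₁, hfin₁⟩ := hK.1
  have hK'fg : IsFG k' K' := ⟨_, h1.transcendental hx₁, h1.finiteDimensional (x := x₁)⟩
  haveI : IsReduced (N ⊗[k'] IsLocalRing.ResidueField Q.O) := isReduced_tensor_left
  have hQN : Nonsing N L Q := nonsing_of_isReduced hL Q
  suffices htop : ∀ R : Place k' L, IsOver R Q → Nonsing k4 L4 R from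
    nonsing_bot (k' := k'') (K' := K'') hK''L4 Q (nonsing_trans hL hLL4 hK'fg Q hQN htop)
  -- back to `K`
  letI : Algebra K L := ((algebraMap K' L).comp (algebraMap K K')).toAlgebra
  haveI : IsScalarTower K K' L := IsScalarTower.of_algebraMap_eq fun _ => rfl
  haveI : IsScalarTower k K L := IsScalarTower.of_algebraMap_eq fun c => by
    rw [IsScalarTower.algebraMap_apply k N L, IsScalarTower.algebraMap_apply k k' N,
      ← IsScalarTower.algebraMap_apply k' N L, IsScalarTower.algebraMap_apply k' K' L,
      ← IsScalarTower.algebraMap_apply k k' K', IsScalarTower.algebraMap_apply k K K',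
      ← IsScalarTower.algebraMap_apply K K' L]
  letI : Algebra K L4 := ((algebraMap K' L4).comp (algebraMap K K')).toAlgebra
  haveI : IsScalarTower K K' L4 := IsScalarTower.of_algebraMap_eq fun _ => rfl
  haveI : IsScalarTower K L L4 := IsScalarTower.of_algebraMap_eq fun a => by
    rw [IsScalarTower.algebraMap_apply K K' L4, IsScalarTower.algebraMap_apply K' L L4,
      ← IsScalarTower.algebraMap_apply K K' L]
  haveI : IsScalarTower k K L4 := IsScalarTower.of_algebraMap_eq fun c => by
    rw [IsScalarTower.algebraMap_apply k k4 L4, IsScalarTower.algebraMap_apply k k' k4,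
      ← IsScalarTower.algebraMap_apply k' k4 L4, IsScalarTower.algebraMap_apply k' K' L4,
      ← IsScalarTower.algebraMap_apply k k' K', IsScalarTower.algebraMap_apply k K K',
      ← IsScalarTower.algebraMap_apply K K' L4]
  have hNL : IsBar k K N L := (isBar_iff h1).1 hL
  intro R _
  let R' : Place N L := ⟨R.1, fun c => val_const_le_one R c, R.2.2⟩
  have hmain : Nonsing k4 L4 R' := by
    refine nonsing_all hNL hLL4 hK hd (fun P hP R₁ hR₁ => ?_) R'
    exact hN P hP L hNL R₁ hR₁
  exact hmain

theorem exists_insep_nonsingular {k : Type u} {K : Type v} [Field k] [Field K] [Algebra k K]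
    (hK : IsFunctionField k K) (hg : IsGeometric k K) :
    ∃ (k' : Type u) (_ : Field k') (_ : Algebra k k'), FiniteDimensional k k' ∧ IsPurelyInseparable k k' ∧
      ∀ (K' : Type v) [Field K'] [Algebra K K'] [Algebra k' K'] [Algebra k K']
        [IsScalarTower k k' K'] [IsScalarTower k K K'],
        IsBar k K k' K' →
        ∀ (Q : Place k' K') (k'' : Type u) [Field k''] [Algebra k' k''] [FiniteDimensional k' k'']
          (K'' : Type v) [Field K''] [Algebra K' K''] [Algebra k'' K''] [Algebra k' K'']
          [IsScalarTower k' k'' K''] [IsScalarTower k' K' K''],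
          IsBar k' K' k'' K'' → Nonsing k'' K'' Q := by
  classical
  obtain ⟨x, y, hd⟩ := exists_data hK hg
  have hBfin := exists_finite_exceptional hK hd
  set kb := AlgebraicClosure k
  have hF := SplitField.isField_tensor (kb := kb) hg
  letI : Field (kb ⊗[k] K) := hF.toField
  letI : Algebra K (kb ⊗[k] K) := (Algebra.TensorProduct.includeRight : K →ₐ[k] kb ⊗[k] K).toRingHom.toAlgebra
  haveI : IsScalarTower k K (kb ⊗[k] K) := IsScalarTower.of_algebraMap_eq fun c =>
    ((Algebra.TensorProduct.includeRight : K →ₐ[k] kb ⊗[k] K).commutes c).symm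
  have hbar : IsBar k K kb (kb ⊗[k] K) := by
    have : Algebra.TensorProduct.productMap (IsScalarTower.toAlgHom k kb (kb ⊗[k] K))
        (IsScalarTower.toAlgHom k K (kb ⊗[k] K)) = AlgHom.id k (kb ⊗[k] K) := by
      refine Algebra.TensorProduct.ext' fun a b => ?_
      rw [Algebra.TensorProduct.productMap_apply_tmul]
      show (a ⊗ₜ[k] (1 : K)) * ((1 : kb) ⊗ₜ[k] b) = a ⊗ₜ[k] b
      rw [Algebra.TensorProduct.tmul_mul_tmul, mul_one, one_mul]
    show Function.Bijective _
    rw [this]
    exact Function.bijective_id
  choose kP hkPfin hkP using fun P : hBfin.toFinset => SplitField.exists_splitting.{u, v, max u v, u, max u v} hbar hK P.1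
  haveI : ∀ P, FiniteDimensional k (kP P) := hkPfin
  let M : IntermediateField k kb := ⨆ P, kP P
  haveI : FiniteDimensional k M := IntermediateField.finiteDimensional_iSup_of_finite
  let N : IntermediateField k kb := IntermediateField.normalClosure k M kb
  have hMN : M ≤ N := fun a ha => (M.val).fieldRange_le_normalClosure ⟨⟨a, ha⟩, rfl⟩
  haveI : FiniteDimensional k N := inferInstance
  haveI : Normal k N := inferInstance
  let k' : IntermediateField k N := IntermediateField.fixedField (⊤ : Subgroup Gal(N/k))
  haveI : IsGalois k' N := IsGalois.of_fixed_field N (⊤ : Subgroup Gal(N/k))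
  haveI : Algebra.IsSeparable k' N := IsGalois.to_isSeparable
  refine ⟨k', inferInstance, inferInstance, inferInstance, isPurelyInseparable_fixedField, ?_⟩
  intro K' _ _ _ _ _ _ h1 Q k'' _ _ _ K'' _ _ _ _ _ _ h2
  refine nonsing_key (k' := k') (N := N) hK hg hd (fun P hP L _ _ _ _ _ _ hNL R hR => ?_) h1 Q k'' K'' h2
  have hPB : P ∈ hBfin.toFinset := hBfin.mem_toFinset.2 hP
  exact hkP ⟨P, hPB⟩ N ((le_iSup kP ⟨P, hPB⟩).trans hMN) inferInstance L hNL R hR

end GrothLib.FunFld.NonsingSplit
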