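import Groth.Agent.Lib.FunFld.NonsingFinite
import Groth.Agent.Lib.FunFld.SplitCount

/-!
Nonsingularity of places in towers of constant field extensions.
-/

set_option autoImplicit false
set_option linter.style.haveILetI false
set_option linter.unusedSectionVars false

namespace GrothLib.FunFld.NonsingTower

open _root_.FunFld GrothLib.FunFld GrothLib.FunFld.RH GrothLib.FunFld.NonsingFinite WithZero
open scoped TensorProduct

universe u₁ u₂ u₃ u₄ u₅ u₆

/-- Integral elements over the image of a valuation ring. -/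
theorem mem_integralClosure_iff {k : Type u₁} {K : Type u₂} {K' : Type u₃} [Field k] [Field K] [Field K']
    [Algebra k K] [Algebra K K'] (P : Place k K) [Algebra P.O K'] [IsScalarTower P.O K K'] {z : K'} :
    z ∈ integralClosure (P.O.toSubring.map (algebraMap K K')) K' ↔ IsIntegral P.O z := by
  set S := P.O.toSubring.map (algebraMap K K')
  let σ : P.O →+* S :=
    ((algebraMap K K').comp P.O.subtype).codRestrict S fun o => ⟨o, o.2, rfl⟩
  have hσ : Function.Surjective σ := by
    rintro ⟨_, o, ho, rfl⟩
    exact ⟨⟨o, ho⟩, rfl⟩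
  have hcomp : (algebraMap S K').comp σ = algebraMap P.O K' := by
    ext o
    rw [IsScalarTower.algebraMap_apply P.O K K']
    rfl
  constructor
  · rintro ⟨p, hp, hev⟩
    obtain ⟨q, hq, -, hqm⟩ := Polynomial.lifts_and_natDegree_eq_and_monic
      (Polynomial.map_surjective σ hσ p : p ∈ Polynomial.lifts σ) hp
    exact ⟨q, hqm, by rw [← hcomp, ← Polynomial.eval₂_map, hq]; exact hev⟩
  · rintro ⟨p, hp, hev⟩
    exact ⟨p.map σ, hp.map σ, by rw [Polynomial.eval₂_map, hcomp]; exact hev⟩

/-- `P` is nonsingular with respect to `k'`. -/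
def Nonsing {k : Type u₁} {K : Type u₂} [Field k] [Field K] [Algebra k K] (k' : Type u₃) (K' : Type u₄)
    [Field k'] [Field K'] [Algebra K K'] [Algebra k' K'] (P : Place k K) : Prop :=
  integralClosure (P.O.toSubring.map (algebraMap K K')) K' =
    Algebra.adjoin (P.O.toSubring.map (algebraMap K K')) (Set.range (algebraMap k' K'))

section One

variable {k : Type u₁} {K : Type u₂} {k' : Type u₃} {K' : Type u₄} [Field k] [Field K] [Field k'] [Field K']
  [Algebra k K] [Algebra k k'] [FiniteDimensional k k'] [Algebra K K'] [Algebra k' K'] [Algebra k K']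
  [IsScalarTower k k' K'] [IsScalarTower k K K']

theorem adjoin_le_integralClosure (P : Place k K) :
    Algebra.adjoin (P.O.toSubring.map (algebraMap K K')) (Set.range (algebraMap k' K')) ≤
      integralClosure (P.O.toSubring.map (algebraMap K K')) K' := by
  refine Algebra.adjoin_le ?_
  rintro _ ⟨c, rfl⟩
  obtain ⟨p, hp, hpc⟩ := Algebra.IsIntegral.isIntegral (R := k) c
  let σ : k →+* P.O.toSubring.map (algebraMap K K') :=
    ((algebraMap K K').comp (algebraMap k K)).codRestrict _ fun t => ⟨_, P.2.1 t, rfl⟩
  refine ⟨p.map σ, hp.map σ, ?_⟩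
  rw [Polynomial.eval₂_map]
  have hσ : (algebraMap (P.O.toSubring.map (algebraMap K K')) K').comp σ =
      (algebraMap k' K').comp (algebraMap k k') := by
    ext t
    show algebraMap K K' (algebraMap k K t) = algebraMap k' K' (algebraMap k k' t)
    rw [← IsScalarTower.algebraMap_apply, ← IsScalarTower.algebraMap_apply]
  rw [hσ, ← Polynomial.hom_eval₂, hpc, map_zero]

theorem nonsing_of_forall {P : Place k K}
    (h : ∀ z ∈ integralClosure (P.O.toSubring.map (algebraMap K K')) K',
      z ∈ Algebra.adjoin (P.O.toSubring.map (algebraMap K K')) (Set.range (algebraMap k' K'))) :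
    Nonsing k' K' P :=
  le_antisymm h (adjoin_le_integralClosure P)

theorem val_const_le_one (Q : Place k K') (c : k') : val Q (algebraMap k' K' c) ≤ 1 := by
  rcases eq_or_ne c 0 with rfl | hc
  · simp
  · exact (val_eq_one_of_isAlgebraic Q ((Algebra.IsAlgebraic.isAlgebraic (R := k) c).algHom
      (IsScalarTower.toAlgHom k k' K')) (by simpa using hc)).le

/-- `k' ⊗ K` read the other way. -/
theorem isBar_swap (h : IsBar k K k' K') : IsBar k k' K K' := by
  show Function.Bijective _
  have : Algebra.TensorProduct.productMap (IsScalarTower.toAlgHom k K K') (IsScalarTower.toAlgHom k k' K') =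
      (Algebra.TensorProduct.productMap (IsScalarTower.toAlgHom k k' K') (IsScalarTower.toAlgHom k K K')).comp
        (Algebra.TensorProduct.comm k K k').toAlgHom := by
    refine Algebra.TensorProduct.ext' fun a b => ?_
    simp [mul_comm]
  rw [this, AlgHom.coe_comp]
  exact h.comp (Algebra.TensorProduct.comm k K k').bijective

theorem finiteDimensional_of_isBar (h : IsBar k K k' K') : FiniteDimensional K K' := by
  let b := Module.finBasis k k'
  refine Module.Finite.of_surjective (Fintype.linearCombination K fun i => algebraMap k' K' (b i)) fun z => ?_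
  rw [← LinearMap.mem_range, Fintype.range_linearCombination]
  refine (Submodule.span_le.2 ?_) ((isBar_swap h).mem_span z)
  rintro _ ⟨c, rfl⟩
  rw [← b.sum_repr c, map_sum]
  refine Submodule.sum_mem _ fun i _ => ?_
  rw [Algebra.smul_def, map_mul, ← IsScalarTower.algebraMap_apply k k' K', IsScalarTower.algebraMap_apply k K K',
    ← Algebra.smul_def]
  exact Submodule.smul_mem _ _ (Submodule.subset_span ⟨i, rfl⟩)

/-- Coordinates with respect to a basis of the constants. -/
theorem exists_coord {ι : Type*} [Fintype ι] (b : Module.Basis ι k k') (S : Subring K)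
    (hS : ∀ c : k, algebraMap k K c ∈ S) {z : K'}
    (hz : z ∈ Algebra.adjoin (S.map (algebraMap K K')) (Set.range (algebraMap k' K'))) :
    ∃ a : ι → K, (∀ i, a i ∈ S) ∧ z = ∑ i, algebraMap K K' (a i) * algebraMap k' K' (b i) := by
  classical
  let M : Set K' := {z | ∃ a : ι → K, (∀ i, a i ∈ S) ∧ z = ∑ i, algebraMap K K' (a i) * algebraMap k' K' (b i)}
  have hadd : ∀ {u v : K'}, u ∈ M → v ∈ M → u + v ∈ M := by
    rintro _ _ ⟨a, ha, rfl⟩ ⟨a', ha', rfl⟩
    exact ⟨a + a', fun i => S.add_mem (ha i) (ha' i), by simp [map_add, add_mul, Finset.sum_add_distrib]⟩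
  have hterm : ∀ (s : K) (_ : s ∈ S) (c : k'), algebraMap K K' s * algebraMap k' K' c ∈ M := fun s hs c => by
    refine ⟨fun i => s * algebraMap k K (b.repr c i), fun i => S.mul_mem hs (hS _), ?_⟩
    conv_lhs => rw [← b.sum_repr c, map_sum, Finset.mul_sum]
    refine Finset.sum_congr rfl fun i _ => ?_
    rw [Algebra.smul_def, map_mul, map_mul, ← IsScalarTower.algebraMap_apply k k' K',
      ← IsScalarTower.algebraMap_apply k K K', mul_assoc]
  have h0 : (0 : K') ∈ M := ⟨0, fun _ => S.zero_mem, by simp⟩
  show z ∈ M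
  induction hz using Algebra.adjoin_induction with
  | mem w hw =>
    obtain ⟨c, rfl⟩ := hw
    simpa using hterm 1 S.one_mem c
  | algebraMap r =>
    obtain ⟨_, s, hs, rfl⟩ := r
    have := hterm s hs 1
    rw [map_one, mul_one] at this
    exact this
  | add u v _ _ hu hv => exact hadd hu hv
  | mul u v _ _ hu hv =>
    obtain ⟨a, ha, rfl⟩ := hu
    obtain ⟨a', ha', rfl⟩ := hv
    rw [Finset.sum_mul_sum]
    refine Finset.sum_induction _ (· ∈ M) (fun _ _ => hadd) h0 fun i _ =>
      Finset.sum_induction _ (· ∈ M) (fun _ _ => hadd) h0 fun j _ => ?_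
    have := hterm _ (S.mul_mem (ha i) (ha' j)) (b i * b j)
    rw [map_mul, map_mul] at this
    rwa [mul_mul_mul_comm]

end One

section Tower

variable {k : Type u₁} {K : Type u₂} {k' : Type u₃} {K' : Type u₄} {k'' : Type u₅} {K'' : Type u₆}
  [Field k] [Field K] [Field k'] [Field K'] [Field k''] [Field K'']
  [Algebra k k'] [Algebra k' k''] [Algebra k k''] [IsScalarTower k k' k'']
  [FiniteDimensional k k'] [FiniteDimensional k' k'']
  [Algebra k K] [Algebra K K'] [Algebra k' K'] [Algebra k K'] [IsScalarTower k k' K'] [IsScalarTower k K K']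
  [Algebra K' K''] [Algebra k'' K''] [Algebra k' K''] [Algebra k K''] [Algebra K K'']
  [IsScalarTower k' k'' K''] [IsScalarTower k' K' K''] [IsScalarTower K K' K''] [IsScalarTower k K K'']

theorem nonsing_bot (h2 : IsBar k' K' k'' K'') (P : Place k K) (h : Nonsing k'' K'' P) :
    Nonsing k' K' P := by
  classical
  refine nonsing_of_forall fun z hz => ?_
  letI : Algebra P.O K' := ((algebraMap K K').comp P.O.subtype).toAlgebra
  haveI : IsScalarTower P.O K K' := IsScalarTower.of_algebraMap_eq fun _ => rfl
  letI : Algebra P.O K'' := ((algebraMap K K'').comp P.O.subtype).toAlgebra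
  haveI : IsScalarTower P.O K K'' := IsScalarTower.of_algebraMap_eq fun _ => rfl
  haveI : IsScalarTower P.O K' K'' := IsScalarTower.of_algebraMap_eq fun o =>
    IsScalarTower.algebraMap_apply K K' K'' (o : K)
  have hz' : algebraMap K' K'' z ∈ integralClosure (P.O.toSubring.map (algebraMap K K'')) K'' :=
    (mem_integralClosure_iff P).2 (((mem_integralClosure_iff P).1 hz).map (IsScalarTower.toAlgHom P.O K' K''))
  rw [h] at hz'
  set A := Algebra.adjoin (P.O.toSubring.map (algebraMap K K')) (Set.range (algebraMap k' K'))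
  let S : Subring K' := A.toSubring
  have hz'' : algebraMap K' K'' z ∈ Algebra.adjoin (S.map (algebraMap K' K'')) (Set.range (algebraMap k'' K'')) := by
    generalize algebraMap K' K'' z = w₀ at hz' ⊢
    induction hz' using Algebra.adjoin_induction with
    | mem w hw => exact Algebra.subset_adjoin hw
    | algebraMap r =>
      obtain ⟨_, o, ho, rfl⟩ := r
      refine Subalgebra.algebraMap_mem (Algebra.adjoin (S.map (algebraMap K' K'')) _)
        (⟨algebraMap K K'' o, algebraMap K K' o, ?_, (IsScalarTower.algebraMap_apply K K' K'' o).symm⟩ :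
          S.map (algebraMap K' K''))
      exact Subalgebra.algebraMap_mem A (⟨_, o, ho, rfl⟩ : P.O.toSubring.map (algebraMap K K'))
    | add u v _ _ hu hv => exact add_mem hu hv
    | mul u v _ _ hu hv => exact mul_mem hu hv
  let b := Module.finBasis k' k''
  obtain ⟨a, ha, hza⟩ := exists_coord b S (fun c => Algebra.subset_adjoin ⟨c, rfl⟩) hz''
  have hli := (isBar_swap h2).linearIndependent b.linearIndependent
  rw [Fintype.linearIndependent_iff] at hli
  have key : ∀ i, z * algebraMap k' K' (b.repr 1 i) = a i := by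
    intro i
    have := hli (fun i => z * algebraMap k' K' (b.repr 1 i) - a i) (by
      simp only [Algebra.smul_def, map_sub, sub_mul, Finset.sum_sub_distrib]
      rw [← hza, sub_eq_zero]
      conv_rhs => rw [← mul_one (algebraMap K' K'' z), ← map_one (algebraMap k'' K''), ← b.sum_repr 1, map_sum,
        Finset.mul_sum]
      refine Finset.sum_congr rfl fun j _ => ?_
      rw [Algebra.smul_def, map_mul, map_mul, ← IsScalarTower.algebraMap_apply k' k'' K'',
        ← IsScalarTower.algebraMap_apply k' K' K'', mul_assoc]) i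
    exact sub_eq_zero.1 this
  obtain ⟨i, hi⟩ : ∃ i, b.repr 1 i ≠ 0 := by
    by_contra hcon
    push Not at hcon
    exact one_ne_zero (α := k'') (by rw [← b.sum_repr 1]; simp [hcon])
  have hz3 : z = algebraMap k' K' (b.repr 1 i)⁻¹ * a i := by
    rw [← key i, mul_left_comm, ← map_mul, inv_mul_cancel₀ hi, map_one, mul_one]
  rw [hz3]
  exact mul_mem (Algebra.subset_adjoin ⟨_, rfl⟩) (ha i)

theorem nonsing_top (h1 : IsBar k K k' K') (h2 : IsBar k' K' k'' K'') (hK : IsFG k K) (P : Place k K)
    (h : Nonsing k'' K'' P) (Q : Place k K') (hQ : IsOver Q P) : Nonsing k'' K'' Q := by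
  classical
  haveI : IsScalarTower k K' K'' := IsScalarTower.of_algebraMap_eq fun c => by
    rw [IsScalarTower.algebraMap_apply k K K', ← IsScalarTower.algebraMap_apply K K' K'',
      ← IsScalarTower.algebraMap_apply k K K'']
  haveI : IsScalarTower k k'' K'' := IsScalarTower.of_algebraMap_eq fun c => by
    rw [IsScalarTower.algebraMap_apply k k' k'', ← IsScalarTower.algebraMap_apply k' k'' K'',
      IsScalarTower.algebraMap_apply k' K' K'', ← IsScalarTower.algebraMap_apply k k' K',
      ← IsScalarTower.algebraMap_apply k K' K'']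
  haveI := finiteDimensional_of_isBar h1
  haveI := finiteDimensional_of_isBar h2
  haveI : FiniteDimensional K K'' := Module.Finite.trans K' K''
  haveI : FiniteDimensional k k'' := Module.Finite.trans k' k''
  refine nonsing_of_forall fun z hz => ?_
  letI : Algebra Q.O K'' := ((algebraMap K' K'').comp Q.O.subtype).toAlgebra
  haveI : IsScalarTower Q.O K' K'' := IsScalarTower.of_algebraMap_eq fun _ => rfl
  have hzint := (mem_integralClosure_iff Q).1 hz
  letI : Algebra P.O K'' := ((algebraMap K K'').comp P.O.subtype).toAlgebra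
  haveI : IsScalarTower P.O K K'' := IsScalarTower.of_algebraMap_eq fun _ => rfl
  obtain ⟨hfin, -⟩ := sum_ramIdx (K' := K') hK P
  obtain ⟨hfin'', -⟩ := sum_ramIdx (K' := K'') hK P
  let N : ℕ := ∑ R ∈ hfin''.toFinset, (R.ord z).natAbs
  obtain ⟨a, ha⟩ := exists_approx_eq hfin.toFinset (fun _ => 0) fun R => if R = Q then 0 else -(N : ℤ)
  have haQ : val Q a = 1 := by
    have := ha Q (hfin.mem_toFinset.2 hQ)
    rwa [sub_zero, if_pos rfl, exp_zero] at this
  have ha0 : a ≠ 0 := fun h0 => by simp [h0] at haQ
  have haz : IsIntegral P.O (algebraMap K' K'' a * z) := (isIntegral_iff_forall hK _).2 fun R hR => by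
    obtain ⟨e, he⟩ := hR
    obtain ⟨R', e', he'0, hR'⟩ := exists_isOverWith (K := K') R
    have hR'P : IsOver R' P := by
      obtain ⟨P', f, hf0, hf⟩ := exists_isOverWith (K := K) R'
      have hcomb : IsOverWith R P' (f * e') := fun x => by
        rw [IsScalarTower.algebraMap_apply K K' K'', hR', hf, ← pow_mul]
      obtain ⟨rfl, -⟩ := isOverWith_unique hcomb he
      exact ⟨f, hf⟩
    rw [map_mul, show val R (algebraMap K' K'' a) = val R' a ^ e' from hR' a]
    rcases eq_or_ne R' Q with rfl | hne
    · rw [haQ, one_pow, one_mul]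
      exact val_le_one_of_isIntegral ⟨e', hR'⟩ hzint
    · have h3 := ha R' (hfin.mem_toFinset.2 hR'P)
      rw [sub_zero, if_neg hne] at h3
      rw [h3, ← exp_nsmul]
      rcases eq_or_ne z 0 with rfl | hz0
      · simp
      rw [val_eq R hz0, ← exp_add, ← exp_zero, exp_le_exp, nsmul_eq_mul, mul_neg]
      have hN : (R.ord z).natAbs ≤ N := Finset.single_le_sum (f := fun R => (R.ord z).natAbs)
        (fun _ _ => Nat.zero_le _) (hfin''.mem_toFinset.2 ⟨e, he⟩)
      have h4 : (N : ℤ) ≤ e' * N := le_mul_of_one_le_left (Int.natCast_nonneg _) (by exact_mod_cast he'0)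
      omega
  have haz' := (mem_integralClosure_iff P).2 haz
  rw [h] at haz'
  set S' := Q.O.toSubring.map (algebraMap K' K'')
  have hle : algebraMap K' K'' a * z ∈ Algebra.adjoin S' (Set.range (algebraMap k'' K'')) := by
    generalize algebraMap K' K'' a * z = w₀ at haz' ⊢
    induction haz' using Algebra.adjoin_induction with
    | mem w hw => exact Algebra.subset_adjoin hw
    | algebraMap r =>
      obtain ⟨_, o, ho, rfl⟩ := r
      obtain ⟨e, he⟩ := hQ
      exact Subalgebra.algebraMap_mem (Algebra.adjoin S' _) (⟨algebraMap K K'' o, algebraMap K K' o,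
        (val_le_one_iff_of_isOverWith he o).2 ho, (IsScalarTower.algebraMap_apply K K' K'' o).symm⟩ : S')
    | add u v _ _ hu hv => exact add_mem hu hv
    | mul u v _ _ hu hv => exact mul_mem hu hv
  have hz2 : z = algebraMap K' K'' a⁻¹ * (algebraMap K' K'' a * z) := by
    rw [map_inv₀, inv_mul_cancel_left₀ (by simpa using ha0)]
  rw [hz2]
  refine mul_mem ?_ hle
  exact Subalgebra.algebraMap_mem (Algebra.adjoin S' _)
    (⟨_, a⁻¹, by show val Q a⁻¹ ≤ 1; rw [map_inv₀, haQ, inv_one], rfl⟩ : S')

theorem nonsing_trans (h1 : IsBar k K k' K') (h2 : IsBar k' K' k'' K'') (hK : IsFG k K) (P : Place k K)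
    (hbot : Nonsing k' K' P) (htop : ∀ Q : Place k K', IsOver Q P → Nonsing k'' K'' Q) :
    Nonsing k'' K'' P := by
  classical
  haveI : IsScalarTower k K' K'' := IsScalarTower.of_algebraMap_eq fun c => by
    rw [IsScalarTower.algebraMap_apply k K K', ← IsScalarTower.algebraMap_apply K K' K'',
      ← IsScalarTower.algebraMap_apply k K K'']
  haveI : IsScalarTower k k'' K'' := IsScalarTower.of_algebraMap_eq fun c => by
    rw [IsScalarTower.algebraMap_apply k k' k'', ← IsScalarTower.algebraMap_apply k' k'' K'',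
      IsScalarTower.algebraMap_apply k' K' K'', ← IsScalarTower.algebraMap_apply k k' K',
      ← IsScalarTower.algebraMap_apply k K' K'']
  haveI := finiteDimensional_of_isBar h1
  haveI := finiteDimensional_of_isBar h2
  haveI : FiniteDimensional k k'' := Module.Finite.trans k' k''
  refine nonsing_of_forall fun z hz => ?_
  letI : Algebra P.O K'' := ((algebraMap K K'').comp P.O.subtype).toAlgebra
  haveI : IsScalarTower P.O K K'' := IsScalarTower.of_algebraMap_eq fun _ => rfl
  letI : Algebra P.O K' := ((algebraMap K K').comp P.O.subtype).toAlgebra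
  haveI : IsScalarTower P.O K K' := IsScalarTower.of_algebraMap_eq fun _ => rfl
  let b := Module.finBasis k' k''
  have hli := (isBar_swap h2).linearIndependent b.linearIndependent
  rw [Fintype.linearIndependent_iff] at hli
  have hcoord : ∀ Q : Place k K', IsOver Q P → ∃ a : Fin (Module.finrank k' k'') → K',
      (∀ i, val Q (a i) ≤ 1) ∧ z = ∑ i, algebraMap K' K'' (a i) * algebraMap k'' K'' (b i) := by
    intro Q hQ
    obtain ⟨e, he⟩ := hQ
    have hzQ : z ∈ integralClosure (Q.O.toSubring.map (algebraMap K' K'')) K'' := by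
      obtain ⟨p, hp, hev⟩ := hz
      let σ : P.O.toSubring.map (algebraMap K K'') →+* Q.O.toSubring.map (algebraMap K' K'') :=
        (Subring.subtype _).codRestrict _ fun r => by
          obtain ⟨_, o, ho, rfl⟩ := r
          exact ⟨algebraMap K K' o, (val_le_one_iff_of_isOverWith he o).2 ho,
            (IsScalarTower.algebraMap_apply K K' K'' o).symm⟩
      exact ⟨p.map σ, hp.map σ, by rw [Polynomial.eval₂_map]; exact hev⟩
    rw [htop Q ⟨e, he⟩] at hzQ
    obtain ⟨a, ha, hza⟩ := exists_coord b Q.O.toSubring (fun c => val_const_le_one Q c) hzQ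
    exact ⟨a, ha, hza⟩
  obtain ⟨hfin, hsum⟩ := sum_ramIdx (K' := K') hK P
  obtain ⟨Q₀, hQ₀⟩ : ∃ Q : Place k K', IsOver Q P := by
    by_contra hn
    push Not at hn
    have := hsum ∅ (by simpa using hn)
    rw [Finset.sum_empty] at this
    exact (Nat.mul_pos Module.finrank_pos (hK.deg_pos P)).ne this
  obtain ⟨a, -, hza⟩ := hcoord Q₀ hQ₀
  rw [hza]
  refine sum_mem fun i _ => mul_mem ?_ (Algebra.subset_adjoin ⟨_, rfl⟩)
  have hai : a i ∈ Algebra.adjoin (P.O.toSubring.map (algebraMap K K')) (Set.range (algebraMap k' K')) := by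
    rw [← hbot, mem_integralClosure_iff, isIntegral_iff_forall hK]
    intro Q hQ
    obtain ⟨a', ha', hza'⟩ := hcoord Q hQ
    have := hli (fun j => a j - a' j) (by
      simp only [Algebra.smul_def, map_sub, sub_mul, Finset.sum_sub_distrib]
      rw [← hza, ← hza', sub_self]) i
    rw [sub_eq_zero.1 this]
    exact ha' i
  generalize a i = w₀ at hai ⊢
  induction hai using Algebra.adjoin_induction with
  | mem w hw =>
    obtain ⟨c, rfl⟩ := hw
    refine Algebra.subset_adjoin ⟨algebraMap k' k'' c, ?_⟩
    rw [← IsScalarTower.algebraMap_apply k' k'' K'', IsScalarTower.algebraMap_apply k' K' K'']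
  | algebraMap r =>
    obtain ⟨_, o, ho, rfl⟩ := r
    exact Subalgebra.algebraMap_mem (Algebra.adjoin (P.O.toSubring.map (algebraMap K K'')) _)
      (⟨algebraMap K' K'' (algebraMap K K' o), o, ho, IsScalarTower.algebraMap_apply K K' K'' o⟩ :
        P.O.toSubring.map (algebraMap K K''))
  | add u v _ _ hu hv => rw [map_add]; exact add_mem hu hv
  | mul u v _ _ hu hv => rw [map_mul]; exact mul_mem hu hv

end Tower

end GrothLib.FunFld.NonsingTower
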