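import Groth.Agent.Lib.FunFld.ConstExt
import Mathlib.LinearAlgebra.FreeModule.PID
import Mathlib.LinearAlgebra.Determinant
import Mathlib.RingTheory.Norm.Basic
import Mathlib.RingTheory.Localization.Module

/-!
The order of a norm.
-/

set_option autoImplicit false
set_option linter.style.haveILetI false
set_option linter.unusedSectionVars false

namespace GrothLib.FunFld

open _root_.FunFld WithZero

variable {k K K' : Type*} [Field k] [Field K] [Field K'] [Algebra k K] [Algebra K K'] [Algebra k K']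
  [IsScalarTower k K K'] [FiniteDimensional K K']

theorem exp_sum' {ι : Type*} (s : Finset ι) (f : ι → ℤ) :
    (exp (∑ i ∈ s, f i) : WithZero (Multiplicative ℤ)) = ∏ i ∈ s, exp (f i) := by
  classical
  induction s using Finset.induction with
  | empty => simp
  | insert i s hi ih => rw [Finset.sum_insert hi, Finset.prod_insert hi, exp_add, ih]

theorem hasCodim_of_pi {F V ι : Type*} [Field F] [AddCommGroup V] [Module F V] [Fintype ι] {W : ι → Type*}
    [∀ i, AddCommGroup (W i)] [∀ i, Module F (W i)] [∀ i, Module.Finite F (W i)] {A B : Submodule F V}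
    (hle : A ≤ B) (f : B →ₗ[F] ∀ i, W i) (hf : Function.Surjective f)
    (hker : ∀ b : B, f b = 0 ↔ (b : V) ∈ A) : HasCodim A B (∑ i, Module.finrank F (W i)) := by
  rw [← Module.finrank_pi_fintype]
  exact HasCodim.of_linearMap hle f hf hker

/-- Shift by a power of a uniformizer into the integral closure. -/
theorem exists_shift_integral (h : IsFG k K) (P : Place k K) [Algebra P.O K'] [IsScalarTower P.O K K']
    (z : K') : ∃ (N : ℕ) (t : K), val P t = exp (-1) ∧ IsIntegral P.O (algebraMap K K' (t ^ N) * z) := by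
  classical
  obtain ⟨t, -, ht⟩ := exists_val_eq P (-1)
  obtain ⟨hfin, -⟩ := sum_ramIdx (K' := K') h P
  refine ⟨∑ R ∈ hfin.toFinset, (-(R.ord z)).toNat, t, ht, (isIntegral_iff_forall h _).mpr fun R hR => ?_⟩
  obtain ⟨e, he⟩ := hR
  rcases eq_or_ne z 0 with rfl | hz
  · simp
  have h1 := Finset.single_le_sum (f := fun R => (-(R.ord z)).toNat) (fun _ _ => Nat.zero_le _)
    (hfin.mem_toFinset.mpr ⟨e, he⟩)
  set N := ∑ R ∈ hfin.toFinset, (-(R.ord z)).toNat
  have h2 : N ≤ e * N := Nat.le_mul_of_pos_left N (pos_of_isOverWith he)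
  rw [map_mul, show val R (algebraMap K K' (t ^ N)) = _ from he _, map_pow,
    show P.1 t = exp (-1) from ht, val_eq R hz, ← pow_mul, ← exp_nsmul, ← exp_add, ← exp_zero, exp_le_exp,
    nsmul_eq_mul]
  push_cast
  nlinarith [h1, h2, Int.self_le_toNat (-(R.ord z))]

/-- The formula for a nonzero integral element. -/
theorem ord_norm_of_isIntegral (h : IsFG k K) (P : Place k K) [Algebra P.O K'] [IsScalarTower P.O K K']
    {x : K'} (hx : IsIntegral P.O x) (hx0 : x ≠ 0) (Qs : Finset (Place k K'))
    (hQs : ∀ Q, Q ∈ Qs ↔ IsOver Q P) :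
    (P.deg : ℤ) * P.ord (Algebra.norm K x) = ∑ Q ∈ Qs, (Q.deg : ℤ) * Q.ord x := by
  classical
  haveI := isPrincipalIdealRing_O P
  haveI : Module.Finite P.O (integralClosure P.O K') := integralClosure_finite h P
  haveI : Module.IsTorsionFree P.O K' := Module.IsTorsionFree.trans_faithfulSMul P.O K K'
  set R := integralClosure P.O K' with hR
  obtain ⟨n, b⟩ := Submodule.basisOfPid (Module.Free.chooseBasis P.O R) (⊤ : Submodule P.O R)
  let b : Module.Basis (Fin n) P.O R := b.map Submodule.topEquiv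
  let m : R →ₗ[P.O] R := LinearMap.mulLeft P.O ⟨x, hx⟩
  have hm : Function.Injective m := fun u v huv => mul_left_cancel₀ (fun h0 => hx0 (congrArg Subtype.val h0)) huv
  obtain ⟨b', a, ab', hab⟩ := Submodule.exists_smith_normal_form_of_rank_eq (N := LinearMap.range m) b
    (LinearMap.finrank_range_of_inj hm)
  have ha0 : ∀ i, a i ≠ 0 := fun i hi => by
    refine ab'.ne_zero i (Subtype.ext ?_)
    rw [hab, hi, zero_smul]; rfl
  -- the determinant
  let u : R ≃ₗ[P.O] R := (LinearEquiv.ofInjective m hm).trans (ab'.equiv b' (Equiv.refl _))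
  let D : R →ₗ[P.O] R := b'.constr ℕ fun i => a i • b' i
  have hDu : m = D ∘ₗ u.toLinearMap := by
    refine LinearMap.ext fun r => ?_
    have h1 : (LinearMap.range m).subtype = D ∘ₗ (ab'.equiv b' (Equiv.refl _)).toLinearMap :=
      ab'.ext fun i => by
        rw [LinearMap.comp_apply, LinearEquiv.coe_coe, Module.Basis.equiv_apply, Equiv.refl_apply,
          Module.Basis.constr_basis]
        exact hab i
    exact LinearMap.congr_fun h1 (LinearEquiv.ofInjective m hm r)
  have hdet : LinearMap.det m = (∏ i, a i) * LinearMap.det u.toLinearMap := by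
    rw [hDu, LinearMap.det_comp]
    congr 1
    rw [← LinearMap.det_toMatrix b']
    have : LinearMap.toMatrix b' b' D = Matrix.diagonal a := by
      ext i j
      rw [LinearMap.toMatrix_apply, Module.Basis.constr_basis, map_smul, Module.Basis.repr_self,
        Finsupp.smul_apply, Finsupp.single_apply, Matrix.diagonal_apply, smul_eq_mul]
      by_cases hij : i = j
      · subst hij; simp
      · rw [if_neg (Ne.symm hij), if_neg hij, mul_zero]
    rw [this, Matrix.det_diagonal]
  have hDb : ∀ i, D (b' i) = a i • b' i := fun i => b'.constr_basis ℕ _ i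
  -- the norm
  have hli : LinearIndependent K (fun i => ((b' i : R) : K')) := by
    rw [← LinearIndependent.iff_fractionRing P.O K]
    exact b'.linearIndependent.map' (Subalgebra.val R).toLinearMap (LinearMap.ker_eq_bot.mpr Subtype.coe_injective)
  have hsp : ⊤ ≤ Submodule.span K (Set.range fun i => ((b' i : R) : K')) := by
    intro z _
    obtain ⟨N, t, ht, hint⟩ := exists_shift_integral h P z
    have ht0 : t ^ N ≠ 0 := pow_ne_zero _ fun h0 => by rw [h0, map_zero] at ht; exact exp_ne_zero ht.symm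
    have hz : z = (t ^ N)⁻¹ • (algebraMap K K' (t ^ N) * z) := by
      rw [Algebra.smul_def, ← mul_assoc, ← map_mul, inv_mul_cancel₀ ht0, map_one, one_mul]
    rw [hz]
    refine Submodule.smul_mem _ _ ?_
    rw [show algebraMap K K' (t ^ N) * z = ((⟨_, hint⟩ : R) : K') from rfl, ← b'.sum_repr ⟨_, hint⟩,
      AddSubmonoidClass.coe_finsetSum]
    refine sum_mem fun i _ => ?_
    rw [Subalgebra.coe_smul, ← algebraMap_smul K]
    exact Submodule.smul_mem _ _ (Submodule.subset_span ⟨i, rfl⟩)
  let bK : Module.Basis (Fin n) K K' := Module.Basis.mk hli hsp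
  have hnorm : Algebra.norm K x = algebraMap P.O K (LinearMap.det m) := by
    rw [Algebra.norm_eq_matrix_det bK, ← LinearMap.det_toMatrix b', RingHom.map_det]
    congr 1
    ext i j
    rw [Algebra.leftMulMatrix_eq_repr_mul, RingHom.mapMatrix_apply, Matrix.map_apply, LinearMap.toMatrix_apply]
    have hx' : x * bK j = ∑ l, algebraMap P.O K (b'.repr (m (b' j)) l) • bK l := by
      simp only [bK, Module.Basis.coe_mk, algebraMap_smul]
      show ((m (b' j) : R) : K') = _
      conv_lhs => rw [← b'.sum_repr (m (b' j))]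
      rw [AddSubmonoidClass.coe_finsetSum]
      exact Finset.sum_congr rfl fun l _ => Subalgebra.coe_smul _ _ _
    rw [hx', bK.repr_sum_self]
  have hunit : val P ((LinearMap.det u.toLinearMap : P.O) : K) = 1 := by
    obtain ⟨v, hv⟩ := (LinearEquiv.isUnit_det' u)
    refine le_antisymm (LinearMap.det u.toLinearMap).2 ?_
    have h1 : val P ((v : P.O) : K) * val P (((v⁻¹ : P.Oˣ) : P.O) : K) = 1 := by
      rw [← map_mul, show ((v : P.O) : K) * ((v⁻¹ : P.Oˣ) : P.O) = ((1 : P.O) : K) from
        congrArg Subtype.val v.mul_inv]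
      exact map_one _
    rw [← hv]
    calc (1 : WithZero (Multiplicative ℤ)) = _ := h1.symm
      _ ≤ val P ((v : P.O) : K) * 1 := mul_le_mul_right ((v⁻¹ : P.Oˣ) : P.O).2 _
      _ = _ := mul_one _
  have hai : ∀ i, ((a i : P.O) : K) ≠ 0 := fun i h0 => ha0 i (Subtype.ext h0)
  have hlhs : P.ord (Algebra.norm K x) = ∑ i, P.ord ((a i : P.O) : K) := by
    have hv : val P (Algebra.norm K x) = ∏ i, val P ((a i : P.O) : K) := by
      rw [hnorm, hdet, map_mul, map_mul, map_prod, map_prod]
      exact (congrArg _ hunit).trans (mul_one _)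
    rw [Finset.prod_congr rfl fun i _ => val_eq P (hai i),
      show ∏ i, (exp (-P.ord ((a i : P.O) : K)) : WithZero (Multiplicative ℤ)) =
        exp (∑ i, -P.ord ((a i : P.O) : K)) from (exp_sum' _ _).symm] at hv
    rw [ord_eq_of_val_eq P hv, Finset.sum_neg_distrib, neg_neg]
  -- the two codimensions
  have hfg' := isFG_extension (K := K) (K' := K') h
  have hfinP := h.finite_residueField P
  have hposQ : ∀ Q ∈ Qs, 0 ≤ Q.ord x := fun Q hQ =>
    (val_le_one_iff Q hx0).mp (val_le_one_of_isIntegral ((hQs Q).mp hQ) hx)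
  have hcd := hasCodim_finsetInf_ball hfg' Qs (fun Q => -Q.ord x) (fun Q => (Q.ord x).toNat)
  set A := Qs.inf fun Q => ball Q (-Q.ord x)
  set B := Qs.inf fun Q => ball Q (-Q.ord x + (Q.ord x).toNat)
  have hBiff : ∀ z, z ∈ B ↔ IsIntegral P.O z := fun z => by
    rw [isIntegral_iff_forall h, mem_finsetInf_ball]
    refine forall_congr' fun Q => ?_
    constructor
    · intro hh hQ
      have := hposQ Q ((hQs Q).mpr hQ)
      have h2 := hh ((hQs Q).mpr hQ)
      rwa [show -Q.ord x + ((Q.ord x).toNat : ℤ) = 0 by omega, exp_zero] at h2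
    · intro hh hQ
      have := hposQ Q hQ
      rw [show -Q.ord x + ((Q.ord x).toNat : ℤ) = 0 by omega, exp_zero]
      exact hh ((hQs Q).mp hQ)
  have hord_a : ∀ i, 0 ≤ P.ord ((a i : P.O) : K) := fun i => (val_le_one_iff P (hai i)).mp (a i).2
  have hball : ∀ i, HasCodim (ball P (-P.ord ((a i : P.O) : K))) (ball P 0)
      ((P.ord ((a i : P.O) : K)).toNat * P.deg) := fun i => by
    have := hasCodim_ball P (-P.ord ((a i : P.O) : K)) (P.ord ((a i : P.O) : K)).toNat
    have h0 := hord_a i
    rwa [show -P.ord ((a i : P.O) : K) + ((P.ord ((a i : P.O) : K)).toNat : ℤ) = 0 by omega] at this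
  haveI : ∀ i, Module.Finite k (ball P 0 ⧸ (ball P (-P.ord ((a i : P.O) : K))).comap (ball P 0).subtype) := fun i => (hball i).finite
  have hO0 : ∀ o : P.O, (o : K) ∈ ball P 0 := fun o => by rw [mem_ball, exp_zero]; exact o.2
  let co : B →ₗ[k] (∀ i, (ball P 0 ⧸ (ball P (-P.ord ((a i : P.O) : K))).comap (ball P 0).subtype)) :=
    { toFun := fun z i => Submodule.Quotient.mk ⟨(b'.repr ⟨z, (hBiff _).mp z.2⟩ i : K), hO0 _⟩
      map_add' := fun z w => funext fun i => by
        rw [Pi.add_apply]
        show Submodule.Quotient.mk _ = Submodule.Quotient.mk _ + Submodule.Quotient.mk _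
        rw [← Submodule.Quotient.mk_add]
        congr 1
        refine Subtype.ext ?_
        rw [show (⟨((z + w : B) : K'), (hBiff _).mp (z + w).2⟩ : R) = ⟨z, (hBiff _).mp z.2⟩ + ⟨w, (hBiff _).mp w.2⟩
          from rfl, map_add, Finsupp.add_apply]
        rfl
      map_smul' := fun c z => funext fun i => by
        rw [RingHom.id_apply, Pi.smul_apply]
        show Submodule.Quotient.mk _ = c • Submodule.Quotient.mk _
        rw [← Submodule.Quotient.mk_smul]
        congr 1
        refine Subtype.ext ?_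
        rw [show (⟨((c • z : B) : K'), (hBiff _).mp (c • z).2⟩ : R) = algebraMap k P.O c • ⟨z, (hBiff _).mp z.2⟩
          from Subtype.ext (by
            rw [Subalgebra.coe_smul, val_smul_O, algebraMap_O_coe, ← IsScalarTower.algebraMap_apply]
            exact Algebra.smul_def c (z : K')), map_smul, Finsupp.smul_apply, smul_eq_mul]
        show ((algebraMap k P.O c : P.O) : K) * _ = c • _
        rw [algebraMap_O_coe, Algebra.smul_def] }
  have hsurj : Function.Surjective co := fun w => by
    choose y hy using fun i => Submodule.Quotient.mk_surjective _ (w i)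
    let o : Fin n → P.O := fun i => ⟨((y i : ball P 0) : K), by
      show val P _ ≤ 1
      have := (y i).2; rwa [mem_ball, exp_zero] at this⟩
    refine ⟨⟨((∑ i, o i • b' i : R) : K'), (hBiff _).mpr (∑ i, o i • b' i : R).2⟩, funext fun i => ?_⟩
    refine Eq.trans ?_ (hy i)
    show Submodule.Quotient.mk _ = Submodule.Quotient.mk _
    congr 1
    refine Subtype.ext ?_
    show ((b'.repr (∑ i, o i • b' i) i : P.O) : K) = _
    rw [b'.repr_sum_self]
  have hker : ∀ z : B, co z = 0 ↔ (z : K') ∈ A := by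
    intro z
    set r : R := ⟨z, (hBiff _).mp z.2⟩
    have h1 : co z = 0 ↔ ∀ i, a i ∣ b'.repr r i := by
      rw [funext_iff]
      refine forall_congr' fun i => ?_
      show Submodule.Quotient.mk _ = 0 ↔ _
      rw [Submodule.Quotient.mk_eq_zero]
      show val P ((b'.repr r i : P.O) : K) ≤ exp (-P.ord ((a i : P.O) : K)) ↔ _
      rw [← val_eq P (hai i)]
      refine ⟨fun hle => ⟨⟨((b'.repr r i : P.O) : K) / ((a i : P.O) : K), ?_⟩,
        Subtype.ext (mul_div_cancel₀ _ (hai i)).symm⟩, ?_⟩
      · show val P _ ≤ 1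
        rw [map_div₀]
        exact (div_le_one₀ (zero_lt_iff.mpr ((Valuation.ne_zero_iff _).mpr (hai i)))).mpr hle
      · rintro ⟨q, hq⟩
        rw [hq]
        show val P (((a i : P.O) : K) * (q : K)) ≤ _
        rw [map_mul]
        exact mul_le_of_le_one_right' q.2
    have h2 : (∀ i, a i ∣ b'.repr r i) ↔ r ∈ LinearMap.range m := by
      refine ⟨fun hd => ?_, fun hr i => ?_⟩
      · choose q hq using hd
        rw [← b'.sum_repr r]
        refine sum_mem fun i _ => ?_
        rw [hq i, mul_comm, mul_smul, ← hab]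
        exact Submodule.smul_mem _ _ (ab' i).2
      · obtain ⟨r', hr'⟩ := hr
        have hc : ∀ c : P.O, ∀ l, b'.repr (D (c • b' l)) i = if l = i then c * a l else 0 := fun c l => by
          rw [map_smul, hDb, smul_smul, map_smul, Finsupp.smul_apply, b'.repr_self, Finsupp.single_apply,
            smul_eq_mul, mul_ite, mul_one, mul_zero]
        rw [← hr', hDu, LinearMap.comp_apply, ← b'.sum_repr (u.toLinearMap r'), map_sum, map_sum,
          Finsupp.finsetSum_apply, Finset.sum_congr rfl fun l _ => hc _ l, Finset.sum_ite_eq',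
          if_pos (Finset.mem_univ i)]
        exact dvd_mul_left _ _
    have h3 : r ∈ LinearMap.range m ↔ (z : K') ∈ A := by
      rw [mem_finsetInf_ball]
      constructor
      · rintro ⟨r', hr'⟩ Q hQ
        rw [show (z : K') = x * (r' : K') from congrArg Subtype.val hr'.symm, map_mul, val_eq Q hx0]
        exact mul_le_of_le_one_right' (val_le_one_of_isIntegral ((hQs Q).mp hQ) r'.2)
      · intro hz
        refine ⟨⟨(z : K') / x, (isIntegral_iff_forall h _).mpr fun Q hQ => ?_⟩,
          Subtype.ext (mul_div_cancel₀ _ hx0)⟩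
        rw [map_div₀, val_eq Q hx0, div_le_one₀ (zero_lt_iff.mpr exp_ne_zero)]
        exact hz Q ((hQs Q).mpr hQ)
    exact h1.trans (h2.trans h3)
  have hc2 := hasCodim_of_pi (W := (fun i => (ball P 0 ⧸ (ball P (-P.ord ((a i : P.O) : K))).comap (ball P 0).subtype))) hcd.le co hsurj hker
  have heq := hcd.unique hc2
  rw [Finset.sum_congr rfl fun i _ => (hball i).finrank_eq] at heq
  rw [hlhs, Finset.mul_sum]
  have h4 := congrArg (fun j : ℕ => (j : ℤ)) heq
  push_cast at h4
  rw [Finset.sum_congr rfl (fun Q hQ => by rw [Int.toNat_of_nonneg (hposQ Q hQ)]; ring :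
      ∀ Q ∈ Qs, ((Q.ord x).toNat : ℤ) * (Q.deg : ℤ) = (Q.deg : ℤ) * Q.ord x),
    Finset.sum_congr rfl (fun i _ => by rw [Int.toNat_of_nonneg (hord_a i)]; ring :
      ∀ i ∈ Finset.univ, ((P.ord ((a i : P.O) : K)).toNat : ℤ) * (P.deg : ℤ) =
        (P.deg : ℤ) * P.ord ((a i : P.O) : K))] at h4
  exact h4.symm

theorem ord_norm (h : IsFG k K) (P : Place k K) (x : K') (Qs : Finset (Place k K'))
    (hQs : ∀ Q, Q ∈ Qs ↔ IsOver Q P) :
    (P.deg : ℤ) * P.ord (Algebra.norm K x) = ∑ Q ∈ Qs, (Q.deg : ℤ) * Q.ord x := by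
  classical
  letI : Algebra P.O K' := ((algebraMap K K').comp P.O.subtype).toAlgebra
  haveI : IsScalarTower P.O K K' := IsScalarTower.of_algebraMap_eq fun _ => rfl
  rcases eq_or_ne x 0 with rfl | hx
  · simp
  obtain ⟨N, t, ht, hint⟩ := exists_shift_integral h P x
  have ht0 : t ≠ 0 := fun h0 => by rw [h0, map_zero] at ht; exact exp_ne_zero ht.symm
  have htN : t ^ N ≠ 0 := pow_ne_zero _ ht0
  have hA : algebraMap K K' (t ^ N) ≠ 0 := (map_ne_zero _).mpr htN
  have h1 := ord_norm_of_isIntegral h P hint (mul_ne_zero hA hx) Qs hQs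
  have hn : Algebra.norm K x ≠ 0 := Algebra.norm_ne_zero_iff.mpr hx
  rw [map_mul, Algebra.norm_algebraMap, ord_mul P (pow_ne_zero _ htN) hn, ord_pow, ord_pow,
    ord_eq_of_val_eq P ht] at h1
  have h2 : ∑ Q ∈ Qs, (Q.deg : ℤ) * Q.ord (algebraMap K K' (t ^ N) * x) =
      (N : ℤ) * ∑ Q ∈ Qs, ((ramIdx Q P * Q.deg : ℕ) : ℤ) + ∑ Q ∈ Qs, (Q.deg : ℤ) * Q.ord x := by
    rw [Finset.mul_sum, ← Finset.sum_add_distrib]
    refine Finset.sum_congr rfl fun Q hQ => ?_
    obtain ⟨e, he⟩ := (hQs Q).mp hQ
    rw [ord_mul Q hA hx, ord_of_isOverWith he, ord_pow, ord_eq_of_val_eq P ht, ramIdx_eq he]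
    push_cast
    ring
  rw [h2, ← Nat.cast_sum, (sum_ramIdx (K' := K') h P).2 Qs hQs] at h1
  push_cast at h1
  linarith

end GrothLib.FunFld
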