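import Groth.Agent.Lib.FunFld.NormOrd
import Groth.Agent.Lib.FunFld.LocRing
import Groth.Agent.Lib.FunFld.GrSect
import Mathlib.LinearAlgebra.Determinant

/-!
The value of a norm at a place: the product of the values over the fibre, with ramification multiplicities.
-/

set_option autoImplicit false
set_option linter.style.haveILetI false
set_option linter.unusedSectionVars false

universe u

namespace GrothLib.FunFld.NormValue

open _root_.FunFld WithZero

section linear

variable {k V : Type*} [Field k] [AddCommGroup V] [Module k V] (μ : V →ₗ[k] V)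

/-- The map induced on a subquotient. -/
noncomputable def sq (A B : Submodule k V) (hA : ∀ v ∈ A, μ v ∈ A) (hB : ∀ v ∈ B, μ v ∈ B) :
    (B ⧸ A.comap B.subtype) →ₗ[k] (B ⧸ A.comap B.subtype) :=
  Submodule.mapQ _ _ (μ.restrict hB) fun v hv => hA _ hv

theorem sq_mk (A B : Submodule k V) (hA : ∀ v ∈ A, μ v ∈ A) (hB : ∀ v ∈ B, μ v ∈ B) (b : B) :
    sq μ A B hA hB (Submodule.Quotient.mk b) = Submodule.Quotient.mk ⟨μ b, hB _ b.2⟩ := rfl

theorem det_sq_trans {A B C : Submodule k V} {m n : ℕ} (h₁ : HasCodim A B m) (h₂ : HasCodim B C n)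
    (hA : ∀ v ∈ A, μ v ∈ A) (hB : ∀ v ∈ B, μ v ∈ B) (hC : ∀ v ∈ C, μ v ∈ C) :
    (sq μ A C hA hC).det = (sq μ A B hA hB).det * (sq μ B C hB hC).det := by
  haveI := (h₁.trans h₂).finite
  haveI := h₁.finite
  haveI := h₂.finite
  let f := HasCodim.incl (A := A) (A' := A) le_rfl h₂.le
  let g := HasCodim.incl (B := C) (B' := C) h₁.le le_rfl
  have hg : Function.Surjective g := by
    intro x; obtain ⟨c, rfl⟩ := Submodule.Quotient.mk_surjective _ x
    exact ⟨Submodule.Quotient.mk c, rfl⟩
  have hf : Function.Injective f := by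
    rw [injective_iff_map_eq_zero]; intro x
    obtain ⟨b, rfl⟩ := Submodule.Quotient.mk_surjective _ x
    intro hx
    exact (Submodule.Quotient.mk_eq_zero _).2 ((HasCodim.incl_mk_eq_zero _ _ b).1 hx :)
  set W := LinearMap.range f
  have hker : LinearMap.ker g = W := by
    ext x; obtain ⟨c, rfl⟩ := Submodule.Quotient.mk_surjective _ x
    constructor
    · intro hx
      exact ⟨Submodule.Quotient.mk ⟨c, (HasCodim.incl_mk_eq_zero _ _ c).1 hx⟩, rfl⟩
    · rintro ⟨y, hy⟩; obtain ⟨b, rfl⟩ := Submodule.Quotient.mk_surjective _ y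
      rw [← hy]; exact (Submodule.Quotient.mk_eq_zero _).2 b.2
  set e := sq μ A C hA hC
  have hW : W ≤ W.comap e := by
    rintro _ ⟨y, rfl⟩
    obtain ⟨b, rfl⟩ := Submodule.Quotient.mk_surjective _ y
    exact ⟨Submodule.Quotient.mk ⟨μ b, hB _ b.2⟩, rfl⟩
  rw [LinearMap.det_eq_det_mul_det W e hW]
  congr 1
  · let e1 := LinearEquiv.ofInjective f hf
    rw [← LinearMap.det_conj (sq μ A B hA hB) e1]
    congr 1
    refine LinearMap.ext fun w => Subtype.ext ?_
    obtain ⟨y, rfl⟩ := e1.surjective w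
    obtain ⟨b, rfl⟩ := Submodule.Quotient.mk_surjective _ y
    simp only [LinearMap.comp_apply, LinearEquiv.coe_coe, LinearEquiv.symm_apply_apply]
    rfl
  · let e2 : (_ ⧸ W) ≃ₗ[k] _ := (Submodule.quotEquivOfEq _ _ hker.symm).trans (g.quotKerEquivOfSurjective hg)
    rw [← LinearMap.det_conj (W.mapQ W e hW) e2]
    congr 1
    refine LinearMap.ext fun q => ?_
    obtain ⟨y, rfl⟩ := e2.surjective q
    obtain ⟨y, rfl⟩ := Submodule.Quotient.mk_surjective _ y
    obtain ⟨b, rfl⟩ := Submodule.Quotient.mk_surjective _ y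
    simp only [LinearMap.comp_apply, LinearEquiv.coe_coe, LinearEquiv.symm_apply_apply]
    rfl

theorem det_sq_scalar {A B : Submodule k V} {n : ℕ} (h : HasCodim A B n) (hA : ∀ v ∈ A, μ v ∈ A)
    (hB : ∀ v ∈ B, μ v ∈ B) (a : k) (hsc : ∀ v ∈ B, μ v - a • v ∈ A) : (sq μ A B hA hB).det = a ^ n := by
  haveI := h.finite
  have : sq μ A B hA hB = a • LinearMap.id := by
    refine LinearMap.ext fun q => ?_
    obtain ⟨b, rfl⟩ := Submodule.Quotient.mk_surjective _ q
    rw [sq_mk, LinearMap.smul_apply, LinearMap.id_apply, ← Submodule.Quotient.mk_smul, Submodule.Quotient.eq]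
    exact hsc _ b.2
  rw [this, LinearMap.det_smul, LinearMap.det_id, mul_one, h.finrank_eq]

end linear

variable {k K K' : Type u} [Field k] [IsAlgClosed k] [Field K] [Field K'] [Algebra k K] [Algebra K K'] [Algebra k K']
  [IsScalarTower k K K'] [FiniteDimensional K K']

theorem inf_ball_stable (S : Finset (Place k K')) (n : Place k K' → ℤ) {x : K'} (hx : ∀ Q ∈ S, val Q x ≤ 1) :
    ∀ v ∈ S.inf (fun Q => ball Q (n Q)), LinearMap.mulLeft k x v ∈ S.inf (fun Q => ball Q (n Q)) := fun v hv => by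
  rw [mem_finsetInf_ball] at hv ⊢
  intro Q hQ
  rw [LinearMap.mulLeft_apply, map_mul]
  exact (mul_le_of_le_one_left' (hx Q hQ)).trans (hv Q hQ)

theorem det_sq_balls (h : IsFG k K') (S : Finset (Place k K')) {x : K'} (hx : ∀ Q ∈ S, val Q x ≤ 1)
    (a : Place k K' → k) (ha : ∀ Q ∈ S, val Q (x - algebraMap k K' (a Q)) < 1) :
    ∀ (N : ℕ) (e : Place k K' → ℕ), ∑ Q ∈ S, e Q = N →
      (sq (LinearMap.mulLeft k x) (S.inf fun Q => ball Q (-(e Q : ℤ))) (S.inf fun Q => ball Q 0)
        (inf_ball_stable S _ hx) (inf_ball_stable S _ hx)).det = ∏ Q ∈ S, a Q ^ e Q := by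
  classical
  intro N
  induction N with
  | zero =>
    intro e he
    have h0 : ∀ Q ∈ S, e Q = 0 := fun Q hQ => Finset.sum_eq_zero_iff.1 he Q hQ
    have heq : (S.inf fun Q => ball Q (-(e Q : ℤ))) = S.inf fun Q => ball Q 0 :=
      Finset.inf_congr rfl fun Q hQ => by rw [h0 Q hQ]; simp
    have hc : HasCodim (S.inf fun Q => ball Q (-(e Q : ℤ))) (S.inf fun Q => ball Q (0 : ℤ)) 0 := by
      have := HasCodim.refl (S.inf fun Q => ball Q (0 : ℤ))
      rwa [← heq] at this ⊢
    rw [det_sq_scalar _ hc _ _ 1 fun v hv => by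
      rw [heq, one_smul]
      exact sub_mem (inf_ball_stable S _ hx v hv) hv, pow_zero]
    exact (Finset.prod_eq_one fun Q hQ => by rw [h0 Q hQ, pow_zero]).symm
  | succ N ih =>
    intro e he
    obtain ⟨R, hR, hRe⟩ : ∃ R ∈ S, e R ≠ 0 := by
      by_contra hall
      push Not at hall
      rw [Finset.sum_eq_zero hall] at he
      omega
    let e' : Place k K' → ℕ := Function.update e R (e R - 1)
    have he' : ∑ Q ∈ S, e' Q = N := by
      rw [Finset.sum_update_of_mem hR]
      rw [← Finset.add_sum_erase S e hR] at he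
      rw [Finset.sdiff_singleton_eq_erase]
      omega
    have h1 : HasCodim (S.inf fun Q => ball Q (-(e Q : ℤ))) (S.inf fun Q => ball Q (-(e' Q : ℤ))) 1 := by
      have := hasCodim_finsetInf_ball h S (fun Q => -(e Q : ℤ)) (fun Q => if Q = R then 1 else 0)
      simp only [ite_mul, one_mul, zero_mul, Finset.sum_ite_eq', if_pos hR, h.deg_eq_one R] at this
      have heq : (S.inf fun Q => ball Q (-(e' Q : ℤ))) =
          S.inf fun Q => ball Q (-(e Q : ℤ) + ((if Q = R then 1 else 0 : ℕ) : ℤ)) := Finset.inf_congr rfl fun Q _ => by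
        congr 1
        simp only [e', Function.update_apply]
        split_ifs with hQ
        · subst hQ; omega
        · simp
      rwa [heq]
    have h2 : ∃ n, HasCodim (S.inf fun Q => ball Q (-(e' Q : ℤ))) (S.inf fun Q => ball Q (0 : ℤ)) n := by
      refine ⟨∑ Q ∈ S, e' Q * Q.deg, ?_⟩
      have := hasCodim_finsetInf_ball h S (fun Q => -(e' Q : ℤ)) e'
      simpa using this
    obtain ⟨n, h2⟩ := h2
    rw [det_sq_trans _ h1 h2 _ (inf_ball_stable S _ hx) _, ih e' he', det_sq_scalar _ h1 _ _ (a R) fun v hv => by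
      rw [mem_finsetInf_ball] at hv ⊢
      intro Q hQ
      rw [LinearMap.mulLeft_apply, Algebra.smul_def, ← sub_mul, map_mul]
      by_cases hQR : Q = R
      · subst hQR
        have h3 : val Q (x - algebraMap k K' (a Q)) ≤ exp (-1) := by
          rw [← zero_sub (1 : ℤ), le_exp_sub_one_iff, exp_zero]; exact ha Q hQ
        refine (mul_le_mul' h3 (hv Q hQ)).trans ?_
        rw [← exp_add, exp_le_exp]
        simp only [e', Function.update_self]
        omega
      · refine (mul_le_of_le_one_left' ?_).trans ((hv Q hQ).trans ?_)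
        · exact ((val Q).map_sub _ _).trans (max_le (hx Q hQ) (Q.2.1 _))
        · simp [e', hQR]]
    rw [pow_one, ← Finset.mul_prod_erase S (fun Q => a Q ^ e Q) hR,
      ← Finset.mul_prod_erase S (fun Q => a Q ^ e' Q) hR, ← mul_assoc]
    congr 1
    · simp only [e', Function.update_self]
      rw [← pow_succ']
      congr 1
      omega
    · refine Finset.prod_congr rfl fun Q hQ => ?_
      simp [e', Finset.ne_of_mem_erase hQ]

/-- The value of a norm. -/
theorem norm_value (h : IsFG k K) (P : Place k K) {x : K'} (S : Finset (Place k K'))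
    (hS : ∀ Q, Q ∈ S ↔ IsOver Q P) (a : Place k K' → k) (ha : ∀ Q ∈ S, val Q (x - algebraMap k K' (a Q)) < 1) :
    val P (Algebra.norm K x - algebraMap k K (∏ Q ∈ S, a Q ^ ramIdx Q P)) < 1 := by
  classical
  letI : Algebra P.O K' := ((algebraMap K K').comp P.O.subtype).toAlgebra
  haveI : IsScalarTower P.O K K' := IsScalarTower.of_algebraMap_eq fun _ => rfl
  have hfg' : IsFG k K' := isFG_extension (K := K) (K' := K') h
  have hxv : ∀ Q ∈ S, val Q x ≤ 1 := fun Q hQ => by
    rw [← sub_add_cancel x (algebraMap k K' (a Q))]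
    exact ((val Q).map_add _ _).trans (max_le (ha Q hQ).le (Q.2.1 _))
  have hx : IsIntegral P.O x := (isIntegral_iff_forall h _).mpr fun Q hQ => hxv Q ((hS Q).2 hQ)
  haveI := isPrincipalIdealRing_O P
  haveI : Module.Finite P.O (integralClosure P.O K') := integralClosure_finite h P
  haveI : Module.IsTorsionFree P.O K' := Module.IsTorsionFree.trans_faithfulSMul P.O K K'
  set R := integralClosure P.O K' with hRdef
  obtain ⟨n, b⟩ := Submodule.basisOfPid (Module.Free.chooseBasis P.O R) (⊤ : Submodule P.O R)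
  let b : Module.Basis (Fin n) P.O R := b.map Submodule.topEquiv
  let m : R →ₗ[P.O] R := LinearMap.mulLeft P.O ⟨x, hx⟩
  -- the norm
  have hli : LinearIndependent K (fun i => ((b i : R) : K')) := by
    rw [← LinearIndependent.iff_fractionRing P.O K]
    exact b.linearIndependent.map' (Subalgebra.val R).toLinearMap (LinearMap.ker_eq_bot.mpr Subtype.coe_injective)
  have hsp : ⊤ ≤ Submodule.span K (Set.range fun i => ((b i : R) : K')) := by
    intro z _
    obtain ⟨N, t, ht, hint⟩ := exists_shift_integral h P z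
    have ht0 : t ^ N ≠ 0 := pow_ne_zero _ fun h0 => by rw [h0, map_zero] at ht; exact exp_ne_zero ht.symm
    have hz : z = (t ^ N)⁻¹ • (algebraMap K K' (t ^ N) * z) := by
      rw [Algebra.smul_def, ← mul_assoc, ← map_mul, inv_mul_cancel₀ ht0, map_one, one_mul]
    rw [hz]
    refine Submodule.smul_mem _ _ ?_
    rw [show algebraMap K K' (t ^ N) * z = ((⟨_, hint⟩ : R) : K') from rfl, ← b.sum_repr ⟨_, hint⟩,
      AddSubmonoidClass.coe_finsetSum]
    refine sum_mem fun i _ => ?_
    rw [Subalgebra.coe_smul, ← algebraMap_smul K]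
    exact Submodule.smul_mem _ _ (Submodule.subset_span ⟨i, rfl⟩)
  let bK : Module.Basis (Fin n) K K' := Module.Basis.mk hli hsp
  have hnorm : Algebra.norm K x = algebraMap P.O K (LinearMap.det m) := by
    rw [Algebra.norm_eq_matrix_det bK, ← LinearMap.det_toMatrix b, RingHom.map_det]
    congr 1
    ext i j
    rw [Algebra.leftMulMatrix_eq_repr_mul, RingHom.mapMatrix_apply, Matrix.map_apply, LinearMap.toMatrix_apply]
    have hx' : x * bK j = ∑ l, algebraMap P.O K (b.repr (m (b j)) l) • bK l := by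
      simp only [bK, Module.Basis.coe_mk, algebraMap_smul]
      show ((m (b j) : R) : K') = _
      conv_lhs => rw [← b.sum_repr (m (b j))]
      rw [AddSubmonoidClass.coe_finsetSum]
      exact Finset.sum_congr rfl fun l _ => Subalgebra.coe_smul _ _ _
    rw [hx', bK.repr_sum_self]
  -- the reduced space
  set B := S.inf fun Q => ball Q (0 : ℤ)
  set A := S.inf fun Q => ball Q (-(ramIdx Q P : ℤ))
  have hBiff : ∀ z, z ∈ B ↔ IsIntegral P.O z := fun z => by
    rw [isIntegral_iff_forall h, mem_finsetInf_ball]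
    simp only [exp_zero]
    exact forall_congr' fun Q => by rw [hS]
  have hsum := (sum_ramIdx (K' := K') h P).2 S hS
  have hcd : HasCodim A B n := by
    have := hasCodim_finsetInf_ball hfg' S (fun Q => -(ramIdx Q P : ℤ)) (fun Q => ramIdx Q P)
    rw [hsum, h.deg_eq_one P, mul_one, Module.finrank_eq_card_basis bK, Fintype.card_fin] at this
    simpa [A, B] using this
  haveI := hcd.finite
  let v : Fin n → (B ⧸ A.comap B.subtype) := fun i => Submodule.Quotient.mk ⟨(b i : K'), (hBiff _).2 (b i).2⟩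
  have hres : ∀ o : P.O, ∀ i,
      (algebraMap P.O K' o - algebraMap k K' (resConst h P o)) * (b i : K') ∈ A := fun o i => by
    rw [mem_finsetInf_ball]
    intro Q hQ
    obtain ⟨e, he⟩ := (hS Q).1 hQ
    rw [map_mul, IsScalarTower.algebraMap_apply P.O K K', IsScalarTower.algebraMap_apply k K K', ← map_sub,
      show val Q (algebraMap K K' _) = _ from he _, ramIdx_eq he]
    refine (mul_le_of_le_one_right' (val_le_one_of_isIntegral ((hS Q).1 hQ) (b i).2)).trans ?_
    have h3 := resConst_spec h P o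
    have h4 : val P ((o : K) - algebraMap k K (resConst h P o)) ≤ exp (-1) := by
      rw [← zero_sub (1 : ℤ), le_exp_sub_one_iff, exp_zero]; exact h3
    refine (pow_le_pow_left' h4 e).trans ?_
    rw [← exp_nsmul, exp_le_exp]
    simp
  have hmemR : ∀ z, z ∈ B → z ∈ R := fun z hz => (hBiff z).1 hz
  have hexp : ∀ (z : K') (hz : z ∈ B),
      (Submodule.Quotient.mk ⟨z, hz⟩ : B ⧸ A.comap B.subtype) =
        ∑ i, resConst h P (b.repr ⟨z, hmemR z hz⟩ i) • v i := fun z hz => by
    have h1 : z = ∑ i, algebraMap P.O K' (b.repr ⟨z, hmemR z hz⟩ i) * (b i : K') := by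
      conv_lhs => rw [show z = ((⟨z, hmemR z hz⟩ : R) : K') from rfl, ← b.sum_repr ⟨z, hmemR z hz⟩]
      rw [AddSubmonoidClass.coe_finsetSum]
      exact Finset.sum_congr rfl fun i _ => by rw [Subalgebra.coe_smul, Algebra.smul_def]
    simp only [v, ← Submodule.mkQ_apply, ← map_smul, ← map_sum]
    simp only [Submodule.mkQ_apply]
    rw [Submodule.Quotient.eq]
    show z - ((∑ i, resConst h P (b.repr ⟨z, hmemR z hz⟩ i) • (⟨(b i : K'), _⟩ : B) : B) : K') ∈ A
    rw [AddSubmonoidClass.coe_finsetSum]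
    generalize b.repr ⟨z, hmemR z hz⟩ = cs at h1 ⊢
    rw [h1, ← Finset.sum_sub_distrib]
    refine sum_mem fun i _ => ?_
    rw [Submodule.coe_smul, Algebra.smul_def, ← sub_mul]
    exact hres _ i
  have hspan : ⊤ ≤ Submodule.span k (Set.range v) := fun q _ => by
    obtain ⟨⟨z, hz⟩, rfl⟩ := Submodule.Quotient.mk_surjective _ q
    rw [hexp z hz]
    exact sum_mem fun i _ => Submodule.smul_mem _ _ (Submodule.subset_span ⟨i, rfl⟩)
  let bv : Module.Basis (Fin n) k (B ⧸ A.comap B.subtype) :=
    basisOfTopLeSpanOfCardEqFinrank v hspan (by rw [Fintype.card_fin, hcd.finrank_eq])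
  have hbv : ∀ i, bv i = v i := fun i => by simp [bv]
  set μ := sq (LinearMap.mulLeft k x) A B (inf_ball_stable S _ hxv) (inf_ball_stable S _ hxv)
  have hdet : μ.det = resConst h P (LinearMap.det m) := by
    rw [← LinearMap.det_toMatrix bv, ← LinearMap.det_toMatrix b, AlgHom.map_det]
    congr 1
    ext i j
    rw [LinearMap.toMatrix_apply, AlgHom.mapMatrix_apply, Matrix.map_apply, LinearMap.toMatrix_apply, hbv]
    show bv.repr (Submodule.Quotient.mk ⟨x * (b j : K'), _⟩) i = _
    rw [hexp]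
    simp only [← hbv]
    rw [bv.repr_sum_self]
    rfl
  have hprod : μ.det = ∏ Q ∈ S, a Q ^ ramIdx Q P := det_sq_balls hfg' S hxv a ha _ _ rfl
  rw [← hprod, hdet, hnorm]
  exact resConst_spec h P _

end GrothLib.FunFld.NormValue
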