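import Groth.Agent.Lib.FunFld.Hasse
import Mathlib.LinearAlgebra.Matrix.Block
import Mathlib.LinearAlgebra.Matrix.NonsingularInverse
import Mathlib.FieldTheory.IsAlgClosed.Basic

/-!
Order sequences and Wronskians of a tuple.
-/

set_option autoImplicit false
set_option linter.style.haveILetI false

namespace GrothLib.FunFld

open _root_.FunFld

universe u v

variable {k : Type u} {K : Type v} [Field k] [Field K] [Algebra k K] {n : ℕ}
  {φ : Fin (n + 1) → K} {τ : K →ₐ[k] K} {s : K} {H : K →ₐ[k] PowerSeries K}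

theorem wrMat_col (I : Fin n → ℕ) (i : Fin (n + 1)) (a : Fin (n + 1)) :
    wrMat τ H φ I i a = hcol τ H φ (sel I a) i := by
  refine Fin.cases ?_ (fun l => ?_) a <;> simp [wrMat, sel, hcol]

theorem hcol_zero_ne_zero (hφ : LinearIndependent k φ) : hcol τ H φ 0 ≠ 0 := fun h => by
  have h0 : τ (φ 0) = 0 := congrFun h 0
  exact hφ.ne_zero 0 ((map_eq_zero_iff τ τ.toRingHom.injective).mp h0)

theorem det_wrMat_ne_zero_iff (I : Fin n → ℕ) :
    (wrMat τ H φ I).det ≠ 0 ↔ LinearIndependent K fun a => hcol τ H φ (sel I a) := by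
  rw [← isUnit_iff_ne_zero, ← Matrix.isUnit_iff_isUnit_det, ← Matrix.linearIndependent_cols_iff_isUnit]
  have : (wrMat τ H φ I).col = fun a => hcol τ H φ (sel I a) := by
    funext a i; exact wrMat_col I i a
  rw [this]

theorem exists_isOrders_det (hH : LocRes.IsHasseFamily s H) (hK : IsFunctionField k K)
    (hg : IsGeometric k K) (hφ : LinearIndependent k φ) (τ : K →ₐ[k] K) :
    ∃ J : Fin n → ℕ, IsOrders K (hcol τ H φ) J ∧ (wrMat τ H φ J).det ≠ 0 := by
  obtain ⟨J, hJ⟩ := exists_isOrders (hcol τ H φ) (hcol_zero_ne_zero hφ)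
    (span_hcol_eq_top hH hK hg hφ τ) (Module.finrank_fin_fun K)
  exact ⟨J, hJ, (det_wrMat_ne_zero_iff J).mpr (linearIndependent_sel _ hJ (hcol_zero_ne_zero hφ))⟩

theorem hcol_linear_change (A : Matrix (Fin (n + 1)) (Fin (n + 1)) k) (φ' : Fin (n + 1) → K)
    (hφ' : ∀ i, φ' i = ∑ j, A i j • φ j) (j : ℕ) :
    hcol τ H φ' j = (A.map (algebraMap k K)).mulVecLin (hcol τ H φ j) := by
  funext i
  rcases j with _ | j
  · simp [hcol, hφ', Matrix.mulVec, dotProduct, Algebra.smul_def]
  · simp [hcol, hφ', Matrix.mulVec, dotProduct, Algebra.smul_def, map_sum, algebraMap_smul,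
      map_smul, PowerSeries.coeff_smul, LocRes.hasseD_apply, PowerSeries.algebraMap_apply,
      PowerSeries.coeff_C_mul]

theorem wrMat_linear_change (A : Matrix (Fin (n + 1)) (Fin (n + 1)) k) (φ' : Fin (n + 1) → K)
    (hφ' : ∀ i, φ' i = ∑ j, A i j • φ j) (I : Fin n → ℕ) :
    wrMat τ H φ' I = A.map (algebraMap k K) * wrMat τ H φ I := by
  ext i a
  rw [wrMat_col, hcol_linear_change A φ' hφ', Matrix.mul_apply]
  simp [Matrix.mulVec, dotProduct, wrMat_col]

theorem isJump_map {V W : Type*} [AddCommGroup V] [Module K V] [AddCommGroup W] [Module K W]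
    (L : V →ₗ[K] W) (hL : Function.Injective L) (c : ℕ → V) (j : ℕ) :
    IsJump K (fun m => L (c m)) j ↔ IsJump K c j := by
  rw [IsJump, IsJump, ← Set.image_image L c, Submodule.span_image, Submodule.mem_map]
  exact not_congr ⟨fun ⟨y, hy, h⟩ => hL h ▸ hy, fun h => ⟨_, h, rfl⟩⟩

theorem isJump_congr {V : Type*} [AddCommGroup V] [Module K V] {c c' : ℕ → V}
    (h : ∀ m, Submodule.span K (c '' Set.Iio m) = Submodule.span K (c' '' Set.Iio m)) (j : ℕ) :
    IsJump K c j ↔ IsJump K c' j := by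
  have key : ∀ (c : ℕ → V), IsJump K c j ↔
      Submodule.span K (c '' Set.Iio (j + 1)) ≠ Submodule.span K (c '' Set.Iio j) := fun c => by
    have : c '' Set.Iio (j + 1) = insert (c j) (c '' Set.Iio j) := by
      rw [← Set.image_insert_eq]; congr 1; ext; simp
    rw [this, IsJump, ne_eq, Submodule.span_insert, sup_eq_right, Submodule.span_singleton_le_iff_mem]
  rw [key, key, h, h]

theorem isJump_one_iff {τ : K →ₐ[k] K} (hH : LocRes.IsHasseFamily s H) (h0 : φ 0 ≠ 0)
    (hbir : IntermediateField.adjoin k (Set.range fun i => φ i / φ 0) = ⊤) :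
    ¬ IsJump K (hcol τ H φ) 1 ↔ τ = AlgHom.id k K := by
  have hc : hcol τ H φ 1 = φ := funext fun i => hasseD_zero hH (φ i)
  rw [IsJump, not_not, show Set.Iio (1 : ℕ) = {0} from by ext; simp, Set.image_singleton,
    Submodule.mem_span_singleton, hc]
  constructor
  · rintro ⟨a, ha⟩
    have hi : ∀ i, a * τ (φ i) = φ i := fun i => congrFun ha i
    have ha0 : a ≠ 0 := fun h => h0 (by rw [← hi 0, h, zero_mul])
    refine AlgHom.ext fun y => ?_
    have hy : y ∈ IntermediateField.adjoin k (Set.range fun i => φ i / φ 0) := hbir ▸ IntermediateField.mem_top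
    induction hy using IntermediateField.adjoin_induction with
    | mem w hw =>
      obtain ⟨i, rfl⟩ := hw
      show τ (φ i / φ 0) = φ i / φ 0
      conv_rhs => rw [← hi i, ← hi 0]
      rw [map_div₀, mul_div_mul_left _ _ ha0]
    | algebraMap c => simp
    | add x z _ _ hx hz => simp only [AlgHom.id_apply] at hx hz ⊢; rw [map_add, hx, hz]
    | inv x _ hx => simp only [AlgHom.id_apply] at hx ⊢; rw [map_inv₀, hx]
    | mul x z _ _ hx hz => simp only [AlgHom.id_apply] at hx hz ⊢; rw [map_mul, hx, hz]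
  · rintro rfl
    exact ⟨1, by funext i; simp [hcol]⟩

section Change

variable {t : K} {Ht : K →ₐ[k] PowerSeries K}

theorem H_eq_subst (hHs : LocRes.IsHasseFamily s H) (hHt : LocRes.IsHasseFamily t Ht)
    (hK : IsFG k K) (hg : IsGeometric k K) (y : K) :
    Ht y = PowerSeries.subst (Ht s - PowerSeries.C s) (H y) := by
  haveI := isSeparable_adjoin_self hHs hK hg
  have hu : PowerSeries.constantCoeff (Ht s - PowerSeries.C s) = 0 := by simp [hHt.2]
  have hsub := PowerSeries.HasSubst.of_constantCoeff_zero' hu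
  have h : Ht.toRingHom = (PowerSeries.substAlgHom hsub).toRingHom.comp H.toRingHom := by
    refine eq_of_agree_adjoin (k := k) (s := s) PowerSeries.constantCoeff _ _ (fun z => ?_) (fun c => ?_) ?_
    · show PowerSeries.constantCoeff (Ht z) = PowerSeries.constantCoeff (PowerSeries.substAlgHom hsub (H z))
      rw [hHt.2, PowerSeries.coe_substAlgHom, ← PowerSeries.coeff_zero_eq_constantCoeff_apply,
        PowerSeries.coeff_subst' hsub, finsum_eq_single _ 0 fun d hd => by simp [hu, zero_pow hd]]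
      simp [hHs.2]
    · show Ht _ = PowerSeries.substAlgHom hsub (H _)
      rw [algebraMap_H hHt, algebraMap_H hHs, PowerSeries.coe_substAlgHom, PowerSeries.subst_C]
      rfl
    · show Ht s = PowerSeries.substAlgHom hsub (H s)
      rw [hHs.1, map_add, PowerSeries.substAlgHom_X, PowerSeries.coe_substAlgHom, PowerSeries.subst_C]
      exact (add_sub_cancel _ _).symm
  have := RingHom.congr_fun h y
  exact this.trans (by rw [← PowerSeries.coe_substAlgHom hsub]; rfl)

theorem coeff_pow_eq_zero {u : PowerSeries K} (hu : PowerSeries.constantCoeff u = 0) {j m : ℕ}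
    (h : j < m) : PowerSeries.coeff j (u ^ m) = 0 :=
  PowerSeries.coeff_of_lt_order _ (lt_of_lt_of_le (by exact_mod_cast h)
    (PowerSeries.le_order_pow_of_constantCoeff_eq_zero m hu))

theorem coeff_pow_self {u : PowerSeries K} (hu : PowerSeries.constantCoeff u = 0) (m : ℕ) :
    PowerSeries.coeff m (u ^ m) = PowerSeries.coeff 1 u ^ m := by
  obtain ⟨w, rfl⟩ := PowerSeries.X_dvd_iff.mpr hu
  rw [mul_pow, PowerSeries.coeff_X_pow_mul', if_pos le_rfl, Nat.sub_self,
    PowerSeries.coeff_zero_eq_constantCoeff_apply, map_pow,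
    show (1 : ℕ) = 0 + 1 from rfl, PowerSeries.coeff_succ_X_mul,
    PowerSeries.coeff_zero_eq_constantCoeff_apply]

/-- The higher Hasse derivatives in two variables differ by a triangular transformation. -/
theorem hasseD_change (hHs : LocRes.IsHasseFamily s H) (hHt : LocRes.IsHasseFamily t Ht)
    (hK : IsFG k K) (hg : IsGeometric k K) (j : ℕ) (y : K) :
    LocRes.hasseD Ht j y = (∑ m ∈ Finset.range j,
        PowerSeries.coeff j ((Ht s - PowerSeries.C s) ^ m) * LocRes.hasseD H m y) +
      LocRes.hasseD Ht 1 s ^ j * LocRes.hasseD H j y := by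
  have hu : PowerSeries.constantCoeff (Ht s - PowerSeries.C s) = 0 := by simp [hHt.2]
  rw [LocRes.hasseD_apply, H_eq_subst hHs hHt hK hg, PowerSeries.coeff_subst'
    (PowerSeries.HasSubst.of_constantCoeff_zero' hu),
    finsum_eq_sum_of_support_subset _ (s := Finset.range (j + 1)) fun d hd => by
      simp only [Finset.coe_range, Set.mem_Iio]
      by_contra h
      exact hd (by
        show _ • _ = (0 : K)
        rw [coeff_pow_eq_zero hu (by omega), smul_zero]),
    Finset.sum_range_succ, coeff_pow_self hu]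
  simp only [smul_eq_mul, LocRes.hasseD_apply, map_sub, PowerSeries.coeff_C, one_ne_zero, if_false,
    sub_zero]
  rw [mul_comm (PowerSeries.coeff j (H y))]
  exact congrArg (· + _) (Finset.sum_congr rfl fun m _ => mul_comm _ _)

theorem hcol_succ_sub_mem (hHs : LocRes.IsHasseFamily s H) (hHt : LocRes.IsHasseFamily t Ht)
    (hK : IsFG k K) (hg : IsGeometric k K) (j : ℕ) :
    hcol τ Ht φ (j + 1) - LocRes.hasseD Ht 1 s ^ j • hcol τ H φ (j + 1) ∈
      Submodule.span K (hcol τ H φ '' Set.Iio (j + 1)) := by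
  have : hcol τ Ht φ (j + 1) - LocRes.hasseD Ht 1 s ^ j • hcol τ H φ (j + 1) =
      ∑ m ∈ Finset.range j, PowerSeries.coeff j ((Ht s - PowerSeries.C s) ^ m) • hcol τ H φ (m + 1) := by
    funext i
    simp only [Pi.sub_apply, Pi.smul_apply, Finset.sum_apply, smul_eq_mul, hcol]
    rw [hasseD_change hHs hHt hK hg j (φ i), add_sub_cancel_right]
  rw [this]
  exact Submodule.sum_mem _ fun m hm => Submodule.smul_mem _ _
    (Submodule.subset_span ⟨m + 1, by simp only [Set.mem_Iio]; have := Finset.mem_range.mp hm; omega, rfl⟩)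

theorem span_hcol_le (hHs : LocRes.IsHasseFamily s H) (hHt : LocRes.IsHasseFamily t Ht)
    (hK : IsFG k K) (hg : IsGeometric k K) (m : ℕ) :
    Submodule.span K (hcol τ Ht φ '' Set.Iio m) ≤ Submodule.span K (hcol τ H φ '' Set.Iio m) := by
  rw [Submodule.span_le]
  rintro _ ⟨i, hi, rfl⟩
  rcases i with _ | i
  · exact Submodule.subset_span ⟨0, hi, rfl⟩
  · rw [← sub_add_cancel (hcol τ Ht φ (i + 1)) (LocRes.hasseD Ht 1 s ^ i • hcol τ H φ (i + 1))]
    refine add_mem ?_ (Submodule.smul_mem _ _ (Submodule.subset_span ⟨i + 1, hi, rfl⟩))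
    exact Submodule.span_mono (Set.image_mono (Set.Iio_subset_Iio (Nat.le_of_lt hi)))
      (hcol_succ_sub_mem hHs hHt hK hg i)

theorem isOrders_change (hHs : LocRes.IsHasseFamily s H) (hHt : LocRes.IsHasseFamily t Ht)
    (hK : IsFG k K) (hg : IsGeometric k K) (J : Fin n → ℕ) :
    IsOrders K (hcol τ Ht φ) J ↔ IsOrders K (hcol τ H φ) J :=
  and_congr_right fun _ => forall_congr' fun j => iff_congr Iff.rfl (isJump_congr (fun m =>
    le_antisymm (span_hcol_le hHs hHt hK hg m) (span_hcol_le hHt hHs hK hg m)) (j + 1))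

theorem det_wrMat_change (hHs : LocRes.IsHasseFamily s H) (hHt : LocRes.IsHasseFamily t Ht)
    (hK : IsFG k K) (hg : IsGeometric k K) (hφ : LinearIndependent k φ) {J : Fin n → ℕ}
    (hJ : IsOrders K (hcol τ H φ) J) :
    (wrMat τ Ht φ J).det = LocRes.hasseD Ht 1 s ^ (∑ l, J l) * (wrMat τ H φ J).det := by
  classical
  let d : Fin (n + 1) → K := Fin.cons 1 fun l => LocRes.hasseD Ht 1 s ^ J l
  have hcol' : ∀ a, ∃ cf : Fin (n + 1) → K, (∀ b, ¬ b < a → cf b = 0) ∧
      hcol τ Ht φ (sel J a) = d a • hcol τ H φ (sel J a) + ∑ b, cf b • hcol τ H φ (sel J b) := by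
    intro a
    refine Fin.cases ⟨fun _ => 0, fun _ _ => rfl, ?_⟩ (fun l => ?_) a
    · simp [d, sel, hcol]
    have h1 := hcol_succ_sub_mem (τ := τ) (φ := φ) hHs hHt hK hg (J l)
    rw [← span_jumps, ← range_sel _ hJ (hcol_zero_ne_zero hφ)] at h1
    have h2 : hcol τ Ht φ (J l + 1) - LocRes.hasseD Ht 1 s ^ J l • hcol τ H φ (J l + 1) ∈
        Submodule.span K ((fun b => hcol τ H φ (sel J b)) '' Set.Iio l.succ) := by
      refine Submodule.span_mono ?_ h1
      rintro _ ⟨_, ⟨⟨b, rfl⟩, hb⟩, rfl⟩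
      refine ⟨b, ?_, rfl⟩
      simp only [Set.mem_Iio] at hb ⊢
      exact (strictMono_sel hJ.1).lt_iff_lt.mp (by simpa [sel] using hb)
    obtain ⟨cf, hcf, hcf'⟩ := (Finsupp.mem_span_image_iff_linearCombination K).mp h2
    refine ⟨cf, fun b hb => by
      by_contra hne
      exact hb (Finsupp.mem_supported K cf |>.mp hcf (Finsupp.mem_support_iff.mpr hne)), ?_⟩
    rw [Finsupp.linearCombination_apply, Finsupp.sum_fintype _ _ (by simp)] at hcf'
    simp only [d, sel, Fin.cons_succ] at hcf' ⊢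
    rw [hcf']
    abel
  choose cf hcf0 hcf using hcol'
  let M : Matrix (Fin (n + 1)) (Fin (n + 1)) K := Matrix.of fun b a => (if b = a then d a else 0) + cf a b
  have hM : wrMat τ Ht φ J = wrMat τ H φ J * M := by
    ext i a
    rw [Matrix.mul_apply, wrMat_col, hcf]
    simp only [Pi.add_apply, Pi.smul_apply, Finset.sum_apply, smul_eq_mul, M, Matrix.of_apply,
      wrMat_col, mul_add, Finset.sum_add_distrib, mul_ite, mul_zero, Finset.sum_ite_eq', Finset.mem_univ,
      if_true]
    rw [mul_comm (d a)]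
    exact congrArg (_ + ·) (Finset.sum_congr rfl fun b _ => mul_comm _ _)
  rw [hM, Matrix.det_mul, mul_comm]
  congr 1
  rw [Matrix.det_of_upperTriangular]
  · simp only [M, Matrix.of_apply, if_true, hcf0 _ _ (lt_irrefl _), add_zero]
    rw [Fin.prod_univ_succ]
    simp [d, Finset.prod_pow_eq_pow_sum]
  · intro b a hab
    simp only [id_eq] at hab
    simp [M, (ne_of_gt hab : b ≠ a), hcf0 a b (not_lt_of_gt hab)]

end Change

end GrothLib.FunFld
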