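import Groth.Agent.Lib.FunFld.Riemann

/-!
Places above a point: every proper ideal of a finitely presented coordinate ring containing a
transcendental element lies under a place.
-/

set_option autoImplicit false
set_option linter.style.haveILetI false

namespace GrothLib.FunFld

open _root_.FunFld WithZero Polynomial
open IntermediateField (adjoin mem_adjoin_simple_iff)

variable {k K : Type*} [Field k] [Field K] [Algebra k K]

/-- A subalgebra with a proper ideal containing a transcendental `x` is centred at some place. -/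
theorem exists_place_centred {x : K} (hx : Transcendental k x)
    [FiniteDimensional (adjoin k ({x} : Set K)) K] (B : Subalgebra k K) (I : Ideal B) (hI : I ≠ ⊤)
    (hxB : x ∈ B) (hxI : (⟨x, hxB⟩ : B) ∈ I) :
    ∃ P : Place k K, (∀ a ∈ B, val P a ≤ 1) ∧ ∀ a ∈ I, val P (a : K) < 1 := by
  classical
  have hx0 : x ≠ 0 := fun h0 => hx (h0 ▸ isAlgebraic_zero)
  obtain ⟨V, hAV, hIV⟩ := Ideal.image_subset_nonunits_valuationSubring (A := B.toSubring) I hI
  let w := V.valuation
  have hw1 : w x < 1 := hIV ⟨⟨x, hxB⟩, hxI, rfl⟩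
  have hwB : ∀ a ∈ B, w a ≤ 1 := fun a ha => (V.valuation_le_one_iff a).2 (hAV ha)
  have hwI : ∀ a ∈ I, w (a : K) < 1 := fun a ha => hIV ⟨a, ha, rfl⟩
  have hwA : ∀ a ∈ Algebra.adjoin k ({x} : Set K), w a ≤ 1 :=
    fun a ha => hwB a (Algebra.adjoin_le (Set.singleton_subset_iff.2 hxB) ha)
  have hwc : ∀ c : k, c ≠ 0 → w (algebraMap k K c) = 1 := by
    intro c hc
    refine le_antisymm (hwA _ (Subalgebra.algebraMap_mem _ c)) ?_
    have := hwA _ (Subalgebra.algebraMap_mem (Algebra.adjoin k ({x} : Set K)) c⁻¹)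
    rw [map_inv₀, map_inv₀] at this
    exact (inv_le_one₀ (zero_lt_iff.2 (w.ne_zero_iff.2 (by simpa using hc)))).1 this
  have hwx0 : w x ≠ 0 := w.ne_zero_iff.2 hx0
  -- values of nonzero polynomials in `x`
  have hpoly : ∀ p : k[X], p ≠ 0 → ∃ m : ℕ, w (aeval x p) = w x ^ m := by
    intro p hp
    induction hn : p.natDegree using Nat.strong_induction_on generalizing p with
    | _ n ih =>
      by_cases h0 : p.coeff 0 = 0
      · have hdiv : p = X * p.divX := by
          conv_lhs => rw [← X_mul_divX_add p, h0, C_0, add_zero]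
        have hne : p.divX ≠ 0 := fun h => hp (by rw [hdiv, h, mul_zero])
        have hlt : p.divX.natDegree < n := by
          rw [← hn]
          conv_rhs => rw [hdiv, natDegree_X_mul hne]
          omega
        obtain ⟨m, hm⟩ := ih _ hlt p.divX hne rfl
        exact ⟨m + 1, by rw [hdiv, map_mul, aeval_X, map_mul, hm, pow_succ']⟩
      · refine ⟨0, ?_⟩
        rw [pow_zero, ← X_mul_divX_add p, map_add, map_mul, aeval_X, aeval_C]
        rw [w.map_add_eq_of_lt_right, hwc _ h0]
        rw [map_mul, hwc _ h0]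
        refine lt_of_le_of_lt (mul_le_of_le_one_right' (hwA _ ?_)) hw1
        exact aeval_mem_adjoin_singleton k x
  have hrat : ∀ a ∈ adjoin k ({x} : Set K), a ≠ 0 → ∃ m : ℤ, w a = w x ^ m := by
    intro a ha ha0
    obtain ⟨r, s, rfl⟩ := (mem_adjoin_simple_iff k _).1 ha
    rw [div_ne_zero_iff] at ha0
    obtain ⟨m, hm⟩ := hpoly r (fun h => ha0.1 (by simp [h]))
    obtain ⟨m', hm'⟩ := hpoly s (fun h => ha0.2 (by simp [h]))
    exact ⟨(m : ℤ) - m', by rw [map_div₀, hm, hm', zpow_sub₀ hwx0, zpow_natCast, zpow_natCast]⟩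
  -- the value group has finite index over that of `k(x)`
  set n := Module.finrank (adjoin k ({x} : Set K)) K with hn
  have hidx : ∀ y : K, y ≠ 0 → ∃ m : ℤ, w y ^ n.factorial = w x ^ m := by
    intro y hy
    have hdep : ¬ LinearIndependent (adjoin k ({x} : Set K)) fun i : Fin (n + 1) => y ^ (i : ℕ) :=
      fun hli => by have := hli.fintype_card_le_finrank; simp [← hn] at this
    rw [Fintype.linearIndependent_iff] at hdep
    push Not at hdep
    obtain ⟨g, hg, i₀, hi₀⟩ := hdep
    simp only [Algebra.smul_def, IntermediateField.algebraMap_apply] at hg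
    let T := Finset.univ.filter fun i => g i ≠ 0
    have hT : ∑ i ∈ T, (g i : K) * y ^ (i : ℕ) = 0 := by
      rw [Finset.sum_filter_of_ne (p := fun i => g i ≠ 0) fun i _ hi h0 => hi (by simp [h0])]; exact hg
    obtain ⟨j, hj, hjmax⟩ := T.exists_max_image (fun i => w ((g i : K) * y ^ (i : ℕ)))
      ⟨i₀, by simp [T, hi₀]⟩
    have hgj : (g j : K) ≠ 0 := fun h => (Finset.mem_filter.1 hj).2 (Subtype.ext h)
    obtain ⟨i, hi, hij, heq⟩ : ∃ i ∈ T, i ≠ j ∧
        w ((g i : K) * y ^ (i : ℕ)) = w ((g j : K) * y ^ (j : ℕ)) := by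
      by_contra hcon
      push Not at hcon
      have := w.map_sum_eq_of_lt hj (f := fun i => (g i : K) * y ^ (i : ℕ)) fun i hi => by
        simp only [Finset.mem_sdiff, Finset.mem_singleton] at hi
        exact lt_of_le_of_ne (hjmax i hi.1) (hcon i hi.1 hi.2)
      rw [hT, map_zero] at this
      exact mul_ne_zero hgj (pow_ne_zero _ hy) (w.zero_iff.1 this.symm)
    have hgi : (g i : K) ≠ 0 := fun h => (Finset.mem_filter.1 hi).2 (Subtype.ext h)
    obtain ⟨a, ha⟩ := hrat _ (g i).2 hgi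
    obtain ⟨b, hb⟩ := hrat _ (g j).2 hgj
    have hwy : w y ≠ 0 := w.ne_zero_iff.2 hy
    rw [map_mul, map_mul, map_pow, map_pow, ha, hb, ← zpow_natCast, ← zpow_natCast] at heq
    have h1 : w y ^ (((i : ℕ) : ℤ) - (j : ℕ)) = w x ^ (b - a) := by
      rw [zpow_sub₀ hwy, zpow_sub₀ hwx0, div_eq_div_iff (zpow_ne_zero _ hwy) (zpow_ne_zero _ hwx0),
        mul_comm (w y ^ ((i : ℕ) : ℤ)), heq, mul_comm]
    have hd : ((((i : ℕ) : ℤ) - (j : ℕ)).natAbs) ∣ n.factorial :=
      Nat.dvd_factorial (by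
        have : (i : ℕ) ≠ j := fun h => hij (Fin.ext h)
        omega) (by have := i.2; have := j.2; omega)
    obtain ⟨q, hq⟩ : (((i : ℕ) : ℤ) - (j : ℕ)) ∣ (n.factorial : ℤ) :=
      Int.natAbs_dvd.1 (Int.natCast_dvd_natCast.2 hd)
    refine ⟨(b - a) * q, ?_⟩
    rw [← zpow_natCast, hq, zpow_mul, h1, ← zpow_mul]
  have hidx' : ∀ y : K, ∃ m : ℤ, y ≠ 0 → w y ^ n.factorial = w x ^ m := fun y => by
    by_cases hy : y = 0
    · exact ⟨0, fun h => (h hy).elim⟩
    · exact (hidx y hy).imp fun m hm _ => hm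
  choose M hM using hidx'
  have hlt : ∀ a b : ℤ, w x ^ a ≤ w x ^ b ↔ b ≤ a := fun a b =>
    zpow_le_zpow_iff_right_of_lt_one₀ (zero_lt_iff.2 hwx0) hw1
  have hMmul : ∀ y z : K, y ≠ 0 → z ≠ 0 → M (y * z) = M y + M z := by
    intro y z hy hz
    have h := hM _ (mul_ne_zero hy hz)
    rw [map_mul, mul_pow, hM y hy, hM z hz, ← zpow_add₀ hwx0] at h
    exact le_antisymm ((hlt _ _).1 h.le) ((hlt _ _).1 h.ge)
  have hMle : ∀ y z : K, y ≠ 0 → z ≠ 0 → w y ≤ w z → M z ≤ M y := by
    intro y z hy hz h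
    have := pow_le_pow_left₀ zero_le h n.factorial
    rw [hM y hy, hM z hz] at this
    exact (hlt _ _).1 this
  let H : AddSubgroup ℤ :=
    (MonoidHom.toAdditiveLeft (MonoidHom.mk' (fun u : Kˣ => Multiplicative.ofAdd (M (u : K)))
      fun u v => by simp [hMmul _ _ u.ne_zero v.ne_zero])).range
  have hH : ∀ y : K, y ≠ 0 → M y ∈ H := fun y hy => ⟨Additive.ofMul (Units.mk0 y hy), rfl⟩
  obtain ⟨g₀, hg₀⟩ := Int.subgroup_cyclic H
  have hMx : M x = n.factorial := by
    have h := hM x hx0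
    rw [← zpow_natCast] at h
    exact le_antisymm ((hlt _ _).1 h.le) ((hlt _ _).1 h.ge)
  have hg0 : g₀ ≠ 0 := by
    rintro rfl
    have := hg₀ ▸ hH x hx0
    rw [AddSubgroup.mem_closure_singleton] at this
    obtain ⟨t, ht⟩ := this
    simp [hMx] at ht
    exact Nat.factorial_ne_zero n (by exact_mod_cast ht.symm)
  obtain ⟨G, hG0, hGdvd, hGmem⟩ : ∃ G : ℤ, 0 < G ∧ (∀ y : K, y ≠ 0 → G ∣ M y) ∧
      ∃ y : K, y ≠ 0 ∧ M y = G := by
    refine ⟨|g₀|, abs_pos.2 hg0, fun y hy => ?_, ?_⟩
    · have := hg₀ ▸ hH y hy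
      rw [AddSubgroup.mem_closure_singleton] at this
      obtain ⟨t, ht⟩ := this
      rw [← ht, zsmul_eq_mul, abs_dvd]; exact dvd_mul_left _ _
    · have : |g₀| ∈ H := by
        rcases abs_choice g₀ with h | h <;> rw [h, hg₀]
        · exact AddSubgroup.subset_closure rfl
        · exact neg_mem (AddSubgroup.subset_closure rfl)
      obtain ⟨u, hu⟩ := this
      exact ⟨_, (Additive.toMul u).ne_zero, hu⟩
  let f : K → WithZero (Multiplicative ℤ) := fun y => if y = 0 then 0 else exp (-(M y / G))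
  have hf0 : ∀ y, y ≠ 0 → f y = exp (-(M y / G)) := fun y hy => if_neg hy
  let v : Valuation K (WithZero (Multiplicative ℤ)) :=
    { toFun := f
      map_zero' := if_pos rfl
      map_one' := by
        have := hMmul 1 1 one_ne_zero one_ne_zero
        rw [mul_one] at this
        rw [hf0 _ one_ne_zero, show M 1 = 0 by omega]; simp
      map_mul' := fun y z => by
        by_cases hy : y = 0
        · simp [f, hy]
        by_cases hz : z = 0
        · simp [f, hz]
        rw [hf0 _ (mul_ne_zero hy hz), hf0 _ hy, hf0 _ hz, hMmul y z hy hz,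
          Int.add_ediv_of_dvd_left (hGdvd y hy), ← exp_add]
        congr 1; ring
      map_add_le_max' := fun y z => by
        by_cases hy : y = 0
        · simp [f, hy]
        by_cases hz : z = 0
        · simp [f, hz]
        by_cases hyz : y + z = 0
        · simp [f, hyz]
        rcases le_max_iff.1 (w.map_add y z) with h | h
        · refine le_max_of_le_left ?_
          rw [hf0 _ hyz, hf0 _ hy, exp_le_exp, neg_le_neg_iff]
          exact Int.ediv_le_ediv hG0 (hMle _ _ hyz hy h)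
        · refine le_max_of_le_right ?_
          rw [hf0 _ hyz, hf0 _ hz, exp_le_exp, neg_le_neg_iff]
          exact Int.ediv_le_ediv hG0 (hMle _ _ hyz hz h) }
  refine ⟨⟨v, ⟨fun c => ?_, fun a => ?_⟩⟩, fun a ha => ?_, fun a ha => ?_⟩
  · show f (algebraMap k K c) ≤ 1
    by_cases hc : c = 0
    · simp [f, hc]
    have hc' : algebraMap k K c ≠ 0 := by simpa using hc
    have h := hM _ hc'
    rw [hwc c hc, one_pow, ← zpow_zero (w x)] at h
    rw [hf0 _ hc', show M (algebraMap k K c) = 0 from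
      le_antisymm ((hlt _ _).1 h.le) ((hlt _ _).1 h.ge)]
    simp
  · obtain ⟨y, hy, hyG⟩ := hGmem
    by_cases ha : a = 0
    · exact ⟨0, by rw [ha]; exact map_zero v⟩
    refine ⟨y ^ (-log a), ?_⟩
    have hvy : v y = exp (-1) := by
      show f y = _
      rw [hf0 _ hy, hyG, Int.ediv_self hG0.ne']
    rw [map_zpow₀, hvy, ← exp_zsmul]
    simp [exp_log ha]
  · show f a ≤ 1
    by_cases ha0 : a = 0
    · simp [f, ha0]
    have h1 := pow_le_one₀ (n := n.factorial) zero_le (hwB a ha)
    rw [hM a ha0, ← zpow_zero (w x), hlt] at h1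
    rw [hf0 _ ha0, ← exp_zero, exp_le_exp, Left.neg_nonpos_iff]
    exact Int.ediv_nonneg h1 hG0.le
  · show f (a : K) < 1
    by_cases ha0 : (a : K) = 0
    · simp [f, ha0]
    have h1 := pow_lt_one₀ zero_le (hwI a ha) n.factorial_ne_zero
    rw [hM _ ha0] at h1
    have h2 : 0 < M (a : K) := by
      by_contra hc
      have := (hlt 0 (M (a : K))).2 (not_lt.1 hc)
      rw [zpow_zero] at this
      exact not_lt.2 this h1
    obtain ⟨t, ht⟩ := hGdvd _ ha0
    rw [hf0 _ ha0, ← exp_zero, exp_lt_exp, ht, Int.mul_ediv_cancel_left _ hG0.ne']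
    nlinarith

end GrothLib.FunFld
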