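import Groth.Agent.Lib.FunFld.PlaneChange
import Mathlib.Algebra.Polynomial.Bivariate

/-!
Dehomogenisation of ternary forms.
-/

set_option autoImplicit false

namespace GrothLib.FunFld.PlaneHom

open MvPolynomial
open scoped Polynomial.Bivariate

variable {k : Type*} [Field k]

/-- Setting the first variable to one. -/
noncomputable def deh : MvPolynomial (Fin 3) k →ₐ[k] MvPolynomial (Fin 2) k :=
  aeval ![1, X 0, X 1]

theorem aeval_deh {K : Type*} [CommRing K] [Algebra k K] (a b : K) (G : MvPolynomial (Fin 3) k) :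
    aeval ![a, b] (deh G) = aeval ![(1 : K), a, b] G := by
  rw [deh, ← AlgHom.comp_apply, comp_aeval]
  congr 1
  congr 1
  funext i
  fin_cases i <;> simp

theorem eq_zero_of_deh [Infinite k] {G : MvPolynomial (Fin 3) k} {m : ℕ} (hG : G.IsHomogeneous m)
    (h : deh G = 0) : G = 0 := by
  have h2 : X 0 * G = 0 := by
    refine MvPolynomial.funext fun v => ?_
    rw [map_mul, eval_X, map_zero]
    rcases eq_or_ne (v 0) 0 with h0 | h0
    · rw [h0, zero_mul]
    have h1 := aeval_smul_of_isHomogeneous hG (v 0) ![(1 : k), v 1 / v 0, v 2 / v 0]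
    rw [← aeval_deh, h, map_zero, mul_zero] at h1
    rw [← MvPolynomial.coe_aeval_eq_eval v]
    have h3 : (fun i => v 0 * ![(1 : k), v 1 / v 0, v 2 / v 0] i) = v := funext fun i => by
      fin_cases i <;> simp [mul_div_cancel₀ _ h0]
    rw [h3] at h1
    show v 0 * aeval v G = 0
    rw [h1, mul_zero]
  exact (mul_eq_zero.1 h2).resolve_left (X_ne_zero _)

theorem exists_homogenize {g : MvPolynomial (Fin 2) k} {m : ℕ} (hm : g.totalDegree ≤ m) :
    ∃ G : MvPolynomial (Fin 3) k, G.IsHomogeneous m ∧ deh G = g := by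
  refine ⟨∑ i ∈ Finset.range (m + 1), X 0 ^ (m - i) * rename Fin.succ (homogeneousComponent i g),
    IsHomogeneous.sum _ _ _ fun i hi => ?_, ?_⟩
  · rw [Finset.mem_range] at hi
    have := ((isHomogeneous_X k (0 : Fin 3)).pow (m - i)).mul
      (IsHomogeneous.rename_isHomogeneous (f := Fin.succ) (homogeneousComponent_isHomogeneous i g))
    rwa [show 1 * (m - i) + i = m by omega] at this
  · have hterm : ∀ i, deh (X 0 ^ (m - i) * rename Fin.succ (homogeneousComponent i g)) = homogeneousComponent i g := by
      intro i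
      rw [map_mul, map_pow, deh, aeval_X, aeval_rename]
      have : (![1, X 0, X 1] : Fin 3 → MvPolynomial (Fin 2) k) ∘ Fin.succ = X := by
        funext j; fin_cases j <;> simp
      rw [this, aeval_X_left_apply]
      simp
    rw [map_sum, Finset.sum_congr rfl fun i _ => hterm i]
    have hsub : Finset.range (g.totalDegree + 1) ⊆ Finset.range (m + 1) := Finset.range_mono (by omega)
    rw [← Finset.sum_subset hsub fun i _ hi => homogeneousComponent_eq_zero _ _ (by
      rw [Finset.mem_range] at hi; omega)]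
    exact sum_homogeneousComponent g

theorem deh_pderiv (G : MvPolynomial (Fin 3) k) (j : Fin 2) : deh (pderiv j.succ G) = pderiv j (deh G) := by
  induction G using MvPolynomial.induction_on with
  | C c => simp [deh]
  | add p q hp hq => simp only [map_add, hp, hq]
  | mul_X p s hp =>
    rw [map_mul deh p (X s), pderiv_mul, pderiv_mul, map_add, map_mul, map_mul, hp]
    congr 2
    fin_cases s <;> fin_cases j <;> simp [deh, pderiv_X, Pi.single_apply]

theorem pderiv_deh_two (G : MvPolynomial (Fin 3) k) : deh (pderiv 2 G) = pderiv 1 (deh G) :=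
  deh_pderiv G 1

/-- Bivariate polynomials. -/
noncomputable def toBi : MvPolynomial (Fin 2) k ≃ₐ[k] k[X][Y] :=
  AlgEquiv.ofAlgHom (aeval ![Polynomial.C Polynomial.X, Y])
    (Polynomial.aevalAeval (X 0) (X 1))
    (by ext <;> simp) (by ext i; fin_cases i <;> simp)

theorem aevalAeval_toBi {K : Type*} [CommRing K] [Algebra k K] (a b : K) (g : MvPolynomial (Fin 2) k) :
    Polynomial.aevalAeval a b (toBi g) = aeval ![a, b] g := by
  show (Polynomial.aevalAeval a b) ((aeval ![(Polynomial.C Polynomial.X : k[X][Y]), Y]) g) = _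
  rw [← AlgHom.comp_apply, comp_aeval]
  congr 1
  congr 1
  funext i
  fin_cases i <;> simp

theorem derivative_toBi (g : MvPolynomial (Fin 2) k) :
    Polynomial.derivative (toBi g) = toBi (pderiv 1 g) := by
  induction g using MvPolynomial.induction_on with
  | C c => simp [toBi]
  | add p q hp hq => simp only [map_add, hp, hq]
  | mul_X p s hp =>
    rw [map_mul, Polynomial.derivative_mul, hp, pderiv_mul, map_add, map_mul, map_mul]
    congr 2
    fin_cases s <;> simp [toBi, pderiv_X, Pi.single_apply]

theorem coeff_toBi_deh {G : MvPolynomial (Fin 3) k} {d : ℕ} (hG : G.IsHomogeneous d) :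
    (toBi (deh G)).natDegree ≤ d ∧
      (toBi (deh G)).coeff d = Polynomial.C (aeval ![(0 : k), 0, 1] G) := by
  classical
  have hexp : toBi (deh G) = aeval (![1, Polynomial.C Polynomial.X, Y] : Fin 3 → k[X][Y]) G := by
    show (aeval ![(Polynomial.C Polynomial.X : k[X][Y]), Y]) (deh G) = _
    exact aeval_deh _ _ G
  have hmon : ∀ (m : Fin 3 →₀ ℕ) (c : k), aeval (![1, Polynomial.C Polynomial.X, Y] : Fin 3 → k[X][Y]) (monomial m c) =
      Polynomial.monomial (m 2) (Polynomial.monomial (m 1) c) := fun m c => by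
    rw [aeval_monomial, Finsupp.prod_fintype _ _ (fun _ => pow_zero _), Fin.prod_univ_three]
    simp [← Polynomial.C_mul_X_pow_eq_monomial, mul_assoc]
  have hdeg : ∀ m ∈ G.support, m 0 + m 1 + m 2 = d := fun m hm => by
    have := hG (mem_support_iff.1 hm)
    rw [Finsupp.weight_apply, Finsupp.sum_fintype _ _ (by simp), Fin.sum_univ_three] at this
    simpa using this
  rw [hexp]
  conv => lhs; rw [G.as_sum, map_sum]
  conv => rhs; rw [G.as_sum, map_sum, map_sum, map_sum]
  simp only [hmon]
  refine ⟨Polynomial.natDegree_sum_le_of_forall_le _ _ fun m hm =>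
    (Polynomial.natDegree_monomial_le _).trans (by have := hdeg m hm; omega), ?_⟩
  rw [Polynomial.finsetSum_coeff]
  refine Finset.sum_congr rfl fun m hm => ?_
  rw [Polynomial.coeff_monomial, aeval_monomial, Finsupp.prod_fintype _ _ (fun _ => pow_zero _), Fin.prod_univ_three]
  have := hdeg m hm
  split_ifs with h2
  · have h0 : m 0 = 0 := by omega
    have h1 : m 1 = 0 := by omega
    simp [h0, h1]
  · have h01 : m 0 ≠ 0 ∨ m 1 ≠ 0 := by omega
    rcases h01 with h | h <;> simp [zero_pow h]

/-- An irreducible form keeping its degree stays irreducible. -/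
theorem irreducible_deh [Infinite k] {G : MvPolynomial (Fin 3) k} {d : ℕ} (hG : G.IsHomogeneous d)
    (hi : Irreducible G) (hdeg : (deh G).totalDegree = d) (hd : 0 < d) : Irreducible (deh G) := by
  constructor
  · intro hu
    have := (isUnit_iff_totalDegree_of_isReduced.1 hu).2
    omega
  · intro g h hgh
    have h0 : deh G ≠ 0 := fun h0 => hi.ne_zero (eq_zero_of_deh hG h0)
    have hg0 : g ≠ 0 := fun z => h0 (by rw [hgh, z, zero_mul])
    have hh0 : h ≠ 0 := fun z => h0 (by rw [hgh, z, mul_zero])
    have hsum : g.totalDegree + h.totalDegree = d := by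
      rw [← totalDegree_mul_of_isDomain hg0 hh0, ← hgh, hdeg]
    obtain ⟨Gg, hGg, hGg'⟩ := exists_homogenize (le_refl g.totalDegree)
    obtain ⟨Gh, hGh, hGh'⟩ := exists_homogenize (le_refl h.totalDegree)
    have heq : G = Gg * Gh := by
      refine sub_eq_zero.1 (eq_zero_of_deh (hG.sub (hsum ▸ hGg.mul hGh)) ?_)
      rw [map_sub, map_mul, hGg', hGh', hgh, sub_self]
    exact (hi.isUnit_or_isUnit heq).imp (fun hu => hGg' ▸ hu.map deh) (fun hu => hGh' ▸ hu.map deh)

end GrothLib.FunFld.PlaneHom
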