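import Groth.Agent.Lib.FunFld.PlaneModel
import Mathlib.Algebra.MvPolynomial.Equiv
import Mathlib.RingTheory.MvPolynomial.Basic
import Mathlib.RingTheory.Polynomial.UniqueFactorization
import Mathlib.Algebra.MvPolynomial.NoZeroDivisors

/-!
Every plane model becomes monic after a linear change of coordinates; genus of plane models.
-/

set_option autoImplicit false
set_option linter.style.haveILetI false

namespace GrothLib.FunFld

open Polynomial _root_.FunFld
open scoped Polynomial.Bivariate

variable {k K : Type*} [Field k] [Field K] [Algebra k K]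

theorem aevalAeval_mem (S : Subalgebra k K) {a b : K} (ha : a ∈ S) (hb : b ∈ S) (G : k[X][Y]) :
    aevalAeval a b G ∈ S := by
  induction G using Polynomial.induction_on' with
  | add p q hp hq => rw [map_add]; exact add_mem hp hq
  | monomial n c =>
    rw [← C_mul_X_pow_eq_monomial, map_mul, map_pow, aevalAeval_C, aevalAeval_Y]
    exact mul_mem (Algebra.adjoin_le (Set.singleton_subset_iff.2 ha) (aeval_mem_adjoin_singleton k a))
      (pow_mem hb n)

/-- Nonsingularity only depends on the span of the entries. -/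
theorem isNonsingularAt_of_span_eq {ι κ : Type*} [Fintype ι] [Fintype κ] [Nonempty κ] {φ : ι → K}
    {ψ : κ → K} (hspan : Submodule.span k (Set.range φ) = Submodule.span k (Set.range ψ))
    {P : Place k K} (h : IsNonsingularAt φ P) : IsNonsingularAt ψ P := by
  intro z hz
  obtain ⟨j, hj0, hj, U, hU, W, hW, hW1, he⟩ := h z hz
  have hle : ∀ (T : Set K) (b x : K), x ∈ Submodule.span k T →
      (∀ w ∈ T, val P w ≤ val P b) → val P x ≤ val P b := by
    intro T b x hx hb
    induction hx using Submodule.span_induction with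
    | mem x hx => exact hb x hx
    | zero => simp
    | add x y _ _ hx hy => exact ((val P).map_add x y).trans (max_le hx hy)
    | smul c x _ hx => rw [Algebra.smul_def, map_mul]; exact (mul_le_of_le_one_left' (P.2.1 c)).trans hx
  have hψne : ∃ i, ψ i ≠ 0 := by
    by_contra hall
    push Not at hall
    have : φ j ∈ Submodule.span k (Set.range ψ) := by rw [← hspan]; exact Submodule.subset_span ⟨j, rfl⟩
    have hb : Submodule.span k (Set.range ψ) = ⊥ := by
      rw [Submodule.span_eq_bot]; rintro _ ⟨i, rfl⟩; exact hall i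
    rw [hb, Submodule.mem_bot] at this
    exact hj0 this
  obtain ⟨j', hj'⟩ := exists_isLead hψne P
  have h1 : val P (φ j) ≤ val P (ψ j') :=
    hle (Set.range ψ) (ψ j') (φ j) (show φ j ∈ Submodule.span k (Set.range ψ) by rw [← hspan]; exact Submodule.subset_span ⟨j, rfl⟩) (Set.forall_mem_range.2 hj'.2)
  have h2 : val P (ψ j') ≤ val P (φ j) :=
    hle (Set.range φ) (φ j) (ψ j') (show ψ j' ∈ Submodule.span k (Set.range φ) by rw [hspan]; exact Submodule.subset_span ⟨j', rfl⟩) (Set.forall_mem_range.2 hj)
  set t := φ j / ψ j' with htdef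
  have ht : val P t = 1 := by
    rw [htdef, map_div₀, le_antisymm h1 h2, div_self ((val P).ne_zero_iff.2 hj'.1)]
  have hmem : ∀ v ∈ Submodule.span k (Set.range φ), v / ψ j' ∈ chart k ψ j' := fun v hv =>
    div_mem_chart_of_mem_span (by rw [← hspan]; exact hv)
  have htm : t ∈ chart k ψ j' := hmem _ (Submodule.subset_span ⟨j, rfl⟩)
  have key : ∀ a ∈ Algebra.adjoin k (Set.range fun i => φ i / φ j), ∃ N : ℕ, t ^ N * a ∈ chart k ψ j' := by
    intro a ha
    induction ha using Algebra.adjoin_induction with
    | mem x hx =>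
      obtain ⟨i, rfl⟩ := hx
      refine ⟨1, ?_⟩
      have := hj'.1
      rw [pow_one, show t * (φ i / φ j) = φ i / ψ j' by rw [htdef]; field_simp]
      exact hmem _ (Submodule.subset_span ⟨i, rfl⟩)
    | algebraMap c => exact ⟨0, by simp⟩
    | add x y _ _ hx hy =>
      obtain ⟨n, hn⟩ := hx
      obtain ⟨m, hm⟩ := hy
      refine ⟨n + m, ?_⟩
      rw [show t ^ (n + m) * (x + y) = t ^ m * (t ^ n * x) + t ^ n * (t ^ m * y) by ring]
      exact add_mem (mul_mem (pow_mem htm _) hn) (mul_mem (pow_mem htm _) hm)
    | mul x y _ _ hx hy =>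
      obtain ⟨n, hn⟩ := hx
      obtain ⟨m, hm⟩ := hy
      exact ⟨n + m, by rw [show t ^ (n + m) * (x * y) = (t ^ n * x) * (t ^ m * y) by ring]; exact mul_mem hn hm⟩
  obtain ⟨n, hn⟩ := key U hU
  obtain ⟨m, hm⟩ := key W hW
  refine (inLocRing_iff hj').2 ⟨t ^ m * (t ^ n * U), mul_mem (pow_mem htm _) hn,
    t ^ n * (t ^ m * W), mul_mem (pow_mem htm _) hm, ?_, ?_⟩
  · rw [map_mul, map_mul, map_pow, map_pow, ht, one_pow, one_pow, one_mul, one_mul]; exact hW1
  · rw [← he]; ring

/-- Irreducible relations exist. -/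
theorem exists_irreducible_relation (hK : IsFG k K) (x y : K) :
    ∃ f : MvPolynomial (Fin 2) k, Irreducible f ∧ MvPolynomial.aeval ![x, y] f = 0 := by
  obtain ⟨g, hg0, hg⟩ : ∃ g : MvPolynomial (Fin 2) k, g ≠ 0 ∧ MvPolynomial.aeval ![x, y] g = 0 := by
    by_contra hall
    push Not at hall
    have hind : AlgebraicIndependent k ![x, y] := by
      rw [algebraicIndependent_iff]
      exact fun g hg => by_contra fun hg0 => hall g hg0 hg
    have hxt : Transcendental k x := hind.transcendental 0
    haveI := IsFG.finiteDimensional_adjoin hK hxt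
    have hy : IsAlgebraic (Algebra.adjoin k ({x} : Set K)) y :=
      IntermediateField.isAlgebraic_adjoin_iff.mp (Algebra.IsAlgebraic.isAlgebraic y)
    have h1 := hind.transcendental_adjoin (s := ({0} : Set (Fin 2))) (i := 1) (by simp)
    rw [Set.image_singleton] at h1
    exact h1 hy
  induction g using WfDvdMonoid.induction_on_irreducible with
  | zero => exact absurd rfl hg0
  | unit g hu => exact absurd hg (hu.map _).ne_zero
  | mul a i ha hi ih =>
    rw [map_mul, mul_eq_zero] at hg
    rcases hg with h | h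
    · exact ⟨i, hi, h⟩
    · exact ih ha h

variable [IsAlgClosed k]

/-- Put a plane model in monic position. -/
theorem exists_planeModel (hK : IsFG k K) {x y : K}
    (hxy : IntermediateField.adjoin k ({x, y} : Set K) = ⊤) {f : MvPolynomial (Fin 2) k}
    (hf : Irreducible f) (hfxy : MvPolynomial.aeval ![x, y] f = 0) :
    ∃ (c : k) (F : k[X][Y]), F.natDegree = f.totalDegree ∧
      IsPlaneModel (x + algebraMap k K c * y) y F := by
  classical
  set d := f.totalDegree with hd
  let p : k[X] := ∑ m ∈ f.support.filter (fun m => m 0 + m 1 = d),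
    Polynomial.monomial (m 0) (f.coeff m * (-1) ^ m 0)
  have hdeg : ∀ m : Fin 2 →₀ ℕ, (m.sum fun _ e => e) = m 0 + m 1 := fun m => by
    rw [Finsupp.sum_fintype _ _ fun _ => rfl, Fin.sum_univ_two]
  have hp : p ≠ 0 := by
    obtain ⟨m, hm, hmax⟩ := Finset.exists_mem_eq_sup f.support
      (MvPolynomial.support_nonempty.mpr hf.ne_zero) fun s : Fin 2 →₀ ℕ => s.sum fun _ e => e
    have hmd : m 0 + m 1 = d := by rw [← hdeg]; exact hmax.symm
    intro h0
    have h1 := congrArg (fun q : k[X] => q.coeff (m 0)) h0
    simp only [p, Polynomial.finsetSum_coeff, coeff_zero] at h1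
    rw [Finset.sum_eq_single m] at h1
    · simp [MvPolynomial.mem_support_iff.1 hm] at h1
    · intro m' hm' hne
      rw [Polynomial.coeff_monomial, if_neg]
      intro h0'
      have hm'd := (Finset.mem_filter.1 hm').2
      refine hne (Finsupp.ext fun i => ?_)
      fin_cases i
      · exact h0'
      · show m' 1 = m 1
        omega
    · exact fun h => absurd (Finset.mem_filter.2 ⟨hm, hmd⟩) h
  obtain ⟨c, hc⟩ : ∃ c : k, p.eval c ≠ 0 := by
    by_contra hall
    push Not at hall
    haveI := infinite_of_isAlgClosed k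
    exact hp (Polynomial.funext fun r => by rw [hall r, eval_zero])
  let L : k[X][Y] := Polynomial.C Polynomial.X - Polynomial.C (Polynomial.C c) * Y
  let Ψ : MvPolynomial (Fin 2) k ≃ₐ[k] k[X][Y] :=
    AlgEquiv.ofAlgHom (MvPolynomial.aeval ![L, Y])
      (aevalAeval (MvPolynomial.X 0 + MvPolynomial.C c * MvPolynomial.X 1) (MvPolynomial.X 1))
      (by ext <;> simp [L])
      (by ext i; fin_cases i <;> simp [L, MvPolynomial.algebraMap_eq])
  have hLB : Bnd 1 L := by
    refine Bnd.sub ?_ ?_
    · rw [← monomial_one_one_eq_X, ← monomial_zero_left]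
      exact bnd_monomial (by norm_num) 1
    · rw [C_mul_X_eq_monomial, ← monomial_zero_left]
      exact bnd_monomial (by norm_num) c
  have hYB : Bnd 1 (Y : k[X][Y]) := by
    have : (Y : k[X][Y]) = monomial 1 (monomial 0 1) := by simp [monomial_one_one_eq_X]
    rw [this]; exact bnd_monomial (by norm_num) 1
  have hterm : ∀ m ∈ f.support, Bnd d (C (C (f.coeff m)) * (L ^ m 0 * Y ^ m 1)) := by
    intro m hm
    have hC : Bnd 0 (C (C (f.coeff m)) : k[X][Y]) := by
      rw [← monomial_zero_left, ← monomial_zero_left]; exact bnd_monomial (by norm_num) _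
    refine (hC.mul ((hLB.pow (m 0)).mul (hYB.pow (m 1)))).mono ?_
    have h2 : (m.sum fun _ e => e) ≤ f.totalDegree := MvPolynomial.le_totalDegree hm
    rw [hdeg, ← hd] at h2
    omega
  have hΨ : Ψ f = ∑ m ∈ f.support, C (C (f.coeff m)) * (L ^ m 0 * Y ^ m 1) := by
    show MvPolynomial.aeval ![L, Y] f = _
    conv_lhs => rw [f.as_sum, map_sum]
    refine Finset.sum_congr rfl fun m _ => ?_
    rw [MvPolynomial.aeval_monomial, Finsupp.prod_fintype _ _ (fun _ => pow_zero _), Fin.prod_univ_two]
    rfl
  have hBΨ : Bnd d (Ψ f) := by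
    intro i l hil
    rw [hΨ, Polynomial.finsetSum_coeff, Polynomial.finsetSum_coeff]
    exact Finset.sum_eq_zero fun m hm => hterm m hm i l hil
  have hL1 : L.coeff 1 = C (-c) := by simp [L]
  have hLd : L.natDegree ≤ 1 := hLB.natDegree_le
  have hcoef : (Ψ f).coeff d = C (p.eval c) := by
    rw [hΨ, Polynomial.finsetSum_coeff]
    simp only [p, eval_finsetSum, map_sum]
    rw [Finset.sum_filter]
    refine Finset.sum_congr rfl fun m hm => ?_
    have hmd : m 0 + m 1 ≤ d := by rw [← hdeg]; exact MvPolynomial.le_totalDegree hm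
    rw [coeff_C_mul, coeff_mul_X_pow']
    split_ifs with h1 h2 h2
    · rw [show d - m 1 = m 0 * 1 by omega, coeff_pow_of_natDegree_le hLd, hL1, eval_monomial, ← C_pow,
        ← C_mul, neg_pow, mul_assoc]
    · rw [coeff_eq_zero_of_natDegree_lt (natDegree_pow_le.trans_lt
        (lt_of_le_of_lt (mul_le_mul_of_nonneg_left hLd (Nat.zero_le _)) (by omega))), mul_zero, ← C_0]
    · omega
    · simp
  set u := x + algebraMap k K c * y
  let F : k[X][Y] := C (C (p.eval c)⁻¹) * Ψ f
  have hFd : F.natDegree ≤ d := (natDegree_C_mul_le _ _).trans hBΨ.natDegree_le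
  have hFc : F.coeff d = 1 := by
    rw [coeff_C_mul, hcoef, ← C_mul, inv_mul_cancel₀ hc, map_one]
  have hFm : F.Monic := monic_of_natDegree_le_of_coeff_eq_one d hFd hFc
  have hFdeg : F.natDegree = d := le_antisymm hFd (le_natDegree_of_ne_zero (by rw [hFc]; exact one_ne_zero))
  have hunit : IsUnit (C (C (p.eval c)⁻¹) : k[X][Y]) :=
    isUnit_C.2 (isUnit_C.2 (isUnit_iff_ne_zero.2 (inv_ne_zero hc)))
  have hFirr : Irreducible F :=
    (irreducible_isUnit_mul hunit).2 ((MulEquiv.irreducible_iff Ψ).2 hf)
  have hev : (aevalAeval u y).comp Ψ.toAlgHom = MvPolynomial.aeval ![x, y] := by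
    refine MvPolynomial.algHom_ext fun i => ?_
    fin_cases i <;> simp [Ψ, L, u]
  have hroot : aevalAeval u y F = 0 := by
    rw [map_mul, show aevalAeval u y (Ψ f) = ((aevalAeval u y).comp Ψ.toAlgHom) f from rfl, hev, hfxy,
      mul_zero]
  have hgen : IntermediateField.adjoin k ({u, y} : Set K) = ⊤ := by
    refine top_unique (hxy.ge.trans ?_)
    rw [IntermediateField.adjoin_le_iff]
    have hy := IntermediateField.subset_adjoin k ({u, y} : Set K) (Set.mem_insert_of_mem _ rfl)
    intro w hw
    rcases hw with hw | hw <;> rw [hw]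
    · rw [show x = u - algebraMap k K c * y by simp [u]]
      exact sub_mem (IntermediateField.subset_adjoin k _ (Set.mem_insert _ _))
        (mul_mem (IntermediateField.algebraMap_mem _ c) hy)
    · exact hy
  have hu : Transcendental k u := by
    intro halg
    haveI := IntermediateField.adjoin.finiteDimensional halg.isIntegral
    have hint : IsIntegral (IntermediateField.adjoin k ({u} : Set K)) y :=
      ⟨_, hFm.map (toAdjoin u).toRingHom, by rw [← aeval_def, aeval_map_toAdjoin, hroot]⟩
    haveI := IntermediateField.adjoin.finiteDimensional hint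
    haveI : FiniteDimensional (IntermediateField.adjoin k ({u} : Set K)) K := by
      have := IntermediateField.adjoin.finiteDimensional hint
      rw [adjoin_simple_over_eq_top hgen] at this
      exact Module.Finite.equiv IntermediateField.topEquiv.toLinearEquiv
    haveI : FiniteDimensional k K := Module.Finite.trans (IntermediateField.adjoin k ({u} : Set K)) K
    obtain ⟨t, ht, -⟩ := hK
    exact ht (Algebra.IsAlgebraic.isAlgebraic t)
  exact ⟨c, F, hFdeg, isPlanePair_of_irreducible hu hgen hFm hFirr hroot, hFdeg.symm ▸ fun i l hil => by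
    rw [coeff_C_mul, coeff_C_mul, hBΨ i l hil, mul_zero]⟩

end GrothLib.FunFld
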