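import Groth.Agent.Lib.FunFld.PlaneLocal
import Groth.Agent.Lib.FunFld.PlaneHom
import Groth.Agent.Lib.FunFld.PlaneGenus
import Groth.Agent.Lib.FunFld.PlaneSetup

/-!
Auxiliary lemmas on projective changes of coordinates of plane models.
-/

set_option autoImplicit false

namespace GrothLib.FunFld

open _root_.FunFld

variable {k K : Type*} [Field k] [Field K] [Algebra k K]

theorem linear_comp {B C' : Matrix (Fin 3) (Fin 3) k} (h : B * C' = 1) :
    (MvPolynomial.aeval fun i => ∑ m, MvPolynomial.C (C' i m) * MvPolynomial.X m).comp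
      (MvPolynomial.aeval fun i => ∑ m, MvPolynomial.C (B i m) * MvPolynomial.X m) =
    AlgHom.id k (MvPolynomial (Fin 3) k) := by
  refine MvPolynomial.algHom_ext fun i => ?_
  rw [AlgHom.comp_apply, MvPolynomial.aeval_X, map_sum, AlgHom.id_apply]
  simp only [map_mul, MvPolynomial.aeval_C, MvPolynomial.aeval_X, MvPolynomial.algebraMap_eq, Finset.mul_sum]
  rw [Finset.sum_comm]
  simp only [← mul_assoc, ← map_mul, ← Finset.sum_mul, ← map_sum, ← Matrix.mul_apply, h, Matrix.one_apply]
  rw [Finset.sum_eq_single i (fun b _ hb => by rw [if_neg (Ne.symm hb), map_zero, zero_mul]) (by simp),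
    if_pos rfl, map_one, one_mul]

/-- A form with `c₀ = G(0,0,1) ≠ 0` gives a monic bivariate equation. -/
theorem monic_form [Infinite k] {G : MvPolynomial (Fin 3) k} {d : ℕ} (hG : G.IsHomogeneous d) (hi : Irreducible G)
    (hd : 0 < d) {c₀ : k} (h001 : MvPolynomial.aeval ![(0 : k), 0, 1] G = c₀) (hc₀ : c₀ ≠ 0) :
    (Polynomial.C (Polynomial.C c₀⁻¹) * PlaneHom.toBi (PlaneHom.deh G)).Monic ∧
      Irreducible (Polynomial.C (Polynomial.C c₀⁻¹) * PlaneHom.toBi (PlaneHom.deh G)) := by
  have hdeg : (PlaneHom.deh G).totalDegree = d := by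
    refine le_antisymm ?_ ?_
    · conv_lhs => rw [G.as_sum, map_sum]
      refine MvPolynomial.totalDegree_finsetSum_le fun e he => ?_
      rw [PlaneHom.deh, MvPolynomial.aeval_monomial, Finsupp.prod_fintype _ _ (fun _ => pow_zero _),
        Fin.prod_univ_three]
      have hsum := hG (MvPolynomial.mem_support_iff.1 he)
      rw [Finsupp.weight_apply, Finsupp.sum_fintype _ _ (by simp), Fin.sum_univ_three] at hsum
      simp only [Pi.one_apply, smul_eq_mul, mul_one] at hsum
      refine (MvPolynomial.totalDegree_mul _ _).trans ?_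
      rw [MvPolynomial.algebraMap_eq, MvPolynomial.totalDegree_C, zero_add]
      refine (MvPolynomial.totalDegree_mul _ _).trans ?_
      refine (add_le_add (MvPolynomial.totalDegree_mul _ _) le_rfl).trans ?_
      simp only [Matrix.cons_val_zero, Matrix.cons_val_one, Matrix.cons_val_two, Matrix.head_cons, Matrix.tail_cons,
        one_pow, MvPolynomial.totalDegree_one, MvPolynomial.totalDegree_X_pow]
      omega
    · by_contra hlt
      push Not at hlt
      obtain ⟨H, hH, hH'⟩ := PlaneHom.exists_homogenize (le_refl (PlaneHom.deh G).totalDegree)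
      obtain ⟨m, hm⟩ : ∃ m, d = (m + 1) + (PlaneHom.deh G).totalDegree :=
        ⟨d - (PlaneHom.deh G).totalDegree - 1, by omega⟩
      have heq : G = MvPolynomial.X 0 ^ (m + 1) * H := by
        refine sub_eq_zero.1 (PlaneHom.eq_zero_of_deh (m := d) (hG.sub ?_) ?_)
        · have := ((MvPolynomial.isHomogeneous_X k (0 : Fin 3)).pow (m + 1)).mul hH
          rwa [one_mul, ← hm] at this
        · rw [map_sub, map_mul, map_pow, hH']
          simp [PlaneHom.deh]
      rw [heq, map_mul, map_pow, MvPolynomial.aeval_X] at h001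
      exact hc₀ (h001.symm.trans (by simp))
  obtain ⟨hnd, hco⟩ := PlaneHom.coeff_toBi_deh hG
  refine ⟨Polynomial.monic_of_natDegree_le_of_coeff_eq_one d ((Polynomial.natDegree_C_mul_le _ _).trans hnd) ?_, ?_⟩
  · rw [Polynomial.coeff_C_mul, hco, h001, ← Polynomial.C_mul, inv_mul_cancel₀ hc₀, map_one]
  · exact (irreducible_isUnit_mul ((Polynomial.isUnit_C.2 (Polynomial.isUnit_C.2 (IsUnit.mk0 _ (inv_ne_zero hc₀)))))).2
      ((MulEquiv.irreducible_iff PlaneHom.toBi.toMulEquiv).2 (PlaneHom.irreducible_deh hG hi hdeg hd))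

/-- The ratios of a basis of linear forms generate the function field. -/
theorem adjoin_proj_eq_top {x y : K} (hxy : IntermediateField.adjoin k ({x, y} : Set K) = ⊤)
    (A : Matrix (Fin 3) (Fin 3) k) (u : Fin 3 → K)
    (hu : ∀ i, ∑ m, algebraMap k K (A i m) * u m = ![(1 : K), x, y] i) (hu0 : u 0 ≠ 0) :
    IntermediateField.adjoin k ({u 1 / u 0, u 2 / u 0} : Set K) = ⊤ := by
  set S := IntermediateField.adjoin k ({u 1 / u 0, u 2 / u 0} : Set K)
  have hwS : ∀ m, u m / u 0 ∈ S := fun m => by
    fin_cases m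
    · show u 0 / u 0 ∈ S
      rw [div_self hu0]; exact one_mem S
    · exact IntermediateField.subset_adjoin k _ (Set.mem_insert _ _)
    · exact IntermediateField.subset_adjoin k _ (Set.mem_insert_of_mem _ rfl)
  have hXS : ∀ i, ![(1 : K), x, y] i / u 0 ∈ S := fun i => by
    rw [← hu i, Finset.sum_div]
    refine sum_mem fun m _ => ?_
    rw [mul_div_assoc]
    exact mul_mem (IntermediateField.algebraMap_mem _ _) (hwS m)
  have hh : ∀ i, ![(1 : K), x, y] i ∈ S := fun i => by
    have := div_mem (hXS i) (hXS 0)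
    rwa [div_div_div_cancel_right₀ hu0, Matrix.cons_val_zero, div_one] at this
  refine top_unique (hxy.ge.trans ?_)
  rw [IntermediateField.adjoin_le_iff]
  rintro z (rfl | rfl)
  · exact hh 1
  · exact hh 2

/-- Nonsingularity read in the affine chart. -/
theorem isNonsingularAt_iff_frac [IsAlgClosed k] {a b : K} {Q : Place k K} (ha : Q.1 a ≤ 1) (hb : Q.1 b ≤ 1) :
    IsNonsingularAt ![(1 : K), a, b] Q ↔ ∀ z : K, Q.1 z ≤ 1 → IsFrac Q a b z := by
  have hlead : IsLead ![(1 : K), a, b] Q 0 := ⟨by simp, fun i => by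
    fin_cases i
    · simp
    · simpa using ha
    · simpa using hb⟩
  refine forall_congr' fun z => imp_congr_right fun _ => ?_
  rw [inLocRing_iff hlead]
  constructor
  · rintro ⟨U, hU, W, hW, hW1, hUW⟩
    obtain ⟨HU, rfl⟩ := exists_chart_zero hU
    obtain ⟨HW, rfl⟩ := exists_chart_zero hW
    exact ⟨HU, HW, hW1, hUW⟩
  · rintro ⟨U, W, hW1, hUW⟩
    have hmem : ∀ H, Polynomial.aevalAeval a b H ∈ chart k ![(1 : K), a, b] 0 := fun H =>
      aevalAeval_mem _ (by simpa using ratio_mem_chart (k := k) ![(1 : K), a, b] 1 0)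
        (by simpa using ratio_mem_chart (k := k) ![(1 : K), a, b] 2 0) H
    exact ⟨_, hmem U, _, hmem W, hW1, hUW⟩

end GrothLib.FunFld
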