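import Groth.Agent.Lib.FunFld.PlaneLocal
import Groth.Agent.Lib.FunFld.PlaneHom
import Groth.Agent.Lib.FunFld.MapDivOne
import Groth.Agent.Lib.FunFld.PlaneGenus
import Groth.Agent.Lib.FunFld.PlaneSetup
import Groth.Agent.Lib.FunFld.PlaneRelations
import Groth.Agent.Lib.FunFld.JacobianPlane
import Groth.Agent.Lib.FunFld.PlaneProj

/-!
The adjoint divisor of a plane model.
-/

set_option autoImplicit false
set_option linter.style.haveILetI false

namespace GrothLib.FunFld

open _root_.FunFld

variable {k K : Type*} [Field k] [Field K] [Algebra k K]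

theorem totalDegree_deh_le {G : MvPolynomial (Fin 3) k} {m : ℕ} (hG : G.IsHomogeneous m) :
    (PlaneHom.deh G).totalDegree ≤ m := by
  conv_lhs => rw [G.as_sum, map_sum]
  refine MvPolynomial.totalDegree_finsetSum_le fun d hd => ?_
  rw [PlaneHom.deh, MvPolynomial.aeval_monomial, Finsupp.prod_fintype _ _ (fun _ => pow_zero _), Fin.prod_univ_three]
  have hsum := hG (MvPolynomial.mem_support_iff.1 hd)
  rw [Finsupp.weight_apply, Finsupp.sum_fintype _ _ (by simp), Fin.sum_univ_three] at hsum
  simp only [Pi.one_apply, smul_eq_mul, mul_one] at hsum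
  refine (MvPolynomial.totalDegree_mul _ _).trans ?_
  rw [MvPolynomial.algebraMap_eq, MvPolynomial.totalDegree_C, zero_add]
  refine (MvPolynomial.totalDegree_mul _ _).trans ?_
  refine (add_le_add (MvPolynomial.totalDegree_mul _ _) le_rfl).trans ?_
  simp only [Matrix.cons_val_zero, Matrix.cons_val_one, Matrix.cons_val_two, Matrix.head_cons, Matrix.tail_cons,
    one_pow, MvPolynomial.totalDegree_one, MvPolynomial.totalDegree_X_pow]
  omega

theorem ordDiff_congr {ψ : K →ₐ[k] LaurentSeries k} {u x u' x' : K}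
    (h : u • KaehlerDifferential.D k K x = u' • KaehlerDifferential.D k K x') (hu' : u' ≠ 0) :
    _root_.LocRes.ordDiff ψ u x = _root_.LocRes.ordDiff ψ u' x' := by
  have h' : (u / u') • KaehlerDifferential.D k K x = KaehlerDifferential.D k K x' := by
    rw [div_eq_inv_mul, ← smul_smul, h, smul_smul, inv_mul_cancel₀ hu', one_smul]
  simp only [_root_.LocRes.ordDiff, _root_.LocRes.vDiff]
  rw [GrothLib.LocRes.D_eq_mul_of_smul ψ h', ← mul_assoc, ← map_mul, mul_div_cancel₀ u hu']

theorem isNonsingularAt_smul {ι : Type*} {φ : ι → K} {c : K} (hc : c ≠ 0) {P : Place k K} :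
    IsNonsingularAt (fun i => c * φ i) P ↔ IsNonsingularAt φ P := by
  have key : ∀ z, InLocRing (fun i => c * φ i) P z ↔ InLocRing φ P z := fun z => by
    have hr : ∀ j, (fun i => c * φ i / (c * φ j)) = fun i => φ i / φ j := fun j =>
      funext fun i => mul_div_mul_left _ _ hc
    have hpos : 0 < P.1 c := zero_lt_iff.2 ((Valuation.ne_zero_iff _).2 hc)
    unfold InLocRing
    simp only [hr, mul_ne_zero_iff, hc, ne_eq, not_false_eq_true, true_and, map_mul, mul_le_mul_iff_right₀ hpos]
  exact forall_congr' fun z => imp_congr_right fun _ => key z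

variable [IsAlgClosed k]

/-- The adjoint coefficient at a place. -/
theorem adjoint_coeff (hK : IsFunctionField k K) {x y : K}
    (hxy : IntermediateField.adjoin k ({x, y} : Set K) = ⊤) {f : MvPolynomial (Fin 2) k} (hf : Irreducible f)
    (hfxy : MvPolynomial.aeval ![x, y] f = 0) (Q : Place k K) {ψ : K →ₐ[k] LaurentSeries k}
    (hψ : _root_.LocRes.IsExpansionAt Q.1 ψ)
    (hne : _root_.LocRes.vDiff ψ (MvPolynomial.aeval ![x, y] (MvPolynomial.pderiv 1 f))⁻¹ x ≠ 0) :
    0 ≤ ((mapDiv k ![(1 : K), x, y]).deg - 3) * mapDiv k ![(1 : K), x, y] Q -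
        _root_.LocRes.ordDiff ψ (MvPolynomial.aeval ![x, y] (MvPolynomial.pderiv 1 f))⁻¹ x ∧
    (((mapDiv k ![(1 : K), x, y]).deg - 3) * mapDiv k ![(1 : K), x, y] Q -
        _root_.LocRes.ordDiff ψ (MvPolynomial.aeval ![x, y] (MvPolynomial.pderiv 1 f))⁻¹ x = 0 ↔
      IsNonsingularAt ![(1 : K), x, y] Q) := by
  classical
  haveI := infinite_of_isAlgClosed k
  have hfg := hK.1
  have hgeo := isGeometric_of_perfectField hK
  -- degree
  obtain ⟨cS, Fm, hFd, hmodel⟩ := exists_planeModel hfg hxy hf hfxy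
  set d := f.totalDegree with hd
  have hdeg : (mapDiv k ![(1 : K), x, y]).deg = d := by
    rw [hmodel.mapDiv_eq hfg rfl, hmodel.deg_poleDiv hfg, hFd]
  have hdpos : 0 < d := by rw [← hFd]; exact hmodel.pair.natDegree_pos
  -- the form
  obtain ⟨G, hG, hGf⟩ := PlaneHom.exists_homogenize (le_refl f.totalDegree)
  set X := ![(1 : K), x, y] with hX
  have hGX : MvPolynomial.aeval X G = 0 := by rw [hX, ← PlaneHom.aeval_deh, hGf, hfxy]
  have hG0 : G ≠ 0 := fun h => hf.ne_zero (by rw [← hGf, h, map_zero])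
  have hGirr : Irreducible G := by
    obtain ⟨f₃, hf₃, hhom, hker⟩ := ker_plane_relations hK x y hxy
    have hdvd : f₃ ∣ G := by
      rw [← Ideal.mem_span_singleton, ← hker, RingHom.mem_ker, aeval_C_mul_X_of_isHomogeneous _ hG, ← hX, hGX]
      simp
    have hf₃X : MvPolynomial.aeval X f₃ = 0 := by
      have h1 : f₃ ∈ Ideal.span ({f₃} : Set (MvPolynomial (Fin 3) k)) := Ideal.mem_span_singleton_self f₃
      rw [← hker, RingHom.mem_ker, aeval_C_mul_X_of_isHomogeneous _ hhom, mul_eq_zero] at h1
      exact Polynomial.C_eq_zero.1 (h1.resolve_right (pow_ne_zero _ Polynomial.X_ne_zero))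
    obtain ⟨H, hH⟩ := hdvd
    have hu : IsUnit (PlaneHom.deh H) := by
      refine (hf.isUnit_or_isUnit (show f = PlaneHom.deh f₃ * PlaneHom.deh H by rw [← map_mul, ← hH, hGf])).resolve_left
        fun hu => ?_
      have := hu.map (MvPolynomial.aeval ![x, y])
      rw [PlaneHom.aeval_deh, ← hX, hf₃X] at this
      exact not_isUnit_zero this
    have hH0 : H ≠ 0 := fun h => hG0 (by rw [hH, h, mul_zero])
    have h1 : d ≤ f₃.totalDegree := by
      have := congrArg MvPolynomial.totalDegree (show f = PlaneHom.deh f₃ * PlaneHom.deh H by rw [← map_mul, ← hH, hGf])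
      rw [← hd, MvPolynomial.totalDegree_mul_of_isDomain (fun h => hf.ne_zero (by rw [← hGf, hH, map_mul, h, zero_mul]))
        hu.ne_zero, (MvPolynomial.isUnit_iff_totalDegree_of_isReduced.1 hu).2, add_zero] at this
      rw [this]; exact totalDegree_deh_le hhom
    have h2 : H.totalDegree = 0 := by
      have := MvPolynomial.totalDegree_mul_of_isDomain hf₃.ne_zero hH0
      rw [← hH, hG.totalDegree hG0] at this
      omega
    rw [hH]
    obtain ⟨c, rfl⟩ : ∃ c, H = MvPolynomial.C c := ⟨_, MvPolynomial.totalDegree_eq_zero_iff_eq_C.1 h2⟩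
    exact (irreducible_mul_isUnit ((IsUnit.mk0 c (by simpa using hH0)).map MvPolynomial.C)).2 hf₃
  -- the point
  obtain ⟨j, hj⟩ := exists_isLead (φ := X) ⟨0, by simp [hX]⟩ Q
  obtain ⟨a, ha⟩ := exists_point hfg hj
  have haj : a j = 1 := by
    by_contra hne1
    have h1 := ha j
    rw [div_self hj.1, ← map_one (algebraMap k K), ← map_sub] at h1
    rw [val_const Q (sub_ne_zero.2 (Ne.symm hne1))] at h1
    exact lt_irrefl _ h1
  have haG : MvPolynomial.aeval a G = 0 := by
    rw [show (MvPolynomial.aeval a G : k) = MvPolynomial.eval a G from rfl]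
    exact (eval_eq_zero_of_relation hj.1 ha hG hGX).2
  have hDx : KaehlerDifferential.D k K x ≠ 0 := GrothLib.LocRes.D_ne_zero_of_vDiff_ne_zero ψ hne
  obtain ⟨c, hc⟩ := GrothLib.LocRes.exists_D_eq hfg hgeo hDx y
  -- a centre of projection
  set π : K → k := fun z => (ψ z).coeff 0 with hπ
  set l : MvPolynomial (Fin 3) k :=
    MvPolynomial.C (π (x * c - y)) * MvPolynomial.X 0 - MvPolynomial.C (π c) * MvPolynomial.X 1 + MvPolynomial.X 2
    with hl
  have hl0 : l ≠ 0 := fun h => by
    have := congrArg (MvPolynomial.eval ![(0 : k), 0, 1]) h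
    simp [hl] at this
  obtain ⟨p, hp⟩ : ∃ p : Fin 3 → k, MvPolynomial.eval p (l * G) ≠ 0 := by
    by_contra hall
    push Not at hall
    exact mul_ne_zero hl0 hG0 (MvPolynomial.funext fun v => by rw [hall v, map_zero])
  rw [map_mul, mul_ne_zero_iff] at hp
  obtain ⟨hpl, hpG⟩ := hp
  obtain ⟨q, hdet⟩ : ∃ q : Fin 3 → k, (Matrix.of fun i m => ![a i, q i, p i] m).det ≠ 0 := by
    by_contra hall
    push Not at hall
    have e0 := hall ![1, 0, 0]
    have e1 := hall ![0, 1, 0]
    have e2 := hall ![0, 0, 1]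
    simp [Matrix.det_fin_three] at e0 e1 e2
    have hprop : p = fun i => p j * a i := funext fun i => by
      fin_cases j <;> fin_cases i <;> simp at haj ⊢ <;> simp [haj] at e0 e1 e2 ⊢ <;> grind
    refine hpG ?_
    rw [hprop, show MvPolynomial.eval (fun i => p j * a i) G = MvPolynomial.aeval (fun i => p j * a i) G from rfl,
      aeval_smul_of_isHomogeneous hG, haG, mul_zero]
  set A : Matrix (Fin 3) (Fin 3) k := Matrix.of fun i m => ![a i, q i, p i] m with hA
  have hAA : A * A⁻¹ = 1 := Matrix.mul_nonsing_inv A (Ne.isUnit hdet)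
  have hAA' : A⁻¹ * A = 1 := Matrix.nonsing_inv_mul A (Ne.isUnit hdet)
  set u : Fin 3 → K := fun i => ∑ m, algebraMap k K (A⁻¹ i m) * X m with hu_def
  have hu : ∀ i, ∑ m, algebraMap k K (A i m) * u m = X i := fun i => by
    simp only [hu_def, Finset.mul_sum, ← mul_assoc, ← map_mul]
    rw [Finset.sum_comm]
    simp only [← Finset.sum_mul, ← map_sum, ← Matrix.mul_apply, hAA, Matrix.one_apply]
    rw [Finset.sum_eq_single i (fun b _ hb => by rw [if_neg (Ne.symm hb), map_zero, zero_mul]) (by simp),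
      if_pos rfl, map_one, one_mul]
  have hures : ∀ i, val Q (u i / X j - algebraMap k K (if i = 0 then 1 else 0)) < 1 := fun i => by
    have h1 : (if i = 0 then (1 : k) else 0) = ∑ m, A⁻¹ i m * a m := by
      rw [← Matrix.one_apply (i := i) (j := (0 : Fin 3)), ← hAA', Matrix.mul_apply]
      simp [hA]
    rw [h1, map_sum, hu_def, Finset.sum_div, ← Finset.sum_sub_distrib]
    refine (val Q).map_sum_lt one_ne_zero fun m _ => ?_
    rw [map_mul (algebraMap k K), mul_div_assoc, ← mul_sub, map_mul]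
    exact (mul_le_of_le_one_left' (Q.2.1 _)).trans_lt (ha m)
  have hu0v : val Q (u 0 / X j) = 1 := val_eq_one_of_sub_lt Q one_ne_zero (by simpa using hures 0)
  have hu0 : u 0 ≠ 0 := fun h => by rw [h, zero_div, map_zero] at hu0v; exact zero_ne_one hu0v
  have hvu0 : val Q (u 0) = val Q (X j) := by
    rw [map_div₀, div_eq_one_iff_eq ((val Q).ne_zero_iff.2 hj.1)] at hu0v; exact hu0v
  set x' := u 1 / u 0 with hx'_def
  set y' := u 2 / u 0 with hy'_def
  have hcent : ∀ i : Fin 3, i ≠ 0 → val Q (u i / u 0) < 1 := fun i hi => by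
    have := hures i
    rw [if_neg hi, map_zero, sub_zero, map_div₀, ← hvu0, ← map_div₀] at this
    exact this
  have hM : mapDiv k X Q = -Q.ord (u 0) := by
    have hspec := mapDiv_apply_of_one hfg (φ := X) (i₀ := 0) (by simp [hX]) Q
    have h1 := hspec.1 j
    have h2 := hspec.2 (-Q.ord (u 0)) fun i => by rw [← val_eq Q hu0, hvu0]; exact hj.2 i
    rw [← hvu0, val_eq Q hu0, WithZero.exp_le_exp] at h1
    omega
  -- the new variable separates
  have hDu : ∀ i, KaehlerDifferential.D k K (u i) =
      (∑ m, algebraMap k K (A⁻¹ i m) * ![(0 : K), 1, c] m) • KaehlerDifferential.D k K x := fun i => by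
    simp only [hu_def, map_sum, Derivation.leibniz, Derivation.map_algebraMap, smul_zero, add_zero,
      Finset.sum_smul, ← smul_smul]
    refine Finset.sum_congr rfl fun m _ => ?_
    congr 1
    fin_cases m <;> simp [hX, hc]
  have hDx' : KaehlerDifferential.D k K x' ≠ 0 := by
    intro h0
    set g : Fin 3 → K := fun i => ∑ m, algebraMap k K (A⁻¹ i m) * ![(0 : K), 1, c] m with hg_def
    have h1 : KaehlerDifferential.D k K (u 1) = x' • KaehlerDifferential.D k K (u 0) := by
      have : u 1 = x' * u 0 := by rw [hx'_def, div_mul_cancel₀ _ hu0]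
      conv_lhs => rw [this, Derivation.leibniz, h0, smul_zero, add_zero]
    rw [hDu, hDu, smul_smul] at h1
    have h2 : g 1 = x' * g 0 := by
      by_contra hne'
      have : (g 1 - x' * g 0) • KaehlerDifferential.D k K x = 0 := by rw [sub_smul, h1, sub_self]
      exact hDx ((smul_eq_zero.1 this).resolve_left (sub_ne_zero.2 hne'))
    have hAg : ∀ i, ∑ m, algebraMap k K (A i m) * g m = ![(0 : K), 1, c] i := fun i => by
      simp only [hg_def, Finset.mul_sum, ← mul_assoc, ← map_mul]
      rw [Finset.sum_comm]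
      simp only [← Finset.sum_mul, ← map_sum, ← Matrix.mul_apply, hAA, Matrix.one_apply]
      rw [Finset.sum_eq_single i (fun b _ hb => by rw [if_neg (Ne.symm hb), map_zero, zero_mul]) (by simp),
        if_pos rfl, map_one, one_mul]
    have hmat : (Matrix.of fun i m => ![X i, ![(0 : K), 1, c] i, algebraMap k K (p i)] m) =
        A.map (algebraMap k K) * Matrix.of fun i m => ![u i, g i, if i = 2 then 1 else 0] m := by
      refine Matrix.ext fun i m => ?_
      fin_cases m
      · simp [Matrix.mul_apply, ← hu i]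
      · simp [Matrix.mul_apply, ← hAg i]
      · simp [Matrix.mul_apply, Fin.sum_univ_three, hA]
    have hzero : (Matrix.of fun i m => ![u i, g i, if i = 2 then (1 : K) else 0] m).det = 0 := by
      rw [Matrix.det_fin_three]
      simp
      rw [h2, hx'_def]
      field_simp
      ring
    have hL := congrArg Matrix.det hmat
    rw [Matrix.det_mul, hzero, mul_zero, Matrix.det_fin_three] at hL
    simp [hX] at hL
    have hL' : algebraMap k K (p 0) * (x * c - y) - algebraMap k K (p 1) * c + algebraMap k K (p 2) * 1 = 0 := by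
      linear_combination hL
    have h3 := congrArg π hL'
    have hlin : ∀ (s : k) (z : K), π (algebraMap k K s * z) = s * π z := fun s z => by
      simp only [hπ]
      rw [← Algebra.smul_def, coeff_smul_map]
    have h1π : π 1 = 1 := by simp [hπ]
    simp only [hπ, map_add, map_sub, map_zero, HahnSeries.coeff_add, HahnSeries.coeff_sub, HahnSeries.coeff_zero] at h3
    rw [show (ψ (algebraMap k K (p 0) * (x * c - y))).coeff 0 = π (algebraMap k K (p 0) * (x * c - y)) from rfl,
      show (ψ (algebraMap k K (p 1) * c)).coeff 0 = π (algebraMap k K (p 1) * c) from rfl,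
      show (ψ (algebraMap k K (p 2) * 1)).coeff 0 = π (algebraMap k K (p 2) * 1) from rfl, hlin, hlin, hlin, h1π] at h3
    refine hpl ?_
    rw [hl]
    simp only [map_add, map_sub, map_mul, MvPolynomial.eval_C, MvPolynomial.eval_X]
    linear_combination h3
  -- the transformed form
  set gA : Fin 3 → MvPolynomial (Fin 3) k := fun i => ∑ m, MvPolynomial.C (A i m) * MvPolynomial.X m with hgA
  set gB : Fin 3 → MvPolynomial (Fin 3) k := fun i => ∑ m, MvPolynomial.C (A⁻¹ i m) * MvPolynomial.X m with hgB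
  let E : MvPolynomial (Fin 3) k ≃ₐ[k] MvPolynomial (Fin 3) k :=
    AlgEquiv.ofAlgHom (MvPolynomial.aeval gA) (MvPolynomial.aeval gB) (linear_comp hAA') (linear_comp hAA)
  set G' := MvPolynomial.aeval gA G with hG'_def
  have hG'irr : Irreducible G' := (MulEquiv.irreducible_iff E.toMulEquiv).2 hGirr
  have hG'hom : G'.IsHomogeneous d := by
    have h1 : ∀ i, (gA i).IsHomogeneous 1 := fun i => MvPolynomial.IsHomogeneous.sum _ _ _ fun m _ => by
      simpa using (MvPolynomial.isHomogeneous_C (Fin 3) (A i m)).mul (MvPolynomial.isHomogeneous_X k m)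
    have := hG.aeval gA h1
    rwa [one_mul] at this
  set c₀ : k := MvPolynomial.eval p G with hc₀
  have hG'001 : MvPolynomial.aeval ![(0 : k), 0, 1] G' = c₀ := by
    rw [hG'_def, ← AlgHom.comp_apply, MvPolynomial.comp_aeval, hc₀]
    show _ = MvPolynomial.aeval p G
    congr 2
    funext i
    simp [hgA, hA, Fin.sum_univ_three]
  set F' : Polynomial (Polynomial k) := Polynomial.C (Polynomial.C c₀⁻¹) * PlaneHom.toBi (PlaneHom.deh G') with hF'
  obtain ⟨hmonic, hF'irr⟩ := monic_form hG'hom hG'irr hdpos hG'001 hpG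
  set w : Fin 3 → K := ![(1 : K), x', y'] with hw
  have huw : ∀ i, u i = u 0 * w i := fun i => by
    fin_cases i <;> simp [hw, hx'_def, hy'_def] <;> field_simp
  have hG'w : MvPolynomial.aeval w G' = 0 := by
    rw [hG'_def, ← AlgHom.comp_apply, MvPolynomial.comp_aeval,
      show (fun i => MvPolynomial.aeval w (gA i)) = fun i => (u 0)⁻¹ * X i from funext fun i => by
        rw [← hu i, Finset.mul_sum, hgA, map_sum]
        refine Finset.sum_congr rfl fun m _ => ?_
        rw [map_mul, MvPolynomial.aeval_C, MvPolynomial.aeval_X, huw m]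
        field_simp,
      aeval_smul_of_isHomogeneous hG, hGX, mul_zero]
  have hroot : Polynomial.aevalAeval x' y' F' = 0 := by
    rw [hF', map_mul, PlaneHom.aevalAeval_toBi, PlaneHom.aeval_deh, ← hw, hG'w, mul_zero]
  have htr : Transcendental k x' := fun h => by
    obtain ⟨s, hs⟩ := hK.2 x' h
    exact hDx' (by rw [← hs, Derivation.map_algebraMap])
  have hgen : IntermediateField.adjoin k ({x', y'} : Set K) = ⊤ := adjoin_proj_eq_top hxy A u hu hu0
  have hpair := isPlanePair_of_irreducible htr hgen hmonic hF'irr hroot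
  obtain ⟨hFy0, hge, hiff⟩ := conductor_exponent hK hpair Q (hcent 1 (by decide)) (hcent 2 (by decide)).le hDx' hψ
  -- derivatives
  set fy := MvPolynomial.aeval ![x, y] (MvPolynomial.pderiv 1 f) with hfy
  set fy' := MvPolynomial.aeval w (MvPolynomial.pderiv 2 G') with hfy'
  have hfyG : MvPolynomial.aeval X (MvPolynomial.pderiv 2 G) = fy := by
    rw [hX, ← PlaneHom.aeval_deh, PlaneHom.pderiv_deh_two, hGf]
  have hfy0 : fy ≠ 0 := fun h => hne (by rw [_root_.LocRes.vDiff, h, inv_zero, map_zero, zero_mul, map_zero])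
  have hFy' : Polynomial.aevalAeval x' y' (Polynomial.derivative F') = algebraMap k K c₀⁻¹ * fy' := by
    rw [hF', Polynomial.derivative_C_mul, PlaneHom.derivative_toBi, map_mul, PlaneHom.aevalAeval_toBi,
      ← PlaneHom.pderiv_deh_two, PlaneHom.aeval_deh]
    simp [hfy', hw]
  have hfy'0 : fy' ≠ 0 := fun h => hFy0 (by rw [hFy', h, mul_zero])
  have hpc := inv_pderiv_smul_D_change G d hG x y hGX A u hu hu0 (by rw [← hX, hfyG]; exact hfy0) hfy'0
  rw [← hX, hfyG] at hpc
  have hconst : ∀ s : k, s ≠ 0 → Q.ord (algebraMap k K s) = 0 := fun s hs => by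
    have h1 := val_const (K := K) Q hs
    rw [val_eq Q ((map_ne_zero _).2 hs), ← WithZero.exp_zero, WithZero.exp_inj] at h1
    omega
  have hzpow : ∀ (z : K) (m : ℤ), Q.ord (z ^ m) = m * Q.ord z := fun z m => by
    rcases m with m | m
    · simp [ord_pow]
    · rw [zpow_negSucc, ord_inv, ord_pow, Int.negSucc_eq]; push_cast; ring
  set cc := algebraMap k K A.det * (u 0)⁻¹ ^ ((d : ℤ) - 3) with hcc
  have hcc0 : cc ≠ 0 := mul_ne_zero ((map_ne_zero _).2 hdet) (zpow_ne_zero _ (inv_ne_zero hu0))
  have hord : _root_.LocRes.ordDiff ψ fy⁻¹ x =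
      -((d : ℤ) - 3) * Q.ord (u 0) - Q.ord fy' + _root_.LocRes.ordDiff ψ 1 x' := by
    rw [ordDiff_congr hpc (mul_ne_zero hcc0 (inv_ne_zero hfy'0)),
      (ordDiff_eq hK hψ (mul_ne_zero hcc0 (inv_ne_zero hfy'0)) hDx').2,
      ord_mul Q hcc0 (inv_ne_zero hfy'0), hcc,
      ord_mul Q ((map_ne_zero _).2 hdet) (zpow_ne_zero _ (inv_ne_zero hu0)), hconst _ hdet, hzpow, ord_inv, ord_inv]
    ring
  have hdelta : ((mapDiv k X).deg - 3) * mapDiv k X Q - _root_.LocRes.ordDiff ψ fy⁻¹ x =
      Q.ord (Polynomial.aevalAeval x' y' (Polynomial.derivative F')) - _root_.LocRes.ordDiff ψ 1 x' := by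
    rw [hdeg, hM, hord, hFy', ord_mul Q ((map_ne_zero _).2 (inv_ne_zero hpG)) hfy'0,
      hconst _ (inv_ne_zero hpG)]
    ring
  rw [hdelta]
  refine ⟨hge, hiff.trans ?_⟩
  -- transport of nonsingularity
  have hspan : Submodule.span k (Set.range X) = Submodule.span k (Set.range u) := by
    refine le_antisymm (Submodule.span_le.2 ?_) (Submodule.span_le.2 ?_) <;> rintro _ ⟨i, rfl⟩
    · rw [← hu i]
      refine sum_mem fun m _ => ?_
      rw [← Algebra.smul_def]
      exact Submodule.smul_mem _ _ (Submodule.subset_span ⟨m, rfl⟩)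
    · refine sum_mem fun m _ => ?_
      rw [← Algebra.smul_def]
      exact Submodule.smul_mem _ _ (Submodule.subset_span ⟨m, rfl⟩)
  have h1 : IsNonsingularAt X Q ↔ IsNonsingularAt w Q :=
    (⟨fun h => isNonsingularAt_of_span_eq hspan h, fun h => isNonsingularAt_of_span_eq hspan.symm h⟩ :
      IsNonsingularAt X Q ↔ IsNonsingularAt u Q).trans (by
        rw [show u = fun i => u 0 * w i from funext huw]
        exact isNonsingularAt_smul hu0)
  rw [h1]
  exact (isNonsingularAt_iff_frac (hcent 1 (by decide)).le (hcent 2 (by decide)).le).symm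

end GrothLib.FunFld
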