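import Groth.Agent.Lib.FunFld.PlanePair
import Mathlib.Algebra.Polynomial.Reverse
import Mathlib.Algebra.BigOperators.Field

/-!
Total degree bounds on bivariate polynomials, homogenisation at infinity, spanning sets.
-/

set_option autoImplicit false
set_option linter.style.haveILetI false

namespace GrothLib.FunFld

open Polynomial
open scoped Polynomial.Bivariate

variable {k K : Type*} [Field k] [Field K] [Algebra k K]

/-- Total degree at most `n`. -/
def Bnd (n : ℕ) (G : k[X][Y]) : Prop := ∀ i l, n < i + l → (G.coeff l).coeff i = 0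

theorem Bnd.zero (n : ℕ) : Bnd n (0 : k[X][Y]) := fun i l _ => by simp

theorem Bnd.mono {n m : ℕ} {G : k[X][Y]} (h : Bnd n G) (hnm : n ≤ m) : Bnd m G :=
  fun i l hl => h i l (by omega)

theorem Bnd.add {n : ℕ} {G H : k[X][Y]} (hG : Bnd n G) (hH : Bnd n H) : Bnd n (G + H) :=
  fun i l hl => by simp [hG i l hl, hH i l hl]

theorem Bnd.neg {n : ℕ} {G : k[X][Y]} (hG : Bnd n G) : Bnd n (-G) :=
  fun i l hl => by simp [hG i l hl]

theorem Bnd.sub {n : ℕ} {G H : k[X][Y]} (hG : Bnd n G) (hH : Bnd n H) : Bnd n (G - H) := by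
  rw [sub_eq_add_neg]; exact hG.add hH.neg

theorem Bnd.mul {n m : ℕ} {G H : k[X][Y]} (hG : Bnd n G) (hH : Bnd m H) : Bnd (n + m) (G * H) := by
  intro i l hl
  rw [coeff_mul, Polynomial.finsetSum_coeff]
  refine Finset.sum_eq_zero fun a ha => ?_
  rw [coeff_mul]
  refine Finset.sum_eq_zero fun b hb => ?_
  rw [Finset.HasAntidiagonal.mem_antidiagonal] at ha hb
  by_cases hc : n < b.1 + a.1
  · rw [hG _ _ hc, zero_mul]
  · rw [hH b.2 a.2 (by omega), mul_zero]

theorem bnd_one : Bnd 0 (1 : k[X][Y]) := fun i l hl => by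
  rw [coeff_one]; split_ifs with h
  · rw [coeff_one, if_neg (by omega)]
  · simp

theorem Bnd.pow {n : ℕ} {G : k[X][Y]} (hG : Bnd n G) (j : ℕ) : Bnd (j * n) (G ^ j) := by
  induction j with
  | zero => simpa using bnd_one
  | succ j ih => rw [pow_succ, Nat.succ_mul]; exact ih.mul hG

theorem bnd_monomial {n i l : ℕ} (h : i + l ≤ n) (c : k) : Bnd n (monomial l (monomial i c)) :=
  fun i' l' hl => by
    rw [coeff_monomial]; split_ifs with h'
    · rw [coeff_monomial, if_neg (by omega)]
    · simp

theorem Bnd.natDegree_le {n : ℕ} {G : k[X][Y]} (hG : Bnd n G) : G.natDegree ≤ n := by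
  refine natDegree_le_iff_coeff_eq_zero.2 fun l hl => Polynomial.ext fun i => ?_
  rw [hG i l (by omega), coeff_zero]

theorem Bnd.natDegree_coeff_le {n : ℕ} {G : k[X][Y]} (hG : Bnd n G) (l : ℕ) :
    (G.coeff l).natDegree ≤ n - l :=
  natDegree_le_iff_coeff_eq_zero.2 fun i hi => hG i l (by omega)

theorem exists_bnd (G : k[X][Y]) : ∃ n, Bnd n G := by
  induction G using Polynomial.induction_on' with
  | add p q hp hq =>
    obtain ⟨n, hn⟩ := hp
    obtain ⟨m, hm⟩ := hq
    exact ⟨n + m, (hn.mono (by omega)).add (hm.mono (by omega))⟩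
  | monomial l c =>
    refine ⟨l + c.natDegree, fun i l' hl => ?_⟩
    rw [coeff_monomial]; split_ifs with h
    · exact coeff_eq_zero_of_natDegree_lt (by omega)
    · simp

/-- Reduction modulo a relation monic in `Y` of total degree `F.natDegree`. -/
theorem exists_reduced {a b : K} {F : k[X][Y]} (hroot : aevalAeval a b F = 0) (hF : F.Monic)
    (hd : 0 < F.natDegree) (hB : Bnd F.natDegree F) {m : ℕ} {G : k[X][Y]} (hG : Bnd m G) :
    ∃ R : k[X][Y], Bnd m R ∧ R.natDegree < F.natDegree ∧ aevalAeval a b R = aevalAeval a b G := by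
  induction hn : G.natDegree using Nat.strong_induction_on generalizing G with
  | _ n ih =>
    by_cases hlt : n < F.natDegree
    · exact ⟨G, hG, hn ▸ hlt, rfl⟩
    rw [not_lt] at hlt
    have hnm : n ≤ m := hn ▸ hG.natDegree_le
    set T : k[X][Y] := monomial (n - F.natDegree) (G.coeff n)
    have hTB : Bnd (m - F.natDegree) T := by
      intro i l hl
      rw [coeff_monomial]; split_ifs with h
      · exact hG i n (by omega)
      · simp
    have hTF : Bnd m (T * F) := (hTB.mul hB).mono (by omega)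
    have hle : (G - T * F).natDegree < n := by
      refine lt_of_le_of_lt (b := n - 1) (natDegree_le_iff_coeff_eq_zero.2 fun l hl => ?_) (by omega)
      rw [coeff_sub]
      have hTd : (T * F).natDegree ≤ n := natDegree_mul_le.trans (by
        have : T.natDegree ≤ n - F.natDegree := natDegree_monomial_le _
        omega)
      rcases eq_or_lt_of_le (show n ≤ l by omega) with rfl | hl'
      · have : (T * F).coeff n = G.coeff n := by
          conv_lhs => rw [show n = n - F.natDegree + F.natDegree by omega]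
          rw [coeff_mul_add_eq_of_natDegree_le (natDegree_monomial_le _) le_rfl, coeff_monomial,
            if_pos rfl, hF.coeff_natDegree, mul_one]
        rw [this, sub_self]
      · rw [coeff_eq_zero_of_natDegree_lt (hn ▸ hl'), coeff_eq_zero_of_natDegree_lt (hTd.trans_lt hl'),
          sub_zero]
    obtain ⟨R, hR, hRd, hRe⟩ := ih _ hle (hG.sub hTF) rfl
    refine ⟨R, hR, hRd, hRe.trans ?_⟩
    rw [map_sub, map_mul, hroot, mul_zero, sub_zero]

/-- The homogenisation in degree `n`, dehomogenised at infinity. -/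
noncomputable def hmg (n : ℕ) (G : k[X][Y]) : k[X][Y] :=
  ∑ l ∈ Finset.range (n + 1), monomial l (Polynomial.reflect (n - l) (G.coeff l))

theorem coeff_hmg (n : ℕ) (G : k[X][Y]) (l : ℕ) :
    (hmg n G).coeff l = if l ≤ n then Polynomial.reflect (n - l) (G.coeff l) else 0 := by
  rw [hmg, Polynomial.finsetSum_coeff]
  simp_rw [coeff_monomial]
  rw [Finset.sum_ite_eq']
  simp [Nat.lt_succ_iff]

theorem natDegree_hmg_le (n : ℕ) {G : k[X][Y]} : (hmg n G).natDegree ≤ G.natDegree := by
  refine natDegree_le_iff_coeff_eq_zero.2 fun l hl => ?_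
  rw [coeff_hmg, coeff_eq_zero_of_natDegree_lt hl]
  simp

/-- The top form. -/
noncomputable def topForm (n : ℕ) (G : k[X][Y]) : k[X] := (hmg n G).map (evalRingHom 0)

theorem coeff_topForm {n l : ℕ} (G : k[X][Y]) (hl : l ≤ n) :
    (topForm n G).coeff l = (G.coeff l).coeff (n - l) := by
  rw [topForm, coeff_map, coeff_hmg, if_pos hl, coe_evalRingHom, ← coeff_zero_eq_eval_zero,
    coeff_reflect, revAt_le (Nat.zero_le _), Nat.sub_zero]

theorem aevalAeval_hmg {n : ℕ} {G : k[X][Y]} (hG : Bnd n G) {u : K} (hu : u ≠ 0) (v : K) :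
    aevalAeval u⁻¹ (v / u) (hmg n G) = aevalAeval u v G / u ^ n := by
  have hG' : G = ∑ l ∈ Finset.range (n + 1), monomial l (G.coeff l) :=
    as_sum_range' G _ (Nat.lt_succ_of_le hG.natDegree_le)
  rw [hmg, map_sum]
  conv_rhs => rw [hG', map_sum, Finset.sum_div]
  refine Finset.sum_congr rfl fun l hl => ?_
  rw [Finset.mem_range, Nat.lt_succ_iff] at hl
  rw [← C_mul_X_pow_eq_monomial, ← C_mul_X_pow_eq_monomial, map_mul, map_mul, map_pow, map_pow,
    aevalAeval_C, aevalAeval_C, aevalAeval_Y, aevalAeval_Y]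
  have h1 : aeval u⁻¹ (Polynomial.reflect (n - l) (G.coeff l)) * u ^ (n - l) = aeval u (G.coeff l) := by
    letI := invertibleOfNonzero hu
    have h := eval₂_reflect_mul_pow (algebraMap k K) u (n - l) (G.coeff l) (hG.natDegree_coeff_le l)
    rwa [invOf_eq_inv] at h
  rw [← h1, div_pow]
  conv_rhs => rw [show n = n - l + l by omega, pow_add, show n - l + l - l = n - l by omega]
  field_simp

end GrothLib.FunFld
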