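import Groth.Agent.Lib.MvHomog.Dvd
import Mathlib.RingTheory.MvPolynomial.EulerIdentity
import Mathlib.RingTheory.Kaehler.Basic

/-!
Change of projective coordinates for the differential `dx / f_y` of a plane curve.
-/

set_option autoImplicit false

namespace GrothLib.FunFld

open MvPolynomial

theorem aeval_smul_of_isHomogeneous {σ k K : Type*} [CommRing k] [CommRing K] [Algebra k K]
    {f : MvPolynomial σ k} {e : ℕ} (hf : f.IsHomogeneous e) (c : K) (v : σ → K) :
    aeval (fun i => c * v i) f = c ^ e * aeval v f := by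
  conv_lhs => rw [f.as_sum]
  conv_rhs => rw [f.as_sum]
  rw [map_sum, map_sum, Finset.mul_sum]
  refine Finset.sum_congr rfl fun d hd => ?_
  rw [aeval_monomial, aeval_monomial]
  have he : ∑ i ∈ d.support, d i = e := by
    have := hf (mem_support_iff.1 hd)
    simpa [Finsupp.weight_apply, Finsupp.sum] using this
  simp only [Finsupp.prod, mul_pow]
  rw [Finset.prod_mul_distrib, Finset.prod_pow_eq_pow_sum, he]
  ring

theorem D_aeval_eq_sum {σ k K : Type*} [Fintype σ] [DecidableEq σ] [CommRing k] [CommRing K] [Algebra k K]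
    (v : σ → K) (f : MvPolynomial σ k) :
    KaehlerDifferential.D k K (aeval v f) = ∑ i, aeval v (pderiv i f) • KaehlerDifferential.D k K (v i) := by
  induction f using MvPolynomial.induction_on with
  | C a => simp
  | add p q hp hq => simp only [map_add, hp, hq, add_smul, Finset.sum_add_distrib]
  | mul_X p s hp =>
    rw [map_mul, aeval_X, Derivation.leibniz, hp, Finset.smul_sum]
    simp only [pderiv_mul, map_add, map_mul, aeval_X, add_smul, Finset.sum_add_distrib, smul_smul]
    rw [add_comm]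
    congr 1
    · exact Finset.sum_congr rfl fun i _ => by rw [mul_comm]
    · rw [Finset.sum_eq_single s]
      · simp
      · intro i _ hi; simp [pderiv_X_of_ne (Ne.symm hi)]
      · simp

/-- The differential `dx / f_y` in new coordinates. -/
theorem inv_pderiv_smul_D_change {k K : Type*} [Field k] [Field K] [Algebra k K]
    (f : MvPolynomial (Fin 3) k) (e : ℕ) (hf : f.IsHomogeneous e)
    (x y : K) (hfxy : aeval ![(1 : K), x, y] f = 0)
    (A : Matrix (Fin 3) (Fin 3) k)
    (u : Fin 3 → K) (hu : ∀ i, ∑ j, algebraMap k K (A i j) * u j = ![(1 : K), x, y] i)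
    (hu0 : u 0 ≠ 0)
    (hfy : aeval ![(1 : K), x, y] (pderiv 2 f) ≠ 0)
    (hfy' : aeval ![(1 : K), u 1 / u 0, u 2 / u 0]
      (pderiv 2 (aeval (fun i : Fin 3 => ∑ j, C (A i j) * X j) f)) ≠ 0) :
    (aeval ![(1 : K), x, y] (pderiv 2 f))⁻¹ • KaehlerDifferential.D k K x =
      (algebraMap k K A.det * (u 0)⁻¹ ^ ((e : ℤ) - 3) *
        (aeval ![(1 : K), u 1 / u 0, u 2 / u 0]
          (pderiv 2 (aeval (fun i : Fin 3 => ∑ j, C (A i j) * X j) f)))⁻¹) •
        KaehlerDifferential.D k K (u 1 / u 0) := by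
  classical
  set a : Fin 3 → Fin 3 → K := fun i j => algebraMap k K (A i j) with ha
  set x' := u 1 / u 0
  set y' := u 2 / u 0
  set w : Fin 3 → K := ![(1 : K), x', y']
  set g : Fin 3 → MvPolynomial (Fin 3) k := fun i => ∑ j, C (A i j) * X j
  set v : Fin 3 → K := fun i => a i 0 + a i 1 * x' + a i 2 * y' with hvdef
  set z := (u 0)⁻¹ with hz
  have hz0 : z ≠ 0 := inv_ne_zero hu0
  have hv : ∀ i, v i = z * ![(1 : K), x, y] i := fun i => by
    rw [← hu i, Fin.sum_univ_three, hvdef, hz]
    simp only [x', y', a, div_eq_mul_inv]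
    field_simp
  have hgw : (fun i => aeval w (g i)) = v := funext fun i => by
    simp [g, w, v, a, map_sum, Fin.sum_univ_three]
  have hcomp : ∀ p : MvPolynomial (Fin 3) k, aeval w (aeval g p) = aeval v p := fun p => by
    rw [← AlgHom.comp_apply, comp_aeval, hgw]
  have hsc : (fun i => z * ![(1 : K), x, y] i) = v := funext fun i => (hv i).symm
  set F : Fin 3 → K := fun i => aeval v (pderiv i f)
  have hf' : ∀ j, aeval w (pderiv j (aeval g f)) = ∑ i, a i j * F i := fun j => by
    rw [GrothLib.MvHomog.pderiv_linSubst, map_sum]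
    exact Finset.sum_congr rfl fun i _ => by rw [map_mul, aeval_C, hcomp]
  have hfv : aeval v f = 0 := by rw [← hsc, aeval_smul_of_isHomogeneous hf, hfxy, mul_zero]
  have hF2 : F 2 = z ^ (e - 1) * aeval ![(1 : K), x, y] (pderiv 2 f) := by
    show aeval v _ = _
    rw [← hsc, aeval_smul_of_isHomogeneous (hf.pderiv (i := (2 : Fin 3)))]
  have he0 : e ≠ 0 := by
    rintro rfl
    apply hfy
    have h0 := hf.sum_X_mul_pderiv
    obtain ⟨c, rfl⟩ : ∃ c, f = C c := ⟨_, (totalDegree_eq_zero_iff_eq_C).1 (Nat.le_zero.1 hf.totalDegree_le)⟩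
    simp
  have hEuler : v 0 * F 0 + v 1 * F 1 + v 2 * F 2 = 0 := by
    have h := congrArg (aeval v) hf.sum_X_mul_pderiv
    rw [map_sum, Fin.sum_univ_three, map_nsmul, hfv, nsmul_zero] at h
    simpa [map_mul] using h
  have hrel : aeval w (pderiv 1 (aeval g f)) • KaehlerDifferential.D k K x' +
      aeval w (pderiv 2 (aeval g f)) • KaehlerDifferential.D k K y' = 0 := by
    have h := D_aeval_eq_sum w (aeval g f)
    rw [hcomp, hfv, map_zero, Fin.sum_univ_three] at h
    simpa [w] using h.symm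
  have hDv : ∀ i, KaehlerDifferential.D k K (v i) =
      a i 1 • KaehlerDifferential.D k K x' + a i 2 • KaehlerDifferential.D k K y' := fun i => by
    simp only [hvdef, a, map_add, Derivation.leibniz, Derivation.map_algebraMap, smul_zero, add_zero, zero_add]
  have hx : x = v 1 * (v 0)⁻¹ := by
    rw [hv, hv]
    simp [mul_assoc, mul_comm z, hz0]
  set P := aeval w (pderiv 1 (aeval g f)) with hP
  set Q := aeval w (pderiv 2 (aeval g f)) with hQ
  have hQ0 : Q ≠ 0 := hfy'
  have hv0 : v 0 = z := by rw [hv]; simp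
  have hdy : KaehlerDifferential.D k K y' = (-(P / Q)) • KaehlerDifferential.D k K x' := by
    have h2 : Q • KaehlerDifferential.D k K y' = (-P) • KaehlerDifferential.D k K x' := by
      rw [neg_smul]; exact eq_neg_of_add_eq_zero_right hrel
    calc KaehlerDifferential.D k K y' = Q⁻¹ • (Q • KaehlerDifferential.D k K y') := by
          rw [smul_smul, inv_mul_cancel₀ hQ0, one_smul]
      _ = _ := by rw [h2, smul_smul]; congr 1; field_simp
  set G := aeval ![(1 : K), x, y] (pderiv 2 f) with hG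
  clear_value G
  rw [hx, Derivation.leibniz, Derivation.leibniz_inv, hDv, hDv, hdy]
  simp only [smul_smul, smul_add, neg_smul, ← add_smul, smul_neg, ← neg_add, ← sub_eq_add_neg, ← sub_smul]
  show _ = (algebraMap k K A.det * z ^ ((e : ℤ) - 3) * Q⁻¹) • KaehlerDifferential.D k K x'
  congr 1
  have hpow : z ^ ((e : ℤ) - 3) = z ^ (e - 1) / z ^ 2 := by
    rw [show ((e : ℤ) - 3) = ((e - 1 : ℕ) : ℤ) - ((2 : ℕ) : ℤ) by omega, zpow_sub₀ hz0, zpow_natCast, zpow_natCast]
  have hdet : algebraMap k K A.det = a 0 0 * a 1 1 * a 2 2 - a 0 0 * a 1 2 * a 2 1 - a 0 1 * a 1 0 * a 2 2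
      + a 0 1 * a 1 2 * a 2 0 + a 0 2 * a 1 0 * a 2 1 - a 0 2 * a 1 1 * a 2 0 := by
    rw [Matrix.det_fin_three]; simp [a]
  have hkey : (v 0 * a 1 1 - v 1 * a 0 1) * Q - (v 0 * a 1 2 - v 1 * a 0 2) * P = algebraMap k K A.det * F 2 := by
    simp only [hP, hQ, hf', Fin.sum_univ_three, hdet]
    simp only [hvdef] at hEuler ⊢
    linear_combination (a 0 2 * a 1 1 - a 0 1 * a 1 2) * hEuler
  rw [hv0] at hkey ⊢
  rw [hpow]
  field_simp
  rw [hF2] at hkey
  linear_combination hkey

end GrothLib.FunFld
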