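import Groth.Agent.Lib.FunFld.PlanePair
import Groth.Agent.Lib.FunFld.Generators
import Groth.Agent.Lib.FunFld.DivDiff
import Groth.Agent.Lib.FunFld.LocRing
import Groth.Agent.Lib.FunFld.Approx
import Groth.Agent.Lib.LocRes.DiffExpDual

/-!
The conductor exponent of a plane model at a finite place: `ord f_y - ord dx ≥ 0`, with equality
exactly at the nonsingular points.
-/

set_option autoImplicit false
set_option linter.style.haveILetI false

namespace GrothLib.FunFld

open Polynomial _root_.FunFld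
open scoped Polynomial.Bivariate

universe u v

variable {k : Type u} {K : Type v} [Field k] [IsAlgClosed k] [Field K] [Algebra k K] {a b : K} {F : k[X][Y]}

/-- Quotients of polynomials in `a, b` with unit denominator at `Q`. -/
def IsFrac (Q : Place k K) (a b z : K) : Prop :=
  ∃ U W : k[X][Y], Q.1 (aevalAeval a b W) = 1 ∧ z * aevalAeval a b W = aevalAeval a b U

omit [IsAlgClosed k] in
theorem IsFrac.add {Q : Place k K} {z z' : K} (h : IsFrac Q a b z) (h' : IsFrac Q a b z') :
    IsFrac Q a b (z + z') := by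
  obtain ⟨U, W, h1, h2⟩ := h
  obtain ⟨U', W', h1', h2'⟩ := h'
  exact ⟨U * W' + U' * W, W * W', by rw [map_mul, map_mul, h1, h1', one_mul], by
    simp only [map_add, map_mul]; rw [← h2, ← h2']; ring⟩

omit [IsAlgClosed k] in
theorem IsFrac.mul {Q : Place k K} {z z' : K} (h : IsFrac Q a b z) (h' : IsFrac Q a b z') :
    IsFrac Q a b (z * z') := by
  obtain ⟨U, W, h1, h2⟩ := h
  obtain ⟨U', W', h1', h2'⟩ := h'
  exact ⟨U * U', W * W', by rw [map_mul, map_mul, h1, h1', one_mul], by
    simp only [map_mul]; rw [← h2, ← h2']; ring⟩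

omit [IsAlgClosed k] in
theorem IsFrac.div {Q : Place k K} {z u w : K} (hu : IsFrac Q a b u) (hw : IsFrac Q a b w) (hw1 : Q.1 w = 1)
    (he : z * w = u) : IsFrac Q a b z := by
  obtain ⟨U, W, h1, h2⟩ := hu
  obtain ⟨U', W', h1', h2'⟩ := hw
  refine ⟨U * W', W * U', ?_, ?_⟩
  · rw [map_mul, map_mul, h1, ← h2', map_mul, hw1, h1', one_mul, one_mul]
  · simp only [map_mul]; rw [← h2, ← h2', ← he]; ring

/-- The local dichotomy. -/
theorem conductor_exponent (hK : IsFunctionField k K) (hp : IsPlanePair a b F) (Q : Place k K)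
    (ha : Q.1 a < 1) (hb : Q.1 b ≤ 1) (hDa : KaehlerDifferential.D k K a ≠ 0)
    {ψ : K →ₐ[k] LaurentSeries k} (hψ : _root_.LocRes.IsExpansionAt Q.1 ψ) :
    aevalAeval a b (derivative F) ≠ 0 ∧
    0 ≤ Q.ord (aevalAeval a b (derivative F)) - _root_.LocRes.ordDiff ψ 1 a ∧
    (Q.ord (aevalAeval a b (derivative F)) - _root_.LocRes.ordDiff ψ 1 a = 0 ↔
      ∀ z : K, Q.1 z ≤ 1 → IsFrac Q a b z) := by
  classical
  have hfg := hK.1
  set K₀ := IntermediateField.adjoin k ({a} : Set K) with hK₀
  haveI := IsFG.finiteDimensional_adjoin hfg hp.tr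
  have hg := isGeometric_of_perfectField hK
  haveI : Algebra.IsSeparable K₀ K := (isSeparable_iff_D_ne_zero hfg hg a).2 hDa
  have hF₀ : IsFunctionField k K₀ := (isFunctionField_intermediateField hK K₀
    ⟨a, IntermediateField.mem_adjoin_simple_self k a, hp.tr⟩).1
  obtain ⟨P, e, hepos, he⟩ := exists_isOverWith (K := K₀) Q
  letI : Algebra P.O K := ((algebraMap K₀ K).comp P.O.subtype).toAlgebra
  haveI : IsScalarTower P.O K₀ K := IsScalarTower.of_algebraMap_eq fun _ => rfl
  set a₀ : K₀ := ⟨a, IntermediateField.mem_adjoin_simple_self k a⟩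
  have ha00 : a₀ ≠ 0 := fun h => hp.tr (by
    have h' : a = 0 := congrArg Subtype.val h
    rw [h']; exact isAlgebraic_zero)
  have hne0 : a ≠ 0 := fun h => ha00 (Subtype.ext h)
  -- `a` is a parameter of `k(a)` at `P`
  have hat : P.1 a₀ = WithZero.exp (-1) := by
    obtain ⟨w, hw0, hw⟩ := exists_val_eq P (-1)
    have hd := dvd_ord_of_mem_adjoin (P := Q) (x := a) (c := 0) (by simpa using ha) hp.tr w.2
    rw [map_zero, sub_zero] at hd
    have hoa : Q.ord a = e * P.ord a₀ := ord_of_isOverWith he a₀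
    have how : Q.ord (w : K) = e * P.ord w := ord_of_isOverWith he w
    rw [hoa, how, show P.ord w = 1 from ord_eq_of_val_eq P (n := -1) hw, mul_one] at hd
    have he0 : (e : ℤ) ≠ 0 := by exact_mod_cast hepos.ne'
    have h1 : P.ord a₀ ∣ 1 := (mul_dvd_mul_iff_left he0).1 (by rwa [mul_one])
    have h2 : 0 < Q.ord a := (val_lt_one_iff Q hne0).1 ha
    rw [hoa] at h2
    have h3 : 0 < P.ord a₀ := by
      by_contra h
      have h4 : (0 : ℤ) ≤ e := Int.natCast_nonneg e
      nlinarith
    have h5 := Int.eq_one_of_dvd_one h3.le h1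
    show val P a₀ = _
    rw [val_eq P ha00, h5]
  obtain ⟨φ, hφ, -⟩ := exists_expansion_closed hF₀.1 hat
  have hDφ : Valued.v (_root_.LocRes.D k (φ a₀)) = 1 := by
    rw [(GrothLib.LocRes.val_D_of_val (n := 1) (by rw [hφ.1]; exact hat)).1 (by simp), sub_self, neg_zero,
      WithZero.exp_zero]
  have hvφ : _root_.LocRes.vDiff φ 1 a₀ = 1 := by rw [_root_.LocRes.vDiff, map_one, one_mul, hDφ]
  have hvψ : _root_.LocRes.vDiff ψ 1 (algebraMap K₀ K a₀) ≠ 0 := (ordDiff_eq hK hψ one_ne_zero hDa).1
  -- an element separating `Q`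
  have hfib := (sum_ramIdx (K' := K) hF₀.1 P).1
  obtain ⟨s, hs0⟩ := exists_approx_eq (insert Q hfib.toFinset) (fun R => if R = Q then (0 : K) else 1)
    (fun _ => -1)
  have hs : val Q s = WithZero.exp (-1) := by simpa using hs0 Q (Finset.mem_insert_self _ _)
  have hs' : ∀ R : Place k K, IsOver R P → R ≠ Q → val R s = 1 := fun R hR hne => by
    have h := hs0 R (Finset.mem_insert_of_mem (hfib.mem_toFinset.2 hR))
    rw [if_neg hne] at h
    rw [show s = 1 + (s - 1) by ring, (val R).map_add_eq_of_lt_left, map_one]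
    rw [h, map_one, ← WithZero.exp_zero, WithZero.exp_lt_exp]; omega
  have hQ1 : Q.deg = 1 := IsFG.deg_eq_one hfg Q
  have hdeg : Q.deg ≤ P.deg := by rw [hQ1]; exact IsFG.deg_pos hF₀.1 P
  have hres : GrothLib.LocRes.TrivialResidue P Q := fun w hw => by
    obtain ⟨c, hc⟩ := exists_residue hfg Q hw
    exact ⟨algebraMap k K₀ c, P.2.1 c, by rw [← IsScalarTower.algebraMap_apply k K₀ K]; exact hc⟩
  have hexp := GrothLib.LocRes.ord_derivative_eq_diffExp (ψ := ψ) (φ := φ) (x := a₀) hF₀.1 he hs hs' hdeg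
    (isGeometric_of_perfectField hF₀) hφ hψ (by rw [hvφ]; exact one_ne_zero) hvψ
  have hexp' : Q.ord (aeval s (derivative (minpoly K₀ s))) = _root_.LocRes.ordDiff ψ 1 a := by
    rw [hexp, _root_.LocRes.diffExp, show _root_.LocRes.ordDiff φ 1 a₀ = 0 by
      rw [_root_.LocRes.ordDiff, hvφ, WithZero.log_one, neg_zero], mul_zero, sub_zero]
    rfl
  -- the generator `b`
  have hgen : IntermediateField.adjoin K₀ ({b} : Set K) = ⊤ := adjoin_simple_over_eq_top hp.gen
  have hFy : aeval b (derivative (minpoly K₀ b)) = aevalAeval a b (derivative F) := by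
    rw [hp.minpoly_eq, derivative_map, aeval_map_toAdjoin]
  have haO : a₀ ∈ P.O := show P.1 a₀ ≤ 1 by rw [hat, ← WithZero.exp_zero, WithZero.exp_le_exp]; omega
  let ι : k[X] →+* P.O := (toAdjoin (k := k) a).toRingHom.codRestrict P.O.toSubring fun p => by
    show toAdjoin a p ∈ P.O
    induction p using Polynomial.induction_on' with
    | add p q hp hq => rw [map_add]; exact add_mem hp hq
    | monomial n c =>
      rw [toAdjoin, aeval_monomial]
      exact mul_mem (P.2.1 c) (pow_mem haO n)
  have hpolyR : ∀ G : k[X][Y], aevalAeval a b G = aeval b (G.map ι) := fun G => by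
    rw [← aeval_map_toAdjoin, aeval_def, aeval_def, eval₂_map, eval₂_map]
    rfl
  have hbint : IsIntegral P.O b := ⟨F.map ι, hp.monic.map _, by
    rw [← aeval_def, ← hpolyR, hp.root]⟩
  have hmemR : ∀ G : k[X][Y], aevalAeval a b G ∈ Algebra.adjoin P.O ({b} : Set K) := fun G => by
    rw [hpolyR]; exact aeval_mem_adjoin_singleton _ _
  -- elements of `O_P[b]` are fractions
  have hfracK : ∀ r : P.O, IsFrac Q a b (algebraMap K₀ K (r : K₀)) := by
    intro r
    obtain ⟨p, q, hpq⟩ := (IntermediateField.mem_adjoin_simple_iff k ((r : K₀) : K)).1 (r : K₀).2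
    have hconst : IsFrac Q a b 0 := ⟨0, 1, by simp, by simp⟩
    rcases eq_or_ne p 0 with rfl | hp0
    · show IsFrac Q a b ((r : K₀) : K)
      rw [hpq, map_zero, zero_div]; exact hconst
    rcases eq_or_ne q 0 with rfl | hq0
    · show IsFrac Q a b ((r : K₀) : K)
      rw [hpq, map_zero, div_zero]; exact hconst
    obtain ⟨p₁, hp₁, hp₁'⟩ := Polynomial.exists_eq_pow_rootMultiplicity_mul_and_not_dvd p hp0 0
    obtain ⟨q₁, hq₁, hq₁'⟩ := Polynomial.exists_eq_pow_rootMultiplicity_mul_and_not_dvd q hq0 0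
    set i := p.rootMultiplicity 0
    set j := q.rootMultiplicity 0
    rw [map_zero, sub_zero] at hp₁ hq₁ hp₁' hq₁'
    have hunit : ∀ g : k[X], ¬ X ∣ g → Q.1 (aeval a g) = 1 := fun g hg => by
      rw [X_dvd_iff] at hg
      have h1 : aeval a g = algebraMap k K (g.coeff 0) + a * aeval a g.divX := by
        conv_lhs => rw [← X_mul_divX_add g]
        rw [map_add, map_mul, aeval_X, aeval_C, add_comm]
      have hc : val Q (algebraMap k K (g.coeff 0)) = 1 := val_const Q hg
      rw [h1, (val Q).map_add_eq_of_lt_left, hc]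
      rw [hc, map_mul]
      refine lt_of_le_of_lt (mul_le_of_le_one_right' ?_) ha
      exact val_le_one_of_mem_adjoin (by rintro _ rfl; exact ha.le) (aeval_mem_adjoin_singleton k a)
    have hval : Q.1 (aeval a p / aeval a q) ≤ 1 := by
      rw [← hpq]
      show val Q (algebraMap K₀ K (r : K₀)) ≤ 1
      rw [show val Q (algebraMap K₀ K (r : K₀)) = val P (r : K₀) ^ e from he _]
      exact pow_le_one₀ zero_le r.2
    have hji : j ≤ i := by
      by_contra hlt
      push Not at hlt
      rw [hp₁, hq₁, map_mul, map_mul, map_pow, map_pow, aeval_X, map_div₀, map_mul, map_mul, map_pow, map_pow,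
        hunit _ hp₁', hunit _ hq₁', mul_one, mul_one] at hval
      have hv0 : (0 : WithZero (Multiplicative ℤ)) < Q.1 a := zero_lt_iff.2 ((val Q).ne_zero_iff.2 hne0)
      rw [div_le_one₀ (pow_pos hv0 _)] at hval
      exact absurd hval (not_le.2 (pow_lt_pow_right_of_lt_one₀ hv0 ha hlt))
    obtain ⟨m, hm⟩ : ∃ m, i = j + m := ⟨i - j, by omega⟩
    refine ⟨C (X ^ m * p₁), C q₁, by rw [aevalAeval_C]; exact hunit _ hq₁', ?_⟩
    show ((r : K₀) : K) * _ = _
    rw [aevalAeval_C, aevalAeval_C, hpq, hp₁, hq₁, hm]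
    simp only [map_mul, map_pow, aeval_X, pow_add]
    have hq1 : aeval a q₁ ≠ 0 := (val Q).ne_zero_iff.1 (by rw [hunit _ hq₁']; exact one_ne_zero)
    field_simp
  have hfracR : ∀ z ∈ Algebra.adjoin P.O ({b} : Set K), IsFrac Q a b z := by
    intro z hz
    induction hz using Algebra.adjoin_induction with
    | mem w hw =>
      rw [Set.mem_singleton_iff] at hw
      exact ⟨Y, 1, by simp, by simp [hw]⟩
    | algebraMap r => exact hfracK r
    | add x y _ _ hx hy => exact hx.add hy
    | mul x y _ _ hx hy => exact hx.mul hy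
  have hne : aevalAeval a b (derivative F) ≠ 0 := by
    rw [← hFy]
    exact (Algebra.IsSeparable.isSeparable K₀ b).aeval_derivative_ne_zero (minpoly.aeval K₀ b)
  obtain ⟨hle, heq⟩ := GrothLib.LocRes.le_ord_derivative hF₀.1 he hs hs' hdeg hres hgen hbint
  rw [hexp', hFy] at hle heq
  refine ⟨hne, by omega, ⟨fun h0 z hz => ?_, fun hall => ?_⟩⟩
  · obtain ⟨A, hA, B, hB, hB1, hzB⟩ := heq (by omega) z hz
    exact (hfracR A hA).div (hfracR B hB) hB1 hzB
  · haveI : Module.Finite P.O (integralClosure P.O K) := GrothLib.FunFld.integralClosure_finite hF₀.1 P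
    obtain ⟨G, hG⟩ := Module.Finite.fg_top (R := P.O) (M := integralClosure P.O K)
    have hgO : ∀ g : integralClosure P.O K, Q.1 (g : K) ≤ 1 := fun g =>
      val_le_one_of_isIntegral ⟨e, he⟩ g.2
    choose U W hW1 hW2 using fun g : integralClosure P.O K => hall (g : K) (hgO g)
    set h := aevalAeval a b (∏ g ∈ G, W g) with hh
    have hh1 : Q.1 h = 1 := by
      rw [hh, map_prod, map_prod]; exact Finset.prod_eq_one fun g _ => hW1 g
    have hcond : ∀ w : K, IsIntegral P.O w → h * w ∈ Algebra.adjoin P.O ({b} : Set K) := by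
      intro w hw
      have hmem : (⟨w, hw⟩ : integralClosure P.O K) ∈ Submodule.span P.O (G : Set (integralClosure P.O K)) := by
        rw [hG]; trivial
      suffices ∀ x ∈ Submodule.span P.O (G : Set (integralClosure P.O K)),
          h * (x : K) ∈ Algebra.adjoin P.O ({b} : Set K) from this _ hmem
      intro x hx
      induction hx using Submodule.span_induction with
      | mem g hg =>
        rw [hh, ← Finset.prod_erase_mul _ _ hg, map_mul, mul_assoc, mul_comm (aevalAeval a b (W g)), hW2,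
          ← map_mul]
        exact hmemR _
      | zero => simp
      | add x y _ _ hx hy => rw [Subalgebra.coe_add, mul_add]; exact add_mem hx hy
      | smul r x _ hx => rw [Subalgebra.coe_smul, mul_smul_comm]; exact Subalgebra.smul_mem _ hx r
    have hcod : GrothLib.LocRes.InCodifferent P ((aeval b (derivative (minpoly K₀ b)))⁻¹ * h) := fun w hw => by
      rw [mul_assoc]
      exact GrothLib.LocRes.trace_div_derivative_le_one hgen hbint (hcond w hw)
    have hmin := GrothLib.LocRes.codifferent_min hF₀.1 he hs hs' hdeg hres _ hcod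
    rw [hexp', hFy, map_mul, map_inv₀, show val Q h = 1 from hh1, mul_one, val_eq Q hne, ← WithZero.exp_neg,
      neg_neg, WithZero.exp_le_exp] at hmin
    omega

end GrothLib.FunFld
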