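import Groth.Agent.Lib.FunFld.PlaneBound
import Groth.Agent.Lib.FunFld.Embedding

/-!
Plane models monic in `v`: the spaces of polynomials of degree `≤ m` inside the multiples of the
pole divisor of `u`, and completeness at nonsingular models.
-/

set_option autoImplicit false
set_option linter.style.haveILetI false

namespace GrothLib.FunFld

open Polynomial _root_.FunFld
open scoped Polynomial.Bivariate

variable {k K : Type*} [Field k] [Field K] [Algebra k K]

theorem reflect_zero_one : Polynomial.reflect 0 (1 : k[X]) = 1 := by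
  rw [← C_1, reflect_C, pow_zero, mul_one]

theorem val_aevalAeval_le_one (P : Place k K) {a b : K} (ha : val P a ≤ 1) (hb : val P b ≤ 1)
    (G : k[X][Y]) : val P (aevalAeval a b G) ≤ 1 := by
  induction G using Polynomial.induction_on' with
  | add p q hp hq => rw [map_add]; exact ((val P).map_add _ _).trans (max_le hp hq)
  | monomial n c =>
    rw [← C_mul_X_pow_eq_monomial, map_mul, map_pow, aevalAeval_C, aevalAeval_Y, map_mul, map_pow]
    exact mul_le_one' (val_le_one_of_mem_adjoin (by rintro _ rfl; exact ha)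
      (aeval_mem_adjoin_singleton k a)) (pow_le_one₀ zero_le hb)

/-- A plane pair of total degree `F.natDegree`. -/
structure IsPlaneModel (u v : K) (F : k[X][Y]) : Prop where
  pair : IsPlanePair u v F
  bnd : Bnd F.natDegree F

variable {u v : K} {F : k[X][Y]}

theorem IsPlaneModel.u_ne_zero (h : IsPlaneModel u v F) : u ≠ 0 := fun h0 => h.pair.tr (h0 ▸ isAlgebraic_zero)

theorem IsPlaneModel.pair_inv (h : IsPlaneModel u v F) :
    IsPlanePair u⁻¹ (v / u) (hmg F.natDegree F) := by
  have hmon : (hmg F.natDegree F).Monic := by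
    refine monic_of_natDegree_le_of_coeff_eq_one F.natDegree (natDegree_hmg_le _) ?_
    rw [coeff_hmg, if_pos le_rfl, h.pair.monic.coeff_natDegree, Nat.sub_self]
    exact reflect_zero_one
  refine ⟨transcendental_inv h.pair.tr, ?_, hmon, ?_, ?_⟩
  · rw [aevalAeval_hmg h.bnd h.u_ne_zero, h.pair.root, zero_div]
  · have heq : IntermediateField.adjoin k ({u⁻¹} : Set K) = IntermediateField.adjoin k ({u} : Set K) := by
      refine le_antisymm ?_ ?_ <;> rw [IntermediateField.adjoin_simple_le_iff]
      · exact inv_mem (IntermediateField.mem_adjoin_simple_self k u)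
      · simpa using inv_mem (IntermediateField.mem_adjoin_simple_self k u⁻¹)
    rw [heq, ← h.pair.deg]
    refine le_antisymm (natDegree_hmg_le _) (le_natDegree_of_ne_zero ?_)
    rw [coeff_hmg, if_pos le_rfl, h.pair.monic.coeff_natDegree, Nat.sub_self]
    rw [reflect_zero_one]; exact one_ne_zero
  · refine top_unique (h.pair.gen.ge.trans ?_)
    rw [IntermediateField.adjoin_le_iff]
    have hu : u ∈ IntermediateField.adjoin k ({u⁻¹, v / u} : Set K) := by
      simpa using inv_mem (IntermediateField.subset_adjoin k ({u⁻¹, v / u} : Set K) (Set.mem_insert _ _))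
    intro w hw
    rcases hw with hw | hw <;> rw [hw]
    · exact hu
    · have := mul_mem (IntermediateField.subset_adjoin k ({u⁻¹, v / u} : Set K) (Set.mem_insert_of_mem _ rfl)) hu
      rwa [div_mul_cancel₀ _ h.u_ne_zero] at this

theorem IsPlaneModel.natDegree_hmg (h : IsPlaneModel u v F) :
    (hmg F.natDegree F).natDegree = F.natDegree := by
  refine le_antisymm (natDegree_hmg_le _) (le_natDegree_of_ne_zero ?_)
  rw [coeff_hmg, if_pos le_rfl, h.pair.monic.coeff_natDegree, Nat.sub_self]
  rw [reflect_zero_one]; exact one_ne_zero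

theorem IsPlaneModel.val_v_le (h : IsPlaneModel u v F) (P : Place k K) :
    val P v ≤ max (val P u) 1 := by
  by_contra hlt
  rw [not_le] at hlt
  have hv0 : v ≠ 0 := fun h0 => by rw [h0, map_zero] at hlt; exact not_lt.2 zero_le hlt
  have hsum := h.pair.root
  rw [h.pair.monic.as_sum, map_add, map_sum, map_pow, aevalAeval_Y, add_eq_zero_iff_eq_neg] at hsum
  have h1 : val P (v ^ F.natDegree) < val P v ^ F.natDegree := by
    conv_lhs => rw [hsum, Valuation.map_neg]
    refine Valuation.map_sum_lt _ (pow_ne_zero _ ((val P).ne_zero_iff.2 hv0)) fun l hl => ?_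
    rw [Finset.mem_range] at hl
    rw [map_mul, map_pow, aevalAeval_C, aevalAeval_Y, map_mul, map_pow]
    have hc : val P (aeval u (F.coeff l)) ≤ max (val P u) 1 ^ (F.natDegree - l) := by
      rw [aeval_eq_sum_range' (Nat.lt_succ_of_le (h.bnd.natDegree_coeff_le l))]
      refine (val P).map_sum_le fun i hi => ?_
      rw [Finset.mem_range, Nat.lt_succ_iff] at hi
      rw [Algebra.smul_def, map_mul, map_pow]
      exact (mul_le_of_le_one_left' (P.2.1 _)).trans
        ((pow_le_pow_left₀ zero_le (le_max_left _ _) i).trans (pow_le_pow_right₀ (le_max_right _ _) hi))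
    calc val P (aeval u (F.coeff l)) * val P v ^ l
        ≤ max (val P u) 1 ^ (F.natDegree - l) * val P v ^ l := mul_le_mul_left hc _
      _ < val P v ^ (F.natDegree - l) * val P v ^ l :=
          mul_lt_mul_of_pos_right (pow_lt_pow_left₀ hlt zero_le (by omega))
            (pow_pos (zero_lt_iff.2 ((val P).ne_zero_iff.2 hv0)) _)
      _ = val P v ^ F.natDegree := by rw [← pow_add]; congr 1; omega
  rw [map_pow] at h1
  exact lt_irrefl _ h1

/-- The polynomials of degree `≤ m`. -/
noncomputable def planeSpan (u v : K) (m : ℕ) : Submodule k K :=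
  Submodule.map (aevalAeval (R := k) u v).toLinearMap
    { carrier := {G | Bnd m G}
      add_mem' := fun hG hH => Bnd.add hG hH
      zero_mem' := Bnd.zero m
      smul_mem' := fun c G hG i l hl => by
        rw [coeff_smul, coeff_smul, hG i l hl, smul_zero] }

theorem mem_planeSpan {m : ℕ} {z : K} :
    z ∈ planeSpan (k := k) u v m ↔ ∃ G : k[X][Y], Bnd m G ∧ aevalAeval u v G = z := by
  simp [planeSpan, Submodule.mem_map]

theorem two_mul_sum_range_sub (d m : ℕ) (hdm : d ≤ m + 1) :
    2 * ((∑ l ∈ Finset.range d, (m + 1 - l) : ℕ) : ℤ) =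
      2 * (m : ℤ) * d + 2 - ((d : ℤ) - 1) * ((d : ℤ) - 2) := by
  induction d with
  | zero => simp
  | succ d ih =>
    rw [Finset.sum_range_succ, Nat.cast_add, mul_add, ih (by omega), Nat.cast_sub (by omega)]
    push_cast
    ring

theorem IsPlaneModel.finrank_planeSpan (h : IsPlaneModel u v F) (m : ℕ) :
    Module.finrank k (planeSpan (k := k) u v m) = ∑ l ∈ Finset.range F.natDegree, (m + 1 - l) := by
  classical
  let f : (Σ l : Fin F.natDegree, Fin (m + 1 - l)) → K := fun s => u ^ (s.2 : ℕ) * v ^ (s.1 : ℕ)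
  have hev : ∀ (i l : ℕ) (c : k), aevalAeval u v (monomial l (monomial i c)) = c • (u ^ i * v ^ l) := by
    intro i l c
    rw [← C_mul_X_pow_eq_monomial, map_mul, map_pow, aevalAeval_C, aevalAeval_Y, aeval_monomial,
      Algebra.smul_def, mul_assoc]
  have hli : LinearIndependent k f := by
    rw [Fintype.linearIndependent_iff]
    intro c hc s
    set G : k[X][Y] := ∑ t, monomial (t.1 : ℕ) (monomial (t.2 : ℕ) (c t))
    have hG : aevalAeval u v G = 0 := by
      rw [map_sum, ← hc]; exact Finset.sum_congr rfl fun t _ => hev _ _ _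
    have hdeg : G.natDegree < F.natDegree := by
      refine lt_of_le_of_lt (b := F.natDegree - 1) (natDegree_sum_le_of_forall_le _ _ fun t _ => ?_) ?_
      · exact (natDegree_monomial_le _).trans (by have := t.1.2; omega)
      · have := h.pair.natDegree_pos; omega
    have h0 := h.pair.eq_zero_of_natDegree_lt hG hdeg
    have h1 := congrArg (fun g : k[X][Y] => (g.coeff (s.1 : ℕ)).coeff (s.2 : ℕ)) h0
    simp only [G, Polynomial.finsetSum_coeff, coeff_zero] at h1
    rw [Finset.sum_eq_single s ?_ (by simp)] at h1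
    · simpa [coeff_monomial] using h1
    · rintro ⟨l, i⟩ - hne
      rw [coeff_monomial]
      split_ifs with hl
      · obtain rfl := Fin.ext hl
        rw [coeff_monomial, if_neg fun hi => hne (Sigma.ext rfl (heq_of_eq (Fin.ext hi)))]
      · simp
  have hspan : Submodule.span k (Set.range f) = planeSpan (k := k) u v m := by
    refine le_antisymm (Submodule.span_le.2 ?_) fun z hz => ?_
    · rintro _ ⟨s, rfl⟩
      refine mem_planeSpan.2 ⟨monomial (s.1 : ℕ) (monomial (s.2 : ℕ) 1),
        bnd_monomial (by have := s.2.2; omega) 1, ?_⟩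
      rw [hev, one_smul]
    · obtain ⟨G, hG, rfl⟩ := mem_planeSpan.1 hz
      obtain ⟨R, hR, hRd, hRe⟩ := exists_reduced h.pair.root h.pair.monic h.pair.natDegree_pos h.bnd hG
      rw [← hRe, as_sum_range' R _ hRd, map_sum]
      refine Submodule.sum_mem _ fun l hl => ?_
      rw [Finset.mem_range] at hl
      by_cases hlm : m < l
      · rw [show R.coeff l = 0 from Polynomial.ext fun i => by rw [hR i l (by omega), coeff_zero]]
        simp
      rw [as_sum_range' (R.coeff l) (m + 1 - l)
        ((hR.natDegree_coeff_le l).trans_lt (by omega)), map_sum, map_sum]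
      refine Submodule.sum_mem _ fun i hi => ?_
      rw [Finset.mem_range] at hi
      rw [hev]
      exact Submodule.smul_mem _ _ (Submodule.subset_span ⟨⟨⟨l, hl⟩, ⟨i, hi⟩⟩, rfl⟩)
  rw [← hspan, finrank_span_eq_card hli, Fintype.card_sigma]
  simp only [Fintype.card_fin]
  exact Fin.sum_univ_eq_sum_range (fun l => m + 1 - l) _

theorem IsPlaneModel.planeSpan_le_L (h : IsPlaneModel u v F) (hfg : IsFG k K) (m : ℕ) :
    planeSpan (k := k) u v m ≤ L ((m : ℤ) • poleDiv u) := by
  intro z hz P
  obtain ⟨G, hG, rfl⟩ := mem_planeSpan.1 hz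
  rw [Finsupp.smul_apply, hfg.poleDiv_apply, smul_eq_mul]
  show val P _ ≤ _
  rcases le_or_gt (val P u) 1 with hu | hu
  · refine (val_aevalAeval_le_one P hu ((h.val_v_le P).trans (max_le hu le_rfl)) G).trans ?_
    rw [← WithZero.exp_zero, WithZero.exp_le_exp]
    exact mul_nonneg (by omega) (le_max_right _ _)
  · have hu0 := h.u_ne_zero
    have e := aevalAeval_hmg hG hu0 v
    rw [eq_div_iff (pow_ne_zero _ hu0)] at e
    rw [← e, map_mul, map_pow, val_eq P hu0, ← WithZero.exp_nsmul]
    refine (mul_le_of_le_one_left' (val_aevalAeval_le_one P ?_ ?_ _)).trans ?_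
    · rw [map_inv₀]; exact inv_le_one_of_one_le₀ hu.le
    · rw [map_div₀, div_le_one₀ (zero_lt_one.trans hu)]
      exact (h.val_v_le P).trans (max_le le_rfl hu.le)
    · rw [WithZero.exp_le_exp, nsmul_eq_mul]
      exact mul_le_mul_of_nonneg_left (le_max_left _ _) (by omega)

/-- The chart hypothesis at every place, for the two standard charts. -/
def IsLocallyComplete (u v : K) : Prop :=
  ∀ P : Place k K, ∀ z : K, val P z ≤ 1 →
    (val P u ≤ 1 → ∃ W U : k[X][Y], val P (aevalAeval u v W) = 1 ∧
      z * aevalAeval u v W = aevalAeval u v U) ∧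
    (1 < val P u → ∃ W U : k[X][Y], val P (aevalAeval u⁻¹ (v / u) W) = 1 ∧
      z * aevalAeval u⁻¹ (v / u) W = aevalAeval u⁻¹ (v / u) U)

variable [IsAlgClosed k]

theorem IsPlaneModel.exists_eq_aevalAeval (h : IsPlaneModel u v F) (hfg : IsFG k K)
    (hns : IsLocallyComplete (k := k) u v) {z : K} (hz : ∀ P : Place k K, val P u ≤ 1 → val P z ≤ 1) :
    ∃ G : k[X][Y], aevalAeval u v G = z := by
  let π := aevalAeval (R := k) u v
  let J : Ideal k[X][Y] :=
    { carrier := {W | ∃ U, π U = π W * z}
      add_mem' := fun {a b} ⟨U, hU⟩ ⟨U', hU'⟩ => ⟨U + U', by rw [map_add, map_add, add_mul, hU, hU']⟩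
      zero_mem' := ⟨0, by simp⟩
      smul_mem' := fun c a ⟨U, hU⟩ => ⟨c * U, by rw [map_mul, smul_eq_mul, map_mul, hU, mul_assoc]⟩ }
  by_cases hJ : J = ⊤
  · obtain ⟨U, hU⟩ := (hJ ▸ Submodule.mem_top : (1 : k[X][Y]) ∈ J)
    exact ⟨U, by rw [show aevalAeval u v U = π U from rfl, hU, map_one, one_mul]⟩
  exfalso
  obtain ⟨M, hM, hle⟩ := Ideal.exists_le_maximal J hJ
  letI := Ideal.Quotient.field M
  haveI : Module.Finite k (k[X][Y] ⧸ M) := finite_of_finite_type_of_isJacobsonRing k _
  haveI : Algebra.IsIntegral k (k[X][Y] ⧸ M) := Algebra.IsIntegral.of_finite k _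
  obtain ⟨e, he⟩ : ∃ e : k ≃ₐ[k] (k[X][Y] ⧸ M), True :=
    ⟨AlgEquiv.ofBijective (Algebra.ofId k _) IsAlgClosed.algebraMap_bijective_of_isIntegral, trivial⟩
  let q : k[X][Y] →ₐ[k] k := e.symm.toAlgHom.comp (Ideal.Quotient.mkₐ k M)
  have hq : ∀ G, q G = G.evalEval (q (C X)) (q Y) := fun G => by
    have hq2 : q = aevalAeval (q (C X)) (q Y) := by ext <;> simp
    conv_lhs => rw [hq2, coe_aevalAeval_eq_evalEval]
  have hqM : ∀ G, q G = 0 ↔ G ∈ M := fun G => by
    simp [q, Ideal.Quotient.eq_zero_iff_mem]
  have hF : F ∈ J := ⟨0, by rw [map_zero, show π F = 0 from h.pair.root, zero_mul]⟩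
  obtain ⟨P, hP⟩ := h.pair.exists_place hfg (α := q (C X)) (β := q Y) (by rw [← hq, hqM]; exact hle hF)
  have hPu : val P u ≤ 1 := by
    have := (hP (C X)).1
    rwa [aevalAeval_X] at this
  obtain ⟨W, U, hW, hU⟩ := (hns P z (hz P hPu)).1 hPu
  have hWJ : W ∈ J := ⟨U, by rw [show π U = aevalAeval u v U from rfl, ← hU, mul_comm]⟩
  have := (hP W).2
  rw [← hq, (hqM W).2 (hle hWJ), map_zero, sub_zero, hW] at this
  exact lt_irrefl _ this

/-- A model that is locally complete everywhere is complete in every degree. -/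
theorem IsPlaneModel.planeSpan_eq_L (h : IsPlaneModel u v F) (hfg : IsFG k K)
    (hns : IsLocallyComplete (k := k) u v) (m : ℕ) :
    planeSpan (k := k) u v m = L ((m : ℤ) • poleDiv u) := by
  classical
  refine le_antisymm (h.planeSpan_le_L hfg m) fun z hz => ?_
  have hzval : ∀ P : Place k K, val P z ≤ WithZero.exp ((m : ℤ) * max (-P.ord u) 0) := fun P => by
    have := hz P
    rwa [Finsupp.smul_apply, hfg.poleDiv_apply, smul_eq_mul] at this
  obtain ⟨G, hGz⟩ := h.exists_eq_aevalAeval hfg hns fun P hP => by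
    refine (hzval P).trans ?_
    rw [← WithZero.exp_zero, WithZero.exp_le_exp]
    have := (val_le_one_iff P h.u_ne_zero).1 hP
    rw [max_eq_right (by omega), mul_zero]
  obtain ⟨n₀, hn₀⟩ := exists_bnd G
  obtain ⟨R₀, hR₀, hR₀d, hR₀e⟩ := exists_reduced h.pair.root h.pair.monic h.pair.natDegree_pos h.bnd hn₀
  suffices H : ∀ N, ∀ R : k[X][Y], Bnd N R → R.natDegree < F.natDegree → aevalAeval u v R = z →
      z ∈ planeSpan (k := k) u v m from H n₀ R₀ hR₀ hR₀d (hR₀e.trans hGz)
  intro N
  induction N with
  | zero => exact fun R hR _ he => mem_planeSpan.2 ⟨R, hR.mono (Nat.zero_le _), he⟩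
  | succ N ih =>
    intro R hR hRd he
    by_cases hNm : N + 1 ≤ m
    · exact mem_planeSpan.2 ⟨R, hR.mono hNm, he⟩
    refine ih R ?_ hRd he
    -- the top form vanishes
    set q := topForm (N + 1) R
    set hh := topForm F.natDegree F
    suffices hq : q = 0 by
      intro i l hl
      by_cases hil : i + l = N + 1
      · have := coeff_topForm (n := N + 1) R (l := l) (by omega)
        rw [show topForm (N + 1) R = 0 from hq, coeff_zero, show N + 1 - l = i by omega] at this
        exact this.symm
      · exact hR i l (by omega)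
    by_contra hq0
    have hhm : hh.Monic := h.pair_inv.monic.map _
    have hhd : hh.natDegree = F.natDegree := by
      rw [show hh = (hmg F.natDegree F).map (evalRingHom 0) from rfl, h.pair_inv.monic.natDegree_map, h.natDegree_hmg]
    have hle : hh.roots ≤ q.roots := by
      rw [Multiset.le_iff_count]
      intro c
      rw [count_roots, count_roots]
      by_cases hc : hh.IsRoot c
      swap
      · rw [rootMultiplicity_eq_zero hc]; exact Nat.zero_le _
      have heval : ∀ G : k[X][Y], G.evalEval 0 c = (G.map (evalRingHom 0)).eval c := fun G =>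
        (map_evalRingHom_eval 0 c G).symm
      obtain ⟨P, hP⟩ := h.pair_inv.exists_place hfg (α := 0) (β := c) (by rw [heval]; exact hc)
      have hS : val P u⁻¹ < 1 := by
        have := (hP (C X)).2
        rw [aevalAeval_X, evalEval_C, eval_X, map_zero, sub_zero] at this
        exact this
      have hu : 1 < val P u := by
        rw [map_inv₀] at hS
        exact (inv_lt_one₀ (zero_lt_iff.2 ((val P).ne_zero_iff.2 h.u_ne_zero))).1 hS
      have hz' : val P (z / u ^ N) ≤ 1 := by
        rw [map_div₀, map_pow, div_le_one₀ (pow_pos (zero_lt_one.trans hu) _)]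
        refine (hzval P).trans ?_
        rw [val_eq P h.u_ne_zero, ← WithZero.exp_nsmul, WithZero.exp_le_exp, nsmul_eq_mul]
        rw [val_eq P h.u_ne_zero, ← WithZero.exp_zero, WithZero.exp_lt_exp] at hu
        rw [max_eq_left hu.le]
        exact mul_le_mul_of_nonneg_right (by omega) hu.le
      obtain ⟨W, U, hW, hU⟩ := (hns P _ hz').2 hu
      have hkey : aevalAeval u⁻¹ (v / u) (hmg (N + 1) R * W - C X * U) = 0 := by
        rw [map_sub, map_mul, map_mul, aevalAeval_X, aevalAeval_hmg hR h.u_ne_zero, he, ← hU, pow_succ]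
        have := h.u_ne_zero
        field_simp
        ring
      obtain ⟨Q, hQ⟩ := h.pair_inv.dvd_of_root hkey
      have h0 := congrArg (Polynomial.map (evalRingHom (0 : k))) hQ
      rw [Polynomial.map_sub, Polynomial.map_mul, Polynomial.map_mul, Polynomial.map_mul, map_C,
        coe_evalRingHom, eval_X, C_0, zero_mul, sub_zero] at h0
      change q * _ = hh * _ at h0
      set W₀ := W.map (evalRingHom (0 : k))
      have hW₀ : W₀.eval c ≠ 0 := fun h1 => by
        have := (hP W).2
        rw [heval, h1, map_zero, sub_zero, hW] at this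
        exact lt_irrefl _ this
      have hW0' : W₀ ≠ 0 := fun h1 => hW₀ (by rw [h1, eval_zero])
      have hprod : q * W₀ ≠ 0 := mul_ne_zero hq0 hW0'
      have hQ0 : hh * Q.map (evalRingHom (0 : k)) ≠ 0 := by rwa [← h0]
      have := congrArg (rootMultiplicity c) h0
      rw [rootMultiplicity_mul hprod, rootMultiplicity_mul hQ0, rootMultiplicity_eq_zero hW₀] at this
      omega
    have hcard := Multiset.card_le_card hle
    rw [IsAlgClosed.card_roots_eq_natDegree, IsAlgClosed.card_roots_eq_natDegree, hhd] at hcard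
    have hqd : q.natDegree ≤ R.natDegree :=
      natDegree_map_le.trans (natDegree_hmg_le _)
    omega

end GrothLib.FunFld
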