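import Groth.Agent.Lib.FunFld.IntClosure
import Groth.Agent.Lib.FunFld.ConstExt
import Groth.Agent.Lib.FunFld.Conorm
import Groth.Agent.Lib.FunFld.Riemann
import Mathlib.FieldTheory.Minpoly.IsIntegrallyClosed
import Mathlib.Tactic.LinearCombination

/-!
Places in a quadratic extension given by `y² + βy + γ = 0`.
-/

set_option autoImplicit false
set_option linter.style.haveILetI false
set_option linter.unusedSectionVars false

namespace GrothLib.FunFld

open _root_.FunFld WithZero Polynomial

variable {k L K : Type*} [Field k] [Field L] [Field K] [Algebra k L] [Algebra L K] [Algebra k K]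
  [IsScalarTower k L K]

theorem finrank_le_of_algHom {R A B : Type*} [Field R] [Field A] [Field B] [Algebra R A] [Algebra R B]
    [FiniteDimensional R B] (φ : A →ₐ[R] B) : Module.finrank R A ≤ Module.finrank R B :=
  LinearMap.finrank_le_finrank_of_injective (f := φ.toLinearMap) φ.toRingHom.injective

/-- `K = L(y)` is quadratic, with `y² + βy + γ = 0`. -/
structure IsQuad (y : K) (β γ : L) : Prop where
  finrank_eq : Module.finrank L K = 2
  not_mem : y ∉ Set.range (algebraMap L K)
  eq_zero : y ^ 2 + algebraMap L K β * y + algebraMap L K γ = 0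

variable {y : K} {β γ : L}

namespace IsQuad

theorem finite (hq : IsQuad y β γ) : FiniteDimensional L K :=
  Module.finite_of_finrank_pos (by have := hq.finrank_eq; omega)

theorem coeff_eq_zero (hq : IsQuad y β γ) {a b : L}
    (h : algebraMap L K a + algebraMap L K b * y = 0) : a = 0 ∧ b = 0 := by
  have hb : b = 0 := by
    by_contra hb
    refine hq.not_mem ⟨-a / b, ?_⟩
    rw [map_div₀, map_neg, div_eq_iff (by rwa [_root_.map_ne_zero])]
    linear_combination -h
  rw [hb, map_zero, zero_mul, add_zero] at h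
  exact ⟨(map_eq_zero _).mp h, hb⟩

theorem exists_coeff (hq : IsQuad y β γ) (z : K) :
    ∃ a b : L, z = algebraMap L K a + algebraMap L K b * y := by
  haveI := hq.finite
  have hli : LinearIndependent L ![(1 : K), y] := LinearIndependent.pair_iff.mpr fun s t hst => by
    refine hq.coeff_eq_zero ?_
    rw [Algebra.smul_def, Algebra.smul_def, mul_one] at hst
    exact hst
  have htop := hli.span_eq_top_of_card_eq_finrank (by rw [hq.finrank_eq]; rfl)
  have hz : z ∈ Submodule.span L (Set.range ![(1 : K), y]) := htop ▸ Submodule.mem_top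
  obtain ⟨c, hc⟩ := (Submodule.mem_span_range_iff_exists_fun L).mp hz
  refine ⟨c 0, c 1, ?_⟩
  rw [← hc, Fin.sum_univ_two]
  simp [Algebra.smul_def]

theorem coeff_unique (hq : IsQuad y β γ) {a b a' b' : L}
    (h : algebraMap L K a + algebraMap L K b * y = algebraMap L K a' + algebraMap L K b' * y) :
    a = a' ∧ b = b' := by
  have := hq.coeff_eq_zero (a := a - a') (b := b - b') (by rw [map_sub, map_sub]; linear_combination h)
  exact ⟨sub_eq_zero.mp this.1, sub_eq_zero.mp this.2⟩

theorem rel (hq : IsQuad y β γ) (a b : L) :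
    (algebraMap L K a + algebraMap L K b * y) ^ 2
      - algebraMap L K (2 * a - β * b) * (algebraMap L K a + algebraMap L K b * y)
      + algebraMap L K (a ^ 2 - β * a * b + γ * b ^ 2) = 0 := by
  simp only [map_sub, map_add, map_mul, map_pow, map_ofNat]
  linear_combination (algebraMap L K b) ^ 2 * hq.eq_zero

theorem mul_gen (hq : IsQuad y β γ) (a b : L) :
    (algebraMap L K a + algebraMap L K b * y) * y =
      algebraMap L K (-(γ * b)) + algebraMap L K (a - β * b) * y := by
  simp only [map_sub, map_neg, map_mul]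
  linear_combination (algebraMap L K b) * hq.eq_zero

theorem scale (hq : IsQuad y β γ) {c : L} (hc : c ≠ 0) :
    IsQuad (y / algebraMap L K c) (β / c) (γ / c ^ 2) where
  finrank_eq := hq.finrank_eq
  not_mem := fun ⟨a, ha⟩ => hq.not_mem ⟨a * c, by
    rw [map_mul, ha, div_mul_cancel₀]; rwa [_root_.map_ne_zero]⟩
  eq_zero := by
    have hc' : algebraMap L K c ≠ 0 := by rwa [_root_.map_ne_zero]
    rw [map_div₀, map_div₀, map_pow]
    field_simp
    linear_combination hq.eq_zero

theorem shift (hq : IsQuad y β γ) :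
    IsQuad (y + 1) (β - 2) (1 - β + γ) where
  finrank_eq := hq.finrank_eq
  not_mem := fun ⟨a, ha⟩ => hq.not_mem ⟨a - 1, by rw [map_sub, ha, map_one, add_sub_cancel_right]⟩
  eq_zero := by
    simp only [map_sub, map_add, map_one, map_ofNat]
    linear_combination hq.eq_zero

/-- Ramification indices are at most `2`; if `2` occurs, the place is unique with the same degree. -/
theorem ramIdx_facts (hq : IsQuad y β γ) (h : IsFG k L) (P₀ : Place k L) :
    (∃ P : Place k K, IsOver P P₀) ∧
    (∀ (P : Place k K) (e : ℕ), IsOverWith P P₀ e → e = 1 ∨ e = 2) ∧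
    ∀ P : Place k K, IsOverWith P P₀ 2 →
      (∀ P' : Place k K, IsOver P' P₀ → P' = P) ∧ P.deg = P₀.deg := by
  classical
  haveI := hq.finite
  have hK : IsFG k K := isFG_extension (K := L) h
  obtain ⟨hfin, hsum⟩ := sum_ramIdx (K' := K) h P₀
  have hs := hsum hfin.toFinset fun Q => hfin.mem_toFinset
  rw [hq.finrank_eq] at hs
  have h0 := h.deg_pos P₀
  -- the degree of a place divides by the degree below
  have hdvd : ∀ (P : Place k K) (e : ℕ), IsOverWith P P₀ e → P₀.deg ≤ P.deg := fun P e he => by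
    have hfP : @Module.Finite k (IsLocalRing.ResidueField P.O) _ _ Algebra.toModule :=
      hK.finite_residueField P
    let i : P₀.O →+* P.O := ((algebraMap L K).comp P₀.O.subtype).codRestrict P.O fun x =>
      (val_le_one_iff_of_isOverWith he _).mpr x.2
    haveI : IsLocalHom i := ⟨fun x hx => by
      by_contra hn
      have h1 : res P₀ x = 0 := (IsLocalRing.residue_eq_zero_iff x).mpr hn
      have h2 : res P (i x) = 0 := by
        rw [res_eq_zero_iff] at h1 ⊢
        show val P (algebraMap L K (x : L)) < 1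
        rw [show val P (algebraMap L K (x : L)) = val P₀ (x : L) ^ e from he _]
        exact pow_lt_one₀ zero_le h1 (pos_of_isOverWith he).ne'
      exact (IsLocalRing.residue_eq_zero_iff (i x)).mp h2 hx⟩
    let φ : IsLocalRing.ResidueField P₀.O →ₐ[k] IsLocalRing.ResidueField P.O :=
      { IsLocalRing.ResidueField.map i with
        commutes' := fun c => by
          show IsLocalRing.residue P.O (i (algebraMap k P₀.O c)) = IsLocalRing.residue P.O (algebraMap k P.O c)
          congr 1
          refine Subtype.ext ?_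
          show algebraMap L K ((algebraMap k P₀.O c : P₀.O) : L) = _
          rw [algebraMap_O_coe, algebraMap_O_coe, ← IsScalarTower.algebraMap_apply] }
    exact @finrank_le_of_algHom k _ _ _ _ _ _ _ hfP φ
  have hle : ∀ (P : Place k K) (e : ℕ), IsOverWith P P₀ e →
      e * P.deg + ∑ R ∈ hfin.toFinset.erase P, ramIdx R P₀ * R.deg = 2 * P₀.deg := fun P e he => by
    rw [← hs, ← Finset.add_sum_erase _ _ (hfin.mem_toFinset.mpr ⟨e, he⟩), ramIdx_eq he]
  refine ⟨?_, fun P e he => ?_, fun P he => ?_⟩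
  · by_contra hn
    push_neg at hn
    rw [Finset.sum_eq_zero fun R hR => absurd (hfin.mem_toFinset.mp hR) (hn R)] at hs
    omega
  · have h1 := hle P e he
    have h2 := hdvd P e he
    have h3 := pos_of_isOverWith he
    have h4 : e * P₀.deg ≤ 2 * P₀.deg := (Nat.mul_le_mul_left e h2).trans (by omega)
    have := Nat.le_of_mul_le_mul_right h4 h0
    omega
  · have h1 := hle P 2 he
    have h2 := hdvd P 2 he
    refine ⟨fun P' hP' => ?_, by omega⟩
    by_contra hne
    obtain ⟨e', he'⟩ := hP'
    have hmem : P' ∈ hfin.toFinset.erase P := Finset.mem_erase.mpr ⟨hne, hfin.mem_toFinset.mpr ⟨e', he'⟩⟩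
    have h5 := Finset.single_le_sum (f := fun R => ramIdx R P₀ * R.deg) (fun _ _ => Nat.zero_le _) hmem
    simp only [ramIdx_eq he'] at h5
    have h6 : 0 < e' * P'.deg := Nat.mul_pos (pos_of_isOverWith he') (hK.deg_pos P')
    omega

/-- If some element has, at every place above, order with odd multiple of `e` even, all are ramified. -/
theorem ramified (hq : IsQuad y β γ) (h : IsFG k L) (P₀ : Place k L)
    (hev : ∀ (P : Place k K) (e : ℕ), IsOverWith P P₀ e → e ≠ 1) :
    (∃! P : Place k K, IsOver P P₀) ∧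
      ∀ P : Place k K, IsOver P P₀ → IsOverWith P P₀ 2 ∧ P.deg = P₀.deg := by
  obtain ⟨⟨P, hP⟩, h12, h2⟩ := hq.ramIdx_facts h P₀
  have key : ∀ P : Place k K, IsOver P P₀ → IsOverWith P P₀ 2 := fun P ⟨e, he⟩ => by
    rcases h12 P e he with rfl | rfl
    · exact absurd rfl (hev P 1 he)
    · exact he
  exact ⟨⟨P, hP, (h2 P (key P hP)).1⟩, fun P hP => ⟨key P hP, (h2 P (key P hP)).2⟩⟩

/-- The trace of an element integral at all places above is integral. -/
theorem trace_le_one (hq : IsQuad y β γ) (h : IsFG k L) (P₀ : Place k L) {a b : L}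
    (hz : ∀ P : Place k K, IsOver P P₀ → val P (algebraMap L K a + algebraMap L K b * y) ≤ 1) :
    val P₀ (2 * a - β * b) ≤ 1 := by
  haveI := hq.finite
  letI : Algebra P₀.O K := ((algebraMap L K).comp P₀.O.subtype).toAlgebra
  haveI : IsScalarTower P₀.O L K := IsScalarTower.of_algebraMap_eq fun _ => rfl
  rcases eq_or_ne b 0 with rfl | hb
  · obtain ⟨⟨P, e, he⟩, -⟩ := hq.ramIdx_facts h P₀
    have := hz P ⟨e, he⟩
    rw [map_zero, zero_mul, add_zero, val_le_one_iff_of_isOverWith he] at this
    rw [mul_zero, sub_zero, map_mul]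
    refine mul_le_one' ?_ this
    rw [show (2 : L) = algebraMap k L 2 by rw [map_ofNat]]
    exact P₀.2.1 2
  set z := algebraMap L K a + algebraMap L K b * y with hzdef
  have hzint : IsIntegral P₀.O z := (isIntegral_iff_forall h z).mpr hz
  haveI : IsPrincipalIdealRing P₀.O := isPrincipalIdealRing_O P₀
  have hnot : z ∉ Set.range (algebraMap L K) := by
    rintro ⟨c, hc⟩
    have := hq.coeff_unique (a := a) (b := b) (a' := c) (b' := 0) (by
      rw [map_zero, zero_mul, add_zero, hc])
    exact hb this.2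
  have hint : IsIntegral L z := Algebra.IsIntegral.isIntegral z
  have hmin : minpoly L z = X ^ 2 + C (-(2 * a - β * b)) * X + C (a ^ 2 - β * a * b + γ * b ^ 2) := by
    set T := 2 * a - β * b
    set N := a ^ 2 - β * a * b + γ * b ^ 2
    have hmon : (X ^ 2 + C (-T) * X + C N : L[X]).Monic := by monicity!
    have hdeg : (X ^ 2 + C (-T) * X + C N : L[X]).natDegree = 2 := by compute_degree!
    have hev : aeval z (X ^ 2 + C (-T) * X + C N : L[X]) = 0 := by
      simp only [map_add, map_mul, map_pow, aeval_X, aeval_C, map_neg]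
      linear_combination hq.rel a b
    refine (Polynomial.eq_of_monic_of_dvd_of_natDegree_le (minpoly.monic hint) hmon (minpoly.dvd L z hev) ?_).symm
    rw [hdeg]
    exact (minpoly.two_le_natDegree_iff hint).mpr fun ⟨c, hc⟩ => hnot ⟨c, hc⟩
  have hP : (minpoly P₀.O z).map (algebraMap P₀.O L) = minpoly L z :=
    (minpoly.isIntegrallyClosed_eq_field_fractions L K hzint).symm
  have h1 := congrArg (fun p => p.coeff 1) hP
  simp only [coeff_map, hmin, coeff_add, coeff_X_pow, coeff_C_mul, coeff_X_one, coeff_C, mul_one,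
    show (1 : ℕ) ≠ 2 by norm_num, show (1 : ℕ) ≠ 0 by norm_num, if_false, zero_add, add_zero] at h1
  have h2 : val P₀ (((minpoly P₀.O z).coeff 1 : P₀.O) : L) ≤ 1 := ((minpoly P₀.O z).coeff 1).2
  rw [show algebraMap P₀.O L ((minpoly P₀.O z).coeff 1) = (((minpoly P₀.O z).coeff 1 : P₀.O) : L) from rfl] at h1
  rw [h1, Valuation.map_neg] at h2
  exact h2

/-- `y` is integral at places above a place where `β, γ` are. -/
theorem val_gen_le_one (hq : IsQuad y β γ) {P₀ : Place k L} (hβ : val P₀ β ≤ 1) (hγ : val P₀ γ ≤ 1)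
    {P : Place k K} {e : ℕ} (he : IsOverWith P P₀ e) : val P y ≤ 1 := by
  haveI := hq.finite
  by_contra hlt
  rw [not_le] at hlt
  have hβ' := (val_le_one_iff_of_isOverWith he β).mpr hβ
  have hγ' := (val_le_one_iff_of_isOverWith he γ).mpr hγ
  have h1 : val P (algebraMap L K β * y + algebraMap L K γ) < val P (y ^ 2) := by
    refine lt_of_le_of_lt ((val P).map_add _ _) (max_lt ?_ ?_)
    · rw [map_mul, map_pow, sq]; exact mul_lt_mul_of_pos_right (hβ'.trans_lt hlt) (zero_lt_one.trans hlt)
    · rw [map_pow]; exact hγ'.trans_lt (one_lt_pow₀ hlt two_ne_zero)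
  have h2 := (val P).map_add_eq_of_lt_left h1
  rw [← add_assoc, hq.eq_zero, map_zero] at h2
  rw [← h2] at h1
  exact not_lt_zero h1

/-- At a place of unit discriminant the basis `1, y` computes integrality. -/
theorem bound_iff (hq : IsQuad y β γ) (h : IsFG k L) (P₀ : Place k L) (hβ : val P₀ β ≤ 1) (hγ : val P₀ γ ≤ 1)
    (hd : val P₀ (β ^ 2 - 4 * γ) = 1) (a b : L) :
    (∀ P : Place k K, IsOver P P₀ → val P (algebraMap L K a + algebraMap L K b * y) ≤ 1) ↔
      val P₀ a ≤ 1 ∧ val P₀ b ≤ 1 := by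
  haveI := hq.finite
  refine ⟨fun hz => ?_, fun ⟨ha, hb⟩ P ⟨e, he⟩ => ?_⟩
  · have hT1 := hq.trace_le_one h P₀ hz
    have hT2 := hq.trace_le_one h P₀ (a := -(γ * b)) (b := a - β * b) fun P hP => by
      rw [← hq.mul_gen, map_mul]
      obtain ⟨e, he⟩ := hP
      exact mul_le_one' (hz P ⟨e, he⟩) (hq.val_gen_le_one hβ hγ he)
    set T1 := 2 * a - β * b
    set T2 := 2 * -(γ * b) - β * (a - β * b)
    have h2 : val P₀ (2 : L) ≤ 1 := by
      rw [show (2 : L) = algebraMap k L 2 by rw [map_ofNat]]; exact P₀.2.1 2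
    refine ⟨?_, ?_⟩
    · have e1 : (β ^ 2 - 4 * γ) * a = (β * β - 2 * γ) * T1 + β * T2 := by simp only [T1, T2]; ring
      have := congrArg (val P₀) e1
      rw [map_mul, hd, one_mul] at this
      rw [this]
      refine ((val P₀).map_add _ _).trans (max_le ?_ ?_)
      · rw [map_mul]
        refine mul_le_one' (((val P₀).map_sub _ _).trans (max_le ?_ ?_)) hT1
        · rw [map_mul]; exact mul_le_one' hβ hβ
        · rw [map_mul]; exact mul_le_one' h2 hγ
      · rw [map_mul]; exact mul_le_one' hβ hT2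
    · have e1 : (β ^ 2 - 4 * γ) * b = β * T1 + 2 * T2 := by simp only [T1, T2]; ring
      have := congrArg (val P₀) e1
      rw [map_mul, hd, one_mul] at this
      rw [this]
      refine ((val P₀).map_add _ _).trans (max_le ?_ ?_)
      · rw [map_mul]; exact mul_le_one' hβ hT1
      · rw [map_mul]; exact mul_le_one' h2 hT2
  · refine ((val P).map_add _ _).trans (max_le ((val_le_one_iff_of_isOverWith he a).mpr ha) ?_)
    rw [map_mul]
    exact mul_le_one' ((val_le_one_iff_of_isOverWith he b).mpr hb) (hq.val_gen_le_one hβ hγ he)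

/-- The norm relation forces the trace of a uniformizer at a ramified place into the maximal ideal. -/
theorem trace_lt_one_of_uniformizer (hq : IsQuad y β γ) {P₀ : Place k L} (hβ : val P₀ β ≤ 1)
    {P : Place k K} (he : IsOverWith P P₀ 2) {a b : L} (ha : val P₀ a ≤ 1) (hb : val P₀ b ≤ 1)
    (hz : val P (algebraMap L K a + algebraMap L K b * y) = exp (-1)) :
    val P₀ (2 * a - β * b) < 1 := by
  haveI := hq.finite
  set T := 2 * a - β * b with hT
  set N := a ^ 2 - β * a * b + γ * b ^ 2
  have hT1 : val P₀ T ≤ 1 := by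
    refine ((val P₀).map_sub _ _).trans (max_le ?_ ?_)
    · rw [map_mul, show (2 : L) = algebraMap k L 2 by rw [map_ofNat]]; exact mul_le_one' (P₀.2.1 2) ha
    · rw [map_mul]; exact mul_le_one' hβ hb
  refine lt_of_le_of_ne hT1 fun h1 => ?_
  set z := algebraMap L K a + algebraMap L K b * y with hzdef
  have hrel : algebraMap L K N = algebraMap L K T * z - z ^ 2 := by linear_combination hq.rel a b
  have hv : val P (algebraMap L K T * z - z ^ 2) = exp (-1) := by
    rw [(val P).map_sub_eq_of_lt_left]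
    · rw [map_mul, show val P (algebraMap L K T) = _ from he T, show P₀.1 T = 1 from h1, one_pow, one_mul, hz]
    · rw [map_mul, show val P (algebraMap L K T) = _ from he T, show P₀.1 T = 1 from h1, one_pow, one_mul, map_pow,
        hz, ← exp_nsmul, exp_lt_exp]
      norm_num
  rw [← hrel, show val P (algebraMap L K N) = _ from he N] at hv
  have h3 : P₀.1 N ≠ 0 := fun h0 => by rw [h0, zero_pow two_ne_zero] at hv; exact exp_ne_zero hv.symm
  have h4 := congrArg log hv
  rw [log_pow, log_exp, nsmul_eq_mul] at h4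
  omega

/-- No ramification at a place of unit discriminant. -/
theorem unramified (hq : IsQuad y β γ) (h : IsFG k L) (P₀ : Place k L) (hβ : val P₀ β ≤ 1) (hγ : val P₀ γ ≤ 1)
    (hd : val P₀ (β ^ 2 - 4 * γ) = 1) {P : Place k K} (hP : IsOver P P₀) : IsOverWith P P₀ 1 := by
  obtain ⟨e, he⟩ := hP
  obtain ⟨-, h12, h2⟩ := hq.ramIdx_facts h P₀
  rcases h12 P e he with rfl | rfl
  · exact he
  exfalso
  obtain ⟨huniq, -⟩ := h2 P he
  obtain ⟨z, -, hz⟩ := exists_val_eq P (-1)
  obtain ⟨a, b, rfl⟩ := hq.exists_coeff z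
  obtain ⟨ha, hb⟩ := (hq.bound_iff h P₀ hβ hγ hd a b).mp fun P' hP' => by
    rw [huniq P' hP', hz, ← exp_zero, exp_le_exp]; norm_num
  have hT1 := hq.trace_lt_one_of_uniformizer hβ he ha hb hz
  have hy1 := hq.val_gen_le_one hβ hγ he
  have hab : val P₀ (a - β * b) ≤ 1 :=
    ((val P₀).map_sub _ _).trans (max_le ha (by rw [map_mul]; exact mul_le_one' hβ hb))
  have hgb : val P₀ (-(γ * b)) ≤ 1 := by rw [Valuation.map_neg, map_mul]; exact mul_le_one' hγ hb
  have hT2 : val P₀ (2 * -(γ * b) - β * (a - β * b)) < 1 := by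
    rcases hy1.lt_or_eq with hy | hy
    · have hz' : val P (algebraMap L K (-(γ * b) + a) + algebraMap L K (a - β * b + b) * y) = exp (-1) := by
        rw [show algebraMap L K (-(γ * b) + a) + algebraMap L K (a - β * b + b) * y =
          (algebraMap L K a + algebraMap L K b * y) * (1 + y) by
            rw [mul_add, mul_one, hq.mul_gen, map_add, map_add]; ring, map_mul, hz,
          (val P).map_add_eq_of_lt_left (by rwa [map_one]), map_one, mul_one]
      have := hq.trace_lt_one_of_uniformizer hβ he (((val P₀).map_add _ _).trans (max_le hgb ha))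
        (((val P₀).map_add _ _).trans (max_le hab hb)) hz'
      rw [show 2 * -(γ * b) - β * (a - β * b) =
        (2 * (-(γ * b) + a) - β * (a - β * b + b)) - (2 * a - β * b) by ring]
      exact lt_of_le_of_lt ((val P₀).map_sub _ _) (max_lt this hT1)
    · refine hq.trace_lt_one_of_uniformizer hβ he hgb hab ?_
      rw [← hq.mul_gen, map_mul, hz, hy, mul_one]
  set T1 := 2 * a - β * b
  set T2 := 2 * -(γ * b) - β * (a - β * b)
  have h2' : val P₀ (2 : L) ≤ 1 := by
    rw [show (2 : L) = algebraMap k L 2 by rw [map_ofNat]]; exact P₀.2.1 2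
  have hA : val P₀ a < 1 := by
    have := congrArg (val P₀) (show (β ^ 2 - 4 * γ) * a = (β * β - 2 * γ) * T1 + β * T2 by simp only [T1, T2]; ring)
    rw [map_mul, hd, one_mul] at this
    rw [this]
    refine lt_of_le_of_lt ((val P₀).map_add _ _) (max_lt ?_ ?_)
    · rw [map_mul]
      refine lt_of_le_of_lt (mul_le_of_le_one_left' (((val P₀).map_sub _ _).trans (max_le ?_ ?_))) hT1
      · rw [map_mul]; exact mul_le_one' hβ hβ
      · rw [map_mul]; exact mul_le_one' h2' hγ
    · rw [map_mul]; exact lt_of_le_of_lt (mul_le_of_le_one_left' hβ) hT2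
  have hB : val P₀ b < 1 := by
    have := congrArg (val P₀) (show (β ^ 2 - 4 * γ) * b = β * T1 + 2 * T2 by simp only [T1, T2]; ring)
    rw [map_mul, hd, one_mul] at this
    rw [this]
    refine lt_of_le_of_lt ((val P₀).map_add _ _) (max_lt ?_ ?_)
    · rw [map_mul]; exact lt_of_le_of_lt (mul_le_of_le_one_left' hβ) hT1
    · rw [map_mul]; exact lt_of_le_of_lt (mul_le_of_le_one_left' h2') hT2
  have hsq : ∀ c : L, val P₀ c < 1 → val P (algebraMap L K c) ≤ exp (-2) := fun c hc => by
    rw [show val P (algebraMap L K c) = _ from he c, show (-2 : ℤ) = 2 • (-1 : ℤ) by norm_num, exp_nsmul]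
    refine pow_le_pow_left₀ zero_le ?_ 2
    rw [show (-1 : ℤ) = 0 - 1 by norm_num, le_exp_sub_one_iff, exp_zero]
    exact hc
  have hle : val P (algebraMap L K a + algebraMap L K b * y) ≤ exp (-2) := by
    refine ((val P).map_add _ _).trans (max_le (hsq a hA) ?_)
    rw [map_mul]; exact (mul_le_of_le_one_right' hy1).trans (hsq b hB)
  rw [hz, exp_le_exp] at hle
  omega

/-- Scaled form of `bound_iff`. -/
theorem bound_iff_exp (hq : IsQuad y β γ) (h : IsFG k L) (P₀ : Place k L) {m : ℤ}
    (hβ : val P₀ β ≤ exp m) (hγ : val P₀ γ ≤ exp (2 * m))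
    (hd : val P₀ (β ^ 2 - 4 * γ) = exp (2 * m)) (a b : L) (n : ℤ) :
    ((∀ (P : Place k K) (e : ℕ), IsOverWith P P₀ e →
        val P (algebraMap L K a + algebraMap L K b * y) ≤ exp ((e : ℤ) * n)) ↔
      val P₀ a ≤ exp n ∧ val P₀ b ≤ exp (n - m)) ∧
    ∀ P : Place k K, IsOver P P₀ → IsOverWith P P₀ 1 := by
  obtain ⟨c, hc0, hc⟩ := exists_val_eq P₀ m
  obtain ⟨d, hd0, hdv⟩ := exists_val_eq P₀ n
  have hc' : algebraMap L K c ≠ 0 := by rwa [_root_.map_ne_zero]
  have hd' : algebraMap L K d ≠ 0 := by rwa [_root_.map_ne_zero]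
  have hq' := hq.scale hc0
  have hce : ∀ x : L, ∀ j : ℤ, val P₀ x ≤ exp j ↔ ∀ u : L, val P₀ u = exp j → val P₀ (x / u) ≤ 1 :=
    fun x j => ⟨fun hx u hu => by
      rw [map_div₀, hu]; exact (div_le_one₀ (zero_lt_iff.mpr exp_ne_zero)).mpr hx, fun hall => by
      obtain ⟨u, -, hu⟩ := exists_val_eq P₀ j
      have := hall u hu
      rwa [map_div₀, hu, div_le_one₀ (zero_lt_iff.mpr exp_ne_zero)] at this⟩
  have hβ' : val P₀ (β / c) ≤ 1 := (hce β m).mp hβ c hc
  have hcc : val P₀ (c ^ 2) = exp (2 * m) := by rw [map_pow, hc, ← exp_nsmul]; simp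
  have hγ' : val P₀ (γ / c ^ 2) ≤ 1 := (hce γ _).mp hγ _ hcc
  have hdisc : val P₀ ((β / c) ^ 2 - 4 * (γ / c ^ 2)) = 1 := by
    rw [show (β / c) ^ 2 - 4 * (γ / c ^ 2) = (β ^ 2 - 4 * γ) / c ^ 2 by field_simp, map_div₀, hd, hcc,
      div_self exp_ne_zero]
  refine ⟨?_, fun P hP => hq'.unramified h P₀ hβ' hγ' hdisc hP⟩
  have hiff := hq'.bound_iff h P₀ hβ' hγ' hdisc (a / d) (b * c / d)
  have heq : algebraMap L K (a / d) + algebraMap L K (b * c / d) * (y / algebraMap L K c) =
      (algebraMap L K a + algebraMap L K b * y) / algebraMap L K d := by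
    rw [map_div₀, map_div₀, map_mul]
    field_simp
  rw [heq] at hiff
  have hdP : ∀ (P : Place k K) (e : ℕ), IsOverWith P P₀ e → val P (algebraMap L K d) = exp ((e : ℤ) * n) :=
    fun P e he => by rw [show val P (algebraMap L K d) = _ from he d, show P₀.1 d = exp n from hdv, ← exp_nsmul]; simp
  have hl : (∀ (P : Place k K) (e : ℕ), IsOverWith P P₀ e →
        val P (algebraMap L K a + algebraMap L K b * y) ≤ exp ((e : ℤ) * n)) ↔
      ∀ P : Place k K, IsOver P P₀ → val P ((algebraMap L K a + algebraMap L K b * y) / algebraMap L K d) ≤ 1 := by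
    refine ⟨fun hall P ⟨e, he⟩ => ?_, fun hall P e he => ?_⟩
    · rw [map_div₀, hdP P e he]; exact (div_le_one₀ (zero_lt_iff.mpr exp_ne_zero)).mpr (hall P e he)
    · have := hall P ⟨e, he⟩
      rwa [map_div₀, hdP P e he, div_le_one₀ (zero_lt_iff.mpr exp_ne_zero)] at this
  rw [hl, hiff, map_div₀ (val P₀) a, map_div₀ (val P₀) (b * c), map_mul, hdv, hc,
    div_le_one₀ (zero_lt_iff.mpr exp_ne_zero), div_le_one₀ (zero_lt_iff.mpr exp_ne_zero),
    show (exp n : WithZero (Multiplicative ℤ)) = exp (n - m) * exp m by rw [← exp_add, sub_add_cancel],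
    mul_le_mul_iff_left₀ (zero_lt_iff.mpr (exp_ne_zero (a := m)))]

/-- At a place where `y` has odd order above, `1, y` separate by parity. -/
theorem odd_iff (hq : IsQuad y β γ) (h : IsFG k L) (P₀ : Place k L) {j : ℤ} (hj : Odd j)
    (hy : ∀ (P : Place k K) (e : ℕ), IsOverWith P P₀ e → 2 * P.ord y = (e : ℤ) * j) (a b : L) (n : ℤ) :
    (∀ P : Place k K, IsOver P P₀ → IsOverWith P P₀ 2 ∧ P.deg = P₀.deg) ∧ (∃! P : Place k K, IsOver P P₀) ∧
    ((∀ (P : Place k K) (e : ℕ), IsOverWith P P₀ e →
        val P (algebraMap L K a + algebraMap L K b * y) ≤ exp ((e : ℤ) * n)) ↔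
      val P₀ a ≤ exp n ∧ val P₀ b ≤ exp (n + j / 2)) := by
  haveI := hq.finite
  obtain ⟨hu, hall⟩ := hq.ramified h P₀ fun P e he he1 => by
    subst he1
    have := hy P 1 he
    obtain ⟨r, hr⟩ := hj
    push_cast at this
    omega
  refine ⟨hall, hu, ?_⟩
  obtain ⟨P, hP, huniq⟩ := hu
  have he := (hall P hP).1
  have hy0 : y ≠ 0 := fun h0 => hq.not_mem ⟨0, by rw [h0, map_zero]⟩
  have hyv : val P y = exp (-j) := by
    have := hy P 2 he
    rw [val_eq P hy0]; congr 1; push_cast at this; omega
  obtain ⟨r, hr⟩ := hj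
  have hsplit : val P (algebraMap L K a + algebraMap L K b * y) =
      max (val P (algebraMap L K a)) (val P (algebraMap L K b * y)) := by
    rcases eq_or_ne a 0 with rfl | ha
    · simp
    rcases eq_or_ne b 0 with rfl | hb
    · simp
    refine (val P).map_add_of_distinct_val fun heq => ?_
    rw [map_mul, hyv, show val P (algebraMap L K a) = _ from he a, show val P (algebraMap L K b) = _ from he b,
      show P₀.1 a = exp (-P₀.ord a) from val_eq P₀ ha, show P₀.1 b = exp (-P₀.ord b) from val_eq P₀ hb,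
      ← exp_nsmul, ← exp_nsmul, ← exp_add, exp_inj, nsmul_eq_mul, nsmul_eq_mul] at heq
    push_cast at heq
    omega
  have hboth : val P (algebraMap L K a + algebraMap L K b * y) ≤ exp (((2 : ℕ) : ℤ) * n) ↔
      val P₀ a ≤ exp n ∧ val P₀ b ≤ exp (n + j / 2) := by
    rw [hsplit, max_le_iff]
    refine and_congr ?_ ?_
    · rcases eq_or_ne a 0 with rfl | ha
      · simp
      rw [show val P (algebraMap L K a) = _ from he a, show P₀.1 a = exp (-P₀.ord a) from val_eq P₀ ha,
        ← exp_nsmul, exp_le_exp, exp_le_exp, nsmul_eq_mul]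
      push_cast; omega
    · rcases eq_or_ne b 0 with rfl | hb
      · simp
      rw [map_mul, hyv, show val P (algebraMap L K b) = _ from he b,
        show P₀.1 b = exp (-P₀.ord b) from val_eq P₀ hb, ← exp_nsmul, ← exp_add,
        exp_le_exp, exp_le_exp, nsmul_eq_mul]
      push_cast; omega
  refine ⟨fun hz => hboth.mp (hz P 2 he), fun hab P' e' he' => ?_⟩
  obtain rfl := huniq P' ⟨e', he'⟩
  obtain rfl := (isOverWith_unique he' he).2
  exact hboth.mpr hab

end IsQuad

end GrothLib.FunFld
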