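import Groth.Agent.Lib.FunFld.Conseq
import Groth.Agent.Lib.FunFld.Approx
import Groth.Agent.Lib.FunFld.RR
import Mathlib.FieldTheory.RatFunc.IntermediateField

/-!
Places of the rational function field.
-/

set_option autoImplicit false
set_option linter.style.haveILetI false
set_option linter.unusedSectionVars false

namespace GrothLib.FunFld

open _root_.FunFld WithZero Polynomial

variable {k : Type*} [Field k]

local notation "ι" => algebraMap k[X] (RatFunc k)

theorem isFunctionField_ratFunc : IsFunctionField k (RatFunc k) := by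
  refine ⟨⟨RatFunc.X, RatFunc.transcendental_X, ?_⟩, fun y hy => ?_⟩
  · rw [RatFunc.adjoin_X]
    exact Module.Finite.of_surjective (Algebra.linearMap (⊤ : IntermediateField k (RatFunc k)) (RatFunc k))
      fun z => ⟨⟨z, trivial⟩, rfl⟩
  · by_cases hc : ∃ c, y = RatFunc.C c
    · obtain ⟨c, rfl⟩ := hc
      exact ⟨c, rfl⟩
    · exfalso
      haveI : Algebra.IsAlgebraic k (IntermediateField.adjoin k ({y} : Set (RatFunc k))) :=
        (IntermediateField.isAlgebraic_adjoin_iff_isAlgebraic k (RatFunc k)).mpr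
          fun z hz => by rw [Set.mem_singleton_iff.mp hz]; exact hy
      exact RatFunc.transcendental_X
        (IsAlgebraic.restrictScalars k (RatFunc.isAlgebraic_adjoin_simple_X y hc))

theorem isFG_ratFunc : IsFG k (RatFunc k) := IsFG.of_isFunctionField isFunctionField_ratFunc

theorem aeval_X_eq (p : k[X]) : aeval (RatFunc.X : RatFunc k) p = ι p :=
  RatFunc.aeval_X_left_eq_algebraMap p

theorem inf_props {P : Place k (RatFunc k)} (hP : P.ord (RatFunc.X : RatFunc k) < 0) :
    P.deg = 1 ∧ P.ord (RatFunc.X : RatFunc k) = -1 ∧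
      (∀ Q : Place k (RatFunc k), Q ≠ P → 0 ≤ Q.ord (RatFunc.X : RatFunc k)) ∧
      genus k (RatFunc k) = 0 := by
  obtain ⟨hg, P', h1, h2, h3⟩ := of_adjoin_eq_top isFunctionField_ratFunc (RatFunc.adjoin_X (K := k))
  obtain rfl : P = P' := by
    by_contra hne
    exact absurd (h3 P hne) (not_le.mpr hP)
  exact ⟨h1, h2, h3, hg⟩

theorem exists_inf : ∃ P : Place k (RatFunc k), P.ord (RatFunc.X : RatFunc k) < 0 :=
  isFG_ratFunc.exists_pole RatFunc.transcendental_X

theorem val_X_le_one {P : Place k (RatFunc k)} (hP : 0 ≤ P.ord (RatFunc.X : RatFunc k)) :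
    val P (RatFunc.X : RatFunc k) ≤ 1 :=
  (val_le_one_iff P RatFunc.X_ne_zero).mpr hP

theorem val_poly_le_one {P : Place k (RatFunc k)} (hP : 0 ≤ P.ord (RatFunc.X : RatFunc k)) (p : k[X]) :
    val P (ι p) ≤ 1 := by
  rw [← aeval_X_eq, aeval_eq_sum_range]
  refine (val P).map_sum_le fun i _ => ?_
  rw [Algebra.smul_def, map_mul, map_pow]
  exact mul_le_one' (P.2.1 _) (pow_le_one₀ zero_le (val_X_le_one hP))

theorem ord_poly_inf {P : Place k (RatFunc k)} (hP : P.ord (RatFunc.X : RatFunc k) < 0) {p : k[X]}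
    (hp : p ≠ 0) : P.ord (ι p) = -(p.natDegree : ℤ) := by
  have hX : val P (RatFunc.X : RatFunc k) = exp 1 := by
    rw [val_eq P RatFunc.X_ne_zero, (inf_props hP).2.1, neg_neg]
  have hlead : val P (algebraMap k (RatFunc k) (p.coeff p.natDegree)) = 1 :=
    val_const P (leadingCoeff_ne_zero.mpr hp)
  refine ord_eq_of_val_eq P ?_ |>.trans (by ring : -(p.natDegree : ℤ) = -(p.natDegree : ℤ))
  rw [← aeval_X_eq, aeval_eq_sum_range, Finset.sum_range_succ]
  have hlast : val P (p.coeff p.natDegree • (RatFunc.X : RatFunc k) ^ p.natDegree) = exp (p.natDegree : ℤ) := by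
    rw [Algebra.smul_def, map_mul, map_pow, hlead, one_mul, hX, ← exp_nsmul]; simp
  rw [(val P).map_add_eq_of_lt_right, hlast]
  rw [hlast]
  refine (val P).map_sum_lt exp_ne_zero fun i hi => ?_
  rw [Algebra.smul_def, map_mul, map_pow, hX, ← exp_nsmul]
  refine (mul_le_of_le_one_left' (P.2.1 _)).trans_lt ?_
  rw [exp_lt_exp]
  simpa using Finset.mem_range.mp hi

/-- The prime of a finite place. -/
theorem exists_prime {P : Place k (RatFunc k)} (hP : 0 ≤ P.ord (RatFunc.X : RatFunc k)) :
    ∃ p : k[X], Irreducible p ∧ P.ord (ι p) = 1 ∧ ∀ q : k[X], q ≠ 0 → (0 < P.ord (ι q) ↔ p ∣ q) := by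
  classical
  let I : Ideal k[X] :=
    { carrier := {q | val P (ι q) < 1}
      add_mem' := fun {a b} ha hb => by
        show val P (ι (a + b)) < 1
        rw [map_add]; exact lt_of_le_of_lt ((val P).map_add _ _) (max_lt ha hb)
      zero_mem' := by simp
      smul_mem' := fun c a ha => by
        show val P (ι (c * a)) < 1
        rw [map_mul, map_mul]
        exact lt_of_le_of_lt (mul_le_of_le_one_left' (val_poly_le_one hP c)) ha }
  have hImem : ∀ q, q ∈ I ↔ val P (ι q) < 1 := fun q => Iff.rfl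
  haveI hprime : I.IsPrime := by
    refine Ideal.isPrime_iff.mpr ⟨fun h => ?_, fun {a b} hab => ?_⟩
    · have h1 : val P (ι 1) < 1 := (hImem 1).mp (h ▸ Submodule.mem_top)
      rw [map_one, map_one] at h1; exact lt_irrefl _ h1
    · rw [hImem, map_mul, map_mul] at hab
      rw [hImem, hImem]
      by_contra h
      push_neg at h
      exact not_le.mpr hab (one_le_mul h.1 h.2)
  obtain ⟨p, hp⟩ := (IsPrincipalIdealRing.principal I).principal
  have hne : I ≠ ⊥ := by
    intro h
    have hall : ∀ q : k[X], q ≠ 0 → val P (ι q) = 1 := fun q hq => by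
      refine le_antisymm (val_poly_le_one hP q) (not_lt.mp fun hlt => hq ?_)
      simpa [h] using (hImem q).mpr hlt
    obtain ⟨t, ht0, ht⟩ := exists_val_eq P (-1)
    rw [← RatFunc.num_div_denom t, map_div₀, hall _ (RatFunc.num_ne_zero ht0), hall _ t.denom_ne_zero,
      div_one, ← exp_zero, exp_inj] at ht
    omega
  have hp0 : p ≠ 0 := fun h => hne (by rw [hp, h]; exact Submodule.span_zero_singleton _)
  have hpirr : Irreducible p := by
    refine (Ideal.span_singleton_prime hp0).mp ?_ |>.irreducible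
    exact (show I = Ideal.span {p} from hp) ▸ hprime
  have hiff : ∀ q : k[X], q ≠ 0 → (0 < P.ord (ι q) ↔ p ∣ q) := fun q hq => by
    rw [← val_lt_one_iff P (RatFunc.algebraMap_ne_zero hq), ← hImem, hp]
    exact Ideal.mem_span_singleton
  refine ⟨p, hpirr, ?_, hiff⟩
  -- every order is a multiple of the order of `p`
  have hpo : 0 < P.ord (ι p) := (hiff p hp0).mpr dvd_rfl
  have hdiv : ∀ q : k[X], q ≠ 0 → P.ord (ι p) ∣ P.ord (ι q) := by
    intro q hq
    induction hn : q.natDegree using Nat.strong_induction_on generalizing q with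
    | _ n ih =>
      by_cases hd : p ∣ q
      · obtain ⟨r, rfl⟩ := hd
        have hr : r ≠ 0 := right_ne_zero_of_mul hq
        rw [map_mul, ord_mul P (RatFunc.algebraMap_ne_zero hp0) (RatFunc.algebraMap_ne_zero hr)]
        refine dvd_add dvd_rfl (ih _ ?_ r hr rfl)
        rw [← hn, natDegree_mul hp0 hr]
        have := hpirr.natDegree_pos
        omega
      · have h1 : ¬ 0 < P.ord (ι q) := fun h => hd ((hiff q hq).mp h)
        have h2 := (val_le_one_iff P (RatFunc.algebraMap_ne_zero hq)).mp (val_poly_le_one hP q)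
        rw [show P.ord (ι q) = 0 by omega]
        exact dvd_zero _
  obtain ⟨t, ht0, ht⟩ := exists_val_eq P (-1)
  have h1 : P.ord t = 1 := by simpa using ord_eq_of_val_eq P ht
  have hsum : P.ord (ι t.num) = P.ord t + P.ord (ι t.denom) := by
    rw [← ord_mul P ht0 (RatFunc.algebraMap_ne_zero t.denom_ne_zero)]
    congr 1
    conv_rhs => arg 1; rw [← RatFunc.num_div_denom t]
    rw [div_mul_cancel₀ _ (RatFunc.algebraMap_ne_zero t.denom_ne_zero)]
  have hd1 : P.ord (ι p) ∣ 1 := by
    have := dvd_sub (hdiv _ (RatFunc.num_ne_zero ht0)) (hdiv _ t.denom_ne_zero)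
    rwa [hsum, h1, add_sub_cancel_right] at this
  exact Int.eq_one_of_dvd_one hpo.le hd1

theorem ord_squarefree_le_one {P : Place k (RatFunc k)} (hP : 0 ≤ P.ord (RatFunc.X : RatFunc k)) {f : k[X]}
    (hf : Squarefree f) : 0 ≤ P.ord (ι f) ∧ P.ord (ι f) ≤ 1 := by
  have hf0 := hf.ne_zero
  refine ⟨(val_le_one_iff P (RatFunc.algebraMap_ne_zero hf0)).mp (val_poly_le_one hP f), not_lt.mp fun h => ?_⟩
  obtain ⟨p, hp, hp1, hiff⟩ := exists_prime hP
  obtain ⟨r, rfl⟩ := (hiff f hf0).mp (by omega)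
  have hr := right_ne_zero_of_mul hf0
  rw [map_mul, ord_mul P (RatFunc.algebraMap_ne_zero hp.ne_zero) (RatFunc.algebraMap_ne_zero hr), hp1] at h
  obtain ⟨s, rfl⟩ := (hiff r hr).mp (by omega)
  exact hp.not_isUnit (hf p ⟨s, by ring⟩)

theorem exists_finite_place_of_irreducible {p : k[X]} (hp : Irreducible p) :
    ∃ P : Place k (RatFunc k), 0 ≤ P.ord (RatFunc.X : RatFunc k) ∧ 0 < P.ord (ι p) := by
  have ht : Transcendental k (ι p) := by
    rw [← aeval_X_eq]
    exact RatFunc.transcendental_X.aeval p hp.natDegree_pos.ne'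
      (mem_nonZeroDivisors_of_ne_zero (leadingCoeff_ne_zero.mpr hp.ne_zero))
  obtain ⟨P, hP⟩ := isFG_ratFunc.exists_zero ht
  refine ⟨P, not_lt.mp fun h => ?_, hP⟩
  rw [ord_poly_inf h hp.ne_zero] at hP
  omega

end GrothLib.FunFld
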