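import Groth.Agent.Lib.FunFld.QuadExt
import Groth.Agent.Lib.FunFld.RatLine

/-!
The genus of a double cover of the rational line.
-/

set_option autoImplicit false
set_option linter.style.haveILetI false
set_option linter.unusedSectionVars false

namespace GrothLib.FunFld

open _root_.FunFld WithZero Polynomial

variable {k K : Type*} [Field k] [Field K] [Algebra k K] [Algebra (RatFunc k) K]
  [IsScalarTower k (RatFunc k) K]

namespace IsQuad

variable {y : K} {β γ : RatFunc k}

/-- The bounded functions split along `1, y`. -/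
def Splits (y : K) (E : Divisor k (RatFunc k)) : Prop :=
  ∀ (P₀ : Place k (RatFunc k)) (a b : RatFunc k) (n : ℤ),
    (∀ (P : Place k K) (e : ℕ), IsOverWith P P₀ e →
        val P (algebraMap (RatFunc k) K a + algebraMap (RatFunc k) K b * y) ≤ exp ((e : ℤ) * n)) ↔
      val P₀ a ≤ exp n ∧ val P₀ b ≤ exp (n - E P₀)

theorem mem_L_conorm_iff (hq : IsQuad y β γ) {E : Divisor k (RatFunc k)} (hE : Splits y E)
    (D : Divisor k (RatFunc k)) (a b : RatFunc k) :
    algebraMap (RatFunc k) K a + algebraMap (RatFunc k) K b * y ∈ L (conorm K D) ↔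
      a ∈ L D ∧ b ∈ L (D - E) := by
  haveI := hq.finite
  refine ⟨fun hz => ?_, fun hab P => ?_⟩
  · have key : ∀ P₀, val P₀ a ≤ exp (D P₀) ∧ val P₀ b ≤ exp (D P₀ - E P₀) := fun P₀ =>
      (hE P₀ a b _).mp fun P e he => by
        have := hz P
        rwa [conorm_apply isFG_ratFunc he] at this
    exact ⟨fun P₀ => (key P₀).1, fun P₀ => by rw [Finsupp.sub_apply]; exact (key P₀).2⟩
  · obtain ⟨P₀, e, -, he⟩ := exists_isOverWith (K := RatFunc k) P
    rw [conorm_apply isFG_ratFunc he]
    refine (hE P₀ a b (D P₀)).mpr ⟨hab.1 P₀, ?_⟩ P e he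
    have := hab.2 P₀
    rwa [Finsupp.sub_apply] at this

theorem algebraic_mem_range (hq : IsQuad y β γ) {E : Divisor k (RatFunc k)} (hE : Splits y E)
    (hpos : 0 < E.deg) (z : K) (hz : IsAlgebraic k z) : z ∈ Set.range (algebraMap k K) := by
  haveI := hq.finite
  obtain ⟨a, b, rfl⟩ := hq.exists_coeff z
  have hmem : algebraMap (RatFunc k) K a + algebraMap (RatFunc k) K b * y ∈
      L (conorm K (0 : Divisor k (RatFunc k))) := fun P => by
    rw [conorm_zero, Finsupp.zero_apply, exp_zero]
    rcases eq_or_ne (algebraMap (RatFunc k) K a + algebraMap (RatFunc k) K b * y) 0 with h0 | h0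
    · rw [h0, map_zero]; exact zero_le
    · exact (val_eq_one_of_isAlgebraic P hz h0).le
  obtain ⟨ha, hb⟩ := (hq.mem_L_conorm_iff hE _ a b).mp hmem
  rw [L_zero_eq_one isFunctionField_ratFunc] at ha
  obtain ⟨c, hc⟩ := Submodule.mem_one.mp ha
  rw [isFG_ratFunc.L_eq_bot_of_deg_neg (by rw [deg_sub, deg_zero]; omega), Submodule.mem_bot] at hb
  refine ⟨c, ?_⟩
  rw [hb, map_zero, zero_mul, add_zero, ← hc, ← IsScalarTower.algebraMap_apply]

theorem genus_eq (hq : IsQuad y β γ) {E : Divisor k (RatFunc k)} (hE : Splits y E)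
    (hK : IsFunctionField k K) : (genus k K : ℤ) = E.deg - 1 := by
  classical
  haveI := hq.finite
  obtain ⟨N₁, hN₁⟩ := exists_delta_eq_genus_of_deg (isFunctionField_ratFunc (k := k))
  obtain ⟨N₂, hN₂⟩ := exists_delta_eq_genus_of_deg hK
  obtain ⟨Pinf, hinf⟩ := exists_inf (k := k)
  obtain ⟨hd1, -, -, hg0⟩ := inf_props hinf
  rw [hg0] at hN₁
  set N : ℤ := |N₁| + |N₂| + |E.deg|
  set D : Divisor k (RatFunc k) := Finsupp.single Pinf N
  have hDdeg : D.deg = N := by rw [deg_single, hd1]; simp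
  have a1 := abs_nonneg N₁
  have a2 := abs_nonneg N₂
  have a3 := abs_nonneg E.deg
  have b1 := le_abs_self N₁
  have b2 := le_abs_self N₂
  have b3 := le_abs_self E.deg
  have h1 := hN₁ D (by omega)
  have h2 := hN₁ (D - E) (by rw [deg_sub]; omega)
  have h3 := hN₂ (conorm K D) (by rw [deg_conorm isFG_ratFunc, hq.finrank_eq]; push_cast; omega)
  simp only [delta, deg_sub, deg_conorm isFG_ratFunc, hq.finrank_eq, hDdeg] at h1 h2 h3
  haveI := isFG_ratFunc.finite_L D
  haveI := isFG_ratFunc.finite_L (D - E)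
  let f : (L D × L (D - E)) →ₗ[k] L (conorm K D) :=
    { toFun := fun p => ⟨_, (hq.mem_L_conorm_iff hE D (p.1 : RatFunc k) (p.2 : RatFunc k)).mpr ⟨p.1.2, p.2.2⟩⟩
      map_add' := fun p q => Subtype.ext (by
        show algebraMap (RatFunc k) K ((p.1 : RatFunc k) + q.1) + algebraMap (RatFunc k) K ((p.2 : RatFunc k) + q.2) * y =
          algebraMap (RatFunc k) K p.1 + algebraMap (RatFunc k) K p.2 * y +
            (algebraMap (RatFunc k) K q.1 + algebraMap (RatFunc k) K q.2 * y)
        rw [map_add, map_add]; ring)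
      map_smul' := fun c p => Subtype.ext (by
        show algebraMap (RatFunc k) K (c • (p.1 : RatFunc k)) + algebraMap (RatFunc k) K (c • (p.2 : RatFunc k)) * y =
          c • (algebraMap (RatFunc k) K p.1 + algebraMap (RatFunc k) K p.2 * y)
        simp only [Algebra.smul_def, map_mul, ← IsScalarTower.algebraMap_apply k (RatFunc k) K]; ring) }
  have hf : Function.Bijective f := by
    refine ⟨fun p q hpq => ?_, fun z => ?_⟩
    · have := hq.coeff_unique (congrArg Subtype.val hpq)
      exact Prod.ext (Subtype.ext this.1) (Subtype.ext this.2)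
    · obtain ⟨a, b, hab⟩ := hq.exists_coeff (z : K)
      obtain ⟨ha, hb⟩ := (hq.mem_L_conorm_iff hE D a b).mp (hab ▸ z.2)
      exact ⟨(⟨a, ha⟩, ⟨b, hb⟩), Subtype.ext hab.symm⟩
  have hell : ell (conorm K D) = ell D + ell (D - E) := by
    rw [ell, ell, ell, ← (LinearEquiv.ofBijective f hf).finrank_eq, Module.finrank_prod]
  rw [hell] at h3
  push_cast at h1 h2 h3
  omega

end IsQuad

end GrothLib.FunFld
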