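import Groth.Agent.Lib.FunFld.Schmidt
import Mathlib.RingTheory.PowerSeries.Trunc
import Mathlib.Analysis.Complex.Polynomial.Basic

/-! The zeta function of a function field over a finite field. -/

namespace GrothLib.FunFld

open _root_.FunFld WithZero Polynomial

variable {k K : Type*} [Field k] [Field K] [Algebra k K] [Finite k]

theorem effDivCount_zero (h : IsFunctionField k K) : effDivCount k K 0 = 1 := by
  have hfg : IsFG k K := h.1
  have h0 : ∀ D : Divisor k K, 0 ≤ D → D.deg = 0 → D = 0 := fun D hD hd =>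
    (hfg.eq_of_le_of_deg_le hD (by rw [hd, deg_zero])).symm
  have : Unique {D : Divisor k K // 0 ≤ D ∧ D.deg = (0 : ℕ)} :=
    { default := ⟨0, le_rfl, deg_zero⟩
      uniq := fun D => Subtype.ext (h0 D.1 D.2.1 (by simpa using D.2.2)) }
  exact Nat.card_unique

theorem isEmpty_of_neg {n : ℤ} (hn : n < 0) : IsEmpty {D : Divisor k K // 0 ≤ D ∧ D.deg = n} :=
  ⟨fun D => by have := deg_nonneg D.2.1; rw [D.2.2] at this; omega⟩

section Classes

variable [Fintype (Cl0 k K)]

/-- `∑ q ^ ℓ` over the divisor classes of degree `n`. -/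
noncomputable def classSum (D₁ : Divisor k K) (n : ℤ) : ℚ :=
  ∑ c : Cl0 k K, (Nat.card k : ℚ) ^ ell (n • D₁ + (c.out : Divisor k K))

theorem out_deg (c : Cl0 k K) : (c.out : Divisor k K).deg = 0 :=
  (AddMonoidHom.mem_ker).1 c.out.2

theorem deg_class {D₁ : Divisor k K} (h : D₁.deg = 1) (n : ℤ) (c : Cl0 k K) :
    (n • D₁ + (c.out : Divisor k K)).deg = n := by
  rw [deg_add, out_deg, ← degHom_apply, map_zsmul, degHom_apply, h]; simp

theorem classSum_of_neg (h : IsFunctionField k K) {D₁ : Divisor k K} (hD₁ : D₁.deg = 1) {n : ℤ}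
    (hn : n < 0) : classSum D₁ n = classNum k K := by
  have hfg : IsFG k K := h.1
  have : ∀ c : Cl0 k K, ell (n • D₁ + (c.out : Divisor k K)) = 0 := fun c =>
    hfg.ell_eq_zero_of_deg_neg (by rw [deg_class hD₁]; exact hn)
  simp only [classSum, this, pow_zero, Finset.sum_const, Finset.card_univ, nsmul_eq_mul, mul_one]
  simp [classNum, Nat.card_eq_fintype_card]

theorem classSum_of_large (h : IsFunctionField k K) {D₁ : Divisor k K} (hD₁ : D₁.deg = 1) {n : ℤ}
    (hn : 2 * (genus k K : ℤ) - 1 ≤ n) :
    classSum D₁ n = classNum k K * (Nat.card k : ℚ) ^ (n + 1 - genus k K) := by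
  have : ∀ c : Cl0 k K, (Nat.card k : ℚ) ^ ell (n • D₁ + (c.out : Divisor k K)) =
      (Nat.card k : ℚ) ^ (n + 1 - genus k K) := fun c => by
    rw [← zpow_natCast, ell_eq_of_deg_ge h (by rw [deg_class hD₁]; exact hn), deg_class hD₁]
  simp only [classSum, this, Finset.sum_const, Finset.card_univ, nsmul_eq_mul]
  simp [classNum, Nat.card_eq_fintype_card]

/-- Riemann–Roch: the functional equation of the class sums. -/
theorem classSum_reflect (h : IsFunctionField k K) {D₁ : Divisor k K} (hD₁ : D₁.deg = 1) (n : ℤ) :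
    classSum D₁ n =
      (Nat.card k : ℚ) ^ (n + 1 - genus k K) * classSum D₁ (2 * genus k K - 2 - n) := by
  classical
  have hfg : IsFG k K := h.1
  have hq : (Nat.card k : ℚ) ≠ 0 := by
    have : 0 < Nat.card k := Nat.card_pos
    exact_mod_cast this.ne'
  obtain ⟨C, hC⟩ := exists_isCanonical h
  have hCd := (ell_canonical h hC).2
  have hmem : C - (2 * (genus k K : ℤ) - 2) • D₁ ∈ (degHom k K).ker := by
    rw [AddMonoidHom.mem_ker, degHom_apply, deg_sub, hCd, ← degHom_apply, map_zsmul, degHom_apply,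
      hD₁]
    simp
  let κ : Cl0 k K := QuotientAddGroup.mk ⟨_, hmem⟩
  rw [classSum, classSum, Finset.mul_sum,
    ← Equiv.sum_comp (Equiv.subLeft κ) (fun c => (Nat.card k : ℚ) ^ (n + 1 - genus k K) *
      (Nat.card k : ℚ) ^ ell ((2 * (genus k K : ℤ) - 2 - n) • D₁ + (c.out : Divisor k K)))]
  refine Finset.sum_congr rfl fun c _ => ?_
  set c' := Equiv.subLeft κ c with hc'
  have hsum : (QuotientAddGroup.mk (c.out + c'.out) : Cl0 k K) = κ := by
    rw [QuotientAddGroup.mk_add, QuotientAddGroup.out_eq', QuotientAddGroup.out_eq', hc']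
    simp
  have hp := QuotientAddGroup.eq.1 hsum
  rw [AddSubgroup.mem_addSubgroupOf] at hp
  obtain ⟨x, hx, hxd⟩ := (mem_prinDivs_iff hfg _).1 hp
  have he : ell ((2 * (genus k K : ℤ) - 2 - n) • D₁ + (c'.out : Divisor k K)) =
      ell (C - (n • D₁ + (c.out : Divisor k K))) := by
    rw [← hfg.ell_add_div ((2 * (genus k K : ℤ) - 2 - n) • D₁ + (c'.out : Divisor k K)) hx, hxd]
    congr 1
    push_cast
    rw [sub_smul (2 * (genus k K : ℤ) - 2) n D₁]
    abel
  have hrr := riemann_roch' h hC (n • D₁ + (c.out : Divisor k K))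
  rw [deg_class hD₁, ← he] at hrr
  rw [← zpow_natCast, ← zpow_natCast (Nat.card k : ℚ) (ell ((2 * (genus k K : ℤ) - 2 - n) • D₁ +
    (c'.out : Divisor k K))), ← zpow_add₀ hq]
  congr 1

/-- `a(n)` through class sums, for every integer `n`. -/
theorem count_eq_classSum (h : IsFunctionField k K) {D₁ : Divisor k K} (hD₁ : D₁.deg = 1) (n : ℤ) :
    ((Nat.card k : ℚ) - 1) * (if 0 ≤ n then (effDivCount k K n.toNat : ℚ) else 0) =
      classSum D₁ n - classNum k K := by
  split_ifs with hn
  · obtain ⟨m, rfl⟩ := Int.eq_ofNat_of_zero_le hn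
    have := effDivCount_mul h (n := m) (D₀ := (m : ℤ) • D₁)
      (by rw [← degHom_apply, map_zsmul, degHom_apply, hD₁]; simp)
    have e : ((((Nat.card k : ℤ) - 1) * (effDivCount k K m : ℤ) : ℤ) : ℚ) = _ := congrArg Int.cast this
    push_cast at e
    rw [Int.toNat_natCast, e, Finset.sum_sub_distrib, classSum]
    simp [classNum, Nat.card_eq_fintype_card]
  · rw [classSum_of_neg h hD₁ (not_le.1 hn), mul_zero, sub_self]

end Classes

theorem coeff_numerZ (n : ℕ) :
    ((PowerSeries.coeff n (numerZ k K) : ℤ) : ℚ) =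
      (effDivCount k K n : ℚ) - ((Nat.card k : ℚ) + 1) * (if 1 ≤ n then (effDivCount k K (n - 1) : ℚ) else 0)
        + (Nat.card k : ℚ) * (if 2 ≤ n then (effDivCount k K (n - 2) : ℚ) else 0) := by
  have e : numerZ k K = zetaZ k K - PowerSeries.C ((Nat.card k : ℤ) + 1) * (PowerSeries.X ^ 1 * zetaZ k K)
      + PowerSeries.C (Nat.card k : ℤ) * (PowerSeries.X ^ 2 * zetaZ k K) := by
    rw [numerZ, map_add, map_one]; ring
  rw [e, map_add (PowerSeries.coeff n), map_sub (PowerSeries.coeff n), PowerSeries.coeff_C_mul,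
    PowerSeries.coeff_C_mul, PowerSeries.coeff_X_pow_mul', PowerSeries.coeff_X_pow_mul']
  simp only [zetaZ, PowerSeries.coeff_mk]
  push_cast
  split_ifs <;> simp

section Main

variable [Fintype (Cl0 k K)]

theorem coeff_numerZ_classSum (h : IsFunctionField k K) {D₁ : Divisor k K} (hD₁ : D₁.deg = 1)
    (n : ℕ) :
    ((Nat.card k : ℚ) - 1) * ((PowerSeries.coeff n (numerZ k K) : ℤ) : ℚ) =
      classSum D₁ n - ((Nat.card k : ℚ) + 1) * classSum D₁ ((n : ℤ) - 1)
        + (Nat.card k : ℚ) * classSum D₁ ((n : ℤ) - 2) := by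
  have h0 := count_eq_classSum h hD₁ (n : ℤ)
  have h1 := count_eq_classSum h hD₁ ((n : ℤ) - 1)
  have h2 := count_eq_classSum h hD₁ ((n : ℤ) - 2)
  rw [if_pos (Int.natCast_nonneg n), Int.toNat_natCast] at h0
  have e1 : (if 0 ≤ (n : ℤ) - 1 then (effDivCount k K ((n : ℤ) - 1).toNat : ℚ) else 0) =
      if 1 ≤ n then (effDivCount k K (n - 1) : ℚ) else 0 := by
    split_ifs <;> first | rfl | omega | (congr 2; omega)
  have e2 : (if 0 ≤ (n : ℤ) - 2 then (effDivCount k K ((n : ℤ) - 2).toNat : ℚ) else 0) =
      if 2 ≤ n then (effDivCount k K (n - 2) : ℚ) else 0 := by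
    split_ifs <;> first | rfl | omega | (congr 2; omega)
  rw [e1] at h1
  rw [e2] at h2
  rw [coeff_numerZ]
  linear_combination h0 - ((Nat.card k : ℚ) + 1) * h1 + (Nat.card k : ℚ) * h2

end Main

theorem card_k_sub_one_ne_zero : ((Nat.card k : ℚ) - 1) ≠ 0 := by
  have : (1 : ℚ) < Nat.card k := by exact_mod_cast (Finite.one_lt_card : 1 < Nat.card k)
  linarith

theorem card_k_ne_zero : (Nat.card k : ℚ) ≠ 0 := by
  have : 0 < Nat.card k := Nat.card_pos
  exact_mod_cast this.ne'

theorem coeff_numerZ_eq_zero (h : IsFunctionField k K) {n : ℕ} (hn : 2 * genus k K < n) :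
    PowerSeries.coeff n (numerZ k K) = 0 := by
  have := finite_cl0 h
  let _ := Fintype.ofFinite (Cl0 k K)
  obtain ⟨D₁, hD₁⟩ := exists_divisor_deg_one h
  have e := coeff_numerZ_classSum h hD₁ n
  rw [classSum_of_large h hD₁ (by omega), classSum_of_large h hD₁ (by omega),
    classSum_of_large h hD₁ (by omega)] at e
  have hq := card_k_ne_zero (k := k)
  rw [show (n : ℤ) + 1 - genus k K = ((n : ℤ) - 2 + 1 - genus k K) + 1 + 1 by ring,
    show (n : ℤ) - 1 + 1 - genus k K = ((n : ℤ) - 2 + 1 - genus k K) + 1 by ring,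
    zpow_add_one₀ hq, zpow_add_one₀ hq] at e
  have e0 : ((Nat.card k : ℚ) - 1) * ((PowerSeries.coeff n (numerZ k K) : ℤ) : ℚ) = 0 := by
    rw [e]; ring
  have := (mul_eq_zero.1 e0).resolve_left card_k_sub_one_ne_zero
  exact_mod_cast this

theorem coeff_numerZ_reflect (h : IsFunctionField k K) {i : ℕ} (hi : i ≤ 2 * genus k K) :
    (((PowerSeries.coeff (2 * genus k K - i) (numerZ k K) : ℤ)) : ℚ) =
      (Nat.card k : ℚ) ^ ((genus k K : ℤ) - i) * (((PowerSeries.coeff i (numerZ k K) : ℤ)) : ℚ) := by
  have := finite_cl0 h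
  let _ := Fintype.ofFinite (Cl0 k K)
  obtain ⟨D₁, hD₁⟩ := exists_divisor_deg_one h
  refine mul_left_cancel₀ (card_k_sub_one_ne_zero (k := k)) ?_
  rw [mul_left_comm, coeff_numerZ_classSum h hD₁, coeff_numerZ_classSum h hD₁,
    Nat.cast_sub hi]
  push_cast
  set g := (genus k K : ℤ) with hg
  have hq := card_k_ne_zero (k := k)
  rw [classSum_reflect h hD₁ (2 * g - i), classSum_reflect h hD₁ (2 * g - i - 1),
    classSum_reflect h hD₁ (2 * g - i - 2)]
  rw [← hg, show 2 * g - 2 - (2 * g - i) = (i : ℤ) - 2 by ring,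
    show 2 * g - 2 - (2 * g - i - 1) = (i : ℤ) - 1 by ring,
    show 2 * g - 2 - (2 * g - i - 2) = (i : ℤ) by ring,
    show 2 * g - i + 1 - g = g - i + 1 by ring, show 2 * g - i - 1 + 1 - g = g - i by ring,
    show 2 * g - i - 2 + 1 - g = g - i - 1 by ring,
    zpow_add_one₀ hq, zpow_sub_one₀ hq]
  field_simp
  ring

theorem coeff_numerZ_top (h : IsFunctionField k K) :
    PowerSeries.coeff (2 * genus k K) (numerZ k K) = (Nat.card k : ℤ) ^ genus k K := by
  have h0 := coeff_numerZ_reflect h (i := 0) (Nat.zero_le _)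
  rw [coeff_numerZ 0, if_neg (by omega), if_neg (by omega), effDivCount_zero h] at h0
  simp only [Nat.sub_zero, Nat.cast_one, mul_zero, sub_zero, add_zero, mul_one, Nat.cast_zero,
    zpow_natCast] at h0
  exact_mod_cast h0

/-- The numerator as a polynomial. -/
noncomputable def numerPoly (k K : Type*) [Field k] [Field K] [Algebra k K] : ℤ[X] :=
  PowerSeries.trunc (2 * genus k K + 1) (numerZ k K)

theorem coeff_numerPoly (h : IsFunctionField k K) (n : ℕ) :
    (numerPoly k K).coeff n = PowerSeries.coeff n (numerZ k K) := by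
  rw [numerPoly, PowerSeries.coeff_trunc]
  split_ifs with hn
  · rfl
  · rw [coeff_numerZ_eq_zero h (by omega)]

theorem coe_numerPoly (h : IsFunctionField k K) :
    (numerPoly k K : PowerSeries ℤ) = numerZ k K := by
  ext n; rw [Polynomial.coeff_coe, coeff_numerPoly h]

theorem natDegree_numerPoly (h : IsFunctionField k K) :
    (numerPoly k K).natDegree = 2 * genus k K := by
  refine natDegree_eq_of_le_of_coeff_ne_zero (natDegree_le_iff_coeff_eq_zero.2 fun n hn => ?_) ?_
  · rw [coeff_numerPoly h, coeff_numerZ_eq_zero h hn]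
  · rw [coeff_numerPoly h, coeff_numerZ_top h]
    exact pow_ne_zero _ (by exact_mod_cast (Nat.card_pos (α := k)).ne')

theorem numerPoly_eval_one (h : IsFunctionField k K) :
    (numerPoly k K).eval 1 = (classNum k K : ℤ) := by
  set g := genus k K
  set q := (Nat.card k : ℤ)
  let a : ℕ → ℤ := fun n => effDivCount k K n
  have hpart : ∀ N : ℕ, ∑ n ∈ Finset.range (N + 2), PowerSeries.coeff n (numerZ k K) =
      a (N + 1) - q * a N := by
    intro N
    have hco : ∀ n, PowerSeries.coeff (n + 2) (numerZ k K) = a (n + 2) - (q + 1) * a (n + 1) + q * a n := by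
      intro n
      have := coeff_numerZ (k := k) (K := K) (n + 2)
      rw [if_pos (by omega), if_pos (by omega), show n + 2 - 1 = n + 1 by omega,
        show n + 2 - 2 = n by omega] at this
      apply Int.cast_injective (α := ℚ)
      simp only [a, q]
      push_cast
      exact this
    induction N with
    | zero =>
      have c0 : PowerSeries.coeff 0 (numerZ k K) = a 0 := by
        have := coeff_numerZ (k := k) (K := K) 0
        rw [if_neg (by omega), if_neg (by omega), mul_zero, mul_zero, sub_zero, add_zero] at this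
        exact_mod_cast this
      have c1 : PowerSeries.coeff 1 (numerZ k K) = a 1 - (q + 1) * a 0 := by
        have := coeff_numerZ (k := k) (K := K) 1
        rw [if_pos le_rfl, if_neg (by omega), mul_zero, add_zero] at this
        apply Int.cast_injective (α := ℚ)
        simp only [a, q]
        push_cast
        exact this
      rw [Finset.sum_range_succ, Finset.sum_range_one, c0, c1]; ring
    | succ N ih => rw [Finset.sum_range_succ, ih, hco]; ring
  obtain ⟨D₁, hD₁⟩ := exists_divisor_deg_one h
  have hlarge : ∀ n : ℕ, 2 * g ≤ n + 1 → (q - 1) * a n = classNum k K * (q ^ (n + 1 - g) - 1) :=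
    fun n hn => effDivCount_of_large h hn (D₀ := n • D₁) (by rw [deg_nsmul, hD₁, mul_one])
  rw [eval_eq_sum_range' (n := 2 * g + 2) (by rw [natDegree_numerPoly h]; omega)]
  simp only [one_pow, mul_one, coeff_numerPoly h]
  rw [hpart]
  have h1 := hlarge (2 * g + 1) (by omega)
  have h2 := hlarge (2 * g) (by omega)
  rw [show 2 * g + 1 + 1 - g = g + 2 by omega] at h1
  rw [show 2 * g + 1 - g = g + 1 by omega] at h2
  refine mul_left_cancel₀ (a := q - 1) (by
    have : (1 : ℤ) < q := Int.ofNat_lt.2 (Finite.one_lt_card : 1 < Nat.card k)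
    omega) ?_
  linear_combination h1 - q * h2

end GrothLib.FunFld

namespace GrothLib.FunFld

open Polynomial

/-- Add a mirrored pair at the ends. -/
theorem extend_pairing {q : ℂ} {m : ℕ} (α : Fin m → ℂ) (x y : ℂ) (hxy : x * y = q)
    (hpair : ∀ i, α i * α (Fin.rev i) = q) :
    ∃ β : Fin (m + 2) → ℂ, Finset.univ.val.map β = x ::ₘ y ::ₘ Finset.univ.val.map α ∧
      ∀ i, β i * β (Fin.rev i) = q := by
  refine ⟨Fin.cons x (Fin.snoc α y), ?_, fun i => ?_⟩
  · rw [Fin.univ_val_map, Fin.univ_val_map, List.ofFn_succ, List.ofFn_succ']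
    simp only [Fin.cons_zero, Fin.cons_succ, Fin.snoc_castSucc, Fin.snoc_last, List.concat_eq_append]
    rw [Multiset.cons_coe, Multiset.cons_coe]
    exact Multiset.coe_eq_coe.2 (List.Perm.cons x (List.perm_append_singleton y _))
  · induction i using Fin.cases with
    | zero => rw [Fin.rev_zero, Fin.cons_zero, ← Fin.succ_last, Fin.cons_succ, Fin.snoc_last, hxy]
    | succ j =>
      rw [Fin.rev_succ, Fin.cons_succ]
      induction j using Fin.lastCases with
      | last => rw [Fin.rev_last, Fin.castSucc_zero, Fin.cons_zero, Fin.snoc_last, mul_comm, hxy]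
      | cast l =>
        rw [Fin.rev_castSucc, ← Fin.succ_castSucc, Fin.cons_succ, Fin.snoc_castSucc,
          Fin.snoc_castSucc, hpair]

/-- Arrange a multiset stable under `x ↦ q / x` in mirrored pairs. -/
theorem exists_pairing {q : ℂ} (hq : q ≠ 0) : ∀ (n : ℕ) (R : Multiset ℂ), R.card = 2 * n →
    (0 : ℂ) ∉ R → R.map (fun x => q / x) = R → R.prod = q ^ n →
    ∃ α : Fin (2 * n) → ℂ, (Finset.univ.val.map α) = R ∧ ∀ i, α i * α (Fin.rev i) = q := by
  classical
  intro n
  induction n with
  | zero =>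
    intro R hc _ _ _
    rw [mul_zero, Multiset.card_eq_zero] at hc
    exact ⟨fun i => i.elim0, by subst hc; rfl, fun i => i.elim0⟩
  | succ n ih =>
    intro R hc h0 hinv hprod
    have hne : ∀ x ∈ R, x ≠ 0 := fun x hx h => h0 (h ▸ hx)
    obtain ⟨x, y, R', hR, hxy⟩ : ∃ x y R', R = x ::ₘ y ::ₘ R' ∧ x * y = q := by
      by_cases hx : ∃ x ∈ R, q / x ≠ x
      · obtain ⟨x, hxR, hxne⟩ := hx
        obtain ⟨R₁, rfl⟩ := Multiset.exists_cons_of_mem hxR
        have hy : q / x ∈ x ::ₘ R₁ := by
          rw [← hinv]; exact Multiset.mem_map_of_mem _ hxR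
        obtain ⟨R', rfl⟩ := Multiset.exists_cons_of_mem ((Multiset.mem_cons.1 hy).resolve_left hxne)
        exact ⟨x, q / x, R', rfl, mul_div_cancel₀ q (hne x hxR)⟩
      · push Not at hx
        by_cases hd : R.Nodup
        · exfalso
          have hsq : ∀ x ∈ R, x * x = q := fun x hxR => by
            conv_lhs => arg 2; rw [← hx x hxR]
            exact mul_div_cancel₀ q (hne x hxR)
          obtain ⟨x, hxR⟩ : ∃ x, x ∈ R := Multiset.card_pos_iff_exists_mem.1 (by omega)
          have hsub : R.toFinset ⊆ {x, -x} := fun y hy => by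
            rw [Multiset.mem_toFinset] at hy
            have : (y - x) * (y + x) = 0 := by linear_combination hsq y hy - hsq x hxR
            rcases mul_eq_zero.1 this with h | h
            · simp [sub_eq_zero.1 h]
            · simp [eq_neg_of_add_eq_zero_left h]
          have hcard := Finset.card_le_card hsub
          rw [Multiset.toFinset_card_of_nodup hd, hc] at hcard
          have h2 : ({x, -x} : Finset ℂ).card ≤ 2 := Finset.card_le_two
          obtain rfl : n = 0 := by omega
          have heq : R.toFinset = {x, -x} := Finset.eq_of_subset_of_card_le hsub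
            (by rw [Multiset.toFinset_card_of_nodup hd, hc]; omega)
          have hxne : x ≠ -x := fun h => hne x hxR (by linear_combination h / 2)
          have hp : R.prod = x * -x := by
            rw [← Multiset.dedup_eq_self.2 hd, ← Multiset.toFinset_val, heq]
            simp [hxne]
          rw [hprod] at hp
          refine hq ?_
          linear_combination (hp - hsq x hxR) / 2
        · rw [Multiset.nodup_iff_count_le_one] at hd
          push Not at hd
          obtain ⟨x, hx2⟩ := hd
          obtain ⟨R', rfl⟩ := Multiset.le_iff_exists_add.1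
            (Multiset.le_count_iff_replicate_le.1 (show 2 ≤ R.count x by omega))
          have hmem : x ∈ Multiset.replicate 2 x + R' := by simp
          refine ⟨x, x, R', by simp [Multiset.replicate_succ], ?_⟩
          conv_lhs => arg 2; rw [← hx x hmem]
          exact mul_div_cancel₀ q (hne x hmem)
    subst hR
    have hx0 : x ≠ 0 := hne x (by simp)
    have hy0 : y ≠ 0 := hne y (by simp)
    have e1 : q / x = y := by rw [← hxy]; field_simp
    have e2 : q / y = x := by rw [← hxy]; field_simp
    obtain ⟨α, hα, hpair⟩ := ih R' (by simp at hc; omega)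
      (fun h => h0 (by simp [h])) (by
        rw [Multiset.map_cons, Multiset.map_cons, e1, e2, Multiset.cons_swap] at hinv
        simpa using hinv) (by
        rw [Multiset.prod_cons, Multiset.prod_cons, ← mul_assoc, hxy, pow_succ'] at hprod
        exact mul_left_cancel₀ hq hprod)
    obtain ⟨β, hβ, hβp⟩ := extend_pairing α x y hxy hpair
    exact ⟨β, hβ.trans (by rw [hα]), hβp⟩

theorem reverse_prod_X_sub_C (R : Multiset ℂ) :
    ((R.map fun a => X - C a).prod).reverse = (R.map fun a => 1 - C a * X).prod := by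
  induction R using Multiset.induction_on with
  | empty => simp [reverse]
  | cons a R ih =>
    simp only [Multiset.map_cons, Multiset.prod_cons]
    rw [reverse_mul_of_domain, ih]
    congr 1
    rw [reverse, natDegree_X_sub_C, reflect_sub, reflect_C]
    have : reflect 1 (X : ℂ[X]) = 1 := by
      rw [show (X : ℂ[X]) = C 1 * X ^ 1 by simp, reflect_C_mul_X_pow]; simp
    rw [this]; simp

open _root_.FunFld in
theorem exists_reciprocal_roots {k K : Type*} [Field k] [Field K] [Algebra k K] [Finite k]
    (h : IsFunctionField k K) :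
    ∃ α : Fin (2 * genus k K) → ℂ, (∀ i, IsIntegral ℤ (α i)) ∧
      PowerSeries.map (Int.castRingHom ℂ) (numerZ k K) =
        ((∏ i, (1 - C (α i) * X) : ℂ[X]) : PowerSeries ℂ) ∧
      ∀ i, α i * α (Fin.rev i) = (Nat.card k : ℂ) := by
  classical
  set g := genus k K
  set q : ℂ := (Nat.card k : ℂ) with hqdef
  have hq : q ≠ 0 := by rw [hqdef]; exact_mod_cast (Nat.card_pos (α := k)).ne'
  set L := numerPoly k K
  have hL0 : L.coeff 0 = 1 := by
    have := coeff_numerZ (k := k) (K := K) 0
    rw [if_neg (by omega), if_neg (by omega), effDivCount_zero h] at this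
    rw [coeff_numerPoly h]
    have h2 : ((PowerSeries.coeff 0 (numerZ k K) : ℤ) : ℚ) = ((1 : ℤ) : ℚ) := by simpa using this
    exact_mod_cast h2
  set Qz := L.reverse with hQz
  have hLdeg : L.natDegree = 2 * g := natDegree_numerPoly h
  have hQzdeg : Qz.natDegree = 2 * g := by
    rw [hQz, reverse_natDegree, hLdeg, natTrailingDegree_eq_zero.2 (Or.inr (by rw [hL0]; exact one_ne_zero))]
    simp
  have hQzmon : Qz.Monic := by
    show Qz.coeff Qz.natDegree = 1
    rw [hQzdeg, hQz, coeff_reverse, hLdeg, revAt_le le_rfl, Nat.sub_self, hL0]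
  set Q := Qz.map (Int.castRingHom ℂ)
  set P := L.map (Int.castRingHom ℂ)
  have hQmon : Q.Monic := hQzmon.map _
  have hQdeg : Q.natDegree = 2 * g := by rw [hQzmon.natDegree_map, hQzdeg]
  set R := Q.roots
  have hsplit : Q.Splits := IsAlgClosed.splits Q
  have hcard : R.card = 2 * g := by rw [splits_iff_card_roots.1 hsplit, hQdeg]
  have hQprod : Q = (R.map fun a => X - C a).prod := hsplit.eq_prod_roots_of_monic hQmon
  have hPQ : P = Q.reverse := by
    have hr : P.reverse = Q := by
      ext i
      rw [coeff_reverse, natDegree_map_eq_of_injective (Int.castRingHom ℂ).injective_int, coeff_map,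
        coeff_map, hQz, coeff_reverse]
    rw [← hr]
    ext i
    rw [coeff_reverse, coeff_reverse]
    have e1 : P.natDegree = 2 * g := by
      rw [natDegree_map_eq_of_injective (Int.castRingHom ℂ).injective_int, hLdeg]
    have e2 : P.reverse.natDegree = 2 * g := by rw [hr, hQdeg]
    rw [e1, e2, revAt_invol]
  have hPprod : P = (R.map fun a => 1 - C a * X).prod := by
    rw [hPQ, hQprod, reverse_prod_X_sub_C]
  have hscale : Q = C (q ^ g) * P.comp (C q⁻¹ * X) := by
    ext i
    rw [coeff_C_mul, comp_C_mul_X_coeff, coeff_map, coeff_map, hQz, coeff_reverse, hLdeg]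
    by_cases hi : i ≤ 2 * g
    · rw [revAt_le hi]
      have := coeff_numerZ_reflect h hi
      rw [← coeff_numerPoly h, ← coeff_numerPoly h] at this
      have h2 := congrArg (Rat.cast : ℚ → ℂ) this
      push_cast at h2
      simp only [eq_intCast]
      rw [h2, zpow_sub₀ hq, zpow_natCast, zpow_natCast, inv_pow]
      field_simp
      rfl
    · rw [revAt_eq_self_of_lt (by omega), coeff_eq_zero_of_natDegree_lt (p := L) (n := i) (by omega)]
      simp
  have h0R : (0 : ℂ) ∉ R := by
    intro hmem
    have h1 : Q.coeff 0 = 0 := by rw [coeff_zero_eq_eval_zero]; exact (mem_roots'.1 hmem).2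
    rw [coeff_map, hQz, coeff_zero_reverse, leadingCoeff, hLdeg, coeff_numerPoly h,
      coeff_numerZ_top h] at h1
    simp only [eq_intCast, Int.cast_pow, Int.cast_natCast] at h1
    exact pow_ne_zero _ hq h1
  have hinv : R.map (fun x => q / x) = R := by
    have e : Q = C (q ^ g * (R.map fun a => -a / q).prod) * (R.map fun a => X - C (q / a)).prod := by
      conv_lhs => rw [hscale, hPprod, multiset_prod_comp, Multiset.map_map]
      rw [C_mul, mul_assoc, map_multiset_prod C, Multiset.map_map, ← Multiset.prod_map_mul]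
      congr 2
      refine Multiset.map_congr rfl fun a ha => ?_
      have ha0 : a ≠ 0 := fun h => h0R (h ▸ ha)
      simp only [Function.comp_apply, sub_comp, one_comp, mul_comp, C_comp, X_comp]
      rw [mul_sub, ← C_mul, show -a / q * (q / a) = -1 by field_simp, map_neg, map_one,
        ← mul_assoc, ← C_mul, show a * q⁻¹ = a / q from (div_eq_mul_inv a q).symm, neg_div, map_neg]
      ring
    conv_rhs => rw [show R = Q.roots from rfl, e]
    rw [roots_C_mul]
    · exact ((congrArg roots (congrArg Multiset.prod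
        (Multiset.map_map (fun a => X - C a) (fun a => q / a) R).symm)).trans
        (roots_multiset_prod_X_sub_C _)).symm
    intro hz
    rw [hz, C_0, zero_mul] at e
    exact hQmon.ne_zero e
  have hprodR : R.prod = q ^ g := by
    have h1 := hsplit.coeff_zero_eq_prod_roots_of_monic hQmon
    rw [hQdeg, (show (-1 : ℂ) ^ (2 * g) = 1 by rw [pow_mul]; simp), one_mul, coeff_map, hQz,
      coeff_zero_reverse, leadingCoeff, hLdeg, coeff_numerPoly h, coeff_numerZ_top h] at h1
    simp only [eq_intCast, Int.cast_pow, Int.cast_natCast] at h1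
    exact h1.symm
  obtain ⟨α, hα, hpair⟩ := exists_pairing hq g R hcard h0R hinv hprodR
  refine ⟨α, fun i => ?_, ?_, hpair⟩
  · have : α i ∈ R := hα ▸ Multiset.mem_map_of_mem _ (Finset.mem_univ i)
    refine ⟨Qz, hQzmon, ?_⟩
    have h2 := (mem_roots'.1 this).2
    rwa [IsRoot, eval_map] at h2
  · rw [← coe_numerPoly h, ← polynomial_map_coe]
    congr 1
    rw [show (numerPoly k K).map (Int.castRingHom ℂ) = P from rfl, hPprod, ← hα, Multiset.map_map]
    rfl

end GrothLib.FunFld
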