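import Groth.Agent.Lib.FunFld.OrdersLocal

/-!
The order of a generalized Wronskian at a fixed place.
-/

set_option autoImplicit false
set_option linter.style.haveILetI false

namespace GrothLib.FunFld

open _root_.FunFld

variable {k K : Type*} [Field k] [Field K] [Algebra k K]

section Laurent

variable {F : Type*} [Field F]

theorem prod_single {ι : Type*} (s : Finset ι) (a : ι → ℤ) :
    ∏ i ∈ s, (HahnSeries.single (a i) (1 : F) : LaurentSeries F) = HahnSeries.single (∑ i ∈ s, a i) 1 := by
  classical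
  induction s using Finset.induction_on with
  | empty => simp
  | insert i s hi ih =>
    rw [Finset.prod_insert hi, Finset.sum_insert hi, ih, HahnSeries.single_mul_single, one_mul]

/-- The lowest coefficient of a determinant with graded entries. -/
theorem coeff_det_graded {ι : Type*} [Fintype ι] [DecidableEq ι] (M : Matrix ι ι (LaurentSeries F))
    (a b : ι → ℤ) (h : ∀ r c, ∀ e < a r - b c, (M r c).coeff e = 0) :
    (∀ e < ∑ i, a i - ∑ i, b i, M.det.coeff e = 0) ∧
      M.det.coeff (∑ i, a i - ∑ i, b i) = (Matrix.of fun r c => (M r c).coeff (a r - b c)).det := by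
  have hex : ∀ r c, ∃ q : PowerSeries F, (q : LaurentSeries F) = HahnSeries.single (-(a r - b c)) 1 * M r c ∧
      PowerSeries.constantCoeff q = (M r c).coeff (a r - b c) := by
    intro r c
    have hv : Valued.v (HahnSeries.single (-(a r - b c)) 1 * M r c) ≤ WithZero.exp (-(0 : ℤ)) := by
      rw [LaurentSeries.valuation_le_iff_coeff_lt_eq_zero]
      intro e he
      rw [HahnSeries.coeff_single_mul, one_mul]
      exact h r c _ (by omega)
    rw [neg_zero, WithZero.exp_zero] at hv
    obtain ⟨q, hq⟩ := (LaurentSeries.val_le_one_iff_eq_coe F _).1 hv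
    refine ⟨q, hq, ?_⟩
    rw [← PowerSeries.coeff_zero_eq_constantCoeff_apply, ← LaurentSeries.coeff_coe_powerSeries, hq]
    rw [HahnSeries.coeff_single_mul, one_mul]
    congr 1
    push_cast
    ring
  choose q hq hq0 using hex
  let Q : Matrix ι ι (PowerSeries F) := Matrix.of q
  have hM : M = Matrix.diagonal (fun r => HahnSeries.single (a r) 1) *
      Q.map (HahnSeries.ofPowerSeries ℤ F) * Matrix.diagonal (fun c => HahnSeries.single (-b c) 1) := by
    ext r c : 1
    rw [Matrix.mul_diagonal, Matrix.diagonal_mul]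
    show M r c = HahnSeries.single (a r) 1 * HahnSeries.ofPowerSeries ℤ F (q r c) * HahnSeries.single (-b c) 1
    have h1 : HahnSeries.ofPowerSeries ℤ F (q r c) = HahnSeries.single (-(a r - b c)) 1 * M r c := hq r c
    rw [h1, show (HahnSeries.single (a r) 1 : LaurentSeries F) * (HahnSeries.single (-(a r - b c)) 1 * M r c) * HahnSeries.single (-b c) 1 =
        (HahnSeries.single (a r) 1 * HahnSeries.single (-(a r - b c)) 1 * HahnSeries.single (-b c) 1) * M r c by ring,
      HahnSeries.single_mul_single, HahnSeries.single_mul_single]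
    simp
  have hdet : M.det = HahnSeries.single (∑ i, a i - ∑ i, b i) 1 * HahnSeries.ofPowerSeries ℤ F Q.det := by
    rw [hM, Matrix.det_mul, Matrix.det_mul, Matrix.det_diagonal, Matrix.det_diagonal, prod_single,
      prod_single, RingHom.map_det, Finset.sum_neg_distrib, mul_comm (HahnSeries.single (∑ i, a i) 1),
      mul_assoc, HahnSeries.single_mul_single, one_mul, ← sub_eq_add_neg, mul_comm]
    rfl
  refine ⟨fun e he => ?_, ?_⟩
  · rw [hdet, HahnSeries.coeff_single_mul, one_mul]
    exact GrothLib.LocRes.coeff_coe_eq_zero _ (by omega)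
  · rw [hdet, HahnSeries.coeff_single_mul, one_mul, sub_self, show (0 : ℤ) = ((0 : ℕ) : ℤ) from rfl]
    rw [LaurentSeries.coeff_coe_powerSeries, PowerSeries.coeff_zero_eq_constantCoeff_apply, RingHom.map_det]
    congr 1
    ext r c : 1
    exact hq0 r c

end Laurent

theorem val_map_le_of_isFixedPt {τ : K →ₐ[k] K} {P : Place k K} (hP : IsFixedPt τ P) {t : K}
    (ht : val P t = WithZero.exp (-1)) {e : ℕ} (hτt : val P (τ t) ≤ WithZero.exp (-(e : ℤ)))
    [IsAlgClosed k] (hK : IsFG k K) {x : K} {m : ℕ} (hx : val P x ≤ WithZero.exp (-(m : ℤ))) :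
    val P (τ x) ≤ WithZero.exp (-((e * m : ℕ) : ℤ)) := by
  have ht0 : t ≠ 0 := fun h => by rw [h, map_zero] at ht; exact WithZero.exp_ne_zero ht.symm
  have hu : val P (x / t ^ m) ≤ 1 := by
    rw [map_div₀, map_pow, ht, ← WithZero.exp_nsmul, div_le_one₀ WithZero.exp_pos]
    refine hx.trans (le_of_eq ?_)
    simp
  have hτu : val P (τ (x / t ^ m)) ≤ 1 := by
    obtain ⟨c, hc⟩ := exists_residue hK P hu
    have h1 : val P (τ (x / t ^ m - algebraMap k K c)) < 1 := hP _ hc
    rw [map_sub, AlgHom.commutes] at h1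
    have h2 := (val P).map_add (τ (x / t ^ m) - algebraMap k K c) (algebraMap k K c)
    rw [sub_add_cancel] at h2
    exact h2.trans (max_le h1.le (P.2.1 c))
  rw [show τ x = τ (x / t ^ m) * τ t ^ m by rw [← map_pow, ← map_mul, div_mul_cancel₀ _ (pow_ne_zero m ht0)],
    map_mul, map_pow]
  refine (mul_le_mul' hτu (pow_le_pow_left₀ zero_le hτt m)).trans (le_of_eq ?_)
  rw [one_mul, ← WithZero.exp_nsmul]
  congr 1
  push_cast
  ring

variable [IsAlgClosed k]

/-- The order of a generalized Wronskian at a fixed place. -/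
theorem val_det_wrMat (hK : IsFunctionField k K) {τ : K →ₐ[k] K} {P : Place k K} (hP : IsFixedPt τ P)
    {n : ℕ} {φ : Fin (n + 1) → K} (hφ : LinearIndependent k φ)
    (heff : (1 : K) ∈ Submodule.span k (Set.range φ)) (hnorm : ∀ i, val P (φ i) ≤ 1)
    {t : K} (ht : val P t = WithZero.exp (-1)) {Ht : K →ₐ[k] PowerSeries K}
    (hHt : _root_.LocRes.IsHasseFamily t Ht) {J : Fin n → ℕ}
    (hJ : IsOrders (IsLocalRing.ResidueField P.O) (hcolAt P Ht φ) J) (I : Fin n → ℕ) :
    val P (wrMat τ Ht φ I).det ≤ WithZero.exp (-(∑ l, ((J l : ℤ) - I l))) ∧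
    (((∀ l, 0 < I l) ∨ IsStrongFixedPt τ P) →
      (val P (wrMat τ Ht φ I).det = WithZero.exp (-(∑ l, ((J l : ℤ) - I l))) ↔
        (binomMat k J I).det ≠ 0)) := by
  classical
  have hg := isGeometric_of_perfectField hK
  obtain ⟨ψ, hψ, hψt⟩ := exists_expansion_closed hK.1 ht
  obtain ⟨hJ1, φ', A, h0, hA, hAdet, -, hspan, hv⟩ := exists_adapted_basis hK hφ heff hnorm hψ hψt ht hHt hJ
  have hdetA : val P (wrMat τ Ht φ I).det = val P (wrMat τ Ht φ' I).det := by
    rw [wrMat_linear_change A φ' hA I, Matrix.det_mul, map_mul,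
      show (A.map (algebraMap k K)).det = algebraMap k K A.det from (RingHom.map_det _ A).symm,
      val_const P hAdet, one_mul]
  let a : Fin (n + 1) → ℤ := Fin.cons 0 fun l => (J l : ℤ)
  let b : Fin (n + 1) → ℤ := Fin.cons 0 fun l => (I l : ℤ)
  let M := (wrMat τ Ht φ' I).map ψ
  have hint : ∀ r, val P (φ' r) ≤ 1 := fun r => Fin.cases (by simp [h0]) (fun l => by
    rw [(hv l).1, ← WithZero.exp_zero, WithZero.exp_le_exp]; omega) r
  have hlow : ∀ r, ∀ e < a r, (ψ (φ' r)).coeff e = 0 := fun r => Fin.cases (fun e he =>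
      (val_le_iff_coeff hψ _ 0).1 (by rw [neg_zero, WithZero.exp_zero]; exact hint 0) e (by simpa [a] using he))
    (fun l e he => (val_le_iff_coeff hψ _ (J l : ℤ)).1 (hv l).1.le e (by simpa [a] using he)) r
  have hlead : ∀ r, (ψ (φ' r)).coeff (a r) = 1 := fun r => Fin.cases (by simp [a, h0]) (fun l => by
    simpa [a] using (hv l).2) r
  have hτbound : ∀ (e : ℕ), val P (τ t) ≤ WithZero.exp (-(e : ℤ)) → ∀ r, ∀ q < (e : ℤ) * a r,
      (ψ (τ (φ' r))).coeff q = 0 := by
    intro e he r
    refine Fin.cases (fun q hq => ?_) (fun l q hq => ?_) r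
    · exact (val_le_iff_coeff hψ _ 0).1 (by rw [h0, map_one, map_one, neg_zero, WithZero.exp_zero]) q
        (by simpa [a] using hq)
    · exact (val_le_iff_coeff hψ _ _).1 (val_map_le_of_isFixedPt hP ht he hK.1 (hv l).1.le) q
        (by simpa [a] using hq)
  have hτ1 : val P (τ t) ≤ WithZero.exp (-((1 : ℕ) : ℤ)) := by
    rw [Nat.cast_one, show (-1 : ℤ) = 0 - 1 by ring, le_exp_sub_one_iff, WithZero.exp_zero]
    exact hP t (show val P t < 1 by rw [ht, ← WithZero.exp_zero, WithZero.exp_lt_exp]; omega)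
  have hentry : ∀ r l e, (M r l.succ).coeff e = Ring.choose (e + I l) (I l) • (ψ (φ' r)).coeff (e + I l) :=
    fun r l e => by
      simp only [M, Matrix.map_apply, wrMat, Matrix.of_apply, Fin.cases_succ]
      exact coeff_hasseD hK hψ hψt hHt (hint r) (I l) e
  have hM0 : ∀ r, M r 0 = ψ (τ (φ' r)) := fun r => by simp [M, wrMat]
  obtain ⟨hvan, hcoef⟩ := coeff_det_graded M a b (fun r c => by
    refine Fin.cases (fun e he => ?_) (fun l e he => ?_) c
    · rw [hM0]; exact hτbound 1 hτ1 r e (by simpa [b] using he)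
    · rw [hentry, hlow r _ (by simp [b] at he; omega), smul_zero])
  have hS : ∑ i, a i - ∑ i, b i = ∑ l, ((J l : ℤ) - I l) := by
    rw [Fin.sum_univ_succ, Fin.sum_univ_succ, Finset.sum_sub_distrib]
    simp [a, b]
  have hdetM : M.det = ψ (wrMat τ Ht φ' I).det := (AlgHom.map_det ψ _).symm
  rw [hS, hdetM] at hvan hcoef
  have hle : val P (wrMat τ Ht φ' I).det ≤ WithZero.exp (-(∑ l, ((J l : ℤ) - I l))) :=
    (val_le_iff_coeff hψ _ _).2 hvan
  rw [hdetA]
  refine ⟨hle, fun hcase => ?_⟩
  set S := ∑ l, ((J l : ℤ) - I l)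
  set N : Matrix (Fin (n + 1)) (Fin (n + 1)) k := Matrix.of fun r c => (M r c).coeff (a r - b c) with hN
  have hiff : val P (wrMat τ Ht φ' I).det = WithZero.exp (-S) ↔ N.det ≠ 0 := by
    rw [← hcoef]
    refine ⟨fun he h0' => ?_, fun hne => le_antisymm hle (not_lt.1 fun hlt => hne ?_)⟩
    · have : val P (wrMat τ Ht φ' I).det ≤ WithZero.exp (-(S + 1)) := by
        rw [val_le_iff_coeff hψ]
        intro q hq
        rcases lt_or_eq_of_le (show q ≤ S by omega) with h | rfl
        · exact hvan q h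
        · exact h0'
      rw [he, WithZero.exp_le_exp] at this
      omega
    · rw [← le_exp_sub_one_iff, show (-S) - 1 = -(S + 1) by ring, val_le_iff_coeff hψ] at hlt
      exact hlt _ (by omega)
  rw [hiff]
  have hsub : ∀ (r l : Fin n), N r.succ l.succ = binomMat k J I r l := fun r l => by
    simp only [hN, Matrix.of_apply, hentry, binomMat]
    rw [show a r.succ - b l.succ + (I l : ℤ) = ((J r : ℕ) : ℤ) by simp [a, b], Ring.choose_natCast]
    have := hlead r.succ
    rw [show a r.succ = ((J r : ℕ) : ℤ) by simp [a]] at this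
    rw [this, Nat.cast_smul_eq_nsmul, nsmul_one]
  have h00 : N 0 0 = 1 := by
    simp [hN, hM0, a, b, h0]
  suffices hdet : N.det = (binomMat k J I).det by rw [hdet]
  rcases hcase with hI | hstrong
  · rw [Matrix.det_succ_row_zero, Finset.sum_eq_single (0 : Fin (n + 1))]
    · rw [Fin.val_zero, pow_zero, one_mul, h00, one_mul]
      congr 1
      ext r l : 1
      rw [Matrix.submatrix_apply, Fin.succAbove_zero]
      exact hsub r l
    · intro c _ hc
      obtain ⟨l, rfl⟩ := Fin.exists_succ_eq.2 hc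
      have : N 0 l.succ = 0 := by
        simp only [hN, Matrix.of_apply, hentry]
        rw [show a 0 - b l.succ + (I l : ℤ) = ((0 : ℕ) : ℤ) by simp [a, b], Ring.choose_natCast,
          Nat.choose_eq_zero_of_lt (hI l), Nat.cast_zero, zero_smul]
      rw [this, mul_zero, zero_mul]
    · simp
  · rw [Matrix.det_succ_column_zero, Finset.sum_eq_single (0 : Fin (n + 1))]
    · rw [Fin.val_zero, pow_zero, one_mul, h00, one_mul]
      congr 1
      ext r l : 1
      rw [Matrix.submatrix_apply, Fin.succAbove_zero]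
      exact hsub r l
    · intro r _ hr
      obtain ⟨l, rfl⟩ := Fin.exists_succ_eq.2 hr
      have hτ2 : val P (τ t) ≤ WithZero.exp (-((2 : ℕ) : ℤ)) :=
        hstrong t (show val P t < 1 by rw [ht, ← WithZero.exp_zero, WithZero.exp_lt_exp]; omega)
      have : N l.succ 0 = 0 := by
        simp only [hN, Matrix.of_apply, hM0]
        refine hτbound 2 hτ2 l.succ _ ?_
        have := hJ1 l
        simp [a, b]
        omega
      rw [this, mul_zero, zero_mul]
    · simp

end GrothLib.FunFld
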