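import Groth.Agent.Lib.FunFld.Cotrace
import Groth.Agent.Lib.LocRes.Expansion

/-!
The normalised Weil differential on the rational function field.
-/

set_option autoImplicit false

namespace GrothLib.FunFld

open _root_.FunFld WithZero
open IntermediateField (adjoin)

universe u v

variable {k : Type u} {L : Type v} [Field k] [Field L] [Algebra k L]

/-- A generator of a rational function field has a single pole, simple and of degree one. -/
theorem pole_of_adjoin_eq_top (h : IsFG k L) {x : L} (hx : Transcendental k x)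
    (hgen : adjoin k ({x} : Set L) = ⊤) {P : Place k L} (hP : P.ord x < 0) :
    P.ord x = -1 ∧ P.deg = 1 ∧ ∀ Q : Place k L, Q.ord x < 0 → Q = P := by
  classical
  have hd : (poleDiv (k := k) x).deg = 1 := by
    rw [h.deg_poleDiv hx, hgen, IntermediateField.finrank_top]; rfl
  have hone : ∀ Q : Place k L, Q.ord x < 0 → Q.ord x = -1 ∧ Q.deg = 1 := fun Q hQ => by
    have hle : Finsupp.single Q (-Q.ord x) ≤ poleDiv (k := k) x := fun R => by
      rw [h.poleDiv_apply]
      by_cases hR : R = Q
      · subst hR; simp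
      · simp [Ne.symm hR]
    have := deg_mono hle
    rw [deg_single, hd] at this
    have h1 : (1 : ℤ) ≤ Q.deg := by exact_mod_cast h.deg_pos Q
    have h2 : 1 ≤ -Q.ord x := by omega
    constructor
    · nlinarith
    · have : (Q.deg : ℤ) ≤ 1 := by nlinarith
      omega
  refine ⟨(hone P hP).1, (hone P hP).2, fun Q hQ => ?_⟩
  by_contra hne
  have hle : Finsupp.single P 1 + Finsupp.single Q 1 ≤ poleDiv (k := k) x := fun R => by
    rw [h.poleDiv_apply, Finsupp.add_apply]
    by_cases hR : R = P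
    · subst hR; simp [hne, Ne.symm hne, (hone R hP).1]
    · by_cases hR' : R = Q
      · subst hR'; simp [Ne.symm hR, (hone R hQ).1]
      · simp [Ne.symm hR, Ne.symm hR']
  have := deg_mono hle
  rw [deg_add, deg_single, deg_single, hd, (hone P hP).2, (hone Q hQ).2] at this
  omega

/-- A generator of a rational function field has a single zero, simple and of degree one. -/
theorem zero_of_adjoin_eq_top (h : IsFG k L) {x : L} (hx : Transcendental k x)
    (hgen : adjoin k ({x} : Set L) = ⊤) {P : Place k L} (hP : 0 < P.ord x) :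
    P.ord x = 1 ∧ P.deg = 1 ∧ ∀ Q : Place k L, 0 < Q.ord x → Q = P := by
  have hgen' : adjoin k ({x⁻¹} : Set L) = ⊤ := by
    refine top_le_iff.mp ?_
    rw [← hgen, IntermediateField.adjoin_simple_le_iff]
    simpa using inv_mem (IntermediateField.mem_adjoin_simple_self k x⁻¹)
  obtain ⟨h1, h2, h3⟩ := pole_of_adjoin_eq_top h (transcendental_inv hx) hgen'
    (P := P) (by rw [ord_inv]; omega)
  rw [ord_inv] at h1
  exact ⟨by omega, h2, fun Q hQ => h3 Q (by rw [ord_inv]; omega)⟩

noncomputable local instance (priority := high) resSMul' (P : Place k L) :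
    SMul k (IsLocalRing.ResidueField P.O) := Algebra.toSMul

noncomputable local instance (priority := high) resModule' (P : Place k L) :
    Module k (IsLocalRing.ResidueField P.O) := Algebra.toModule

theorem isRational_of_deg_eq_one (h : IsFG k L) {P : Place k L} (hd : P.deg = 1) :
    IsRational P := by
  have := h.finite_residueField P
  refine ⟨(algebraMap k (IsLocalRing.ResidueField P.O)).injective, fun r => ?_⟩
  have hr : r ∈ (⊥ : Subalgebra k (IsLocalRing.ResidueField P.O)) := by
    rw [Subalgebra.bot_eq_top_of_finrank_eq_one (F := k) (E := IsLocalRing.ResidueField P.O) hd]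
    exact Algebra.mem_top
  exact Algebra.mem_bot.1 hr

/-- The Weil differential `dx` of the rational function field, read at the zero of `x`. -/
theorem exists_eta (h : IsFunctionField k L) {x : L} (hx : Transcendental k x)
    (hgen : adjoin k ({x} : Set L) = ⊤) :
    ∃ (P₀ : Place k L) (D : Divisor k L) (η : Module.Dual k (adele k L)), η ∈ WD D ∧
      D P₀ = 0 ∧ val P₀ x = exp (-1) ∧ P₀.deg = 1 ∧ (∀ Q : Place k L, 0 < Q.ord x → Q = P₀) ∧
      ∀ m : ℕ, η (sgl P₀ ((x ^ m)⁻¹)) = if m = 1 then 1 else 0 := by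
  classical
  have hfg : IsFG k L := h.1
  have hx0 : x ≠ 0 := fun h0 => hx (h0 ▸ isAlgebraic_zero)
  obtain ⟨P₀, hP₀⟩ := hfg.exists_zero hx
  obtain ⟨P₁, hP₁⟩ := hfg.exists_pole hx
  obtain ⟨hord0, hdeg0, huniq0⟩ := zero_of_adjoin_eq_top hfg hx hgen hP₀
  obtain ⟨hord1, hdeg1, huniq1⟩ := pole_of_adjoin_eq_top hfg hx hgen hP₁
  have hne : P₁ ≠ P₀ := by rintro rfl; omega
  set D : Divisor k L := Finsupp.single P₁ (-2) with hD
  have hD0 : D P₀ = 0 := by simp [hD, hne]
  have hDne : ∀ Q, Q ≠ P₁ → D Q = 0 := fun Q hQ => by simp [hD, Ne.symm hQ]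
  have hv0 : val P₀ x = exp (-1) := by rw [val_eq P₀ hx0, hord0]
  have hv1 : val P₁ x = exp 1 := by rw [val_eq P₁ hx0, hord1, neg_neg]
  have hvne : ∀ Q : Place k L, Q ≠ P₀ → Q ≠ P₁ → val Q x = 1 := fun Q h0 h1 => by
    have : Q.ord x = 0 := by
      rcases lt_trichotomy (Q.ord x) 0 with h' | h' | h'
      · exact absurd (huniq1 Q h') h1
      · exact h'
      · exact absurd (huniq0 Q h') h0
    rw [val_eq Q hx0, this, neg_zero, exp_zero]
  -- `X⁻¹` at `P₀` is not in `A(D) + L`
  have hnot : sgl P₀ x⁻¹ ∉ ADK D := by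
    intro hmem
    obtain ⟨u, hu, _, ⟨z, rfl⟩, huz⟩ :=
      Submodule.mem_sup.1 (show (sgl P₀ x⁻¹ : Place k L → L) ∈ AD D ⊔ Kc k L from hmem)
    have hz : ∀ Q, u Q + z = (sgl P₀ x⁻¹ : Place k L → L) Q := fun Q => by
      simpa [diag_apply] using congrFun huz Q
    have hzx : z * x ∈ _root_.FunFld.L (Finsupp.single P₁ (-1) : Divisor k L) := by
      intro Q
      show val Q (z * x) ≤ _
      rw [map_mul]
      rcases eq_or_ne Q P₁ with rfl | hQ1
      · have := hz Q
        rw [sgl_apply_of_ne hne, add_eq_zero_iff_eq_neg'] at this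
        rw [this, Valuation.map_neg, hv1, Finsupp.single_eq_same]
        refine (mul_le_mul_left (hu Q) _).trans_eq ?_
        rw [hD, Finsupp.single_eq_same, ← exp_add]; rfl
      rw [Finsupp.single_eq_of_ne hQ1, exp_zero]
      rcases eq_or_ne Q P₀ with rfl | hQ0
      · rw [show z = x⁻¹ - u Q by rw [← sgl_apply_self (k := k) Q x⁻¹, ← hz Q]; ring]
        have h1 : val Q (x⁻¹ - u Q) ≤ exp 1 := by
          refine ((val Q).map_sub _ _).trans (max_le ?_ ((hu Q).trans ?_))
          · rw [map_inv₀, hv0, ← exp_neg, neg_neg]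
          · rw [hD0, exp_le_exp]; norm_num
        refine (mul_le_mul_left h1 _).trans_eq ?_
        rw [hv0, ← exp_add, add_neg_cancel, exp_zero]
      · have := hz Q
        rw [sgl_apply_of_ne hQ0, add_eq_zero_iff_eq_neg'] at this
        rw [hvne Q hQ0 hQ1, mul_one, this, Valuation.map_neg, ← exp_zero, ← hDne Q hQ1]
        exact hu Q
    rw [hfg.L_eq_bot_of_deg_neg (by rw [deg_single, hdeg1]; norm_num), Submodule.mem_bot,
      mul_eq_zero, or_iff_left hx0] at hzx
    have := hz P₀
    rw [sgl_apply_self, hzx, add_zero] at this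
    have h2 := hu P₀
    rw [this, hD0, show P₀.1 x⁻¹ = (val P₀ x)⁻¹ from map_inv₀ _ _, hv0, ← exp_neg, neg_neg,
      exp_le_exp] at h2
    omega
  obtain ⟨f, hf, hf0⟩ := Submodule.exists_dual_map_eq_bot_of_notMem hnot inferInstance
  set η := (f (sgl P₀ x⁻¹))⁻¹ • f with hη
  have hηD : η ∈ WD D := mem_WD_iff.2 fun a ha => by
    have : f a ∈ (ADK D).map f := ⟨a, ha, rfl⟩
    rw [hf0, Submodule.mem_bot] at this
    rw [hη, LinearMap.smul_apply, this, smul_zero]
  refine ⟨P₀, D, η, hηD, hD0, hv0, hdeg0, huniq0, fun m => ?_⟩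
  rcases m with _ | _ | m
  · rw [if_neg zero_ne_one, pow_zero, inv_one]
    exact WD_sgl_eq_zero hηD (by rw [map_one, hD0, exp_zero])
  · rw [if_pos rfl, pow_one, hη, LinearMap.smul_apply, smul_eq_mul, inv_mul_cancel₀ hf]
  · rw [if_neg (by omega)]
    set y := (x ^ (m + 2))⁻¹ with hy
    let a : adele k L := sgl P₀ y - ⟨diag k L y, hfg.Kc_le_adele ⟨y, rfl⟩⟩
    have ha : η a = 0 := WD_apply_eq_zero hηD a fun Q => by
      simp only [a, AddSubgroupClass.coe_sub, Pi.sub_apply, diag_apply]
      rcases eq_or_ne Q P₀ with rfl | hQ0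
      · rw [sgl_apply_self, sub_self, map_zero]; exact zero_le
      rw [sgl_apply_of_ne hQ0, zero_sub, Valuation.map_neg, hy, map_inv₀, map_pow]
      rcases eq_or_ne Q P₁ with rfl | hQ1
      · rw [hv1, hD, Finsupp.single_eq_same, ← exp_nsmul, ← exp_neg, exp_le_exp, nsmul_eq_mul]
        push_cast; omega
      · rw [hvne Q hQ0 hQ1, one_pow, inv_one, hDne Q hQ1, exp_zero]
    have hd : η ⟨diag k L y, hfg.Kc_le_adele ⟨y, rfl⟩⟩ = 0 :=
      mem_WD_iff.1 hηD _ (Submodule.mem_sup_right ⟨y, rfl⟩)
    rwa [map_sub, hd, sub_zero] at ha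

end GrothLib.FunFld
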