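import Groth.Agent.Lib.FunFld.GenusZero
import Groth.Agent.Lib.FunFld.LinChain

/-! Limit linear series on chains of rational curves. -/

namespace GrothLib.FunFld

open _root_.FunFld WithZero

variable {k : Type*} [Field k] [IsAlgClosed k] [CharZero k]

/-- Three point form of the Plücker inequality. -/
theorem plucker_three {K : Type*} [Field K] [Algebra k K] (h : IsFunctionField k K)
    (hg : genus k K = 0) {d r : ℕ} {D : Divisor k K} (hD : D.deg = d) {V : Submodule k K}
    (hV : V ≤ L D) (hVr : Module.finrank k V = r + 1) {P Q R : Place k K}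
    (hPQ : P ≠ Q) (hPR : P ≠ R) (hQR : Q ≠ R) :
    wsum V D P d + wsum V D Q d + wsum V D R d + r * (r + 1) ≤
      3 * (r * (r + 1) / 2) + (r + 1) * d := by
  classical
  have := plucker h hg hD hV hVr {P, Q, R} (by simp)
  rw [Finset.sum_insert (by simp [hPQ, hPR]), Finset.sum_insert (by simp [hQR]),
    Finset.sum_singleton] at this
  have hc : ({P, Q, R} : Finset (Place k K)).card = 3 := by
    rw [Finset.card_insert_of_notMem (by simp [hPQ, hPR]), Finset.card_pair hQR]
  rw [hc] at this
  omega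

/-- Excess weight of a finite set of distinct places. -/
theorem plucker_list {K : Type*} [Field K] [Algebra k K] (h : IsFunctionField k K)
    (hg : genus k K = 0) {d r : ℕ} {D : Divisor k K} (hD : D.deg = d) {V : Submodule k K}
    (hV : V ≤ L D) (hVr : Module.finrank k V = r + 1) (S : Finset (Place k K)) :
    ∑ P ∈ S, wsum V D P d + r * (r + 1) ≤ S.card * (r * (r + 1) / 2) + (r + 1) * d := by
  rcases S.eq_empty_or_nonempty with rfl | hS
  · have hfg : IsFG k K := h.1
    obtain ⟨P⟩ := hfg.exists_place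
    have h1 := plucker h hg hD hV hVr {P} (Finset.singleton_nonempty P)
    have h2 := wsum_ge hfg hV hD hVr (hfg.deg_eq_one P)
    simp at h1 ⊢
    omega
  · exact plucker h hg hD hV hVr S hS

/-- A rational chain with cusps, and one extra off-node point `Q'` on component `i₀`. -/
theorem rational_chain
    (N : ℕ) (Z : Fin (N + 1) → Type*) [∀ i, Field (Z i)] [∀ i, Algebra k (Z i)]
    (hZ : ∀ i, IsFunctionField k (Z i)) (hrat : ∀ i, genus k (Z i) = 0)
    (d r : ℕ) (D : ∀ i, Divisor k (Z i)) (hD : ∀ i, (D i).deg = d)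
    (V : ∀ i, Submodule k (Z i)) (hV : ∀ i, V i ≤ L (D i))
    (hVr : ∀ i, Module.finrank k ↥(V i) = r + 1)
    (A B : ∀ i, Place k (Z i))
    (hAB : ∀ i : Fin (N + 1), 0 < (i : ℕ) → (i : ℕ) < N → A i ≠ B i)
    (hcomp : ∀ (l : Fin N) (m : ℕ), m ≤ d + 1 →
      vdim (V l.castSucc) (D l.castSucc) (B l.castSucc) (m : ℤ) +
        vdim (V l.succ) (D l.succ) (A l.succ) ((d : ℤ) + 1 - m) = r + 1)
    (X : ∀ i, Finset (Place k (Z i)))
    (hXA : ∀ i : Fin (N + 1), 0 < (i : ℕ) → A i ∉ X i)
    (hXB : ∀ i : Fin (N + 1), (i : ℕ) < N → B i ∉ X i) :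
    let T := r * (r + 1) / 2
    let e : Fin (N + 1) → ℕ := fun i => (∑ P ∈ X i, wsum (V i) (D i) P d) - (X i).card * T
    (∑ i, e i) + 2 * T ≤ (r + 1) * d ∧
      ∀ i : Fin (N + 1), 0 < (i : ℕ) → (i : ℕ) < N →
        2 * T + ∑ j ∈ Finset.univ.erase i, e j ≤
          wsum (V i) (D i) (A i) d + wsum (V i) (D i) (B i) d := by
  classical
  intro T e
  let α : Fin (N + 1) → ℕ := fun i => if 0 < (i : ℕ) then wsum (V i) (D i) (A i) d else T
  let β : Fin (N + 1) → ℕ := fun i => if (i : ℕ) < N then wsum (V i) (D i) (B i) d else T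
  have hnode : ∀ l : Fin N, β l.castSucc + α l.succ = (r + 1) * d := fun l => by
    simp only [α, β, Fin.val_succ, Nat.succ_pos, if_true, Fin.val_castSucc, l.2]
    exact wsum_add_of_compat (hcomp l)
  have hloc : ∀ i, α i + β i + e i ≤ (r + 1) * d := by
    intro i
    have hi := plucker_list (hZ i) (hrat i) (hD i) (hV i) (hVr i)
    have hge : ∀ P : Place k (Z i), T ≤ wsum (V i) (D i) P d := fun P =>
      wsum_ge (hZ i).1 (hV i) (hD i) (hVr i) (IsFG.deg_eq_one (hZ i).1 P)
    have hX : (X i).card * T ≤ ∑ P ∈ X i, wsum (V i) (D i) P d :=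
      (smul_eq_mul (X i).card T).symm.trans_le (Finset.card_nsmul_le_sum _ _ _ fun P _ => hge P)
    have he : 2 ∣ r * (r + 1) := (Nat.even_mul_succ_self r).two_dvd
    have hT : r * (r + 1) = 2 * T := (Nat.mul_div_cancel' he).symm
    have hTdef : r * (r + 1) / 2 = T := rfl
    simp only [α, β, e]
    by_cases h0 : 0 < (i : ℕ) <;> by_cases hN : (i : ℕ) < N
    · have := hi (insert (A i) (insert (B i) (X i)))
      rw [Finset.sum_insert (by simp [hAB i h0 hN, hXA i h0]), Finset.sum_insert (hXB i hN),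
        Finset.card_insert_of_notMem (by simp [hAB i h0 hN, hXA i h0]),
        Finset.card_insert_of_notMem (hXB i hN), hTdef, hT, add_mul, add_mul] at this
      rw [if_pos h0, if_pos hN]; omega
    · have := hi (insert (A i) (X i))
      rw [Finset.sum_insert (hXA i h0), Finset.card_insert_of_notMem (hXA i h0), hTdef, hT, add_mul] at this
      rw [if_pos h0, if_neg hN]; omega
    · have := hi (insert (B i) (X i))
      rw [Finset.sum_insert (hXB i hN), Finset.card_insert_of_notMem (hXB i hN), hTdef, hT, add_mul] at this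
      rw [if_neg h0, if_pos hN]; omega
    · have := hi (X i)
      rw [hTdef, hT] at this
      rw [if_neg h0, if_neg hN]; omega
  obtain ⟨h1, h2⟩ := chain_telescope (T := T) α β e hnode (by simp [α]) (by simp [β]) hloc
  refine ⟨h1, fun i hi0 hiN => ?_⟩
  have := h2 i
  simp only [α, β, if_pos hi0, if_pos hiN] at this
  exact this

end GrothLib.FunFld
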