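import Groth.Agent.Lib.FunFld.Riemann
import Mathlib.LinearAlgebra.Dual.Lemmas

/-! Repartitions: `A(D)`, `A(D) + K`, and `A / (A(D) + K)`. -/

namespace GrothLib.FunFld

open _root_.FunFld WithZero

variable {k K : Type*} [Field k] [Field K] [Algebra k K]

theorem single_mem_AD [DecidableEq (Place k K)] {D : Divisor k K} {P : Place k K} {y : K}
    (hy : val P y ≤ exp (D P)) : Pi.single P y ∈ AD D := by
  intro Q
  by_cases hQ : Q = P
  · subst hQ; simpa using hy
  · simp [hQ]

theorem AD_sup' (D₁ D₂ : Divisor k K) : AD (D₁ ⊔ D₂) = AD D₁ ⊔ AD D₂ := by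
  classical
  refine le_antisymm (fun a ha => ?_) (sup_le (AD_mono le_sup_left) (AD_mono le_sup_right))
  let b : Place k K → K := fun P => if val P (a P) ≤ exp (D₁ P) then a P else 0
  rw [show a = b + (a - b) by abel]
  refine add_mem (Submodule.mem_sup_left fun P => ?_) (Submodule.mem_sup_right fun P => ?_)
  · by_cases h : val P (a P) ≤ exp (D₁ P) <;> simp [b, h]
  · by_cases h : val P (a P) ≤ exp (D₁ P)
    · simp [b, h]
    · have := ha P
      simp only [Finsupp.sup_apply] at this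
      rcases le_total (D₁ P) (D₂ P) with h' | h'
      · rw [max_eq_right h'] at this; simpa [b, h] using this
      · rw [max_eq_left h'] at this; exact absurd this h

theorem IsFG.hasCodim_AD_step (h : IsFG k K) (D : Divisor k K) (P : Place k K) :
    HasCodim (AD D) (AD (D + Finsupp.single P 1)) P.deg := by
  classical
  have := h.finite_residueField P
  have hb := hasCodim_ball_succ P (D P + 1)
  rw [add_sub_cancel_right] at hb
  have := hb.finite
  rw [← hb.finrank_eq]
  have hmem : ∀ a : AD (D + Finsupp.single P 1), (a : Place k K → K) P ∈ ball P (D P + 1) := by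
    intro a
    have := a.2 P
    rw [Finsupp.add_apply, Finsupp.single_eq_same] at this
    exact this
  refine HasCodim.of_linearMap
    (AD_mono (le_add_of_nonneg_right (Finsupp.single_nonneg.2 zero_le_one)))
    (Submodule.mkQ _ ∘ₗ ({ toFun := fun a => ⟨(a : Place k K → K) P, hmem a⟩
                           map_add' := fun _ _ => rfl
                           map_smul' := fun _ _ => rfl } :
      AD (D + Finsupp.single P 1) →ₗ[k] ball P (D P + 1))) ?_ ?_
  · intro r
    obtain ⟨⟨y, hy⟩, rfl⟩ := Submodule.Quotient.mk_surjective _ r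
    refine ⟨⟨Pi.single P y, single_mem_AD (by rw [Finsupp.add_apply, Finsupp.single_eq_same]; exact hy)⟩, ?_⟩
    exact congrArg Submodule.Quotient.mk (Subtype.ext (Pi.single_eq_same (M := fun _ => K) P y))
  · intro a
    refine (Submodule.Quotient.mk_eq_zero _).trans ?_
    show (a : Place k K → K) P ∈ ball P (D P) ↔ _
    refine ⟨fun ha Q => ?_, fun ha => ha P⟩
    by_cases hQ : Q = P
    · exact hQ ▸ ha
    · simpa [Ne.symm hQ, hQ] using a.2 Q

theorem IsFG.hasCodim_AD (h : IsFG k K) {D₁ D₂ : Divisor k K} (hle : D₁ ≤ D₂) :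
    ∃ n : ℕ, (n : ℤ) = D₂.deg - D₁.deg ∧ HasCodim (AD D₁) (AD D₂) n := by
  refine divisor_le_induction (R := fun D => ∃ n : ℕ, (n : ℤ) = D.deg - D₁.deg ∧
    HasCodim (AD D₁) (AD D) n) hle ⟨0, by simp, HasCodim.refl _⟩ ?_
  rintro D P - - ⟨n, hn, hc⟩
  exact ⟨n + P.deg, by simp [hn]; ring, hc.trans (h.hasCodim_AD_step D P)⟩

/-- The constant repartitions. -/
noncomputable abbrev Kc (k K : Type*) [Field k] [Field K] [Algebra k K] :
    Submodule k (Place k K → K) := LinearMap.range (diag k K)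

theorem diag_apply (x : K) (P : Place k K) : diag k K x P = x := rfl

theorem IsFG.diag_injective (h : IsFG k K) : Function.Injective (diag k K) := fun x y hxy => by
  obtain ⟨P⟩ := h.exists_place
  exact congrFun hxy P

theorem AD_inf_Kc (D : Divisor k K) : AD D ⊓ Kc k K = (L D).map (diag k K) := by
  ext a
  simp only [Submodule.mem_inf, LinearMap.mem_range, Submodule.mem_map]
  constructor
  · rintro ⟨ha, x, rfl⟩; exact ⟨x, ha, rfl⟩
  · rintro ⟨x, hx, rfl⟩; exact ⟨hx, x, rfl⟩

theorem IsFG.finrank_AD_inf_Kc (h : IsFG k K) (D : Divisor k K) :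
    Module.Finite k ↥(AD D ⊓ Kc k K) ∧ Module.finrank k ↥(AD D ⊓ Kc k K) = ell D := by
  rw [AD_inf_Kc]
  have e := Submodule.equivMapOfInjective (diag k K) h.diag_injective (L D)
  have := h.finite_L D
  exact ⟨Module.Finite.equiv e, e.finrank_eq.symm⟩

/-- `dim (A(D₂) + K) / (A(D₁) + K) = δ(D₂) - δ(D₁)`. -/
theorem IsFG.hasCodim_ADK (h : IsFG k K) {D₁ D₂ : Divisor k K} (hle : D₁ ≤ D₂) :
    ∃ m : ℕ, (m : ℤ) = delta D₂ - delta D₁ ∧ HasCodim (AD D₁ ⊔ Kc k K) (AD D₂ ⊔ Kc k K) m := by
  obtain ⟨n, hn, hc⟩ := h.hasCodim_AD hle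
  obtain ⟨m₁, m₂, h₁, h₂, hm⟩ := hc.modular (Kc k K)
  refine ⟨m₂, ?_, h₂⟩
  have := (h.finrank_AD_inf_Kc D₁).1
  have := h₁.finite_right.2
  rw [(h.finrank_AD_inf_Kc D₂).2, (h.finrank_AD_inf_Kc D₁).2] at this
  simp only [delta]; omega

theorem AD_le_adele (D : Divisor k K) : AD D ≤ adele k K := by
  intro a ha
  show ∀ᶠ P : Place k K in Filter.cofinite, val P (a P) ≤ 1
  rw [Filter.eventually_cofinite]
  refine D.support.finite_toSet.subset fun P hP => ?_
  simp only [Set.mem_ofPred_eq] at hP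
  by_contra h0
  rw [Finset.mem_coe, Finsupp.notMem_support_iff] at h0
  have := ha P
  rw [h0, exp_zero] at this
  exact hP this

theorem IsFG.Kc_le_adele (h : IsFG k K) : Kc k K ≤ adele k K := by
  rintro _ ⟨x, rfl⟩
  show ∀ᶠ P : Place k K in Filter.cofinite, val P (diag k K x P) ≤ 1
  rw [Filter.eventually_cofinite]
  refine (h.finite_support_ord x).subset fun P hP => ?_
  simp only [Set.mem_ofPred_eq, diag_apply, not_le] at hP
  have hx0 : x ≠ 0 := by rintro rfl; simp at hP
  rw [← not_le, val_le_one_iff P hx0, not_le] at hP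
  simp only [Function.mem_support]; omega

/-- Every repartition lies in some `A(E)` with `E ≥ D`. -/
theorem exists_AD_ge (D : Divisor k K) {a : Place k K → K} (ha : a ∈ adele k K) :
    ∃ E, D ≤ E ∧ a ∈ AD E := by
  classical
  have hfin : {P : Place k K | ¬ val P (a P) ≤ 1}.Finite := Filter.eventually_cofinite.1 ha
  let E : Divisor k K := Finsupp.onFinset hfin.toFinset
    (fun P => if val P (a P) ≤ 1 then 0 else -P.ord (a P)) (fun P hP => by
      rw [Set.Finite.mem_toFinset, Set.mem_ofPred_eq]; intro h; simp [h] at hP)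
  refine ⟨D ⊔ E, le_sup_left, fun P => ?_⟩
  refine le_trans ?_ (exp_le_exp.2 ((le_sup_right : E ≤ D ⊔ E) P))
  simp only [E, Finsupp.onFinset_apply]
  split
  · simpa
  · by_cases h0 : a P = 0
    · simp [h0]
    · exact (val_eq P h0).le

theorem adele_eq_of_delta_eq (h : IsFunctionField k K) {D : Divisor k K}
    (hD : delta D = genus k K) : AD D ⊔ Kc k K = adele k K := by
  have hfg : IsFG k K := h.1
  refine le_antisymm (sup_le (AD_le_adele D) hfg.Kc_le_adele) fun a ha => ?_
  obtain ⟨E, hE, haE⟩ := exists_AD_ge D ha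
  obtain ⟨m, hm, hc⟩ := hfg.hasCodim_ADK hE
  have := hfg.delta_le_genus E
  have hm0 : m = 0 := by omega
  subst hm0
  rw [hc.eq_of_zero]
  exact Submodule.mem_sup_left haE

theorem exists_ge_delta_eq (h : IsFunctionField k K) (D : Divisor k K) :
    ∃ E, D ≤ E ∧ delta E = genus k K := by
  classical
  have hfg : IsFG k K := h.1
  obtain ⟨D₀, hD₀⟩ := exists_delta_eq_genus h
  refine ⟨D ⊔ D₀, le_sup_left, le_antisymm (hfg.delta_le_genus _) ?_⟩
  rw [← hD₀]; exact hfg.delta_mono le_sup_right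

/-- `dim A / (A(D) + K) = g - δ(D)`. -/
theorem hasCodim_adele (h : IsFunctionField k K) (D : Divisor k K) :
    ∃ m : ℕ, (m : ℤ) = genus k K - delta D ∧ HasCodim (AD D ⊔ Kc k K) (adele k K) m := by
  have hfg : IsFG k K := h.1
  obtain ⟨E, hE, hEg⟩ := exists_ge_delta_eq h D
  obtain ⟨m, hm, hc⟩ := hfg.hasCodim_ADK hE
  rw [adele_eq_of_delta_eq h hEg] at hc
  exact ⟨m, by omega, hc⟩

theorem finrank_adele_quot (h : IsFunctionField k K) (D : Divisor k K) :
    Module.Finite k (↥(adele k K) ⧸ ADK D) ∧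
      (Module.finrank k (↥(adele k K) ⧸ ADK D) : ℤ) = genus k K - delta D := by
  obtain ⟨m, hm, hc⟩ := hasCodim_adele h D
  exact ⟨hc.finite, by rw [ADK, hc.finrank_eq, hm]⟩

theorem finrank_WD' (h : IsFunctionField k K) (D : Divisor k K) :
    Module.Finite k (WD D) ∧ (Module.finrank k (WD D) : ℤ) = genus k K - delta D := by
  obtain ⟨hf, hr⟩ := finrank_adele_quot h D
  have e : Module.Dual k (↥(adele k K) ⧸ ADK D) ≃ₗ[k] WD D :=
    (ADK D).dualQuotEquivDualAnnihilator
  refine ⟨Module.Finite.equiv e, ?_⟩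
  rw [← e.finrank_eq, Subspace.dual_finrank_eq, hr]

end GrothLib.FunFld
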