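import Groth.Agent.Lib.FunFld.Gaps
import Groth.Agent.Lib.FunFld.LinSeries
import Groth.Agent.Lib.FunFld.RR

/-!
# In positive genus `ℓ(P) ≤ deg P` for every place, over any field of constants
-/

set_option autoImplicit false
set_option linter.style.haveILetI false

noncomputable section

namespace GrothLib.FunFld

open _root_.FunFld

variable {k K : Type*} [Field k] [Field K] [Algebra k K]

theorem ell_single_le_deg (h : IsFunctionField k K) (hg : 0 < genus k K) (P : Place k K) :
    ell (Finsupp.single P 1 : Divisor k K) ≤ P.deg := by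
  classical
  by_contra hlt
  have hfg : IsFG k K := h.1
  have hd := hfg.deg_pos P
  haveI := hfg.finite_L (Finsupp.single P 1 : Divisor k K)
  haveI := hfg.finite_L (0 : Divisor k K)
  obtain ⟨x, hx, hx0⟩ : ∃ x ∈ L (Finsupp.single P 1 : Divisor k K), x ∉ L (0 : Divisor k K) := by
    by_contra hc
    push Not at hc
    have h1 : ell (Finsupp.single P 1 : Divisor k K) ≤ ell (0 : Divisor k K) := Submodule.finrank_mono hc
    rw [ell_zero h] at h1
    omega
  have hx1 : x ≠ 0 := fun e => hx0 (e ▸ zero_mem _)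
  have hmem : ∀ {z : K} {n : ℤ}, z ≠ 0 → 0 ≤ n → (z ∈ L (Finsupp.single P n : Divisor k K) ↔
      -n ≤ P.ord z ∧ ∀ Q : Place k K, Q ≠ P → 0 ≤ Q.ord z) := fun hz hn => mem_L_single_iff hz hn
  obtain ⟨hxP, hxQ⟩ := (hmem hx1 zero_le_one).1 hx
  have hxP' : P.ord x = -1 := by
    by_contra hne
    refine hx0 ((mem_L_iff_ord hx1).2 fun Q => ?_)
    rcases eq_or_ne Q P with rfl | hQ
    · simp only [Finsupp.zero_apply]; omega
    · simp only [Finsupp.zero_apply]; linarith [hxQ Q hQ]
  -- each step in the chain of multiples of `P` is full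
  have hstep : ∀ m : ℕ, ell (Finsupp.single P (m : ℤ) : Divisor k K) + ell (Finsupp.single P 1 : Divisor k K) ≤
      ell (Finsupp.single P ((m : ℤ) + 1) : Divisor k K) + 1 := by
    intro m
    haveI := hfg.finite_L (Finsupp.single P (m : ℤ) : Divisor k K)
    haveI := hfg.finite_L (Finsupp.single P ((m : ℤ) + 1) : Divisor k K)
    let μ : K →ₗ[k] K := LinearMap.mulLeft k (x ^ m)
    have hμ : Function.Injective μ := fun a b e => mul_left_cancel₀ (pow_ne_zero m hx1) e
    set T := (L (Finsupp.single P 1 : Divisor k K)).map μ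
    have hT : Module.finrank k T = ell (Finsupp.single P 1 : Divisor k K) :=
      (Submodule.equivMapOfInjective μ hμ _).finrank_eq.symm
    have hsup : L (Finsupp.single P (m : ℤ) : Divisor k K) ⊔ T ≤ L (Finsupp.single P ((m : ℤ) + 1)) := by
      refine sup_le (L_mono (Finsupp.single_le_single.2 (by omega))) ?_
      rintro _ ⟨z, hz, rfl⟩
      rcases eq_or_ne z 0 with rfl | hz0
      · rw [map_zero]; exact zero_mem _
      obtain ⟨h1, h2⟩ := (hmem hz0 zero_le_one).1 hz
      refine (hmem (mul_ne_zero (pow_ne_zero _ hx1) hz0) (by omega)).2 ⟨?_, fun Q hQ => ?_⟩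
      · rw [ord_mul P (pow_ne_zero _ hx1) hz0, ord_pow, hxP']; omega
      · rw [ord_mul Q (pow_ne_zero _ hx1) hz0, ord_pow]
        have := mul_nonneg (Int.natCast_nonneg m) (hxQ Q hQ)
        linarith [h2 Q hQ]
    have hinf : L (Finsupp.single P (m : ℤ) : Divisor k K) ⊓ T ≤ (L (0 : Divisor k K)).map μ := by
      rintro _ ⟨hy, z, hz, rfl⟩
      refine ⟨z, ?_, rfl⟩
      rcases eq_or_ne z 0 with rfl | hz0
      · exact zero_mem _
      obtain ⟨-, h2⟩ := (hmem hz0 zero_le_one).1 hz
      obtain ⟨h3, -⟩ := (hmem (mul_ne_zero (pow_ne_zero _ hx1) hz0) (Int.natCast_nonneg m)).1 hy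
      rw [ord_mul P (pow_ne_zero _ hx1) hz0, ord_pow, hxP'] at h3
      refine (mem_L_iff_ord hz0).2 fun Q => ?_
      rcases eq_or_ne Q P with rfl | hQ
      · simp only [Finsupp.zero_apply]; linarith
      · simp only [Finsupp.zero_apply]; linarith [h2 Q hQ]
    have h1 := Submodule.finrank_sup_add_finrank_inf_eq (L (Finsupp.single P (m : ℤ) : Divisor k K)) T
    have h2 := Submodule.finrank_mono hsup
    have h3 := Submodule.finrank_mono hinf
    rw [← (Submodule.equivMapOfInjective μ hμ _).finrank_eq] at h3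
    have h4 : Module.finrank k (L (0 : Divisor k K)) = 1 := ell_zero h
    rw [hT] at h1
    simp only [ell] at *
    omega
  have hall : ∀ m : ℕ, m * P.deg + 1 ≤ ell (Finsupp.single P (m : ℤ) : Divisor k K) := by
    intro m
    induction m with
    | zero => simp [ell_zero h]
    | succ m ih =>
      have := hstep m
      rw [add_one_mul]
      push_cast
      omega
  obtain ⟨C, hC⟩ := exists_isCanonical h
  have hm := hall (2 * genus k K)
  have hRR := riemann_roch' h hC (Finsupp.single P ((2 * genus k K : ℕ) : ℤ))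
  have hz : ell (C - Finsupp.single P ((2 * genus k K : ℕ) : ℤ)) = 0 := by
    by_contra hne
    obtain ⟨z, -, -, hz⟩ := hfg.exists_of_ell_pos (Nat.pos_of_ne_zero hne)
    have h3 := deg_mono hz
    rw [deg_zero, deg_add, hfg.deg_div, deg_sub, deg_single, (ell_canonical h hC).2] at h3
    push_cast at h3
    have h4 : (1 : ℤ) ≤ P.deg := by exact_mod_cast hd
    nlinarith
  rw [hz, deg_single] at hRR
  push_cast at hRR hm
  have : ((2 * genus k K * P.deg + 1 : ℕ) : ℤ) ≤ ell (Finsupp.single P ((2 * (genus k K : ℤ)))) := by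
    exact_mod_cast hm
  push_cast at this
  omega

end GrothLib.FunFld
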