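import Groth.Agent.Lib.FunFld.RH.Bar
import Mathlib.RingTheory.Valuation.Extension
import Mathlib.RingTheory.AlgebraTower

/-!
Finite fields of definition of places of the constant extension to an algebraic closure;
splitting fields of places.
-/

set_option autoImplicit false
set_option linter.style.haveILetI false

namespace GrothLib.FunFld.SplitField

open _root_.FunFld GrothLib.FunFld GrothLib.FunFld.RH WithZero
open IntermediateField (adjoin)
open scoped TensorProduct

universe u v w w'

/-- `kb ⊗ K` is a field for a geometric extension, `kb` algebraic over `k`. -/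
theorem isField_tensor {k kb : Type u} {K : Type v} [Field k] [Field kb] [Field K] [Algebra k K]
    [Algebra k kb] [Algebra.IsAlgebraic k kb] (hg : IsGeometric k K) : IsField (kb ⊗[k] K) := by
  classical
  haveI : Nontrivial (kb ⊗[k] K) :=
    (Algebra.TensorProduct.includeRight_injective (R := k) (A := kb) (B := K)
      (algebraMap k kb).injective).nontrivial
  refine ⟨exists_pair_ne _, mul_comm, fun {z} hz => ?_⟩
  obtain ⟨S, hS⟩ := TensorProduct.exists_finset z
  let s : Finset kb := S.image Prod.fst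
  let k' := adjoin k (s : Set kb)
  haveI : FiniteDimensional k k' := IntermediateField.finiteDimensional_adjoin fun y _ =>
    Algebra.IsIntegral.isIntegral y
  let ι : k' ⊗[k] K →ₐ[k] kb ⊗[k] K := Algebra.TensorProduct.map k'.val (AlgHom.id k K)
  obtain ⟨w, hw⟩ : ∃ w, ι w = z := by
    rw [hS]
    refine Submodule.sum_mem (LinearMap.range ι.toLinearMap) fun p hp => ?_
    exact ⟨(⟨p.1, IntermediateField.subset_adjoin _ _ (Finset.mem_image_of_mem _ hp)⟩ : k') ⊗ₜ p.2, by
      simp [ι]⟩
  have hw0 : w ≠ 0 := fun h => hz (by rw [← hw, h]; exact map_zero ι)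
  obtain ⟨v, hv⟩ := (hg k' inferInstance).mul_inv_cancel hw0
  exact ⟨ι v, hw ▸ ((map_mul ι w v).symm.trans ((congrArg ι hv).trans (ι.toRingHom.map_one)))⟩

section

variable {k : Type u} {K : Type v} {kb : Type w'} {Kb : Type w} [Field k] [Field K] [Field kb] [Field Kb]
  [Algebra k K] [Algebra k kb] [Algebra K Kb] [Algebra kb Kb] [Algebra k Kb]
  [IsScalarTower k kb Kb] [IsScalarTower k K Kb]

theorem finrank_adjoin_le (h : IsBar k K kb Kb) (x : K)
    [FiniteDimensional (adjoin k ({x} : Set K)) K] :
    Module.finrank (adjoin kb ({algebraMap K Kb x} : Set Kb)) Kb ≤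
      Module.finrank (adjoin k ({x} : Set K)) K := by
  set E := adjoin kb ({algebraMap K Kb x} : Set Kb)
  set F := adjoin k ({x} : Set K)
  let b := Module.finBasis F K
  have hF : ∀ a ∈ F, algebraMap K Kb a ∈ E := by
    intro a ha
    induction ha using IntermediateField.adjoin_induction with
    | mem w hw => rw [Set.mem_singleton_iff.mp hw]; exact IntermediateField.mem_adjoin_simple_self _ _
    | algebraMap c =>
      rw [← IsScalarTower.algebraMap_apply k K Kb, IsScalarTower.algebraMap_apply k kb Kb]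
      exact IntermediateField.algebraMap_mem _ _
    | add a b _ _ ha hb => rw [map_add]; exact add_mem ha hb
    | inv a _ ha => rw [map_inv₀]; exact inv_mem ha
    | mul a b _ _ ha hb => rw [map_mul]; exact mul_mem ha hb
  have hsurj : Function.Surjective (Fintype.linearCombination E fun i => algebraMap K Kb (b i)) := fun z => by
    rw [← LinearMap.mem_range, Fintype.range_linearCombination]
    suffices Submodule.span kb (Set.range (algebraMap K Kb)) ≤
        (Submodule.span E (Set.range fun i => algebraMap K Kb (b i))).restrictScalars kb from this (h.mem_span z)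
    rw [Submodule.span_le]
    rintro _ ⟨a, rfl⟩
    rw [← b.sum_repr a, map_sum]
    refine Submodule.sum_mem _ fun i _ => ?_
    rw [Algebra.smul_def, map_mul]
    exact Submodule.smul_mem _ (⟨_, hF _ (b.repr a i).2⟩ : E) (Submodule.subset_span ⟨i, rfl⟩)
  simpa using LinearMap.finrank_le_finrank_of_surjective hsurj

theorem le_finrank_adjoin (h : IsBar k K kb Kb) {x : K} (hx : Transcendental k x)
    [FiniteDimensional (adjoin k ({x} : Set K)) K]
    [FiniteDimensional (adjoin kb ({algebraMap K Kb x} : Set Kb)) Kb] :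
    Module.finrank (adjoin k ({x} : Set K)) K ≤
      Module.finrank (adjoin kb ({algebraMap K Kb x} : Set Kb)) Kb := by
  classical
  set F := adjoin k ({x} : Set K)
  let b := Module.finBasis F K
  let X : F := ⟨x, IntermediateField.mem_adjoin_simple_self k x⟩
  have hX : Transcendental k X := fun halg => hx (halg.algHom F.val)
  have h1 : LinearIndependent k fun p : ℕ × Fin (Module.finrank F K) => X ^ p.1 • b p.2 :=
    linearIndependent_smul (linearIndependent_pow_of_transcendental hX) b.linearIndependent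
  have h2 := h.linearIndependent h1
  have h3 : LinearIndependent (adjoin kb ({algebraMap K Kb x} : Set Kb))
      fun i => algebraMap K Kb (b i) := by
    refine linearIndependent_adjoin_of_polynomial _ fun p hp => ?_
    obtain ⟨N, hN⟩ : ∃ N, ∀ i, (p i).natDegree < N :=
      ⟨Finset.univ.sup (fun i => (p i).natDegree) + 1, fun i =>
        Nat.lt_succ_of_le (Finset.le_sup (f := fun j => (p j).natDegree) (Finset.mem_univ i))⟩
    rw [linearIndependent_iff'] at h2
    have h4 := h2 (Finset.range N ×ˢ Finset.univ) (fun q => (p q.2).coeff q.1) (by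
      rw [Finset.sum_product, Finset.sum_comm, ← hp]
      refine Finset.sum_congr rfl fun i _ => ?_
      rw [Polynomial.aeval_eq_sum_range' (hN i), Finset.sum_mul]
      refine Finset.sum_congr rfl fun m _ => ?_
      simp only [Algebra.smul_def, map_mul, map_pow, mul_assoc]
      rfl)
    funext i
    refine Polynomial.ext fun m => ?_
    rw [Pi.zero_apply, Polynomial.coeff_zero]
    by_cases hm : m < N
    · exact h4 (m, i) (Finset.mem_product.2 ⟨Finset.mem_range.2 hm, Finset.mem_univ _⟩)
    · exact Polynomial.coeff_eq_zero_of_natDegree_lt ((hN i).trans_le (not_lt.1 hm))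
  simpa using h3.fintype_card_le_finrank

/-- Finitely many elements of `Kb` are defined over a finite extension of `k`. -/
theorem exists_finite_constants (h : IsBar k K kb Kb) [Algebra.IsAlgebraic k kb] {ι : Type*}
    (s : Finset ι) (z : ι → Kb) :
    ∃ k' : IntermediateField k kb, FiniteDimensional k k' ∧
      ∀ i ∈ s, z i ∈ Algebra.adjoin K (Set.range fun c : k' => algebraMap kb Kb c) := by
  classical
  have mono : ∀ {a b : IntermediateField k kb}, a ≤ b →
      Algebra.adjoin K (Set.range fun c : a => algebraMap kb Kb c) ≤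
        Algebra.adjoin K (Set.range fun c : b => algebraMap kb Kb c) := fun hab =>
    Algebra.adjoin_mono (by rintro _ ⟨c, rfl⟩; exact ⟨⟨c.1, hab c.2⟩, rfl⟩)
  have one : ∀ y : Kb, ∃ k' : IntermediateField k kb, FiniteDimensional k k' ∧
      y ∈ Algebra.adjoin K (Set.range fun c : k' => algebraMap kb Kb c) := by
    intro y
    induction h.mem_span y using Submodule.span_induction with
    | mem y hy => obtain ⟨a, rfl⟩ := hy; exact ⟨⊥, inferInstance, Subalgebra.algebraMap_mem _ a⟩
    | zero => exact ⟨⊥, inferInstance, zero_mem _⟩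
    | add a b _ _ ha hb =>
      obtain ⟨k₁, hk₁, h₁⟩ := ha
      obtain ⟨k₂, hk₂, h₂⟩ := hb
      exact ⟨k₁ ⊔ k₂, inferInstance, add_mem (mono le_sup_left h₁) (mono le_sup_right h₂)⟩
    | smul c a _ ha =>
      obtain ⟨k₁, hk₁, h₁⟩ := ha
      haveI := IntermediateField.adjoin.finiteDimensional (K := k) (Algebra.IsIntegral.isIntegral c)
      refine ⟨k₁ ⊔ adjoin k ({c} : Set kb), inferInstance, ?_⟩
      rw [Algebra.smul_def]
      exact mul_mem (Algebra.subset_adjoin
        ⟨⟨c, le_sup_right (a := k₁) (IntermediateField.mem_adjoin_simple_self k c)⟩, rfl⟩)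
        (mono le_sup_left h₁)
  induction s using Finset.induction_on with
  | empty => exact ⟨⊥, inferInstance, by simp⟩
  | insert i s _ ih =>
    obtain ⟨k₁, hk₁, h₁⟩ := ih
    obtain ⟨k₂, hk₂, h₂⟩ := one (z i)
    refine ⟨k₁ ⊔ k₂, inferInstance, fun j hj => ?_⟩
    rcases Finset.mem_insert.1 hj with rfl | hj
    · exact mono le_sup_right h₂
    · exact mono le_sup_left (h₁ j hj)

end

/-- The poles of a transcendental element, counted with degrees. -/
theorem exists_poles {k K : Type*} [Field k] [Field K] [Algebra k K] (h : IsFG k K) {x : K}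
    (hx : Transcendental k x) :
    ∃ S : Finset (Place k K), (∀ Q, Q ∈ S ↔ Q.ord x < 0) ∧
      ∑ Q ∈ S, (-Q.ord x) * (Q.deg : ℤ) = Module.finrank (adjoin k ({x} : Set K)) K := by
  classical
  refine ⟨(poleDiv (k := k) x).support, fun Q => ?_, ?_⟩
  · rw [Finsupp.mem_support_iff, h.poleDiv_apply]
    omega
  · rw [← h.deg_poleDiv hx, deg_eq_degHom, Finsupp.sum]
    refine Finset.sum_congr rfl fun Q hQ => ?_
    rw [Finsupp.mem_support_iff, h.poleDiv_apply] at hQ
    rw [h.poleDiv_apply, max_eq_left]
    omega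

section

variable {k : Type u} {K : Type v} {kb : Type w'} {Kb : Type w} [Field k] [Field K] [Field kb] [Field Kb]
  [Algebra k K] [Algebra k kb] [Algebra K Kb] [Algebra kb Kb] [Algebra k Kb]
  [IsScalarTower k kb Kb] [IsScalarTower k K Kb] [Algebra.IsAlgebraic k kb] [IsAlgClosed kb]

/-- A place of `Kb` is determined on a finitely defined subfield. -/
theorem exists_field_of_definition (h : IsBar k K kb Kb) (hK : IsFunctionField k K) (Q : Place kb Kb) :
    ∃ k' : IntermediateField k kb, FiniteDimensional k k' ∧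
      (∃ z ∈ Algebra.adjoin K (Set.range fun c : k' => algebraMap kb Kb c), Q.1 z = exp (-1)) ∧
      ∀ Q' : Place kb Kb,
        (∃ e : ℕ, ∀ z ∈ Algebra.adjoin K (Set.range fun c : k' => algebraMap kb Kb c), Q'.1 z = Q.1 z ^ e) →
          Q' = Q := by
  classical
  have hb := h.isFunctionField hK
  obtain ⟨x, hxQ⟩ : ∃ x : K, 1 < val Q (algebraMap K Kb x) := by
    by_contra hcon
    push Not at hcon
    have hall : ∀ y : Kb, val Q y ≤ exp 0 := fun y => by
      have hle : Submodule.span kb (Set.range (algebraMap K Kb)) ≤ ball Q 0 :=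
        Submodule.span_le.2 (by
          rintro _ ⟨a, rfl⟩
          exact mem_ball.2 (by rw [exp_zero]; exact hcon a))
      exact mem_ball.1 (hle (h.mem_span y))
    obtain ⟨y, -, hy⟩ := exists_val_eq Q 1
    have := hall y
    rw [hy, exp_le_exp] at this
    omega
  set X := algebraMap K Kb x
  have hX0 : X ≠ 0 := fun h0 => by simp [h0] at hxQ
  have hQX : Q.ord X < 0 := by
    have := (val_le_one_iff Q hX0).not.1 (not_le.2 hxQ)
    omega
  obtain ⟨S, hS, -⟩ := exists_poles hb.1 (transcendental_of_ord_ne_zero (P := Q) hQX.ne)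
  obtain ⟨z, hz⟩ := exists_approx_eq S (fun _ => (0 : Kb)) fun R => if R = Q then -1 else 0
  obtain ⟨k', hfin, hk'⟩ := exists_finite_constants h {()} fun _ => z
  have hzA := hk' () (Finset.mem_singleton_self _)
  have hzQ : val Q z = exp (-1) := by
    have := hz Q ((hS Q).2 hQX)
    rwa [sub_zero, if_pos rfl] at this
  refine ⟨k', hfin, ⟨z, hzA, hzQ⟩, ?_⟩
  rintro Q' ⟨e, he⟩
  have he0 : e ≠ 0 := by
    rintro rfl
    have := he 0 (zero_mem _)
    simp at this
  have hXA := he X (Subalgebra.algebraMap_mem _ x)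
  have hQ'X : Q'.ord X < 0 := by
    have h1 : ¬ val Q' X ≤ 1 := by
      show ¬ Q'.1 X ≤ 1
      rw [hXA, pow_le_one_iff he0]
      exact not_le.2 hxQ
    have := (val_le_one_iff Q' hX0).not.1 h1
    omega
  by_contra hne
  have h1 := hz Q' ((hS Q').2 hQ'X)
  rw [sub_zero, if_neg hne] at h1
  have h2 := he z hzA
  rw [show Q'.1 z = exp 0 from h1, show Q.1 z = exp (-1) from hzQ, ← exp_nsmul, exp_inj] at h2
  simp at h2
  omega

/-- Splitting fields of places. -/
theorem exists_splitting.{x} (h : IsBar k K kb Kb) (hK : IsFunctionField k K) (P : Place k K) :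
    ∃ k₀ : IntermediateField k kb, FiniteDimensional k k₀ ∧
      ∀ k' : IntermediateField k kb, k₀ ≤ k' → FiniteDimensional k k' →
      ∀ (K' : Type x) [Field K'] [Algebra K K'] [Algebra k' K'] [Algebra k K']
        [IsScalarTower k k' K'] [IsScalarTower k K K'],
        Function.Bijective (Algebra.TensorProduct.productMap
          (IsScalarTower.toAlgHom k k' K') (IsScalarTower.toAlgHom k K K')) →
        ∀ Q : Place k' K', P.1.HasExtension Q.1 → Q.deg = 1 := by
  classical
  have hb := h.isFunctionField hK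
  obtain ⟨x, hxP, -⟩ := exists_single_pole hK.1 P
  have hxt : Transcendental k x := transcendental_of_ord_ne_zero (P := P) hxP.ne
  haveI := IsFG.finiteDimensional_adjoin hK.1 hxt
  haveI := h.finiteDimensional (x := x)
  have hXt : Transcendental kb (algebraMap K Kb x) := h.transcendental hxt
  obtain ⟨S, hS, hSsum⟩ := exists_poles hb.1 hXt
  choose z hz using fun R : Place kb Kb =>
    exists_approx_eq S (fun _ => (0 : Kb)) fun R' => if R' = R then -1 else 0
  obtain ⟨k₀, hfin₀, hk₀⟩ := exists_finite_constants h S z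
  refine ⟨k₀, hfin₀, ?_⟩
  intro k' hle hfin K' _ _ _ _ _ _ hbij Q hext
  have hk' : ∀ i ∈ S, z i ∈ Algebra.adjoin K (Set.range fun c : k' => algebraMap kb Kb c) := fun i hi =>
    Algebra.adjoin_mono (by rintro _ ⟨c, rfl⟩; exact ⟨⟨c.1, hle c.2⟩, rfl⟩) (hk₀ i hi)
  have hbar' : IsBar k K k' K' := hbij
  set x' := algebraMap K K' x
  have hx't : Transcendental k' x' := hbar'.transcendental hxt
  haveI := hbar'.finiteDimensional (x := x)
  have hfg' : IsFG k' K' := ⟨x', hx't, inferInstance⟩
  obtain ⟨S', hS', hS'sum⟩ := exists_poles hfg' hx't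
  let e : k' ⊗[k] K ≃ₐ[k] K' := AlgEquiv.ofBijective _ hbij
  let ψ : k' ⊗[k] K →ₐ[k] Kb := Algebra.TensorProduct.productMap
    ((IsScalarTower.toAlgHom k kb Kb).comp k'.val) (IsScalarTower.toAlgHom k K Kb)
  let j : K' →ₐ[k] Kb := ψ.comp e.symm
  have hjK : ∀ a : K, j (algebraMap K K' a) = algebraMap K Kb a := fun a => by
    show ψ (e.symm (algebraMap K K' a)) = _
    rw [show algebraMap K K' a = e (1 ⊗ₜ a) by simp [e], e.symm_apply_apply]
    simp [ψ]
  have hjk : ∀ c : k', j (algebraMap k' K' c) = algebraMap kb Kb c := fun c => by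
    show ψ (e.symm (algebraMap k' K' c)) = _
    rw [show algebraMap k' K' c = e (c ⊗ₜ 1) by simp [e], e.symm_apply_apply]
    simp [ψ]
  have hsub : ∀ y ∈ Algebra.adjoin K (Set.range fun c : k' => algebraMap kb Kb c), ∃ y', j y' = y := by
    intro y hy
    induction hy using Algebra.adjoin_induction with
    | mem y hy => obtain ⟨c, rfl⟩ := hy; exact ⟨_, hjk c⟩
    | algebraMap a => exact ⟨_, hjK a⟩
    | add a b _ _ ha hb =>
      obtain ⟨a', rfl⟩ := ha; obtain ⟨b', rfl⟩ := hb; exact ⟨a' + b', map_add j a' b'⟩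
    | mul a b _ _ ha hb =>
      obtain ⟨a', rfl⟩ := ha; obtain ⟨b', rfl⟩ := hb; exact ⟨a' * b', map_mul j a' b'⟩
  have hzval : ∀ R ∈ S, ∀ R' ∈ S, val R' (z R) = exp (if R' = R then -1 else 0) := fun R _ R' hR' => by
    simpa using hz R R' hR'
  have hkey : ∀ R ∈ S, ∃ R₁ : Place k' K', ∀ a : K', val R (j a) = val R₁ a := by
    intro R hR
    obtain ⟨w, hw⟩ := hsub _ (hk' R hR)
    have hwv : val R (j.toRingHom w) = exp (-1) := by
      show val R (j w) = _
      rw [hw, hzval R hR R hR, if_pos rfl]
    have hw0 : w ≠ 0 := fun h0 => by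
      rw [h0, map_zero, map_zero] at hwv
      exact exp_ne_zero hwv.symm
    obtain ⟨R₁, n, hn, hR₁⟩ := exists_place_of_hom (c := k') R j.toRingHom
      (fun c => by show val R (j (algebraMap k' K' c)) ≤ 1; rw [hjk c]; exact R.2.1 _) hw0
      (by rw [hwv, ← exp_zero]; simp)
    have h1 := hR₁ w
    rw [hwv, val_eq R₁ hw0, ← exp_nsmul, exp_inj, nsmul_eq_mul] at h1
    have h2 : (n : ℤ) ∣ 1 := ⟨R₁.ord w, by linarith⟩
    have h3 : n = 1 := by
      have := Int.eq_one_of_dvd_one (Int.natCast_nonneg n) h2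
      exact_mod_cast this
    exact ⟨R₁, fun a => by rw [← pow_one (val R₁ a), ← h3]; exact hR₁ a⟩
  choose f hf using hkey
  have hford : ∀ (R) (hR : R ∈ S), (f R hR).ord x' = R.ord (algebraMap K Kb x) := fun R hR => by
    show -log ((f R hR).1 x') = -log (R.1 (algebraMap K Kb x))
    rw [← hjK]
    exact congrArg (fun t => -log t) (hf R hR x').symm
  let g : S → Place k' K' := fun R => f R.1 R.2
  have hginj : Function.Injective g := by
    rintro ⟨R, hR⟩ ⟨R', hR'⟩ heq
    obtain ⟨w, hw⟩ := hsub _ (hk' R hR)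
    have h1 := hf R hR w
    have h2 := hf R' hR' w
    rw [show f R' hR' = f R hR from heq.symm, ← h1, hw, hzval R hR R hR, hzval R hR R' hR', exp_inj,
      if_pos rfl] at h2
    refine Subtype.ext ?_
    by_contra hne
    rw [if_neg fun hh => hne hh.symm] at h2
    omega
  let T : Finset (Place k' K') := Finset.univ.image g
  have hTS : T ⊆ S' := fun R hR => by
    obtain ⟨⟨R₀, hR₀⟩, -, rfl⟩ := Finset.mem_image.1 hR
    rw [hS', hford R₀ hR₀]
    exact (hS R₀).1 hR₀
  have hle : (∑ R ∈ S', (-R.ord x') * (R.deg : ℤ)) ≤ ∑ R ∈ T, -R.ord x' := by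
    rw [hS'sum, Finset.sum_image hginj.injOn]
    calc (Module.finrank (adjoin k' ({x'} : Set K')) K' : ℤ)
        ≤ Module.finrank (adjoin k ({x} : Set K)) K := by exact_mod_cast finrank_adjoin_le hbar' x
      _ ≤ Module.finrank (adjoin kb ({algebraMap K Kb x} : Set Kb)) Kb := by
          exact_mod_cast le_finrank_adjoin h hxt
      _ = ∑ R : S, -R.1.ord (algebraMap K Kb x) := by
          rw [← hSsum, Finset.sum_coe_sort S (fun R => -R.ord (algebraMap K Kb x))]
          exact Finset.sum_congr rfl fun R _ => by rw [IsFG.deg_eq_one hb.1 R]; simp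
      _ = ∑ R : S, -(g R).ord x' := Finset.sum_congr rfl fun R _ => by rw [← hford R.1 R.2]
  have hpos : ∀ R ∈ S', 0 < -R.ord x' ∧ (1 : ℤ) ≤ R.deg := fun R hR =>
    ⟨by have := (hS' R).1 hR; omega, by exact_mod_cast hfg'.deg_pos R⟩
  have hQS' : Q ∈ S' := by
    rw [hS']
    haveI := hext
    have h1 : ¬ val Q x' ≤ 1 := by
      show ¬ Q.1 (algebraMap K K' x) ≤ 1
      rw [Valuation.HasExtension.val_map_le_one_iff P.1 Q.1]
      intro hle'
      have hx0 : x ≠ 0 := fun h0 => by simp [h0] at hxP
      exact absurd ((val_le_one_iff P hx0).1 hle') (not_le.2 hxP)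
    have := (val_le_one_iff Q (fun h0 => h1 (by rw [h0]; simp))).not.1 h1
    omega
  have hdeg : (Q.deg : ℤ) ≤ 1 := by
    by_contra hgt
    push Not at hgt
    have h1 : ∑ R ∈ T, -R.ord x' ≤ ∑ R ∈ S', -R.ord x' :=
      Finset.sum_le_sum_of_subset_of_nonneg hTS fun R hR _ => (hpos R hR).1.le
    have h2 : ∑ R ∈ S', -R.ord x' < ∑ R ∈ S', (-R.ord x') * (R.deg : ℤ) :=
      Finset.sum_lt_sum (fun R hR => le_mul_of_one_le_right (hpos R hR).1.le (hpos R hR).2)
        ⟨Q, hQS', lt_mul_of_one_lt_right (hpos Q hQS').1 hgt⟩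
    omega
  have := hfg'.deg_pos Q
  omega

end

end GrothLib.FunFld.SplitField
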