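import Groth.Prelude.Def_AdFn
import Groth.Agent.Lib.FunFld.RR
import Groth.Agent.Lib.FunFld.Cotrace

/-!
Strong approximation and the first cohomology of `O` through one place.
-/

set_option autoImplicit false
set_option linter.style.haveILetI false
set_option linter.unusedSectionVars false

namespace GrothLib.FunFld

open _root_.FunFld WithZero

universe u

variable {k K : Type u} [Field k] [Field K] [Algebra k K]

/-- Strong approximation for repartitions, away from one place. -/
theorem strong_approx (hK : IsFunctionField k K) (P : Place k K) {b : Place k K → K}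
    (hb : b ∈ adele k K) : ∃ f : K, ∀ v, v ≠ P → val v (b v - f) ≤ 1 := by
  classical
  obtain ⟨N, hN⟩ := exists_delta_eq_genus_of_deg hK
  set D : Divisor k K := Finsupp.single P (N.toNat : ℤ) with hD
  have hdeg : N ≤ D.deg := by
    rw [hD, deg_single]
    have h1 : (1 : ℤ) ≤ P.deg := by exact_mod_cast IsFG.deg_pos hK.1 P
    have := Int.self_le_toNat N
    have h3 : (N.toNat : ℤ) ≤ N.toNat * P.deg := le_mul_of_one_le_right (Int.natCast_nonneg _) h1
    omega
  rw [← adele_eq_of_delta_eq hK (hN D hdeg)] at hb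
  obtain ⟨u, hu, w, ⟨f, rfl⟩, huw⟩ := Submodule.mem_sup.1 hb
  refine ⟨f, fun v hv => ?_⟩
  rw [← huw, Pi.add_apply, diag_apply, add_sub_cancel_right]
  refine (hu v).trans ?_
  rw [hD, Finsupp.single_eq_of_ne hv, exp_zero]

/-- Every element of the completion is an element of `K` plus an integer. -/
theorem exists_sub_mem_Ov (v : Place k K) (a : AdFn.Kv v) : ∃ z : K, a - AdFn.toKv v z ∈ AdFn.Ov v := by
  have hopen : IsOpen ((fun y : AdFn.Kv v => a - y) ⁻¹' (AdFn.Ov v : Set (AdFn.Kv v))) :=
    (AdFn.isOpen_Ov v).preimage (continuous_const.sub continuous_id)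
  have hne : ((fun y : AdFn.Kv v => a - y) ⁻¹' (AdFn.Ov v : Set (AdFn.Kv v))).Nonempty :=
    ⟨a, by show a - a ∈ AdFn.Ov v; rw [sub_self]; exact zero_mem _⟩
  obtain ⟨z, hz⟩ := (UniformSpace.Completion.denseRange_coe (α := WithVal v.1)).exists_mem_open hopen hne
  refine ⟨z.ofVal, ?_⟩
  rw [AdFn.toKv_apply]
  exact hz

/-- Strong approximation for the adele ring. -/
theorem adele_strong_approx (hK : IsFunctionField k K) [AdFn.HasFinitePoles k K]
    {S : Set (Place k K)} (hS : S.Nonempty) (a : AdFn.AdeleRing k K) :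
    ∃ f : K, ∀ v : Place k K, v ∉ S →
      AdFn.AdeleRing.proj v (a - AdFn.AdeleRing.diag f) ∈ AdFn.Ov v := by
  classical
  obtain ⟨P, hP⟩ := hS
  choose z hz using fun v => exists_sub_mem_Ov v (AdFn.AdeleRing.proj v a)
  let b : Place k K → K := fun v => if AdFn.AdeleRing.proj v a ∈ AdFn.Ov v then 0 else z v
  have hb : b ∈ adele k K := by
    show ∀ᶠ v : Place k K in Filter.cofinite, val v (b v) ≤ 1
    filter_upwards [a.2] with v hv
    show val v (if AdFn.AdeleRing.proj v a ∈ AdFn.Ov v then 0 else z v) ≤ 1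
    rw [if_pos (show AdFn.AdeleRing.proj v a ∈ AdFn.Ov v from hv), map_zero]
    exact zero_le
  have hab : ∀ v, AdFn.AdeleRing.proj v a - AdFn.toKv v (b v) ∈ AdFn.Ov v := fun v => by
    show AdFn.AdeleRing.proj v a - AdFn.toKv v (if AdFn.AdeleRing.proj v a ∈ AdFn.Ov v then 0 else z v) ∈ _
    split_ifs with h
    · rw [map_zero, sub_zero]; exact h
    · exact hz v
  obtain ⟨f, hf⟩ := strong_approx hK P hb
  refine ⟨f, fun v hv => ?_⟩
  rw [map_sub, AdFn.AdeleRing.proj_diag,
    show AdFn.AdeleRing.proj v a - AdFn.toKv v f =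
      (AdFn.AdeleRing.proj v a - AdFn.toKv v (b v)) + AdFn.toKv v (b v - f) by rw [map_sub]; ring]
  exact add_mem (hab v) ((AdFn.toKv_mem_Ov v _).2 (hf v fun h => hv (h ▸ hP)))

theorem adele_supported_iff (S : Set (Place k K)) [AdFn.HasFinitePoles k K] (b : AdFn.AdeleRing k K)
    (hb : ∀ v : Place k K, v ∉ S → AdFn.AdeleRing.proj v b = 0) :
    (∃ f : K, ∀ v : Place k K, AdFn.AdeleRing.proj v (b - AdFn.AdeleRing.diag f) ∈ AdFn.Ov v) ↔
      ∃ f ∈ AdFn.SInt S, ∀ v ∈ S, AdFn.AdeleRing.proj v b - AdFn.toKv v f ∈ AdFn.Ov v := by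
  constructor
  · rintro ⟨f, hf⟩
    refine ⟨f, fun v hv => ?_, fun v _ => ?_⟩
    · have h := hf v
      rw [map_sub, AdFn.AdeleRing.proj_diag, hb v hv, zero_sub, neg_mem_iff] at h
      exact (AdFn.toKv_mem_Ov v f).1 h
    · have h := hf v
      rwa [map_sub, AdFn.AdeleRing.proj_diag] at h
  · rintro ⟨f, hf, hf'⟩
    refine ⟨f, fun v => ?_⟩
    rw [map_sub, AdFn.AdeleRing.proj_diag]
    by_cases hv : v ∈ S
    · exact hf' v hv
    · rw [hb v hv, zero_sub, neg_mem_iff]
      exact (AdFn.toKv_mem_Ov v f).2 (hf v hv)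

/-- The repartition classes are represented at one place. -/
theorem single_quot (hK : IsFunctionField k K) (P : Place k K) :
    FiniteDimensional k (K ⧸ (Subalgebra.toSubmodule (AdFn.SInt ({P} : Set (Place k K))) ⊔
        Subalgebra.toSubmodule (AdFn.SInt (({P} : Set (Place k K))ᶜ)))) ∧
    Module.finrank k (K ⧸ (Subalgebra.toSubmodule (AdFn.SInt ({P} : Set (Place k K))) ⊔
        Subalgebra.toSubmodule (AdFn.SInt (({P} : Set (Place k K))ᶜ)))) = genus k K := by
  classical
  obtain ⟨hfin, hrank⟩ := finrank_adele_quot hK (0 : Divisor k K)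
  rw [delta_zero hK, sub_zero] at hrank
  have hrank' : Module.finrank k (↥(adele k K) ⧸ ADK (0 : Divisor k K)) = genus k K := by
    exact_mod_cast hrank
  let Φ : K →ₗ[k] (↥(adele k K) ⧸ ADK (0 : Divisor k K)) := (ADK (0 : Divisor k K)).mkQ ∘ₗ sgl P
  have hsurj : Function.Surjective Φ := by
    intro q
    obtain ⟨a, rfl⟩ := Submodule.Quotient.mk_surjective _ q
    obtain ⟨f, hf⟩ := strong_approx hK P a.2
    refine ⟨(a : Place k K → K) P - f, ?_⟩
    show Submodule.Quotient.mk _ = _
    rw [Submodule.Quotient.eq]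
    show ((sgl P ((a : Place k K → K) P - f) - a : adele k K) : Place k K → K) ∈
      AD (0 : Divisor k K) ⊔ Kc k K
    rw [AddSubgroupClass.coe_sub, show ((sgl P ((a : Place k K → K) P - f) : adele k K) : Place k K → K) - a =
      (((sgl P ((a : Place k K → K) P - f) : adele k K) : Place k K → K) - a + diag k K f) + diag k K (-f) by
        rw [map_neg]; abel]
    refine add_mem (Submodule.mem_sup_left fun v => ?_) (Submodule.mem_sup_right ⟨_, rfl⟩)
    rw [Finsupp.coe_zero, Pi.zero_apply, exp_zero, Pi.add_apply, Pi.sub_apply, diag_apply]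
    by_cases hv : v = P
    · subst hv
      rw [sgl_apply_self, sub_sub_cancel_left, neg_add_cancel, map_zero]
      exact zero_le
    · rw [sgl_apply_of_ne hv, zero_sub, show -(a : Place k K → K) v + f = -((a : Place k K → K) v - f) by ring,
        Valuation.map_neg]
      exact hf v hv
  have hker : LinearMap.ker Φ = Subalgebra.toSubmodule (AdFn.SInt ({P} : Set (Place k K))) ⊔
      Subalgebra.toSubmodule (AdFn.SInt (({P} : Set (Place k K))ᶜ)) := by
    ext z
    show Submodule.Quotient.mk _ = (0 : ↥(adele k K) ⧸ ADK (0 : Divisor k K)) ↔ _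
    rw [Submodule.Quotient.mk_eq_zero]
    show ((sgl P z : adele k K) : Place k K → K) ∈ AD (0 : Divisor k K) ⊔ Kc k K ↔ _
    rw [Submodule.mem_sup, Submodule.mem_sup]
    constructor
    · rintro ⟨u, hu, _, ⟨f, rfl⟩, huf⟩
      refine ⟨f, fun v hv => ?_, z - f, fun v hv => ?_, add_sub_cancel _ _⟩
      · have h := congrFun huf v
        rw [Pi.add_apply, diag_apply, sgl_apply_of_ne (by simpa using hv)] at h
        show val v f ≤ 1
        rw [eq_neg_of_add_eq_zero_right h, Valuation.map_neg]
        simpa using hu v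
      · simp only [Set.mem_compl_iff, Set.mem_singleton_iff, not_not] at hv
        subst hv
        have h := congrFun huf v
        rw [Pi.add_apply, diag_apply, sgl_apply_self] at h
        show val v (z - f) ≤ 1
        rw [← h, add_sub_cancel_right]
        simpa using hu v
    · rintro ⟨f, hf, g, hg, rfl⟩
      refine ⟨((sgl P (f + g) : adele k K) : Place k K → K) - diag k K f, fun v => ?_, diag k K f,
        ⟨f, rfl⟩, sub_add_cancel _ _⟩
      rw [Finsupp.coe_zero, Pi.zero_apply, exp_zero, Pi.sub_apply, diag_apply]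
      by_cases hv : v = P
      · subst hv
        rw [sgl_apply_self, add_sub_cancel_left]
        exact hg v (by simp)
      · rw [sgl_apply_of_ne hv, zero_sub, Valuation.map_neg]
        exact hf v (by simpa using hv)
  have e := (Submodule.quotEquivOfEq _ _ hker.symm).trans (Φ.quotKerEquivOfSurjective hsurj)
  exact ⟨Module.Finite.equiv e.symm, e.finrank_eq.trans hrank'⟩

/-- The same quotient through the completion. -/
theorem completion_quot (hK : IsFunctionField k K) (P : Place k K) :
    FiniteDimensional k (AdFn.Kv P ⧸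
        (Subalgebra.toSubmodule ((AdFn.SInt ({P} : Set (Place k K))).map
            (IsScalarTower.toAlgHom k K (AdFn.Kv P))) ⊔
          Submodule.span k (AdFn.Ov P : Set (AdFn.Kv P)))) ∧
    Module.finrank k (AdFn.Kv P ⧸
        (Subalgebra.toSubmodule ((AdFn.SInt ({P} : Set (Place k K))).map
            (IsScalarTower.toAlgHom k K (AdFn.Kv P))) ⊔
          Submodule.span k (AdFn.Ov P : Set (AdFn.Kv P)))) = genus k K := by
  classical
  obtain ⟨hfin, hrank⟩ := single_quot hK P
  set M := Subalgebra.toSubmodule ((AdFn.SInt ({P} : Set (Place k K))).map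
      (IsScalarTower.toAlgHom k K (AdFn.Kv P))) ⊔ Submodule.span k (AdFn.Ov P : Set (AdFn.Kv P)) with hM
  have hspan : ∀ o, o ∈ Submodule.span k (AdFn.Ov P : Set (AdFn.Kv P)) → o ∈ AdFn.Ov P := by
    intro o ho
    induction ho using Submodule.span_induction with
    | mem x hx => exact hx
    | zero => exact zero_mem _
    | add x y _ _ hx hy => exact add_mem hx hy
    | smul c x _ hx =>
      rw [Algebra.smul_def, IsScalarTower.algebraMap_apply k K (AdFn.Kv P)]
      exact mul_mem ((AdFn.toKv_mem_Ov P _).2 (P.2.1 c)) hx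
  let ι : K →ₗ[k] AdFn.Kv P := (IsScalarTower.toAlgHom k K (AdFn.Kv P)).toLinearMap
  have hsurj : Function.Surjective (M.mkQ ∘ₗ ι) := by
    intro q
    obtain ⟨a, rfl⟩ := Submodule.Quotient.mk_surjective _ q
    obtain ⟨z, hz⟩ := exists_sub_mem_Ov P a
    refine ⟨z, ?_⟩
    show Submodule.Quotient.mk _ = _
    rw [Submodule.Quotient.eq]
    refine Submodule.mem_sup_right (Submodule.subset_span ?_)
    show AdFn.toKv P z - a ∈ AdFn.Ov P
    rw [← neg_sub]
    exact neg_mem hz
  have hker : LinearMap.ker (M.mkQ ∘ₗ ι) = Subalgebra.toSubmodule (AdFn.SInt ({P} : Set (Place k K))) ⊔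
      Subalgebra.toSubmodule (AdFn.SInt (({P} : Set (Place k K))ᶜ)) := by
    rw [LinearMap.ker_comp, Submodule.ker_mkQ]
    ext z
    rw [Submodule.mem_comap, hM, Submodule.mem_sup, Submodule.mem_sup]
    constructor
    · rintro ⟨_, ⟨f, hf, rfl⟩, o, ho, hfo⟩
      refine ⟨f, hf, z - f, fun v hv => ?_, add_sub_cancel _ _⟩
      simp only [Set.mem_compl_iff, Set.mem_singleton_iff, not_not] at hv
      subst hv
      refine (AdFn.toKv_mem_Ov v _).1 ?_
      have h : AdFn.toKv v (z - f) = o := by
        rw [map_sub, sub_eq_iff_eq_add']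
        exact hfo.symm
      rw [h]
      exact hspan o ho
    · rintro ⟨f, hf, g, hg, rfl⟩
      refine ⟨ι f, ⟨f, hf, rfl⟩, ι g, Submodule.subset_span ?_, (map_add ι f g).symm⟩
      exact (AdFn.toKv_mem_Ov P g).2 (hg P (by simp))
  have e := (Submodule.quotEquivOfEq _ _ hker.symm).trans ((M.mkQ ∘ₗ ι).quotKerEquivOfSurjective hsurj)
  haveI := hfin
  exact ⟨Module.Finite.equiv e, e.finrank_eq.symm.trans hrank⟩

end GrothLib.FunFld
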