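import Groth.Agent.Lib.FunFld.NormValue
import Groth.Agent.Lib.FunFld.RatLine
import Groth.Agent.Lib.FunFld.Riemann

/-!
Weil reciprocity for the values of two functions with disjoint divisors.
-/

set_option autoImplicit false
set_option linter.style.haveILetI false
set_option linter.unusedSectionVars false

universe u

namespace GrothLib.FunFld.WeilRecip

open _root_.FunFld WithZero

variable {k K : Type u} [Field k] [Field K] [Algebra k K]

/-- `z` takes the value `a` at `P`. -/
def IsVal (P : Place k K) (z : K) (a : k) : Prop := val P (z - algebraMap k K a) < 1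

theorem IsVal.const (P : Place k K) (a : k) : IsVal P (algebraMap k K a) a := by simp [IsVal]

theorem IsVal.one (P : Place k K) : IsVal P (1 : K) 1 := by simp [IsVal]

theorem IsVal.val_le {P : Place k K} {z : K} {a : k} (h : IsVal P z a) : val P z ≤ 1 := by
  rw [← sub_add_cancel z (algebraMap k K a)]
  exact ((val P).map_add _ _).trans (max_le h.le (P.2.1 _))

theorem IsVal.val_eq_one {P : Place k K} {z : K} {a : k} (h : IsVal P z a) (ha : a ≠ 0) : val P z = 1 := by
  rw [(val P).map_eq_of_sub_lt (x := algebraMap k K a) (by rw [val_const P ha]; exact h), val_const P ha]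

theorem IsVal.mul {P : Place k K} {z w : K} {a b : k} (h : IsVal P z a) (h' : IsVal P w b) :
    IsVal P (z * w) (a * b) := by
  rw [IsVal, map_mul, show z * w - algebraMap k K a * algebraMap k K b =
    (z - algebraMap k K a) * w + algebraMap k K a * (w - algebraMap k K b) by ring]
  refine ((val P).map_add _ _).trans_lt (max_lt ?_ ?_) <;> rw [map_mul]
  · exact (mul_le_of_le_one_right' h'.val_le).trans_lt h
  · exact (mul_le_of_le_one_left' (P.2.1 a)).trans_lt h'

theorem IsVal.inv {P : Place k K} {z : K} {a : k} (h : IsVal P z a) (ha : a ≠ 0) : IsVal P z⁻¹ a⁻¹ := by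
  have h1 := h.val_eq_one ha
  have hz : z ≠ 0 := fun e => by rw [e, map_zero] at h1; exact zero_ne_one h1
  have hA : algebraMap k K a ≠ 0 := (map_ne_zero _).2 ha
  rw [IsVal, map_inv₀, inv_sub_inv hz hA, map_div₀, map_mul, h1, val_const P ha, one_mul, div_one,
    (val P).map_sub_swap]
  exact h

theorem IsVal.zpow {P : Place k K} {z : K} {a : k} (h : IsVal P z a) (ha : a ≠ 0) (n : ℤ) :
    IsVal P (z ^ n) (a ^ n) := by
  have hp : ∀ m : ℕ, IsVal P (z ^ m) (a ^ m) := fun m => by
    induction m with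
    | zero => simpa using IsVal.one P
    | succ m ih => rw [pow_succ, pow_succ]; exact ih.mul h
  rcases n with m | m
  · simpa using hp m
  · rw [zpow_negSucc, zpow_negSucc]; exact (hp _).inv (pow_ne_zero _ ha)

theorem IsVal.prod {P : Place k K} {ι : Type*} (s : Finset ι) {z : ι → K} {a : ι → k}
    (h : ∀ i ∈ s, IsVal P (z i) (a i)) : IsVal P (∏ i ∈ s, z i) (∏ i ∈ s, a i) := by
  classical
  induction s using Finset.induction with
  | empty => simpa using IsVal.one P
  | insert i s hi ih =>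
    rw [Finset.prod_insert hi, Finset.prod_insert hi]
    exact (h i (Finset.mem_insert_self _ _)).mul (ih fun j hj => h j (Finset.mem_insert_of_mem hj))

theorem IsVal.unique {P : Place k K} {z : K} {a b : k} (h : IsVal P z a) (h' : IsVal P z b) : a = b :=
  residue_unique P h h'

theorem zpow_finset_sum {G ι : Type*} [CommGroupWithZero G] {a : G} (ha : a ≠ 0) (s : Finset ι) (e : ι → ℤ) :
    ∏ i ∈ s, a ^ e i = a ^ ∑ i ∈ s, e i := by
  classical
  induction s using Finset.induction with
  | empty => simp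
  | insert i s hi ih => rw [Finset.prod_insert hi, Finset.sum_insert hi, ih, zpow_add₀ ha]

theorem sum_ord_eq_zero [IsAlgClosed k] (h : IsFG k K) (x : K) (T : Finset (Place k K))
    (hT : ∀ P, P.ord x ≠ 0 → P ∈ T) : ∑ P ∈ T, P.ord x = 0 := by
  classical
  have h1 := h.deg_div x
  rw [Divisor.deg, Finsupp.sum_of_support_subset _ (s := T)
    (fun P hP => hT P (by rw [← h.div_apply]; exact Finsupp.mem_support_iff.1 hP)) _ (fun P _ => zero_mul _)] at h1
  rw [← h1]
  exact Finset.sum_congr rfl fun P _ => by rw [h.div_apply, h.deg_eq_one P]; simp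

section rational

variable [IsAlgClosed k]

/-- `X - a`. -/
noncomputable abbrev zt (a : k) : RatFunc k := RatFunc.X - algebraMap k (RatFunc k) a

theorem zt_ne_zero (a : k) : zt a ≠ 0 := fun h => by
  refine RatFunc.transcendental_X (K := k) ?_
  rw [sub_eq_zero.1 h]
  exact isAlgebraic_algebraMap a

theorem ord_zt_inf {P : Place k (RatFunc k)} (hP : P.ord (RatFunc.X : RatFunc k) < 0) (a : k) :
    P.ord (zt a) = -1 := by
  have hX : val P (RatFunc.X : RatFunc k) = exp 1 := by
    rw [val_eq P RatFunc.X_ne_zero, (inf_props hP).2.1, neg_neg]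
  refine ord_eq_of_val_eq P (n := 1) ?_
  rw [zt, (val P).map_sub_eq_of_lt_left, hX]
  rw [hX]
  exact (P.2.1 a).trans_lt (by rw [← exp_zero, exp_lt_exp]; omega)

theorem ord_zt_fin {P : Place k (RatFunc k)} (hP : 0 ≤ P.ord (RatFunc.X : RatFunc k)) (a : k) :
    0 ≤ P.ord (zt a) :=
  (val_le_one_iff P (zt_ne_zero a)).1 (((val P).map_sub _ _).trans (max_le (val_X_le_one hP) (P.2.1 a)))

theorem exists_zero_place (a : k) : ∃ P : Place k (RatFunc k), P.ord (zt a) = 1 ∧
    ∀ Q : Place k (RatFunc k), 0 < Q.ord (zt a) → Q = P := by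
  classical
  obtain ⟨Pi, hPi⟩ := exists_inf (k := k)
  set T := (isFG_ratFunc.finite_support_ord (zt a)).toFinset with hTdef
  have hT : ∀ P : Place k (RatFunc k), P.ord (zt a) ≠ 0 → P ∈ T := fun P hP => by simpa [hTdef] using hP
  have hsum := sum_ord_eq_zero isFG_ratFunc (zt a) T hT
  have hiT : Pi ∈ T := hT _ (by rw [ord_zt_inf hPi]; omega)
  rw [← Finset.add_sum_erase T _ hiT, ord_zt_inf hPi] at hsum
  have hnn : ∀ P ∈ T.erase Pi, 0 ≤ P.ord (zt a) := fun P hP =>
    ord_zt_fin ((inf_props hPi).2.2.1 P (Finset.ne_of_mem_erase hP)) a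
  obtain ⟨P, hP, hP0⟩ := Finset.exists_ne_zero_of_sum_ne_zero (s := T.erase Pi) (f := fun P => P.ord (zt a)) (by omega)
  have hle := Finset.single_le_sum hnn hP
  refine ⟨P, by have := hnn P hP; omega, fun Q hQ => ?_⟩
  by_contra hne
  have hQi : Q ≠ Pi := fun e => by rw [e, ord_zt_inf hPi] at hQ; omega
  have hQT : Q ∈ T.erase Pi := Finset.mem_erase.2 ⟨hQi, hT Q (by omega)⟩
  have h2 := Finset.sum_le_sum_of_subset_of_nonneg (f := fun P => P.ord (zt a))
    (show ({P, Q} : Finset _) ⊆ T.erase Pi from Finset.insert_subset hP (Finset.singleton_subset_iff.2 hQT))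
    fun R hR _ => hnn R hR
  rw [Finset.sum_pair (Ne.symm hne)] at h2
  have := hnn P hP
  omega

theorem exists_center {P : Place k (RatFunc k)} (hP : 0 ≤ P.ord (RatFunc.X : RatFunc k)) :
    ∃ b : k, 0 < P.ord (zt b) := by
  obtain ⟨b, hb⟩ := exists_residue isFG_ratFunc P (val_X_le_one hP)
  exact ⟨b, (val_lt_one_iff P (zt_ne_zero b)).1 hb⟩

theorem rational_ratio (Z : k → Place k (RatFunc k)) (hZ : ∀ a, 0 < (Z a).ord (zt a))
    {Pi : Place k (RatFunc k)} (hPi : Pi.ord (RatFunc.X : RatFunc k) < 0) {h : RatFunc k} (hh : h ≠ 0)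
    (h0 : (Z 0).ord h = 0) (hi : Pi.ord h = 0) (S : Finset k) (hS : ∀ a, (Z a).ord h ≠ 0 → a ∈ S)
    (hS0 : (0 : k) ∉ S) {u0 ui : k} (hu0 : IsVal (Z 0) h u0) (hui : IsVal Pi h ui) :
    u0 = ui * ∏ a ∈ S, a ^ (Z a).ord h := by
  classical
  have huniq : ∀ {P : Place k (RatFunc k)} {a}, 0 < P.ord (zt a) → P = Z a := fun {P a} hP => by
    obtain ⟨R, -, hR⟩ := exists_zero_place a
    rw [hR P hP, hR _ (hZ a)]
  have hone : ∀ a, (Z a).ord (zt a) = 1 := fun a => by
    obtain ⟨R, hR1, hR⟩ := exists_zero_place a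
    rw [hR _ (hZ a), hR1]
  have hZfin : ∀ a, 0 ≤ (Z a).ord (RatFunc.X : RatFunc k) := fun a => not_lt.1 fun hlt => by
    have := hZ a; rw [ord_zt_inf hlt] at this; omega
  have hZinj : ∀ a b, a ≠ b → (Z b).ord (zt a) = 0 := fun a b hab => by
    by_contra hne
    have h1 := ord_zt_fin (hZfin b) a
    have h2 : Z b = Z a := huniq (show 0 < (Z b).ord (zt a) by omega)
    have h3 : IsVal (Z b) (RatFunc.X : RatFunc k) b := (val_lt_one_iff _ (zt_ne_zero b)).2 (hZ b)
    have h4 : IsVal (Z b) (RatFunc.X : RatFunc k) a := by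
      rw [h2]; exact (val_lt_one_iff _ (zt_ne_zero a)).2 (hZ a)
    exact hab (h4.unique h3)
  set e : k → ℤ := fun a => (Z a).ord h
  -- total degree
  have hsum : ∑ a ∈ S, e a = 0 := by
    have := sum_ord_eq_zero isFG_ratFunc h (insert Pi (S.image Z)) fun P hP => by
      by_cases hPX : 0 ≤ P.ord (RatFunc.X : RatFunc k)
      · obtain ⟨b, hb⟩ := exists_center hPX
        obtain rfl := huniq hb
        exact Finset.mem_insert_of_mem (Finset.mem_image_of_mem _ (hS b hP))
      · by_contra hmem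
        exact hP (by
          have : P = Pi := by
            by_contra hne
            exact hPX ((inf_props hPi).2.2.1 P hne)
          rw [this, hi])
    rw [Finset.sum_insert (fun hmem => by obtain ⟨a, -, ha⟩ := Finset.mem_image.1 hmem; have := hZfin a; rw [ha] at this; omega), hi, zero_add, Finset.sum_image fun a _ b _ hab => by
      by_contra hne
      have := hone a
      rw [hab, hZinj a b hne] at this
      omega] at this
    exact this
  set R : RatFunc k := ∏ a ∈ S, zt a ^ e a with hR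
  have hR0 : R ≠ 0 := Finset.prod_ne_zero_iff.2 fun a _ => zpow_ne_zero _ (zt_ne_zero a)
  have hRord : ∀ P : Place k (RatFunc k), P.ord R = ∑ a ∈ S, e a * P.ord (zt a) := fun P => by
    rw [hR]
    refine Finset.induction_on S (by simp) fun a s ha ih => ?_
    rw [Finset.prod_insert ha, Finset.sum_insert ha, ord_mul P (zpow_ne_zero _ (zt_ne_zero a))
      (Finset.prod_ne_zero_iff.2 fun a _ => zpow_ne_zero _ (zt_ne_zero a)), ord_zpow, ih]
  obtain ⟨c, hc⟩ : h / R ∈ Set.range (algebraMap k (RatFunc k)) := by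
    have : h / R ∈ L (0 : Divisor k (RatFunc k)) := fun P => by
      rw [Finsupp.coe_zero, _root_.Pi.zero_apply, exp_zero]
      show val P _ ≤ 1
      rw [val_le_one_iff P (div_ne_zero hh hR0), div_eq_mul_inv, ord_mul P hh (inv_ne_zero hR0), ord_inv, hRord]
      by_cases hPX : 0 ≤ P.ord (RatFunc.X : RatFunc k)
      · obtain ⟨b, hb⟩ := exists_center hPX
        obtain rfl := huniq hb
        by_cases hbS : b ∈ S
        · rw [Finset.sum_eq_single b (fun a _ hab => by rw [hZinj a b hab, mul_zero]) (fun h => absurd hbS h),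
            hone, mul_one]
          simp [e]
        · rw [Finset.sum_eq_zero fun a ha => by rw [hZinj a b (fun e => hbS (e ▸ ha)), mul_zero]]
          have : (Z b).ord h = 0 := by_contra fun hne => hbS (hS b hne)
          omega
      · rw [not_le] at hPX
        have hPe : P = Pi := by
          by_contra hne
          exact not_le.2 hPX ((inf_props hPi).2.2.1 P hne)
        rw [Finset.sum_congr rfl fun a _ => by rw [ord_zt_inf hPX], ← Finset.sum_mul, hsum, hPe, hi]
        simp
    rw [L_zero_eq_one isFunctionField_ratFunc, Submodule.mem_one] at this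
    exact this
  have hfac : h = algebraMap k (RatFunc k) c * R := by rw [hc, div_mul_cancel₀ _ hR0]
  have hv0 : IsVal (Z 0) h (c * ∏ a ∈ S, (-a) ^ e a) := by
    rw [hfac]
    refine (IsVal.const _ c).mul (IsVal.prod S fun a ha => IsVal.zpow ?_ (neg_ne_zero.2 fun e => hS0 (e ▸ ha)) _)
    have h1 : val (Z 0) (zt (0 : k)) < 1 := (val_lt_one_iff _ (zt_ne_zero 0)).2 (hZ 0)
    rw [IsVal, show zt a - algebraMap k (RatFunc k) (-a) = zt 0 by rw [map_neg]; simp [zt]]
    exact h1
  have hvi : IsVal Pi h c := by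
    have hX0 : (RatFunc.X : RatFunc k) ≠ 0 := RatFunc.X_ne_zero
    have : R = ∏ a ∈ S, (zt a / RatFunc.X) ^ e a := by
      simp only [div_eq_mul_inv, mul_zpow, Finset.prod_mul_distrib]
      rw [zpow_finset_sum (inv_ne_zero hX0), hsum, zpow_zero, mul_one]
    rw [hfac, this]
    suffices hone' : IsVal Pi (∏ a ∈ S, (zt a / RatFunc.X) ^ e a) 1 by
      have := (IsVal.const Pi c).mul hone'
      rwa [mul_one] at this
    have h2 := IsVal.prod (P := Pi) S (z := fun a => (zt a / RatFunc.X) ^ e a) (a := fun _ => (1 : k)) fun a _ => by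
      have h3 : IsVal Pi (zt a / RatFunc.X) 1 := by
        rw [IsVal, map_one, zt, sub_div, div_self hX0, sub_sub_cancel_left, Valuation.map_neg, map_div₀]
        have hX : val Pi (RatFunc.X : RatFunc k) = exp 1 := by
          rw [val_eq Pi hX0, (inf_props hPi).2.1, neg_neg]
        rw [hX, div_lt_one₀ exp_pos]
        exact (Pi.2.1 a).trans_lt (by rw [← exp_zero, exp_lt_exp]; omega)
      simpa using h3.zpow one_ne_zero (e a)
    simpa using h2
  rw [hu0.unique hv0, hui.unique hvi]
  congr 1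
  rw [Finset.prod_congr rfl fun a _ => show (-a) ^ e a = (-1 : k) ^ e a * a ^ e a by rw [← mul_zpow, neg_one_mul],
    Finset.prod_mul_distrib, zpow_finset_sum (by norm_num), hsum, zpow_zero, one_mul]

end rational

/-- Weil reciprocity. -/
theorem weil_reciprocity [IsAlgClosed k] (hK : IsFunctionField k K) {f g : K} (hf : f ≠ 0) (hg : g ≠ 0)
    (hdisj : ∀ P : Place k K, P.ord f = 0 ∨ P.ord g = 0) (vf vg : Place k K → k)
    (hvf : ∀ P : Place k K, P.ord f = 0 → IsVal P f (vf P)) (hvg : ∀ P : Place k K, P.ord g = 0 → IsVal P g (vg P))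
    (A B : Finset (Place k K)) (hA : ∀ P, P.ord g ≠ 0 → P ∈ A) (hB : ∀ P, P.ord f ≠ 0 → P ∈ B) :
    ∏ P ∈ A, vf P ^ P.ord g = ∏ P ∈ B, vg P ^ P.ord f := by
  classical
  have hfg : IsFG k K := hK.1
  have hne : ∀ {z : K} {v : Place k K → k}, z ≠ 0 → (∀ P, P.ord z = 0 → IsVal P z (v P)) →
      ∀ P, P.ord z = 0 → v P ≠ 0 := fun {z v} hz hv P hP h0 => by
    have := hv P hP
    rw [IsVal, h0, map_zero, sub_zero, val_eq P hz, hP, neg_zero, exp_zero] at this
    exact lt_irrefl _ this
  by_cases hconst : g ∈ Set.range (algebraMap k K)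
  · obtain ⟨c, rfl⟩ := hconst
    have hc : c ≠ 0 := by simpa using hg
    rw [Finset.prod_eq_one fun P _ => by rw [ord_const, zpow_zero],
      Finset.prod_congr rfl fun P _ => by rw [(hvg P (ord_const P c)).unique (IsVal.const P c)],
      zpow_finset_sum hc, sum_ord_eq_zero hfg f B hB, zpow_zero]
  have hgt : Transcendental k g := transcendental_of_not_mem hK hconst
  let e := RatFunc.algEquivOfTranscendental g hgt
  let φ : RatFunc k →ₐ[k] K := (IntermediateField.val _).comp e.toAlgHom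
  letI : Algebra (RatFunc k) K := φ.toRingHom.toAlgebra
  haveI : IsScalarTower k (RatFunc k) K := IsScalarTower.of_algebraMap_eq fun c => (φ.commutes c).symm
  have hXg : algebraMap (RatFunc k) K RatFunc.X = g := by
    show ((e RatFunc.X : IntermediateField.adjoin k ({g} : Set K)) : K) = g
    rw [RatFunc.algEquivOfTranscendental_X]
  haveI : FiniteDimensional (RatFunc k) K := by
    haveI := hfg.finiteDimensional_adjoin hgt
    obtain ⟨s, hs⟩ := (inferInstance : FiniteDimensional (IntermediateField.adjoin k ({g} : Set K)) K).fg_top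
    refine ⟨⟨s, top_unique fun z hz' => ?_⟩⟩
    clear hz'
    have hz : z ∈ Submodule.span (IntermediateField.adjoin k ({g} : Set K)) (s : Set K) := hs ▸ trivial
    induction hz using Submodule.span_induction with
    | mem w hw => exact Submodule.subset_span hw
    | zero => exact zero_mem _
    | add v w _ _ hv hw => exact add_mem hv hw
    | smul c w _ hw =>
      have hcw : c • w = (e.symm c) • w := by
        rw [Algebra.smul_def, Algebra.smul_def]
        congr 1
        show (c : K) = ((e (e.symm c) : IntermediateField.adjoin k ({g} : Set K)) : K)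
        rw [e.apply_symm_apply]
      rw [hcw]
      exact Submodule.smul_mem _ _ hw
  set N := Algebra.norm (RatFunc k) f with hN
  have hN0 : N ≠ 0 := Algebra.norm_ne_zero_iff.2 hf
  choose Z hZ1 hZu using exists_zero_place (k := k)
  obtain ⟨Pi, hPi⟩ := exists_inf (k := k)
  have hover : ∀ (R : Place k (RatFunc k)), ∃ T : Finset (Place k K), ∀ Q, Q ∈ T ↔ IsOver Q R := fun R =>
    ⟨(sum_ramIdx (K' := K) isFG_ratFunc R).1.toFinset, fun Q => Set.Finite.mem_toFinset _⟩
  choose T hT using hover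
  have hordT : ∀ R, ∀ Q ∈ T R, ∀ z : RatFunc k,
      Q.ord (algebraMap (RatFunc k) K z) = ramIdx Q R * R.ord z ∧ 0 < ramIdx Q R := fun R Q hQ z => by
    obtain ⟨e', he⟩ := (hT R Q).1 hQ
    rw [ramIdx_eq he]
    exact ⟨ord_of_isOverWith he z, pos_of_isOverWith he⟩
  have hnormord : ∀ R : Place k (RatFunc k), R.ord N = ∑ Q ∈ T R, Q.ord f := fun R => by
    have := ord_norm (K' := K) isFG_ratFunc R f (T R) (hT R)
    rw [isFG_ratFunc.deg_eq_one R] at this
    simpa [hfg.deg_eq_one] using this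
  -- position of a place over the line
  have hcase : ∀ (Q : Place k K), (Q.ord g < 0 ↔ Q ∈ T Pi) ∧ ∀ a, (0 < Q.ord (g - algebraMap k K a) ↔ Q ∈ T (Z a)) := by
    intro Q
    obtain ⟨R, e', he0, he⟩ := exists_isOverWith (K := RatFunc k) Q
    have hQR : Q ∈ T R := (hT R Q).2 ⟨e', he⟩
    refine ⟨⟨fun hneg => ?_, fun hQ => ?_⟩, fun a => ⟨fun hpos => ?_, fun hQ => ?_⟩⟩
    · rw [← hXg, ord_of_isOverWith he] at hneg
      have hR : R.ord (RatFunc.X : RatFunc k) < 0 := by
        by_contra hh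
        have : (0 : ℤ) ≤ e' * R.ord (RatFunc.X : RatFunc k) := mul_nonneg (by positivity) (not_lt.1 hh)
        omega
      have : R = Pi := by
        by_contra hh
        exact not_le.2 hR ((inf_props hPi).2.2.1 R hh)
      rwa [← this]
    · have h1 := hordT Pi Q hQ RatFunc.X
      rw [hXg, (inf_props hPi).2.1] at h1
      omega
    · rw [← hXg, IsScalarTower.algebraMap_apply k (RatFunc k) K, ← map_sub, ord_of_isOverWith he] at hpos
      change (0 : ℤ) < e' * R.ord (zt a) at hpos
      have hR : 0 < R.ord (zt a) := by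
        by_contra hh
        have : (e' : ℤ) * R.ord (zt a) ≤ 0 := mul_nonpos_of_nonneg_of_nonpos (by positivity) (not_lt.1 hh)
        omega
      rwa [← hZu a R hR]
    · have h1 := hordT (Z a) Q hQ (zt a)
      rw [zt, map_sub, hXg, ← IsScalarTower.algebraMap_apply, hZ1 a] at h1
      omega
  have hg0 : ∀ Q, 0 < Q.ord g ↔ Q ∈ T (Z 0) := fun Q => by simpa using (hcase Q).2 0
  have hf0 : ∀ Q ∈ T (Z 0) ∪ T Pi, Q.ord f = 0 := fun Q hQ => (hdisj Q).resolve_right fun h0 => by
    rcases Finset.mem_union.1 hQ with hQ | hQ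
    · have := (hg0 Q).2 hQ; omega
    · have := (hcase Q).1.2 hQ; omega
  have hval : ∀ R, (∀ Q ∈ T R, Q.ord f = 0) → IsVal R N (∏ Q ∈ T R, vf Q ^ ramIdx Q R) := fun R hR =>
    NormValue.norm_value isFG_ratFunc R (T R) (hT R) vf fun Q hQ => hvf Q (hR Q hQ)
  have hN00 : (Z 0).ord N = 0 := by
    rw [hnormord]; exact Finset.sum_eq_zero fun Q hQ => hf0 Q (Finset.mem_union_left _ hQ)
  have hNi : Pi.ord N = 0 := by
    rw [hnormord]; exact Finset.sum_eq_zero fun Q hQ => hf0 Q (Finset.mem_union_right _ hQ)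
  set Bs := B.filter fun P => P.ord f ≠ 0
  have hgB : ∀ P ∈ Bs, P.ord g = 0 := fun P hP => (hdisj P).resolve_left (Finset.mem_filter.1 hP).2
  set S := Bs.image vg
  have hTB : ∀ a, a ≠ 0 → ∀ Q, (Q ∈ T (Z a) ∧ Q.ord f ≠ 0) ↔ (Q ∈ Bs ∧ vg Q = a) := by
    intro a ha Q
    constructor
    · rintro ⟨hQ, hQf⟩
      have hQg : Q.ord g = 0 := (hdisj Q).resolve_left hQf
      refine ⟨Finset.mem_filter.2 ⟨hB Q hQf, hQf⟩, (hvg Q hQg).unique ?_⟩
      have h1 := ((hcase Q).2 a).2 hQ
      have hne0 : g - algebraMap k K a ≠ 0 := fun e => by rw [e] at h1; simp [Place.ord] at h1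
      exact (val_lt_one_iff Q hne0).2 h1
    · rintro ⟨hQ, rfl⟩
      refine ⟨((hcase Q).2 _).1 ?_, (Finset.mem_filter.1 hQ).2⟩
      have hne0 : g - algebraMap k K (vg Q) ≠ 0 := fun e => hconst ⟨_, (sub_eq_zero.1 e).symm⟩
      exact (val_lt_one_iff Q hne0).1 (hvg Q (hgB Q hQ))
  have hordN : ∀ a, a ≠ 0 → (Z a).ord N = ∑ Q ∈ Bs with vg Q = a, Q.ord f := fun a ha => by
    rw [hnormord, ← Finset.sum_filter_ne_zero]
    refine Finset.sum_congr ?_ fun _ _ => rfl
    ext Q
    simp only [Finset.mem_filter]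
    exact hTB a ha Q
  have hS0 : (0 : k) ∉ S := fun h0 => by
    obtain ⟨Q, hQ, hQ0⟩ := Finset.mem_image.1 h0
    exact hne hg hvg Q (hgB Q hQ) hQ0
  have hratio := rational_ratio Z (fun a => by rw [hZ1 a]; omega) hPi hN0 hN00 hNi S (fun a ha => by
    by_cases h0 : a = 0
    · subst h0; exact absurd hN00 ha
    by_contra haS
    exact ha (by
      rw [hordN a h0]
      exact Finset.sum_eq_zero fun Q hQ => by
        obtain ⟨hQB, hQa⟩ := Finset.mem_filter.1 hQ
        exact absurd (hQa ▸ Finset.mem_image_of_mem vg hQB) haS)) hS0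
    (hval _ fun Q hQ => hf0 Q (Finset.mem_union_left _ hQ)) (hval _ fun Q hQ => hf0 Q (Finset.mem_union_right _ hQ))
  -- right-hand side
  have hR : ∏ P ∈ B, vg P ^ P.ord f = ∏ a ∈ S, a ^ (Z a).ord N := by
    rw [← Finset.prod_filter_of_ne (s := B) (p := fun P => P.ord f ≠ 0) fun P _ h1 h0 => h1 (by rw [h0, zpow_zero]),
      ← Finset.prod_fiberwise_of_maps_to (s := Bs) (g := vg) (t := S) fun P hP => Finset.mem_image_of_mem vg hP]
    refine Finset.prod_congr rfl fun a ha => ?_
    have ha0 : a ≠ 0 := fun e => hS0 (e ▸ ha)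
    rw [hordN a ha0, ← zpow_finset_sum ha0]
    exact Finset.prod_congr rfl fun P hP => by rw [(Finset.mem_filter.1 hP).2]
  -- left-hand side
  have hL : ∏ P ∈ A, vf P ^ P.ord g =
      (∏ Q ∈ T (Z 0), vf Q ^ ramIdx Q (Z 0)) * (∏ Q ∈ T Pi, vf Q ^ ramIdx Q Pi)⁻¹ := by
    rw [← Finset.prod_filter_of_ne (s := A) (p := fun P => P.ord g ≠ 0) fun P _ h1 h0 => h1 (by rw [h0, zpow_zero])]
    have hset : A.filter (fun P => P.ord g ≠ 0) = T (Z 0) ∪ T Pi := by
      ext Q
      simp only [Finset.mem_filter, Finset.mem_union, ← hg0, ← (hcase Q).1]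
      exact ⟨fun ⟨_, h1⟩ => by omega, fun h1 => ⟨hA Q (by omega), by omega⟩⟩
    have hdisjT : Disjoint (T (Z 0)) (T Pi) := Finset.disjoint_left.2 fun Q h1 h2 => by
      have := (hg0 Q).2 h1
      have := (hcase Q).1.2 h2
      omega
    rw [hset, Finset.prod_union hdisjT, ← Finset.prod_inv_distrib]
    congr 1 <;> refine Finset.prod_congr rfl fun Q hQ => ?_
    · have h1 := (hordT (Z 0) Q hQ (zt 0)).1
      rw [hZ1 0, mul_one] at h1
      rw [show Q.ord g = (ramIdx Q (Z 0) : ℤ) by rw [← h1]; simp [zt, hXg], zpow_natCast]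
    · have h1 := (hordT Pi Q hQ RatFunc.X).1
      rw [hXg, (inf_props hPi).2.1, mul_neg, mul_one] at h1
      rw [h1, zpow_neg, zpow_natCast]
  rw [hR, hL, hratio, mul_comm _ (∏ a ∈ S, a ^ _), mul_assoc, mul_inv_cancel₀, mul_one]
  exact Finset.prod_ne_zero_iff.2 fun Q hQ => pow_ne_zero _ (hne hf hvf Q (hf0 Q (Finset.mem_union_right _ hQ)))

end GrothLib.FunFld.WeilRecip
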